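import Cfsg.Agent.Lib.Helper16.Subnormal
import Mathlib.GroupTheory.Index

set_option autoImplicit false
open Cfsg
open scoped commutatorElement

namespace Cfsg.Agent.Lib.Helper16

/-- `[K, Y] ≤ K` when `Y` normalizes `K`. -/
theorem commutator_le_of_le_normalizer' {H : Type*} [Group H] (K Y : Subgroup H)
    (hYK : Y ≤ Subgroup.normalizer (K : Set H)) : ⁅K, Y⁆ ≤ K := by
  rw [Subgroup.commutator_le]
  intro k hk y hy
  have : ⁅k, y⁆ = k * (y * k⁻¹ * y⁻¹) := by simp [commutatorElement_def, mul_assoc]
  rw [this]
  exact K.mul_mem hk ((Subgroup.mem_normalizer_iff.mp (hYK hy) k⁻¹).mp (K.inv_mem hk))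

/-- `K` normalizes `[K, Y]`. -/
theorem le_normalizer_commutator_left {H : Type*} [Group H] (K Y : Subgroup H) :
    K ≤ Subgroup.normalizer ((⁅K, Y⁆ : Subgroup H) : Set H) := by
  have key : ∀ a ∈ K, ∀ n ∈ ⁅K, Y⁆, a * n * a⁻¹ ∈ ⁅K, Y⁆ := by
    intro a ha n hn
    rw [Subgroup.commutator_def] at hn
    induction hn using Subgroup.closure_induction with
    | mem x hx =>
      obtain ⟨b, hb, c, hc, rfl⟩ := hx
      have : a * ⁅b, c⁆ * a⁻¹ = ⁅a * b, c⁆ * ⁅a, c⁆⁻¹ := by
        simp [commutatorElement_def, mul_assoc]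
      rw [this]
      exact Subgroup.mul_mem _ (Subgroup.commutator_mem_commutator (K.mul_mem ha hb) hc)
        (Subgroup.inv_mem _ (Subgroup.commutator_mem_commutator ha hc))
    | one => simp
    | mul x y _ _ hx hy =>
      have : a * (x * y) * a⁻¹ = (a * x * a⁻¹) * (a * y * a⁻¹) := by group
      rw [this]; exact Subgroup.mul_mem _ hx hy
    | inv x _ hx =>
      have : a * x⁻¹ * a⁻¹ = (a * x * a⁻¹)⁻¹ := by group
      rw [this]; exact Subgroup.inv_mem _ hx
  intro a ha
  apply mem_normalizer_of_conj_mem
  · exact key a ha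
  · intro g hg
    have := key a⁻¹ (K.inv_mem ha) g hg
    simpa using this

/-- `Y` normalizes `[K, Y]`. -/
theorem le_normalizer_commutator_right {H : Type*} [Group H] (K Y : Subgroup H) :
    Y ≤ Subgroup.normalizer ((⁅K, Y⁆ : Subgroup H) : Set H) := by
  rw [Subgroup.commutator_comm]
  exact le_normalizer_commutator_left Y K

theorem map_opUp_subtype {G : Type*} [Group G] (p : ℕ) (M : Subgroup G) (B' : Subgroup ↥M) :
    (opUp p B').map M.subtype = opUp p (B'.map M.subtype) := by
  unfold opUp
  rw [MonoidHom.map_closure]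
  congr 1
  ext g
  constructor
  · rintro ⟨x, ⟨hx, hcop⟩, rfl⟩
    refine ⟨⟨x, hx, rfl⟩, ?_⟩
    have : orderOf ((x : ↥M) : G) = orderOf x := Subgroup.orderOf_coe _
    simp only [Subgroup.subtype_apply]
    rw [this]; exact hcop
  · rintro ⟨⟨x, hx, rfl⟩, hcop⟩
    refine ⟨x, ⟨hx, ?_⟩, rfl⟩
    have : orderOf ((x : ↥M) : G) = orderOf x := Subgroup.orderOf_coe _
    rw [← this]; exact hcop

/-- Main lemma: `O_p(H)` normalizes `O^p(B)` for every subnormal subgroup `B` of a finite
group `H`. -/
theorem pCore_le_normalizer_opUp_aux {p : ℕ} [Fact p.Prime] (n : ℕ) :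
    ∀ (H : Type*) [Group H] [Finite H], Nat.card H = n → ∀ B : Subgroup H, B.IsSubnormal →
      Cfsg.pCore p H ≤ Subgroup.normalizer ((opUp p B : Subgroup H) : Set H) := by
  induction n using Nat.strong_induction_on with
  | _ n ih =>
    intro H _ _ hcard B hB
    by_cases hBtop : B = ⊤
    · subst hBtop
      have : Subgroup.normalizer (((⊤ : Subgroup H) : Subgroup H) : Set H) ≤ _ :=
        normalizer_le_normalizer_opUp p (⊤ : Subgroup H)
      refine le_trans ?_ this
      intro x _
      rw [Subgroup.normalizer_eq_top]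
      exact Subgroup.mem_top x
    · obtain ⟨M, hMn, hBM, hMlt⟩ := hB.exists_normal_and_le_and_lt_top_of_ne hBtop
      have hMcard : Nat.card ↥M < n := by
        rw [← hcard, ← M.index_mul_card]
        exact lt_mul_of_one_lt_left Nat.card_pos (Subgroup.one_lt_index_of_ne_top hMlt.ne)
      have hB' : (B.subgroupOf M).IsSubnormal := hB.subgroupOf
      have hIH := ih (Nat.card ↥M) hMcard ↥M rfl (B.subgroupOf M) hB'
      set B₀ := opUp p B with hB₀
      set P := Cfsg.pCore p H with hP
      have hPn : P.Normal := pCore_normal p H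
      -- opDown p M normalizes B₀
      have h1 : opDown p M ≤ Subgroup.normalizer (B₀ : Set H) := by
        rw [← map_pCore_eq_opDown]
        have h2 := Subgroup.map_mono (f := M.subtype) hIH
        have h3 := h2.trans (Subgroup.le_normalizer_map M.subtype)
        rwa [map_opUp_subtype, Subgroup.map_subgroupOf_eq_of_le hBM] at h3
      -- D = [B₀, P]
      set D := ⁅B₀, P⁆ with hD
      have hB₀M : B₀ ≤ M := (opUp_le p B).trans hBM
      have hDP : D ≤ P := Subgroup.commutator_le_right B₀ P
      have hDM : D ≤ M := by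
        have : ⁅B₀, P⁆ ≤ ⁅M, P⁆ := Subgroup.commutator_mono hB₀M le_rfl
        exact this.trans (Subgroup.commutator_le_left M P)
      have hDn : D ≤ Subgroup.normalizer (B₀ : Set H) :=
        (le_inf hDP hDM).trans ((pCore_inf_le_opDown p M hMn).trans h1)
      have hDp : IsPGroup p D := (pCore_isPGroup p H).to_le hDP
      set C := B₀ ⊔ D with hC
      have hCle : opUp p C ≤ B₀ := opUp_sup_le_of_isPGroup p B₀ D hDp hDn
      have hCge : B₀ ≤ opUp p C := by
        have := opUp_mono p (le_sup_left : B₀ ≤ C)
        rwa [hB₀, opUp_opUp] at this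
      have hCeq : opUp p C = B₀ := le_antisymm hCle hCge
      -- P normalizes C
      have hconj : ∀ x ∈ P, ∀ g ∈ C, x * g * x⁻¹ ∈ C := by
        intro x hx g hg
        have hmap : C.map (MulAut.conj x).toMonoidHom ≤ C := by
          rw [hC, Subgroup.map_sup]
          apply sup_le
          · rintro _ ⟨b, hb, rfl⟩
            simp only [MulEquiv.coe_toMonoidHom, MulAut.conj_apply]
            have : x * b * x⁻¹ = ⁅x, b⁆ * b := by simp [commutatorElement_def]
            rw [this]
            refine Subgroup.mul_mem _ (le_sup_right (a := B₀) ?_) (le_sup_left (b := D) hb)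
            rw [hD, Subgroup.commutator_comm]
            exact Subgroup.commutator_mem_commutator hx hb
          · rintro _ ⟨d, hd, rfl⟩
            simp only [MulEquiv.coe_toMonoidHom, MulAut.conj_apply]
            apply le_sup_right (a := B₀)
            exact (Subgroup.mem_normalizer_iff.mp (le_normalizer_commutator_right B₀ P hx) d).mp hd
        apply hmap
        exact ⟨g, hg, by simp [MulAut.conj_apply]⟩
      have hPC : P ≤ Subgroup.normalizer (C : Set H) := by
        intro x hx
        apply mem_normalizer_of_conj_mem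
        · exact hconj x hx
        · intro g hg
          have := hconj x⁻¹ (P.inv_mem hx) g hg
          simpa using this
      have := hPC.trans (normalizer_le_normalizer_opUp p C)
      rwa [hCeq] at this

theorem pCore_le_normalizer_opUp {H : Type*} [Group H] [Finite H] (p : ℕ) [Fact p.Prime]
    {B : Subgroup H} (hB : B.IsSubnormal) :
    Cfsg.pCore p H ≤ Subgroup.normalizer ((opUp p B : Subgroup H) : Set H) :=
  pCore_le_normalizer_opUp_aux (Nat.card H) H rfl B hB

end Cfsg.Agent.Lib.Helper16
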