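import Cfsg.Agent.Lib.Helper16.Large
import Cfsg.Agent.Lib.Helper16.SubnormalResidual
import Cfsg.Agent.Lib.Helper13.Coprime

set_option autoImplicit false
open Cfsg
open scoped commutatorElement

namespace Cfsg.Agent.Lib.Helper16

section
variable {H : Type*} [Group H]

/-- An element normalizing `X` and `Y` normalizes `⁅X, Y⁆`. -/
theorem inf_normalizer_le_normalizer_commutator (X Y : Subgroup H) :
    Subgroup.normalizer (X : Set H) ⊓ Subgroup.normalizer (Y : Set H) ≤
      Subgroup.normalizer ((⁅X, Y⁆ : Subgroup H) : Set H) := by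
  intro g hg
  rw [← map_conj_eq_self_iff, Subgroup.map_commutator, (map_conj_eq_self_iff X g).mpr hg.1,
    (map_conj_eq_self_iff Y g).mpr hg.2]

theorem card_lt_card_of_lt [Finite H] {A B : Subgroup H} (h : A < B) :
    Nat.card A < Nat.card B :=
  lt_of_not_ge (fun h' => h.ne (Subgroup.eq_of_le_of_card_ge h.le h'))

/-- For `p`-subgroups `X ≠ 1` and `B` with `B` normalizing `X`: `⁅X, B⁆ < X`. -/
theorem commutator_lt_of_isPGroup [Finite H] {p : ℕ} [Fact p.Prime] (X B : Subgroup H)
    (hX : IsPGroup p X) (hB : IsPGroup p B) (hBX : B ≤ Subgroup.normalizer (X : Set H))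
    (hne : X ≠ ⊥) : ⁅X, B⁆ < X := by
  have hle : ⁅X, B⁆ ≤ X := commutator_le_of_le_normalizer' X B hBX
  refine lt_of_le_of_ne hle ?_
  intro heq
  apply hne
  have hG : IsPGroup p ↥(B ⊔ X) := IsPGroup.to_sup_of_normal_right' hB hX hBX
  have hnil : Group.IsNilpotent ↥(B ⊔ X) := hG.isNilpotent
  obtain ⟨n, hn⟩ := (Subgroup.isNilpotent_iff_lowerCentralSeries (B ⊔ X)).mp hnil
  have key : ∀ k : ℕ, X ≤ (B ⊔ X).lowerCentralSeries k := by
    intro k
    induction k with
    | zero => rw [Subgroup.lowerCentralSeries_zero]; exact le_sup_right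
    | succ k ih =>
      rw [Subgroup.lowerCentralSeries_succ]
      calc X = ⁅X, B⁆ := heq.symm
        _ ≤ ⁅(B ⊔ X).lowerCentralSeries k, B ⊔ X⁆ := Subgroup.commutator_mono ih le_sup_left
  have := key n
  rwa [hn, le_bot_iff] at this

/-- **Thompson's `A × B` lemma**, ambient form with `A = ⟨c⟩`: let `B` be a `p`-subgroup and `c` a
`p'`-element commuting with `B`, both normalizing the `p`-subgroup `X`.  If `c` centralizes
`C_X(B)` then `c` centralizes `X`. -/
theorem thompson_AxB_aux [Finite H] {p : ℕ} [Fact p.Prime] (B : Subgroup H) (c : H)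
    (hB : IsPGroup p B) (hcop : (orderOf c).Coprime p)
    (hcB : c ∈ Subgroup.centralizer (B : Set H)) :
    ∀ n : ℕ, ∀ X : Subgroup H, Nat.card X ≤ n → IsPGroup p X →
      B ≤ Subgroup.normalizer (X : Set H) → c ∈ Subgroup.normalizer (X : Set H) →
      c ∈ Subgroup.centralizer ((X ⊓ Subgroup.centralizer (B : Set H) : Subgroup H) : Set H) →
      c ∈ Subgroup.centralizer (X : Set H) := by
  intro n
  induction n with
  | zero =>
    intro X hcard
    exact absurd hcard (by have := Nat.card_pos (α := ↥X); omega)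
  | succ n ih =>
    intro X hcard hX hBX hcX hfix
    set A := Subgroup.zpowers c with hA
    have hAX : A ≤ Subgroup.normalizer (X : Set H) := Subgroup.zpowers_le.mpr hcX
    have hAB : A ≤ Subgroup.centralizer (B : Set H) := Subgroup.zpowers_le.mpr hcB
    have hBA : B ≤ Subgroup.centralizer (A : Set H) := Subgroup.le_centralizer_iff.mp hAB
    have hYX : ⁅X, A⁆ ≤ X := commutator_le_of_le_normalizer' X A hAX
    have hcA : c ∈ A := Subgroup.mem_zpowers c
    -- reformulation of the goal
    have goal_of : ⁅X, A⁆ = ⊥ → c ∈ Subgroup.centralizer (X : Set H) := by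
      intro h
      have h1 : X ≤ Subgroup.centralizer (A : Set H) :=
        Subgroup.commutator_eq_bot_iff_le_centralizer.mp h
      exact (Subgroup.le_centralizer_iff.mp h1) hcA
    by_cases hY : ⁅X, A⁆ = X
    · by_cases hXbot : X = ⊥
      · rw [hXbot, Subgroup.mem_centralizer_iff]
        intro h hh
        have : h = 1 := hh
        rw [this]; simp
      · have hlt : ⁅X, B⁆ < X := commutator_lt_of_isPGroup X B hX hB hBX hXbot
        have hcard' : Nat.card ↥⁅X, B⁆ ≤ n := by
          have := card_lt_card_of_lt hlt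
          omega
        have hcZ : c ∈ Subgroup.normalizer ((⁅X, B⁆ : Subgroup H) : Set H) :=
          inf_normalizer_le_normalizer_commutator X B
            ⟨hcX, Subgroup.centralizer_le_normalizer _ hcB⟩
        have hfixZ : c ∈ Subgroup.centralizer
            ((⁅X, B⁆ ⊓ Subgroup.centralizer (B : Set H) : Subgroup H) : Set H) :=
          Subgroup.centralizer_le (inf_le_inf_right _ hlt.le) hfix
        have h1 := ih ⁅X, B⁆ hcard' (hX.to_le hlt.le) (le_normalizer_commutator_right X B)
          hcZ hfixZ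
        have h2 : ⁅⁅X, B⁆, A⁆ = ⊥ := by
          rw [Subgroup.commutator_eq_bot_iff_le_centralizer, Subgroup.le_centralizer_iff]
          exact Subgroup.zpowers_le.mpr h1
        have h3 : ⁅⁅B, A⁆, X⁆ = ⊥ := by
          rw [Subgroup.commutator_eq_bot_iff_le_centralizer.mpr hBA, Subgroup.commutator_bot_left]
        have h4 : ⁅⁅A, X⁆, B⁆ = ⊥ := Subgroup.commutator_commutator_eq_bot_of_rotate h2 h3
        rw [Subgroup.commutator_comm A X, hY] at h4
        have h5 : X ≤ Subgroup.centralizer (B : Set H) :=
          Subgroup.commutator_eq_bot_iff_le_centralizer.mp h4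
        rw [inf_eq_left.mpr h5] at hfix
        exact hfix
    · have hlt : ⁅X, A⁆ < X := lt_of_le_of_ne hYX hY
      have hcard' : Nat.card ↥⁅X, A⁆ ≤ n := by
        have := card_lt_card_of_lt hlt
        omega
      have hBY : B ≤ Subgroup.normalizer ((⁅X, A⁆ : Subgroup H) : Set H) := by
        refine le_trans ?_ (inf_normalizer_le_normalizer_commutator X A)
        exact le_inf hBX (hBA.trans (Subgroup.centralizer_le_normalizer _))
      have hcY : c ∈ Subgroup.normalizer ((⁅X, A⁆ : Subgroup H) : Set H) :=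
        le_normalizer_commutator_right X A hcA
      have hfixY : c ∈ Subgroup.centralizer
          ((⁅X, A⁆ ⊓ Subgroup.centralizer (B : Set H) : Subgroup H) : Set H) :=
        Subgroup.centralizer_le (inf_le_inf_right _ hlt.le) hfix
      have h1 := ih ⁅X, A⁆ hcard' (hX.to_le hlt.le) hBY hcY hfixY
      have h2 : ⁅⁅X, A⁆, A⁆ = ⊥ := by
        rw [Subgroup.commutator_eq_bot_iff_le_centralizer, Subgroup.le_centralizer_iff]
        exact Subgroup.zpowers_le.mpr h1
      have hcopAX : (Nat.card A).Coprime (Nat.card X) := by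
        rw [hA, Nat.card_zpowers]
        obtain ⟨k, hk⟩ := IsPGroup.iff_card.mp hX
        rw [hk]; exact Nat.Coprime.pow_right k hcop
      have hnilX : Group.IsNilpotent ↥X := hX.isNilpotent
      have hsolv : Group.IsSolvable ↥X := inferInstance
      have h3 := Cfsg.Agent.Lib.Helper13.coprime_commutator_stable A X hAX hcopAX (Or.inr hsolv)
      rw [h2] at h3
      exact goal_of h3.symm

theorem thompson_AxB [Finite H] {p : ℕ} [Fact p.Prime] (B X : Subgroup H) (c : H)
    (hB : IsPGroup p B) (hX : IsPGroup p X) (hcop : (orderOf c).Coprime p)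
    (hcB : c ∈ Subgroup.centralizer (B : Set H))
    (hBX : B ≤ Subgroup.normalizer (X : Set H)) (hcX : c ∈ Subgroup.normalizer (X : Set H))
    (hfix : c ∈ Subgroup.centralizer
      ((X ⊓ Subgroup.centralizer (B : Set H) : Subgroup H) : Set H)) :
    c ∈ Subgroup.centralizer (X : Set H) :=
  thompson_AxB_aux B c hB hcop hcB (Nat.card X) X le_rfl hX hBX hcX hfix

end

end Cfsg.Agent.Lib.Helper16
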