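import Cfsg.Agent.Lib.Helper16.ThompsonAxB

set_option autoImplicit false
open Cfsg
open scoped commutatorElement

namespace Cfsg.Agent.Lib.Helper16

section
variable {H : Type*} [Group H]

/-- If conjugation by `g` maps the generators `⁅x, a⁆` of `⁅X, A⁆` into `⁅X, A⁆`, it maps
`⁅X, A⁆` into itself. -/
theorem map_conj_commutator_le (X A : Subgroup H) (g : H)
    (h : ∀ x ∈ X, ∀ a ∈ A, g * ⁅x, a⁆ * g⁻¹ ∈ ⁅X, A⁆) :
    (⁅X, A⁆).map (MulAut.conj g).toMonoidHom ≤ ⁅X, A⁆ := by
  rw [Subgroup.commutator_def, MonoidHom.map_closure, Subgroup.closure_le]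
  rintro _ ⟨_, ⟨x, hx, a, ha, rfl⟩, rfl⟩
  have := h x hx a ha
  rw [Subgroup.commutator_def] at this
  show (MulAut.conj g) ⁅x, a⁆ ∈ _
  rw [MulAut.conj_apply]
  exact this

theorem mem_normalizer_of_map_conj_le (S : Subgroup H) (g : H)
    (h1 : S.map (MulAut.conj g).toMonoidHom ≤ S) (h2 : S.map (MulAut.conj g⁻¹).toMonoidHom ≤ S) :
    g ∈ Subgroup.normalizer (S : Set H) := by
  apply mem_normalizer_of_conj_mem
  · intro x hx; exact h1 (conj_mem_map_conj S g hx)
  · intro x hx
    have := h2 (conj_mem_map_conj S g⁻¹ hx)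
    simpa using this

/-- Weak commutation: if `⁅B, A⁆` centralizes `X` (with `A`, `B` normalizing `X`), then `B`
normalizes `⁅X, A⁆`. -/
theorem le_normalizer_commutator_of_weak (X A B : Subgroup H)
    (hAX : A ≤ Subgroup.normalizer (X : Set H)) (hBX : B ≤ Subgroup.normalizer (X : Set H))
    (hBA : ⁅B, A⁆ ≤ Subgroup.centralizer (X : Set H)) :
    B ≤ Subgroup.normalizer ((⁅X, A⁆ : Subgroup H) : Set H) := by
  have key : ∀ b ∈ B, ∀ x ∈ X, ∀ a ∈ A, b * ⁅x, a⁆ * b⁻¹ ∈ ⁅X, A⁆ := by
    intro b hb x hx a ha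
    have hx' : b * x * b⁻¹ ∈ X := (Subgroup.mem_normalizer_iff.mp (hBX hb) x).mp hx
    have hz : ⁅b, a⁆ ∈ Subgroup.centralizer (X : Set H) :=
      hBA (Subgroup.commutator_mem_commutator hb ha)
    have hax : a * (b * x * b⁻¹)⁻¹ * a⁻¹ ∈ X :=
      (Subgroup.mem_normalizer_iff.mp (hAX ha) _).mp (X.inv_mem hx')
    have hzc := Subgroup.mem_centralizer_iff.mp hz _ hax
    -- b ⁅x,a⁆ b⁻¹ = ⁅x', z a⁆ = ⁅x', a⁆
    have e : b * ⁅x, a⁆ * b⁻¹ = ⁅b * x * b⁻¹, a⁆ := by
      have e1 : b * ⁅x, a⁆ * b⁻¹ =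
          (b * x * b⁻¹) * (⁅b, a⁆ * (a * (b * x * b⁻¹)⁻¹ * a⁻¹)) * (⁅b, a⁆)⁻¹ := by
        simp only [commutatorElement_def]; group
      rw [e1, ← hzc]
      simp only [commutatorElement_def]; group
    rw [e]
    exact Subgroup.commutator_mem_commutator hx' ha
  intro b hb
  apply mem_normalizer_of_map_conj_le
  · exact map_conj_commutator_le X A b (key b hb)
  · exact map_conj_commutator_le X A b⁻¹ (key b⁻¹ (B.inv_mem hb))

end

section
variable {H : Type*} [Group H] [Finite H] {p : ℕ} [Fact p.Prime]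

/-- **Thompson's `A × B` lemma**, weak commutation form: `⁅B, ⟨c⟩⁆` only needs to centralize the
big `p`-group `X₀`. -/
theorem thompson_AxB_weak_aux (B X₀ : Subgroup H) (c : H)
    (hB : IsPGroup p B) (hcop : (orderOf c).Coprime p)
    (hBA : ⁅B, Subgroup.zpowers c⁆ ≤ Subgroup.centralizer (X₀ : Set H)) :
    ∀ n : ℕ, ∀ X : Subgroup H, X ≤ X₀ → Nat.card X ≤ n → IsPGroup p X →
      B ≤ Subgroup.normalizer (X : Set H) → c ∈ Subgroup.normalizer (X : Set H) →
      c ∈ Subgroup.centralizer ((X ⊓ Subgroup.centralizer (B : Set H) : Subgroup H) : Set H) →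
      c ∈ Subgroup.centralizer (X : Set H) := by
  intro n
  induction n with
  | zero =>
    intro X _ hcard
    exact absurd hcard (by have := Nat.card_pos (α := ↥X); omega)
  | succ n ih =>
    intro X hXX₀ hcard hX hBX hcX hfix
    set A := Subgroup.zpowers c with hA
    have hAX : A ≤ Subgroup.normalizer (X : Set H) := Subgroup.zpowers_le.mpr hcX
    have hBAX : ⁅B, A⁆ ≤ Subgroup.centralizer (X : Set H) :=
      hBA.trans (Subgroup.centralizer_le hXX₀)
    have hABX : ⁅A, B⁆ ≤ Subgroup.centralizer (X : Set H) := by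
      rw [Subgroup.commutator_comm]; exact hBAX
    have hYX : ⁅X, A⁆ ≤ X := commutator_le_of_le_normalizer' X A hAX
    have hcA : c ∈ A := Subgroup.mem_zpowers c
    have goal_of : ⁅X, A⁆ = ⊥ → c ∈ Subgroup.centralizer (X : Set H) := by
      intro h
      have h1 : X ≤ Subgroup.centralizer (A : Set H) :=
        Subgroup.commutator_eq_bot_iff_le_centralizer.mp h
      exact (Subgroup.le_centralizer_iff.mp h1) hcA
    by_cases hY : ⁅X, A⁆ = X
    · by_cases hXbot : X = ⊥
      · rw [hXbot, Subgroup.mem_centralizer_iff]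
        intro h hh
        have : h = 1 := hh
        rw [this]; simp
      · have hlt : ⁅X, B⁆ < X := commutator_lt_of_isPGroup X B hX hB hBX hXbot
        have hcard' : Nat.card ↥⁅X, B⁆ ≤ n := by
          have := card_lt_card_of_lt hlt
          omega
        have hcZ : c ∈ Subgroup.normalizer ((⁅X, B⁆ : Subgroup H) : Set H) :=
          le_normalizer_commutator_of_weak X B A hBX hAX hABX hcA
        have hfixZ : c ∈ Subgroup.centralizer
            ((⁅X, B⁆ ⊓ Subgroup.centralizer (B : Set H) : Subgroup H) : Set H) :=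
          Subgroup.centralizer_le (inf_le_inf_right _ hlt.le) hfix
        have h1 := ih ⁅X, B⁆ (hlt.le.trans hXX₀) hcard' (hX.to_le hlt.le)
          (le_normalizer_commutator_right X B) hcZ hfixZ
        have h2 : ⁅⁅X, B⁆, A⁆ = ⊥ := by
          rw [Subgroup.commutator_eq_bot_iff_le_centralizer, Subgroup.le_centralizer_iff]
          exact Subgroup.zpowers_le.mpr h1
        have h3 : ⁅⁅B, A⁆, X⁆ = ⊥ :=
          Subgroup.commutator_eq_bot_iff_le_centralizer.mpr hBAX
        have h4 : ⁅⁅A, X⁆, B⁆ = ⊥ := Subgroup.commutator_commutator_eq_bot_of_rotate h2 h3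
        rw [Subgroup.commutator_comm A X, hY] at h4
        have h5 : X ≤ Subgroup.centralizer (B : Set H) :=
          Subgroup.commutator_eq_bot_iff_le_centralizer.mp h4
        rw [inf_eq_left.mpr h5] at hfix
        exact hfix
    · have hlt : ⁅X, A⁆ < X := lt_of_le_of_ne hYX hY
      have hcard' : Nat.card ↥⁅X, A⁆ ≤ n := by
        have := card_lt_card_of_lt hlt
        omega
      have hBY : B ≤ Subgroup.normalizer ((⁅X, A⁆ : Subgroup H) : Set H) :=
        le_normalizer_commutator_of_weak X A B hAX hBX hBAX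
      have hcY : c ∈ Subgroup.normalizer ((⁅X, A⁆ : Subgroup H) : Set H) :=
        le_normalizer_commutator_right X A hcA
      have hfixY : c ∈ Subgroup.centralizer
          ((⁅X, A⁆ ⊓ Subgroup.centralizer (B : Set H) : Subgroup H) : Set H) :=
        Subgroup.centralizer_le (inf_le_inf_right _ hlt.le) hfix
      have h1 := ih ⁅X, A⁆ (hlt.le.trans hXX₀) hcard' (hX.to_le hlt.le) hBY hcY hfixY
      have h2 : ⁅⁅X, A⁆, A⁆ = ⊥ := by
        rw [Subgroup.commutator_eq_bot_iff_le_centralizer, Subgroup.le_centralizer_iff]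
        exact Subgroup.zpowers_le.mpr h1
      have hcopAX : (Nat.card A).Coprime (Nat.card X) := by
        rw [hA, Nat.card_zpowers]
        obtain ⟨k, hk⟩ := IsPGroup.iff_card.mp hX
        rw [hk]; exact Nat.Coprime.pow_right k hcop
      have hnilX : Group.IsNilpotent ↥X := hX.isNilpotent
      have hsolv : Group.IsSolvable ↥X := inferInstance
      have h3 := Cfsg.Agent.Lib.Helper13.coprime_commutator_stable A X hAX hcopAX (Or.inr hsolv)
      rw [h2] at h3
      exact goal_of h3.symm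

theorem thompson_AxB_weak (B X : Subgroup H) (c : H)
    (hB : IsPGroup p B) (hX : IsPGroup p X) (hcop : (orderOf c).Coprime p)
    (hBA : ⁅B, Subgroup.zpowers c⁆ ≤ Subgroup.centralizer (X : Set H))
    (hBX : B ≤ Subgroup.normalizer (X : Set H)) (hcX : c ∈ Subgroup.normalizer (X : Set H))
    (hfix : c ∈ Subgroup.centralizer
      ((X ⊓ Subgroup.centralizer (B : Set H) : Subgroup H) : Set H)) :
    c ∈ Subgroup.centralizer (X : Set H) :=
  thompson_AxB_weak_aux B X c hB hcop hBA (Nat.card X) X le_rfl le_rfl hX hBX hcX hfix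

end

end Cfsg.Agent.Lib.Helper16
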