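import Cfsg.Agent.Lib.Helper16.Residual

set_option autoImplicit false
open Cfsg
open scoped commutatorElement

namespace Cfsg.Agent.Lib.Helper16

/-! ### `O_p` of a subgroup, in the ambient group -/

/-- The set of `p`-subgroups of `K` normalized by `K`. -/
def opDownSet {G : Type*} [Group G] (p : ℕ) (K : Subgroup G) : Set (Subgroup G) :=
  {N : Subgroup G | N ≤ K ∧ K ≤ Subgroup.normalizer (N : Set G) ∧ IsPGroup p N}

/-- `O_p(K)` inside the ambient group. -/
def opDown {G : Type*} [Group G] (p : ℕ) (K : Subgroup G) : Subgroup G :=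
  sSup (opDownSet p K)

theorem map_pCore_eq_opDown {G : Type*} [Group G] (p : ℕ) (K : Subgroup G) :
    (Cfsg.pCore p ↥K).map K.subtype = opDown p K := by
  apply le_antisymm
  · unfold Cfsg.pCore
    rw [sSup_eq_iSup', Subgroup.map_iSup]
    apply iSup_le
    rintro ⟨N, hNn, hNp⟩
    apply le_sSup
    refine ⟨Subgroup.map_subtype_le N, ?_, hNp.map _⟩
    intro k hk
    apply mem_normalizer_of_conj_mem
    · rintro _ ⟨n, hn, rfl⟩
      exact ⟨⟨k, hk⟩ * n * ⟨k, hk⟩⁻¹, hNn.conj_mem n hn ⟨k, hk⟩, rfl⟩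
    · rintro _ ⟨n, hn, rfl⟩
      refine ⟨⟨k, hk⟩⁻¹ * n * ⟨k, hk⟩, ?_, rfl⟩
      have := hNn.conj_mem n hn ⟨k, hk⟩⁻¹
      simpa using this
  · unfold opDown
    apply sSup_le
    rintro N ⟨hNK, hKN, hNp⟩
    have hn : (N.subgroupOf K).Normal := by
      rw [Subgroup.normal_subgroupOf_iff_le_normalizer hNK]; exact hKN
    have hp : IsPGroup p (N.subgroupOf K) := hNp.comap_subtype
    have := le_pCore hn hp
    have h2 := Subgroup.map_mono (f := K.subtype) this
    rwa [Subgroup.map_subgroupOf_eq_of_le hNK] at h2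

theorem opDown_le {G : Type*} [Group G] (p : ℕ) (K : Subgroup G) : opDown p K ≤ K := by
  unfold opDown
  exact sSup_le (fun N hN => hN.1)

theorem opDown_isPGroup {G : Type*} [Group G] [Finite G] (p : ℕ) [Fact p.Prime] (K : Subgroup G) :
    IsPGroup p (opDown p K) := by
  rw [← map_pCore_eq_opDown]
  exact (pCore_isPGroup p ↥K).map _

theorem le_normalizer_opDown {G : Type*} [Group G] (p : ℕ) (K : Subgroup G) :
    K ≤ Subgroup.normalizer ((opDown p K : Subgroup G) : Set G) := by
  rw [← map_pCore_eq_opDown]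
  have hn := pCore_normal p ↥K
  intro k hk
  apply mem_normalizer_of_conj_mem
  · rintro _ ⟨n, hn', rfl⟩
    exact ⟨⟨k, hk⟩ * n * ⟨k, hk⟩⁻¹, hn.conj_mem n hn' ⟨k, hk⟩, rfl⟩
  · rintro _ ⟨n, hn', rfl⟩
    refine ⟨⟨k, hk⟩⁻¹ * n * ⟨k, hk⟩, ?_, rfl⟩
    have := hn.conj_mem n hn' ⟨k, hk⟩⁻¹
    simpa using this

theorem le_opDown {G : Type*} [Group G] (p : ℕ) {K N : Subgroup G} (hNK : N ≤ K)
    (hKN : K ≤ Subgroup.normalizer (N : Set G)) (hNp : IsPGroup p N) : N ≤ opDown p K :=
  le_sSup ⟨hNK, hKN, hNp⟩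

/-- `O_p(K)` is normalized by everything normalizing `K` (finite case). -/
theorem normalizer_le_normalizer_opDown {G : Type*} [Group G] [Finite G] (p : ℕ) [Fact p.Prime]
    (K : Subgroup G) :
    Subgroup.normalizer (K : Set G) ≤ Subgroup.normalizer ((opDown p K : Subgroup G) : Set G) := by
  have key : ∀ x ∈ Subgroup.normalizer (K : Set G), ∀ g ∈ opDown p K, x * g * x⁻¹ ∈ opDown p K := by
    intro x hx g hg
    -- the conjugate of opDown p K by x is again in the set
    have hmem : (opDown p K).map (MulAut.conj x).toMonoidHom ∈ opDownSet p K := by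
      refine ⟨?_, ?_, (opDown_isPGroup p K).map _⟩
      · rintro _ ⟨n, hn, rfl⟩
        simp only [MulEquiv.coe_toMonoidHom, MulAut.conj_apply]
        exact (Subgroup.mem_normalizer_iff.mp hx n).mp (opDown_le p K hn)
      · intro k hk
        -- x⁻¹ k x ∈ K normalizes opDown
        have hk' : x⁻¹ * k * x ∈ K := by
          have := (Subgroup.mem_normalizer_iff.mp (Subgroup.inv_mem _ hx) k).mp hk
          simpa using this
        have hkn := le_normalizer_opDown p K hk'
        apply mem_normalizer_of_conj_mem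
        · rintro _ ⟨n, hn, rfl⟩
          refine ⟨(x⁻¹ * k * x) * n * (x⁻¹ * k * x)⁻¹, ?_, ?_⟩
          · exact (Subgroup.mem_normalizer_iff.mp hkn n).mp hn
          · simp only [MulEquiv.coe_toMonoidHom, MulAut.conj_apply]; group
        · rintro _ ⟨n, hn, rfl⟩
          refine ⟨(x⁻¹ * k * x)⁻¹ * n * (x⁻¹ * k * x), ?_, ?_⟩
          · have := (Subgroup.mem_normalizer_iff.mp (Subgroup.inv_mem _ hkn) n).mp hn
            simpa using this
          · simp only [MulEquiv.coe_toMonoidHom, MulAut.conj_apply]; group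
    have hle : (opDown p K).map (MulAut.conj x).toMonoidHom ≤ opDown p K := le_sSup hmem
    apply hle
    exact ⟨g, hg, by simp [MulAut.conj_apply]⟩
  intro x hx
  apply mem_normalizer_of_conj_mem
  · exact key x hx
  · intro g hg
    have := key x⁻¹ (Subgroup.inv_mem _ hx) g hg
    simpa using this

/-- If `K ⊴ K'` then `O_p(K) ≤ O_p(K')` (finite case). -/
theorem opDown_le_opDown_of_normal {G : Type*} [Group G] [Finite G] (p : ℕ) [Fact p.Prime]
    {K K' : Subgroup G} (hKK' : K ≤ K') (hn : K' ≤ Subgroup.normalizer (K : Set G)) :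
    opDown p K ≤ opDown p K' :=
  le_opDown p ((opDown_le p K).trans hKK') (hn.trans (normalizer_le_normalizer_opDown p K))
    (opDown_isPGroup p K)

theorem opDown_top {G : Type*} [Group G] (p : ℕ) : opDown p (⊤ : Subgroup G) = Cfsg.pCore p G := by
  unfold opDown opDownSet Cfsg.pCore
  congr 1
  ext N
  simp only [le_top, true_and, Set.mem_ofPred_eq, top_le_iff, Subgroup.normalizer_eq_top_iff]

/-- For a subnormal subgroup `K` of a finite group, `O_p(K) ≤ O_p(G)`. -/
theorem opDown_le_pCore_of_isSubnormal {G : Type*} [Group G] [Finite G] (p : ℕ) [Fact p.Prime]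
    {K : Subgroup G} (hK : K.IsSubnormal) : opDown p K ≤ Cfsg.pCore p G := by
  induction hK with
  | top => rw [opDown_top]
  | step H K h_le _ hN ih =>
    rw [Subgroup.normal_subgroupOf_iff_le_normalizer h_le] at hN
    exact (opDown_le_opDown_of_normal p h_le hN).trans ih

/-- A subnormal `p`-subgroup of a finite group lies in `O_p(G)`. -/
theorem le_pCore_of_isSubnormal_of_isPGroup {G : Type*} [Group G] [Finite G] (p : ℕ)
    [Fact p.Prime] {A : Subgroup G} (hA : A.IsSubnormal) (hAp : IsPGroup p A) :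
    A ≤ Cfsg.pCore p G :=
  (le_opDown p le_rfl Subgroup.le_normalizer hAp).trans (opDown_le_pCore_of_isSubnormal p hA)

/-- For `M` normal, `O_p(G) ⊓ M ≤ O_p(M)`. -/
theorem pCore_inf_le_opDown {G : Type*} [Group G] [Finite G] (p : ℕ) [Fact p.Prime]
    (M : Subgroup G) (hM : M.Normal) : Cfsg.pCore p G ⊓ M ≤ opDown p M := by
  have hn := pCore_normal p G
  have : (Cfsg.pCore p G ⊓ M).Normal := inferInstance
  apply le_opDown p inf_le_right
  · intro m _
    exact (Subgroup.normalizer_eq_top_iff.mpr this) ▸ Subgroup.mem_top m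
  · exact (pCore_isPGroup p G).to_le inf_le_left

end Cfsg.Agent.Lib.Helper16
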