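import Cfsg.Prelude.Def_Solvable
import Cfsg.Prelude.Def_Transfer
import Mathlib.GroupTheory.Sylow
import Mathlib.GroupTheory.Commutator.Basic
import Mathlib.GroupTheory.Subgroup.Centralizer

set_option autoImplicit false
open Cfsg
open scoped commutatorElement

namespace Cfsg.Agent.Lib.Helper16

/-- The `p`-core is a normal subgroup. -/
theorem pCore_normal (p : ℕ) (G : Type*) [Group G] : (Cfsg.pCore p G).Normal := by
  unfold Cfsg.pCore
  exact Subgroup.sSup_normal _ (fun H hH => hH.1)

/-- A normal `p`-subgroup lies in the `p`-core. -/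
theorem le_pCore {p : ℕ} {G : Type*} [Group G] {N : Subgroup G} (hN : N.Normal)
    (hp : IsPGroup p N) : N ≤ Cfsg.pCore p G :=
  le_sSup ⟨hN, hp⟩

/-- A normal `p`-subgroup of a finite group lies in every Sylow `p`-subgroup. -/
theorem normal_pgroup_le_sylow {p : ℕ} {G : Type*} [Group G] [Finite G] [Fact p.Prime]
    {N : Subgroup G} (hN : N.Normal) (hp : IsPGroup p N) (P : Sylow p G) : N ≤ (P : Subgroup G) := by
  obtain ⟨Q, hQ⟩ := hp.exists_le_sylow
  obtain ⟨g, hg⟩ := MulAction.exists_smul_eq G Q P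
  intro x hx
  have hx' : g⁻¹ * x * g⁻¹⁻¹ ∈ N := hN.conj_mem x hx g⁻¹
  have hxQ : g⁻¹ * x * g⁻¹⁻¹ ∈ (Q : Subgroup G) := hQ hx'
  rw [← hg]
  rw [Sylow.coe_subgroup_smul, Subgroup.mem_pointwise_smul_iff_inv_smul_mem]
  simpa [MulAut.smul_def] using hxQ

/-- The `p`-core of a finite group lies in every Sylow `p`-subgroup. -/
theorem pCore_le_sylow {p : ℕ} {G : Type*} [Group G] [Finite G] [Fact p.Prime]
    (P : Sylow p G) : Cfsg.pCore p G ≤ (P : Subgroup G) := by
  unfold Cfsg.pCore
  exact sSup_le (fun N hN => normal_pgroup_le_sylow hN.1 hN.2 P)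

/-- The `p`-core of a finite group is a `p`-group. -/
theorem pCore_isPGroup (p : ℕ) (G : Type*) [Group G] [Finite G] [Fact p.Prime] :
    IsPGroup p (Cfsg.pCore p G) := by
  obtain ⟨P⟩ : Nonempty (Sylow p G) := inferInstance
  exact P.2.to_le (pCore_le_sylow P)

/-- If `z = ⁅r, x⁆` commutes with `x`, `z` is a `p`-element and `x` is a `p'`-element,
then `r` and `x` commute. -/
theorem commute_of_coprime_commutator {H : Type*} [Group H] {p : ℕ} (r x : H)
    (hzx : ⁅r, x⁆ * x = x * ⁅r, x⁆) (k : ℕ) (hk : ⁅r, x⁆ ^ (p ^ k) = 1)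
    (hcop : (orderOf x).Coprime p) : r * x = x * r := by
  set z := ⁅r, x⁆ with hz
  have h1 : r * x * r⁻¹ = z * x := by
    simp [hz, commutatorElement_def, mul_assoc]
  have h2 : (r * x * r⁻¹) ^ (orderOf x) = 1 := by
    rw [conj_pow, pow_orderOf_eq_one]; simp
  rw [h1, (show Commute z x from hzx).mul_pow, pow_orderOf_eq_one, mul_one] at h2
  have hz1 : z = 1 := by
    have hd1 : orderOf z ∣ orderOf x := orderOf_dvd_of_pow_eq_one h2
    have hd2 : orderOf z ∣ p ^ k := orderOf_dvd_of_pow_eq_one hk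
    have hc : (orderOf x).Coprime (p ^ k) := Nat.Coprime.pow_right k hcop
    have : orderOf z ∣ 1 := by
      have := Nat.dvd_gcd hd1 hd2
      rwa [hc] at this
    exact orderOf_eq_one_iff.mp (Nat.dvd_one.mp this)
  rw [hz1] at h1
  calc r * x = (r * x * r⁻¹) * r := by group
    _ = 1 * x * r := by rw [h1]
    _ = x * r := by rw [one_mul]

/-- An element of `p`-power order and order coprime to `p` is trivial. -/
theorem eq_one_of_pow_prime_pow_of_coprime {H : Type*} [Group H] {p : ℕ} (x : H) (j : ℕ)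
    (hj : x ^ (p ^ j) = 1) (hcop : (orderOf x).Coprime p) : x = 1 := by
  have hd2 : orderOf x ∣ p ^ j := orderOf_dvd_of_pow_eq_one hj
  have hc : (orderOf x).Coprime (p ^ j) := Nat.Coprime.pow_right j hcop
  have : orderOf x ∣ 1 := by
    have := Nat.dvd_gcd dvd_rfl hd2
    rwa [hc] at this
  exact orderOf_eq_one_iff.mp (Nat.dvd_one.mp this)

/-- Membership in a `p`-subgroup gives a `p`-power killing the element (in the ambient group). -/
theorem exists_pow_eq_one_of_mem {H : Type*} [Group H] {p : ℕ} {R : Subgroup H} (hR : IsPGroup p R)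
    {z : H} (hz : z ∈ R) : ∃ k : ℕ, z ^ (p ^ k) = 1 := by
  obtain ⟨k, hk⟩ := hR ⟨z, hz⟩
  refine ⟨k, ?_⟩
  have := congrArg Subtype.val hk
  simpa using this

/-- In a finite group every element `g` has a power `g ^ (p ^ k)` of order coprime to `p`.
A subgroup is a `p`-group as soon as all its `p'`-elements are trivial. -/
theorem isPGroup_of_coprime_elements_trivial {H : Type*} [Group H] [Finite H] {p : ℕ}
    [Fact p.Prime] (L : Subgroup H)
    (h : ∀ x ∈ L, (orderOf x).Coprime p → x = 1) : IsPGroup p L := by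
  intro ⟨g, hg⟩
  obtain ⟨k, m, hm, hkm⟩ := Nat.exists_eq_pow_mul_and_not_dvd (orderOf_pos g).ne' p
    (Fact.out : p.Prime).ne_one
  refine ⟨k, ?_⟩
  set x := g ^ (p ^ k) with hxdef
  have hxL : x ∈ L := L.pow_mem hg _
  have hxord : orderOf x = m := by
    rw [hxdef, orderOf_pow' g (pow_ne_zero k (Fact.out : p.Prime).ne_zero), hkm,
      Nat.gcd_eq_right (Dvd.intro _ rfl)]
    exact Nat.mul_div_cancel_left m (pow_pos (Fact.out : p.Prime).pos k)
  have hcop : (orderOf x).Coprime p := by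
    rw [hxord]
    exact ((Nat.Prime.coprime_iff_not_dvd (Fact.out : p.Prime)).mpr hm).symm
  have hx1 := h x hxL hcop
  apply Subtype.ext
  simpa [hxdef] using hx1

end Cfsg.Agent.Lib.Helper16
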