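import Cfsg.Agent.Lib.Helper16.Frattini
import Mathlib.GroupTheory.Subgroup.Centralizer
import Mathlib.GroupTheory.Abelianization.Defs

set_option autoImplicit false
open scoped commutatorElement

namespace Cfsg.Agent.Lib.Helper16

/-- The image of `Φ(P)` in the ambient group is normalized by `N_G(P)`. -/
theorem conj_mem_map_frattini {G : Type*} [Group G] (P : Subgroup G) (h : G)
    (hh : h ∈ Subgroup.normalizer (P : Set G)) (r : G)
    (hr : r ∈ (frattini ↥P).map P.subtype) : h * r * h⁻¹ ∈ (frattini ↥P).map P.subtype := by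
  obtain ⟨x, hx, rfl⟩ := hr
  have hchar : (frattini ↥P).Characteristic := inferInstance
  have := (Subgroup.characteristic_iff_map_eq.mp hchar) (P.normalizerMonoidHom ⟨h, hh⟩)
  have hmem : (P.normalizerMonoidHom ⟨h, hh⟩) x ∈ frattini ↥P := by
    rw [← this]
    exact ⟨x, hx, rfl⟩
  exact ⟨_, hmem, rfl⟩

theorem normalizer_le_normalizer_map_frattini {G : Type*} [Group G] (P : Subgroup G) :
    Subgroup.normalizer (P : Set G) ≤
      Subgroup.normalizer ((((frattini ↥P).map P.subtype : Subgroup G)) : Set G) := by
  intro h hh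
  rw [Subgroup.mem_normalizer_iff]
  intro g
  constructor
  · exact conj_mem_map_frattini P h hh g
  · intro hg
    have := conj_mem_map_frattini P h⁻¹ (Subgroup.inv_mem _ hh) _ hg
    simpa [mul_assoc] using this

/-- In a finite `p`-group, if a subgroup `N` contains all commutators and all `p`-th powers,
then it contains `Φ(P)` (version with element-wise hypotheses). -/
theorem frattini_le_of_forall {P : Type*} [Group P] [Finite P] {p : ℕ} [Fact p.Prime]
    (N : Subgroup P) (hcomm : ∀ x y : P, ⁅x, y⁆ ∈ N) (hpow : ∀ x : P, x ^ p ∈ N) :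
    frattini P ≤ N := by
  apply frattini_le_of_elementary_quotient (p := p) N _ hpow
  rw [commutator_def, Subgroup.commutator_le]
  intro x _ y _
  exact hcomm x y

/-- Modulo the commutator subgroup, `(b * x) ^ n = b ^ n * x ^ n`. -/
theorem mul_pow_mul_inv_mem_commutator {P : Type*} [Group P] (b x : P) (n : ℕ) :
    (b * x) ^ n * (b ^ n * x ^ n)⁻¹ ∈ commutator P := by
  rw [← Abelianization.ker_of, MonoidHom.mem_ker]
  simp only [map_mul, map_inv, map_pow]
  rw [mul_pow]
  simp

end Cfsg.Agent.Lib.Helper16
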