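import Cfsg.Agent.Lib.Helper16.Residual
import Mathlib

set_option autoImplicit false
open Cfsg
open scoped commutatorElement Pointwise

namespace Cfsg.Agent.Lib.Helper16

section
variable {G : Type*} [Group G]

theorem mem_pResidual_of_coprime (p : ℕ) {g : G} (h : Nat.Coprime (orderOf g) p) :
    g ∈ Cfsg.pResidual p G := Subgroup.subset_closure h

theorem pResidual_normal (p : ℕ) : (Cfsg.pResidual p G).Normal := by
  constructor
  intro n hn x
  unfold Cfsg.pResidual at hn
  induction hn using Subgroup.closure_induction with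
  | mem g hg =>
    apply mem_pResidual_of_coprime
    have : orderOf (x * g * x⁻¹) = orderOf g := by
      have := (MulAut.conj x).orderOf_eq g
      rwa [MulAut.conj_apply] at this
    rw [this]; exact hg
  | one => simp
  | mul a b _ _ ha hb =>
    have : x * (a * b) * x⁻¹ = (x * a * x⁻¹) * (x * b * x⁻¹) := by group
    rw [this]; exact Subgroup.mul_mem _ ha hb
  | inv a _ ha =>
    have : x * a⁻¹ * x⁻¹ = (x * a * x⁻¹)⁻¹ := by group
    rw [this]; exact Subgroup.inv_mem _ ha

theorem exists_pow_mem_pResidual [Finite G] (p : ℕ) [Fact p.Prime] (g : G) :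
    ∃ k : ℕ, g ^ (p ^ k) ∈ Cfsg.pResidual p G := by
  obtain ⟨k, m, hm, hkm⟩ := Nat.exists_eq_pow_mul_and_not_dvd (orderOf_pos g).ne' p
    (Fact.out : p.Prime).ne_one
  refine ⟨k, ?_⟩
  apply mem_pResidual_of_coprime p
  have hxord : orderOf (g ^ (p ^ k)) = m := by
    rw [orderOf_pow' g (pow_ne_zero k (Fact.out : p.Prime).ne_zero), hkm,
      Nat.gcd_eq_right (Dvd.intro _ rfl)]
    exact Nat.mul_div_cancel_left m (pow_pos (Fact.out : p.Prime).pos k)
  rw [hxord]
  exact ((Nat.Prime.coprime_iff_not_dvd (Fact.out : p.Prime)).mpr hm).symm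

theorem quotient_pResidual_isPGroup [Finite G] (p : ℕ) [Fact p.Prime]
    [hn : (Cfsg.pResidual p G).Normal] : IsPGroup p (G ⧸ Cfsg.pResidual p G) := by
  intro q
  obtain ⟨g, rfl⟩ := QuotientGroup.mk_surjective q
  obtain ⟨k, hk⟩ := exists_pow_mem_pResidual p g
  refine ⟨k, ?_⟩
  rw [← QuotientGroup.mk_pow]
  exact (QuotientGroup.eq_one_iff _).mpr hk

theorem pResidual_sup_sylow [Finite G] (p : ℕ) [Fact p.Prime] (T : Sylow p G) :
    Cfsg.pResidual p G ⊔ (T : Subgroup G) = ⊤ := by
  have hp : p.Prime := Fact.out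
  haveI := pResidual_normal (G := G) p
  obtain ⟨n, hn⟩ := (IsPGroup.iff_card.mp (quotient_pResidual_isPGroup (G := G) p))
  have hidx : (Cfsg.pResidual p G).index = p ^ n := by
    rw [Subgroup.index_eq_card]; exact hn
  have h1 : (Cfsg.pResidual p G ⊔ (T : Subgroup G)).index ∣ p ^ n := by
    rw [← hidx]; exact Subgroup.index_dvd_of_le le_sup_left
  have h2 : (Cfsg.pResidual p G ⊔ (T : Subgroup G)).index ∣ (T : Subgroup G).index :=
    Subgroup.index_dvd_of_le le_sup_right
  obtain ⟨j, -, hj⟩ := (Nat.dvd_prime_pow hp).mp h1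
  rcases Nat.eq_zero_or_pos j with h0 | hpos
  · rw [h0, pow_zero] at hj
    exact Subgroup.index_eq_one.mp hj
  · exfalso
    apply T.not_dvd_index
    refine dvd_trans ?_ h2
    rw [hj]
    exact dvd_pow_self p hpos.ne'

/-- Ambient form: every element of `K` is a product of an element of `O^p(K)` and an element of
a given Sylow `p`-subgroup of `K`. -/
theorem exists_opUp_mul_sylow [Finite G] (p : ℕ) [Fact p.Prime] (K : Subgroup G)
    (P : Sylow p ↥K) {x : G} (hx : x ∈ K) :
    ∃ c ∈ opUp p K, ∃ y ∈ (P : Subgroup ↥K).map K.subtype, x = c * y := by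
  haveI := pResidual_normal (G := ↥K) p
  have h1 : (⟨x, hx⟩ : ↥K) ∈ ((Cfsg.pResidual p ↥K ⊔ (P : Subgroup ↥K) : Subgroup ↥K) : Set ↥K) := by
    rw [pResidual_sup_sylow]; trivial
  rw [Subgroup.normal_mul] at h1
  obtain ⟨c, hc, y, hy, hcy⟩ := h1
  refine ⟨(c : G), ?_, (y : G), ⟨y, hy, rfl⟩, ?_⟩
  · rw [← map_pResidual_eq_opUp]; exact ⟨c, hc, rfl⟩
  · have := congrArg Subtype.val hcy
    simpa using this.symm

end

end Cfsg.Agent.Lib.Helper16
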