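import Cfsg.Agent.Lib.Helper16.PIrredNormal
import Cfsg.Agent.Lib.Helper16.ResidualQuot

set_option autoImplicit false
open Cfsg
open scoped commutatorElement Pointwise

namespace Cfsg.Agent.Lib.Helper16

section
variable {A B : Type*} [Group A] [Group B] [Finite A] {p : ℕ} [Fact p.Prime]

/-- `p`-closedness passes up and down a surjection with `p`-group kernel. -/
theorem isPClosed_iff_of_surjective (f : A →* B) (hf : Function.Surjective f)
    (hker : IsPGroup p f.ker) : Cfsg.IsPClosed p A ↔ Cfsg.IsPClosed p B := by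
  constructor
  · intro h P
    have hle : (P : Subgroup B) ≤ f.range := by
      rw [MonoidHom.range_eq_top.mpr hf]; exact le_top
    have hn : ((P : Subgroup B).comap f).Normal := h (P.comapOfKerIsPGroup f hker hle)
    have := hn.map f hf
    rwa [Subgroup.map_comap_eq_self_of_surjective hf] at this
  · intro h P
    have hn : ((P : Subgroup A).map f).Normal := h (P.mapSurjective hf)
    have h2 : ((P : Subgroup A).map f).comap f = (P : Subgroup A) := by
      rw [Subgroup.comap_map_eq]
      exact sup_eq_left.mpr (normal_pgroup_le_sylow (MonoidHom.normal_ker f) hker P)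
    rw [← h2]
    exact hn.comap f

/-- Restricted version: for a subgroup `N` of `A`. -/
theorem isPClosed_map_iff (f : A →* B) (hker : IsPGroup p f.ker) (N : Subgroup A) :
    Cfsg.IsPClosed p ↥N ↔ Cfsg.IsPClosed p ↥(N.map f) := by
  apply isPClosed_iff_of_surjective (f.subgroupMap N) (f.subgroupMap_surjective N)
  have h1 : IsPGroup p (f.ker.subgroupOf N) := hker.comap_subtype
  refine h1.to_le ?_
  intro x hx
  rw [MonoidHom.mem_ker] at hx
  rw [Subgroup.mem_subgroupOf, MonoidHom.mem_ker]
  have := congrArg Subtype.val hx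
  simpa using this

/-- The image of `O^p(A)` under a surjection is `O^p(B)`. -/
theorem map_pResidual_of_surjective (f : A →* B) (hf : Function.Surjective f) :
    (Cfsg.pResidual p A).map f = Cfsg.pResidual p B := by
  apply le_antisymm
  · unfold Cfsg.pResidual
    rw [MonoidHom.map_closure, Subgroup.closure_le]
    rintro _ ⟨g, hg, rfl⟩
    apply Subgroup.subset_closure
    exact Nat.Coprime.coprime_dvd_left (orderOf_map_dvd f g) hg
  · conv_lhs => unfold Cfsg.pResidual
    rw [Subgroup.closure_le]
    intro b hb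
    obtain ⟨a, rfl⟩ := hf b
    obtain ⟨k, hk⟩ := exists_pow_mem_pResidual p a
    have h1 : (f a) ^ (p ^ k) ∈ (Cfsg.pResidual p A).map f := by
      rw [← map_pow]; exact Subgroup.mem_map_of_mem f hk
    exact mem_of_pow_mem_of_coprime _ (f a) k hb h1

/-- The image of `O_p(A)` under a surjection with `p`-group kernel is `O_p(B)`. -/
theorem map_pCore_of_surjective (f : A →* B) (hf : Function.Surjective f)
    (hker : IsPGroup p f.ker) : (Cfsg.pCore p A).map f = Cfsg.pCore p B := by
  apply le_antisymm
  · exact le_pCore ((pCore_normal p A).map f hf) ((pCore_isPGroup p A).map f)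
  · have hB : Finite B := Finite.of_surjective f hf
    have hn : ((Cfsg.pCore p B).comap f).Normal := (pCore_normal p B).comap f
    have hp : IsPGroup p ((Cfsg.pCore p B).comap f) := by
      rintro ⟨x, hx⟩
      have hx' : f x ∈ Cfsg.pCore p B := hx
      obtain ⟨k, hk⟩ := exists_pow_eq_one_of_mem (pCore_isPGroup p B) hx'
      have h1 : x ^ (p ^ k) ∈ f.ker := by rw [MonoidHom.mem_ker, map_pow, hk]
      obtain ⟨j, hj⟩ := exists_pow_eq_one_of_mem hker h1
      refine ⟨k + j, ?_⟩
      apply Subtype.ext
      simp only [SubgroupClass.coe_pow, Subgroup.coe_one]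
      rw [pow_add, pow_mul, hj]
    have h1 := le_pCore hn hp
    have h2 := Subgroup.map_mono (f := f) h1
    rwa [Subgroup.map_comap_eq_self_of_surjective hf] at h2

omit [Finite A] [Fact p.Prime] in
/-- If `O^p(A) ≤ N D` with `N` normal and `D` a `p`-group, then `O^p(A) ≤ N`. -/
theorem pResidual_le_of_le_sup (N D : Subgroup A) [hN : N.Normal] (hD : IsPGroup p D)
    (h : Cfsg.pResidual p A ≤ D ⊔ N) : Cfsg.pResidual p A ≤ N := by
  unfold Cfsg.pResidual
  rw [Subgroup.closure_le]
  intro g hg
  have hgm : g ∈ D ⊔ N := h (Subgroup.subset_closure hg)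
  rw [Subgroup.mem_sup_of_normal_right] at hgm
  obtain ⟨d, hd, n, hn, rfl⟩ := hgm
  obtain ⟨k, hk⟩ := exists_pow_eq_one_of_mem hD hd
  apply mem_of_pow_mem_of_coprime N (d * n) k hg
  rw [← QuotientGroup.eq_one_iff, QuotientGroup.mk_pow, QuotientGroup.mk_mul,
    (QuotientGroup.eq_one_iff n).mpr hn, mul_one, ← QuotientGroup.mk_pow, hk]
  rfl

end

end Cfsg.Agent.Lib.Helper16
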