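import Mathlib.GroupTheory.Sylow
import Mathlib.GroupTheory.Index

set_option autoImplicit false
open scoped Pointwise

namespace Cfsg.Agent.Lib.Helper16

/-- For a Sylow `p`-subgroup `P` of a finite group and a normal subgroup `K`, `p` does not
divide `|K : P ∩ K|`. -/
theorem not_dvd_relIndex_sylow_normal {G : Type*} [Group G] [Finite G] {p : ℕ} [Fact p.Prime]
    (P : Sylow p G) (K : Subgroup G) [K.Normal] : ¬ p ∣ (P : Subgroup G).relIndex K := by
  obtain ⟨P₀⟩ : Nonempty (Sylow p ↥K) := inferInstance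
  obtain ⟨Q, hQ⟩ := P₀.exists_comap_subtype_eq
  obtain ⟨g, hg⟩ := MulAction.exists_smul_eq G P Q
  have h1 : ¬ p ∣ (P₀ : Subgroup ↥K).index := P₀.not_dvd_index
  rw [← hQ] at h1
  have h2 : (Q : Subgroup G).relIndex K = (P : Subgroup G).relIndex K := by
    rw [← hg, Sylow.coe_subgroup_smul]
    conv_lhs => rw [← Subgroup.Normal.conj_smul_eq_self g K]
    exact Subgroup.relIndex_pointwise_smul _ _ _
  rw [← h2]
  exact h1

/-- The intersection of a Sylow `p`-subgroup with a normal subgroup `K` is a Sylow `p`-subgroup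
of `K`. -/
theorem exists_sylow_subgroupOf_normal {G : Type*} [Group G] [Finite G] {p : ℕ} [Fact p.Prime]
    (P : Sylow p G) (K : Subgroup G) [K.Normal] :
    ∃ Q : Sylow p ↥K, (Q : Subgroup ↥K) = (P : Subgroup G).subgroupOf K :=
  ⟨(P.2.comap_subtype).toSylow (not_dvd_relIndex_sylow_normal P K), rfl⟩

/-- If `T` is a Sylow `p`-subgroup of `G` contained in `N` and `C ≤ N` is normalized by `N`,
then `T ⊓ C` is a Sylow `p`-subgroup of `C`. -/
theorem exists_sylow_inf_of_le_normalizer {G : Type*} [Group G] [Finite G] {p : ℕ} [Fact p.Prime]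
    (T : Sylow p G) (N C : Subgroup G) (hTN : (T : Subgroup G) ≤ N) (hCN : C ≤ N)
    (hn : N ≤ Subgroup.normalizer (C : Set G)) :
    ∃ Q : Sylow p ↥C, (Q : Subgroup ↥C) = ((T : Subgroup G) ⊓ C).subgroupOf C := by
  have hCn : (C.subgroupOf N).Normal := (Subgroup.normal_subgroupOf_iff_le_normalizer hCN).mpr hn
  have h1 := not_dvd_relIndex_sylow_normal (T.subtype hTN) (C.subgroupOf N)
  rw [Sylow.coe_subtype, Subgroup.relIndex_subgroupOf hCN] at h1
  have h2 : ¬ p ∣ (((T : Subgroup G) ⊓ C).subgroupOf C).index := by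
    have : (((T : Subgroup G) ⊓ C).subgroupOf C).index = ((T : Subgroup G) ⊓ C).relIndex C := rfl
    rw [this, Subgroup.inf_relIndex_right]
    exact h1
  exact ⟨((T.2.to_le inf_le_left).comap_subtype).toSylow h2, rfl⟩

end Cfsg.Agent.Lib.Helper16
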