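import Mathlib
import Cfsg.Agent.S0683
import Cfsg.Agent.S0728

set_option autoImplicit false
set_option maxHeartbeats 1000000

open Cfsg

/-!
Sharply triply transitive groups of odd degree are `PGL(2, F)` (Zassenhaus), via the
near-field of the point stabiliser (S0683).
-/

namespace Cfsg.Agent.Lib.Helper16.Sharp3

open Cfsg.Agent.S0728 (exists_map3 eq_one_of_fix3 eq_of_agree3)

/-! ### near-field lemmas -/

section NF
variable {β : Type*}

theorem nf_zero_mul [nf : Cfsg.NearField β] (a : β) : (0 : β) * a = 0 := by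
  have h := Cfsg.NearField.right_distrib (0 : β) 0 a
  rw [add_zero] at h
  exact (add_left_cancel ((add_zero _).trans h)).symm

theorem nf_left_distrib [nf : Cfsg.NearField β] (hc : ∀ a b : β, a * b = b * a) (x y z : β) :
    x * (y + z) = x * y + x * z := by
  rw [hc x (y + z), Cfsg.NearField.right_distrib, hc y x, hc z x]

theorem nf_add_comm [nf : Cfsg.NearField β] (hc : ∀ a b : β, a * b = b * a) (a b : β) :
    a + b = b + a := by
  have h1 : ((1 : β) + 1) * (a + b) = a + b + (a + b) := by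
    rw [Cfsg.NearField.right_distrib, one_mul]
  have h2 : ((1 : β) + 1) * (a + b) = a + a + (b + b) := by
    rw [nf_left_distrib hc, Cfsg.NearField.right_distrib, Cfsg.NearField.right_distrib,
      one_mul, one_mul]
  have key : a + b + (a + b) = a + a + (b + b) := h1.symm.trans h2
  have k1 : a + ((b + a) + b) = a + ((a + b) + b) := by
    calc a + ((b + a) + b) = a + b + (a + b) := by simp only [add_assoc]
      _ = a + a + (b + b) := key
      _ = a + ((a + b) + b) := by simp only [add_assoc]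
  exact (add_right_cancel (add_left_cancel k1)).symm

/-- the commutative ring of a near-field with commutative multiplication -/
@[reducible] def commRingOfNF [nf : Cfsg.NearField β] (hc : ∀ a b : β, a * b = b * a) :
    CommRing β :=
  { nf.toAddGroup, nf.toMonoid with
    add_comm := nf_add_comm hc
    left_distrib := nf_left_distrib hc
    right_distrib := Cfsg.NearField.right_distrib
    zero_mul := nf_zero_mul
    mul_zero := Cfsg.NearField.mul_zero
    mul_comm := hc }

theorem isField_of_NF [nf : Cfsg.NearField β] (hc : ∀ a b : β, a * b = b * a) :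
    @IsField β (commRingOfNF hc).toRing.toSemiring :=
  @IsField.mk β (commRingOfNF hc).toRing.toSemiring ⟨0, 1, Cfsg.NearField.zero_ne_one⟩ hc
    (fun {a} ha => (Cfsg.NearField.exists_inv a ha).imp fun _ hb => hb.1)

theorem field_of_NF [Fintype β] [nf : Cfsg.NearField β] (hc : ∀ a b : β, a * b = b * a) :
    ∃ (F : Type) (_ : Field F) (_ : Fintype F) (e : β ≃ F), e 0 = 0 ∧ e 1 = 1 ∧
      (∀ a b, e (a + b) = e a + e b) ∧ (∀ a b, e (a * b) = e a * e b) := by
  classical
  let K : Field β := @IsField.toField β (commRingOfNF hc).toRing (isField_of_NF hc)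
  let e0 : β ≃ Fin (Fintype.card β) := Fintype.equivFin β
  let KF : Field (Fin (Fintype.card β)) := @Equiv.field _ _ e0.symm K
  refine ⟨Fin (Fintype.card β), KF, inferInstance, e0, ?_, ?_, ?_, ?_⟩
  · rfl
  · rfl
  · intro a b
    show e0 (a + b) = e0.symm.symm (e0.symm (e0 a) + e0.symm (e0 b))
    rw [Equiv.symm_apply_apply, Equiv.symm_apply_apply]
    rfl
  · intro a b
    show e0 (a * b) = e0.symm.symm (e0.symm (e0 a) * e0.symm (e0 b))
    rw [Equiv.symm_apply_apply, Equiv.symm_apply_apply]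
    rfl

end NF

/-! ### the point stabiliser and its near-field -/

/-- the points different from `inf` -/
abbrev Pts {α : Type*} (inf : α) : Type _ := {x : α // x ≠ inf}

theorem smul_ne_of_stab {Γ α : Type*} [Group Γ] [MulAction Γ α] {inf : α} {g : Γ}
    (hg : g • inf = inf) {x : α} (hx : x ≠ inf) : g • x ≠ inf :=
  fun h => hx (MulAction.injective g (h.trans hg.symm))

/-- the action of the point stabiliser on the remaining points -/
def rho (Γ : Type*) {α : Type*} [Group Γ] [MulAction Γ α] (inf : α) :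
    MulAction.stabilizer Γ inf →* Equiv.Perm (Pts inf) where
  toFun g :=
    { toFun := fun x => ⟨(g : Γ) • (x : α),
        smul_ne_of_stab (MulAction.mem_stabilizer_iff.mp g.2) x.2⟩
      invFun := fun x => ⟨(g : Γ)⁻¹ • (x : α),
        smul_ne_of_stab (inv_smul_eq_iff.mpr (MulAction.mem_stabilizer_iff.mp g.2).symm) x.2⟩
      left_inv := fun x => Subtype.ext (inv_smul_smul _ _)
      right_inv := fun x => Subtype.ext (smul_inv_smul _ _) }
  map_one' := Equiv.ext fun x => Subtype.ext (one_smul Γ (x : α))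
  map_mul' := fun g h => Equiv.ext fun x => Subtype.ext (mul_smul (g : Γ) (h : Γ) (x : α))

theorem rho_apply {Γ α : Type*} [Group Γ] [MulAction Γ α] (inf : α)
    (g : MulAction.stabilizer Γ inf) (x : Pts inf) :
    ((rho Γ inf g x : Pts inf) : α) = (g : Γ) • (x : α) := rfl

theorem exists_nearfield {Γ α : Type*} [Group Γ] [MulAction Γ α] [Fintype α] [DecidableEq α]
    (h3 : MulAction.IsMultiplyPretransitive Γ α 3)
    (hsharp : ∀ x : Fin 3 ↪ α, MulAction.stabilizer Γ x = ⊥)
    (hcard : 3 ≤ Fintype.card α) (inf : α) :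
    ∃ _ : Cfsg.NearField (Pts inf),
      ∀ g : Γ, g • inf = inf → ∃ a b : Pts inf, a ≠ 0 ∧
        ∀ x : Pts inf, g • (x : α) = ((x * a + b : Pts inf) : α) := by
  classical
  obtain ⟨H, hHdef⟩ : ∃ H : Subgroup (Equiv.Perm (Pts inf)), H = (rho Γ inf).range := ⟨_, rfl⟩
  have hHmem : ∀ σ, σ ∈ H ↔ ∃ g, rho Γ inf g = σ := by
    intro σ
    rw [hHdef]
    exact MonoidHom.mem_range
  have h2t : MulAction.IsMultiplyPretransitive H (Pts inf) 2 := by
    rw [MulAction.is_two_pretransitive_iff]
    intro a b c d hab hcd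
    obtain ⟨g, hg1, hg2, hg3⟩ := exists_map3 h3 a.2.symm b.2.symm
      (fun h => hab (Subtype.ext h)) c.2.symm d.2.symm (fun h => hcd (Subtype.ext h))
    refine ⟨⟨rho Γ inf ⟨g, MulAction.mem_stabilizer_iff.mpr hg1⟩, (hHmem _).mpr ⟨_, rfl⟩⟩, ?_, ?_⟩
    · exact Subtype.ext hg2
    · exact Subtype.ext hg3
  have hsH : ∀ x : Fin 2 ↪ Pts inf, MulAction.stabilizer H x = ⊥ := by
    intro x
    rw [Subgroup.eq_bot_iff_forall]
    rintro ⟨σ, hσ⟩ hs
    obtain ⟨g, rfl⟩ := (hHmem σ).mp hσ
    have hs' := MulAction.mem_stabilizer_iff.mp hs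
    have e0 : (g : Γ) • ((x 0 : Pts inf) : α) = ((x 0 : Pts inf) : α) := by
      have h0 := DFunLike.congr_fun hs' 0
      have h0' : (rho Γ inf g) (x 0) = x 0 := h0
      exact congrArg Subtype.val h0'
    have e1 : (g : Γ) • ((x 1 : Pts inf) : α) = ((x 1 : Pts inf) : α) := by
      have h0 := DFunLike.congr_fun hs' 1
      have h0' : (rho Γ inf g) (x 1) = x 1 := h0
      exact congrArg Subtype.val h0'
    have hne : ((x 0 : Pts inf) : α) ≠ ((x 1 : Pts inf) : α) := fun h =>
      absurd (x.injective (Subtype.ext h)) (by decide)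
    have hg1 : (g : Γ) = 1 := eq_one_of_fix3 hsharp (x 0).2.symm (x 1).2.symm hne
      (MulAction.mem_stabilizer_iff.mp g.2) e0 e1
    have hg : g = 1 := Subtype.ext hg1
    apply Subtype.ext
    show rho Γ inf g = 1
    rw [hg, map_one]
  have hcardβ : 2 ≤ Fintype.card (Pts inf) := by
    have h1 : Fintype.card (Option (Pts inf)) = Fintype.card α :=
      Fintype.card_congr (Equiv.optionSubtypeNe inf)
    rw [Fintype.card_option] at h1
    omega
  obtain ⟨nf, hH⟩ := @Cfsg.Agent.S0683.result (Pts inf) _ _ H h2t hsH hcardβ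
  refine ⟨nf, ?_⟩
  intro g hg
  have hm : rho Γ inf ⟨g, MulAction.mem_stabilizer_iff.mpr hg⟩ ∈ H := (hHmem _).mpr ⟨_, rfl⟩
  obtain ⟨a, b, ha, hab⟩ := (hH _).mp hm
  exact ⟨a, b, ha, fun x => congrArg Subtype.val (hab x)⟩

theorem nf_structure {Γ α : Type*} [Group Γ] [MulAction Γ α] [Fintype α] [DecidableEq α]
    (h3 : MulAction.IsMultiplyPretransitive Γ α 3)
    (hsharp : ∀ x : Fin 3 ↪ α, MulAction.stabilizer Γ x = ⊥)
    (hodd : Odd (Fintype.card α)) (inf : α) [nf : Cfsg.NearField (Pts inf)]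
    (hA1 : ∀ g : Γ, g • inf = inf → ∃ a b : Pts inf, a ≠ 0 ∧
        ∀ x : Pts inf, g • (x : α) = ((x * a + b : Pts inf) : α)) :
    (∀ a b : Pts inf, a * b = b * a) ∧
    (∀ a b : Pts inf, a ≠ 0 → ∃ g : Γ, g • inf = inf ∧
        ∀ x : Pts inf, g • (x : α) = ((x * a + b : Pts inf) : α)) ∧
    ∃ t : Γ, t • inf = ((0 : Pts inf) : α) ∧ t • ((0 : Pts inf) : α) = inf ∧
      ∀ x y : Pts inf, x * y = 1 → t • (x : α) = (y : α) := by
  classical
  have zmul : ∀ a : Pts inf, (0 : Pts inf) * a = 0 := fun a => nf_zero_mul a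
  have h01 : (0 : Pts inf) ≠ 1 := Cfsg.NearField.zero_ne_one
  have hzinf : ((0 : Pts inf) : α) ≠ inf := (0 : Pts inf).2
  have heinf : ((1 : Pts inf) : α) ≠ inf := (1 : Pts inf).2
  have hze : ((0 : Pts inf) : α) ≠ ((1 : Pts inf) : α) := fun h => h01 (Subtype.ext h)
  -- every affine map is realised
  have hA2 : ∀ a b : Pts inf, a ≠ 0 → ∃ g : Γ, g • inf = inf ∧
      ∀ x : Pts inf, g • (x : α) = ((x * a + b : Pts inf) : α) := by
    intro a b ha
    have hne : ((b : Pts inf) : α) ≠ ((a + b : Pts inf) : α) := by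
      intro h
      have h' : b = a + b := Subtype.ext h
      apply ha
      have h'' : (0 : Pts inf) + b = a + b := by rw [zero_add]; exact h'
      exact (add_right_cancel h'').symm
    obtain ⟨g, hg1, hg2, hg3⟩ := exists_map3 h3 hzinf.symm heinf.symm hze
      b.2.symm (a + b).2.symm hne
    obtain ⟨a', b', ha', hab'⟩ := hA1 g hg1
    have hb' : b' = b := by
      have h := hab' 0
      rw [zmul, zero_add] at h
      exact Subtype.ext (h.symm.trans hg2)
    have ha'' : a' = a := by
      have h := hab' 1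
      rw [one_mul, hb'] at h
      have h5 : a' + b = a + b := Subtype.ext (h.symm.trans hg3)
      exact add_right_cancel h5
    exact ⟨g, hg1, fun x => by rw [hab' x, ha'', hb']⟩
  -- the element t
  obtain ⟨t, ht1, ht2, ht3⟩ := exists_map3 h3 hzinf hze heinf.symm hzinf.symm heinf.symm hze
  have htt : t * t = 1 := eq_one_of_fix3 hsharp hzinf hze heinf.symm
    (by rw [mul_smul, ht1, ht2]) (by rw [mul_smul, ht2, ht1]) (by rw [mul_smul, ht3, ht3])
  have htinv : t⁻¹ = t := inv_eq_of_mul_eq_one_right htt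
  -- the only fixed point of t
  have hfix : ∀ y : α, t • y = y → y = ((1 : Pts inf) : α) := by
    intro y hy
    by_contra hne
    let σ : Equiv.Perm α := MulAction.toPermHom Γ α t
    have hσ : σ ^ 2 ^ 1 = 1 := by
      show (MulAction.toPermHom Γ α t) ^ 2 ^ 1 = 1
      rw [pow_one, ← map_pow, pow_two, htt, map_one]
    have : Fact (Nat.Prime 2) := ⟨Nat.prime_two⟩
    have hmod := Equiv.Perm.card_compl_support_modEq (p := 2) (n := 1) hσ
    have hmem : ∀ y, y ∈ σ.supportᶜ ↔ t • y = y := by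
      intro y
      rw [Finset.mem_compl, Equiv.Perm.mem_support, not_not]
      exact Iff.rfl
    have hodd' : Fintype.card α % 2 = 1 := Nat.odd_iff.mp hodd
    have h1 : 1 < σ.supportᶜ.card :=
      Finset.one_lt_card_iff.mpr ⟨y, ((1 : Pts inf) : α), (hmem _).mpr hy, (hmem _).mpr ht3, hne⟩
    have h2 : 2 < σ.supportᶜ.card := by
      have := hmod
      unfold Nat.ModEq at this
      omega
    obtain ⟨a, b, c, ha, hb, hc, hab, hac, hbc⟩ := Finset.two_lt_card_iff.mp h2
    have ht : t = 1 := eq_one_of_fix3 hsharp hab hac hbc ((hmem _).mp ha) ((hmem _).mp hb)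
      ((hmem _).mp hc)
    rw [ht, one_smul] at ht1
    exact hzinf ht1
  -- finiteness
  have hfin : Finite Γ := by
    apply Finite.of_injective (fun g : Γ => fun y : α => g • y)
    intro g h hgh
    exact eq_of_agree3 hsharp hzinf hze heinf.symm (congrFun hgh _) (congrFun hgh _)
      (congrFun hgh _)
  -- the map h ↦ h⁻¹ t h t on the two point stabiliser
  let f : {h : Γ // h • ((0 : Pts inf) : α) = ((0 : Pts inf) : α) ∧ h • inf = inf} →
      {h : Γ // h • ((0 : Pts inf) : α) = ((0 : Pts inf) : α) ∧ h • inf = inf} := fun h =>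
    ⟨(h : Γ)⁻¹ * t * h * t, by
      have hz := h.2.1
      have hi := h.2.2
      constructor
      · rw [mul_smul, mul_smul, mul_smul, ht1, hi, ht2, inv_smul_eq_iff, hz]
      · rw [mul_smul, mul_smul, mul_smul, ht2, hz, ht1, inv_smul_eq_iff, hi]⟩
  have hfinj : Function.Injective f := by
    intro h k hhk
    have heq : (h : Γ)⁻¹ * t * h * t = (k : Γ)⁻¹ * t * k * t := congrArg Subtype.val hhk
    have heq' : (h : Γ)⁻¹ * t * h = (k : Γ)⁻¹ * t * k := mul_right_cancel heq
    have hc : (k : Γ) * (h : Γ)⁻¹ * t = t * ((k : Γ) * (h : Γ)⁻¹) := by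
      calc (k : Γ) * (h : Γ)⁻¹ * t = (k : Γ) * ((h : Γ)⁻¹ * t * h) * (h : Γ)⁻¹ := by group
        _ = (k : Γ) * ((k : Γ)⁻¹ * t * k) * (h : Γ)⁻¹ := by rw [heq']
        _ = t * ((k : Γ) * (h : Γ)⁻¹) := by group
    have hcz : ((k : Γ) * (h : Γ)⁻¹) • ((0 : Pts inf) : α) = ((0 : Pts inf) : α) := by
      rw [mul_smul, inv_smul_eq_iff.mpr h.2.1.symm, k.2.1]
    have hci : ((k : Γ) * (h : Γ)⁻¹) • inf = inf := by
      rw [mul_smul, inv_smul_eq_iff.mpr h.2.2.symm, k.2.2]
    have hce : ((k : Γ) * (h : Γ)⁻¹) • ((1 : Pts inf) : α) = ((1 : Pts inf) : α) := by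
      apply hfix
      rw [← mul_smul, ← hc, mul_smul, ht3]
    have hc1 : (k : Γ) * (h : Γ)⁻¹ = 1 := eq_one_of_fix3 hsharp hzinf hze heinf.symm hcz hci hce
    exact Subtype.ext (mul_inv_eq_one.mp hc1).symm
  have hfsurj : Function.Surjective f := Finite.injective_iff_surjective.mp hfinj
  have hinvert : ∀ u : Γ, u • ((0 : Pts inf) : α) = ((0 : Pts inf) : α) → u • inf = inf →
      t * u * t = u⁻¹ := by
    intro u hu0 hui
    obtain ⟨h, hh⟩ := hfsurj ⟨u, hu0, hui⟩
    have hu : (h : Γ)⁻¹ * t * h * t = u := congrArg Subtype.val hh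
    rw [← hu]
    have e1 : t * ((h : Γ)⁻¹ * t * h * t) * t = t * (h : Γ)⁻¹ * t * h * (t * t) := by group
    rw [e1, htt, mul_one]
    simp only [mul_inv_rev, inv_inv, htinv, mul_assoc]
  have hab : ∀ u v : Γ, u • ((0 : Pts inf) : α) = ((0 : Pts inf) : α) → u • inf = inf →
      v • ((0 : Pts inf) : α) = ((0 : Pts inf) : α) → v • inf = inf → u * v = v * u := by
    intro u v hu0 hui hv0 hvi
    have h1 := hinvert (u * v) (by rw [mul_smul, hv0, hu0]) (by rw [mul_smul, hvi, hui])
    have h2 := hinvert u hu0 hui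
    have h3' := hinvert v hv0 hvi
    have h4 : (u * v)⁻¹ = (v * u)⁻¹ := by
      calc (u * v)⁻¹ = t * (u * v) * t := h1.symm
        _ = (t * u * t) * (t * v * t) := by
            rw [show t * u * t * (t * v * t) = t * u * (t * t) * v * t by group, htt]
            group
        _ = u⁻¹ * v⁻¹ := by rw [h2, h3']
        _ = (v * u)⁻¹ := (mul_inv_rev v u).symm
    exact inv_injective h4
  have hcomm : ∀ a b : Pts inf, a * b = b * a := by
    intro a b
    by_cases ha : a = 0
    · rw [ha, zmul, Cfsg.NearField.mul_zero]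
    by_cases hb : b = 0
    · rw [hb, zmul, Cfsg.NearField.mul_zero]
    obtain ⟨ga, hgai, hga⟩ := hA2 a 0 ha
    obtain ⟨gb, hgbi, hgb⟩ := hA2 b 0 hb
    have hga0 : ga • ((0 : Pts inf) : α) = ((0 : Pts inf) : α) := by
      rw [hga, zmul, add_zero]
    have hgb0 : gb • ((0 : Pts inf) : α) = ((0 : Pts inf) : α) := by
      rw [hgb, zmul, add_zero]
    have hc := hab ga gb hga0 hgai hgb0 hgbi
    have h1 : (ga * gb) • ((1 : Pts inf) : α) = (((1 * b + 0) * a + 0 : Pts inf) : α) := by
      rw [mul_smul, hgb 1, hga]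
    have h2 : (gb * ga) • ((1 : Pts inf) : α) = (((1 * a + 0) * b + 0 : Pts inf) : α) := by
      rw [mul_smul, hga 1, hgb]
    have h3' : (((1 * b + 0) * a + 0 : Pts inf) : α) = (((1 * a + 0) * b + 0 : Pts inf) : α) := by
      rw [← h1, ← h2, hc]
    have h4 := Subtype.ext h3'
    simp only [one_mul, add_zero] at h4
    exact h4.symm
  refine ⟨hcomm, hA2, t, ht2, ht1, ?_⟩
  intro x y hxy
  have hx : x ≠ 0 := by
    intro h
    rw [h, zmul] at hxy
    exact h01 hxy
  have hyx : y * x = 1 := by rw [hcomm]; exact hxy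
  obtain ⟨gx, hgxi, hgx⟩ := hA2 x 0 hx
  have hgx0 : gx • ((0 : Pts inf) : α) = ((0 : Pts inf) : α) := by rw [hgx, zmul, add_zero]
  have hx1 : gx • ((1 : Pts inf) : α) = (x : α) := by rw [hgx 1, one_mul, add_zero]
  have hy1 : gx • (y : α) = ((1 : Pts inf) : α) := by rw [hgx y, add_zero, hyx]
  calc t • (x : α) = t • gx • t • ((1 : Pts inf) : α) := by rw [ht3, hx1]
    _ = (t * gx * t) • ((1 : Pts inf) : α) := by rw [mul_smul, mul_smul]
    _ = gx⁻¹ • ((1 : Pts inf) : α) := by rw [hinvert gx hgx0 hgxi]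
    _ = (y : α) := by rw [inv_smul_eq_iff, hy1]

theorem stageA {Γ α : Type*} [Group Γ] [MulAction Γ α] [Fintype α] [DecidableEq α]
    (h3 : MulAction.IsMultiplyPretransitive Γ α 3)
    (hsharp : ∀ x : Fin 3 ↪ α, MulAction.stabilizer Γ x = ⊥)
    (hodd : Odd (Fintype.card α)) (hcard : 3 ≤ Fintype.card α) :
    ∃ (F : Type) (_ : Field F) (_ : Fintype F) (inf : α) (pt : F → α),
      Fintype.card α = Fintype.card F + 1 ∧ Function.Injective pt ∧ (∀ x, pt x ≠ inf) ∧
      (∀ y, y = inf ∨ ∃ x, y = pt x) ∧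
      (∀ g : Γ, g • inf = inf → ∃ a b : F, a ≠ 0 ∧ ∀ x, g • pt x = pt (a * x + b)) ∧
      (∀ a b : F, a ≠ 0 → ∃ g : Γ, g • inf = inf ∧ ∀ x, g • pt x = pt (a * x + b)) ∧
      (∃ t : Γ, t • inf = pt 0 ∧ t • pt 0 = inf ∧ ∀ x, x ≠ 0 → t • pt x = pt x⁻¹) := by
  classical
  have hpos : 0 < Fintype.card α := by omega
  obtain ⟨inf⟩ := Fintype.card_pos_iff.mp hpos
  obtain ⟨nf, hA1⟩ := exists_nearfield h3 hsharp hcard inf
  obtain ⟨hcomm, hA2, t, ht1, ht2, ht3⟩ := nf_structure (nf := nf) h3 hsharp hodd inf hA1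
  obtain ⟨F, iF, iFt, e, e0, e1, eadd, emul⟩ := field_of_NF (nf := nf) hcomm
  let _ := iF
  let _ := iFt
  have hcardF : Fintype.card α = Fintype.card F + 1 := by
    have h1 : Fintype.card (Option (Pts inf)) = Fintype.card α :=
      Fintype.card_congr (Equiv.optionSubtypeNe inf)
    rw [Fintype.card_option, Fintype.card_congr e] at h1
    exact h1.symm
  have key : ∀ (x : F) (a b : Pts inf), e.symm x * a + b = e.symm (e a * x + e b) := by
    intro x a b
    rw [Equiv.eq_symm_apply, eadd, emul, Equiv.apply_symm_apply, mul_comm]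
  refine ⟨F, iF, iFt, inf, fun x => ((e.symm x : Pts inf) : α), hcardF, ?_, ?_, ?_, ?_, ?_, ?_⟩
  · exact Subtype.val_injective.comp e.symm.injective
  · intro x; exact (e.symm x).2
  · intro y
    by_cases hy : y = inf
    · exact Or.inl hy
    · exact Or.inr ⟨e ⟨y, hy⟩, by simp⟩
  · intro g hg
    obtain ⟨a, b, ha, hab⟩ := hA1 g hg
    refine ⟨e a, e b, ?_, ?_⟩
    · intro h; apply ha; apply e.injective; rw [h, e0]
    · intro x
      show g • ((e.symm x : Pts inf) : α) = ((e.symm (e a * x + e b) : Pts inf) : α)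
      rw [hab, key]
  · intro a b ha
    have ha' : e.symm a ≠ 0 := by
      intro h; apply ha
      have := congrArg e h
      rwa [Equiv.apply_symm_apply, e0] at this
    obtain ⟨g, hg, hgx⟩ := hA2 (e.symm a) (e.symm b) ha'
    refine ⟨g, hg, ?_⟩
    intro x
    show g • ((e.symm x : Pts inf) : α) = ((e.symm (a * x + b) : Pts inf) : α)
    rw [hgx, key, Equiv.apply_symm_apply, Equiv.apply_symm_apply]
  · have hs0 : e.symm 0 = 0 := by rw [Equiv.symm_apply_eq, e0]
    refine ⟨t, ?_, ?_, ?_⟩
    · show t • inf = ((e.symm 0 : Pts inf) : α)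
      rw [hs0]; exact ht1
    · show t • ((e.symm 0 : Pts inf) : α) = inf
      rw [hs0]; exact ht2
    · intro x hx
      show t • ((e.symm x : Pts inf) : α) = ((e.symm x⁻¹ : Pts inf) : α)
      apply ht3
      apply e.injective
      rw [emul, Equiv.apply_symm_apply, Equiv.apply_symm_apply, e1, mul_inv_cancel₀ hx]

/-! ### the projective line -/

section StageB
open scoped LinearAlgebra.Projectivization MatrixGroups
open Projectivization

variable {F : Type} [Field F]

/-- conjugating an action along a bijection -/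
def conjHom {G X Y : Type*} [Group G] [MulAction G X] (e : Y ≃ X) : G →* Equiv.Perm Y where
  toFun g := (e.trans (MulAction.toPerm g)).trans e.symm
  map_one' := by ext y; simp
  map_mul' g h := by ext y; simp [mul_smul]

theorem conjHom_apply {G X Y : Type*} [Group G] [MulAction G X] (e : Y ≃ X) (g : G) (y : Y) :
    conjHom e g y = e.symm (g • e y) := rfl

theorem v10_ne : (![1, 0] : Fin 2 → F) ≠ 0 := by
  intro h
  have := congrFun h 0
  simp at this

theorem vx1_ne (x : F) : (![x, 1] : Fin 2 → F) ≠ 0 := by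
  intro h
  have := congrFun h 1
  simp at this

/-- the standard parametrisation of the projective line -/
noncomputable def T : Option F → ℙ F (Fin 2 → F)
  | none => Projectivization.mk F ![1, 0] v10_ne
  | some x => Projectivization.mk F ![x, 1] (vx1_ne x)

theorem T_none : T (none : Option F) = Projectivization.mk F ![1, 0] v10_ne := rfl
theorem T_some (x : F) : T (some x) = Projectivization.mk F ![x, 1] (vx1_ne x) := rfl

theorem T_injective : Function.Injective (T (F := F)) := by
  intro o o' h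
  cases o with
  | none =>
    cases o' with
    | none => rfl
    | some y =>
      exfalso
      rw [T_none, T_some, Projectivization.mk_eq_mk_iff'] at h
      obtain ⟨c, hc⟩ := h
      have h1 : c = 0 := by simpa using congrFun hc 1
      have h0 : c * y = 1 := by simpa using congrFun hc 0
      rw [h1, zero_mul] at h0
      exact zero_ne_one h0
  | some x =>
    cases o' with
    | none =>
      exfalso
      rw [T_none, T_some, Projectivization.mk_eq_mk_iff'] at h
      obtain ⟨c, hc⟩ := h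
      have h1 : (0 : F) = 1 := by simpa using congrFun hc 1
      exact zero_ne_one h1
    | some y =>
      rw [T_some, T_some, Projectivization.mk_eq_mk_iff'] at h
      obtain ⟨c, hc⟩ := h
      have h1 : c = 1 := by simpa using congrFun hc 1
      have h0 : c * y = x := by simpa using congrFun hc 0
      rw [h1, one_mul] at h0
      rw [h0]

theorem T_surjective : Function.Surjective (T (F := F)) := by
  intro p
  refine Projectivization.ind (fun v hv => ?_) p
  by_cases h1 : v 1 = 0
  · have h0 : v 0 ≠ 0 := by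
      intro h0
      apply hv
      ext i
      fin_cases i
      · exact h0
      · exact h1
    refine ⟨none, ?_⟩
    rw [T_none, Projectivization.mk_eq_mk_iff']
    refine ⟨(v 0)⁻¹, ?_⟩
    ext i
    fin_cases i
    · simp [h0]
    · simp [h1]
  · refine ⟨some (v 0 / v 1), ?_⟩
    rw [T_some, Projectivization.mk_eq_mk_iff']
    refine ⟨(v 1)⁻¹, ?_⟩
    ext i
    fin_cases i
    · simp [div_eq_inv_mul]
    · simp [h1]

theorem gl_smul_apply (g : GL (Fin 2) F) (v : Fin 2 → F) (i : Fin 2) :
    (g • v) i = (g : Matrix (Fin 2) (Fin 2) F) i 0 * v 0 +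
      (g : Matrix (Fin 2) (Fin 2) F) i 1 * v 1 := by
  show ((g : Matrix (Fin 2) (Fin 2) F).mulVec v) i = _
  simp [Matrix.mulVec, dotProduct, Fin.sum_univ_two]

/-- the matrix of the affine map `x ↦ a x + b` -/
noncomputable def Maff (a b : F) (ha : a ≠ 0) : GL (Fin 2) F :=
  Matrix.GeneralLinearGroup.mkOfDetNeZero !![a, b; 0, 1] (by simp [Matrix.det_fin_two_of, ha])

theorem Maff_coe (a b : F) (ha : a ≠ 0) :
    ((Maff a b ha : GL (Fin 2) F) : Matrix (Fin 2) (Fin 2) F) = !![a, b; 0, 1] := rfl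

/-- the affine map on the extended line -/
def piAff (a b : F) : Option F → Option F
  | none => none
  | some x => some (a * x + b)

theorem Maff_act (a b : F) (ha : a ≠ 0) (o : Option F) :
    (Matrix.ProjGenLinGroup.mk (Maff a b ha) : PGL(Fin 2, F)) • T o = T (piAff a b o) := by
  cases o with
  | none =>
    show (Matrix.ProjGenLinGroup.mk (Maff a b ha) : PGL(Fin 2, F)) •
      Projectivization.mk F ![1, 0] v10_ne = Projectivization.mk F ![1, 0] v10_ne
    rw [PGL.mk_smul_mk, Projectivization.mk_eq_mk_iff']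
    refine ⟨a, ?_⟩
    ext i
    fin_cases i <;> simp [gl_smul_apply, Maff_coe]
  | some x =>
    show (Matrix.ProjGenLinGroup.mk (Maff a b ha) : PGL(Fin 2, F)) •
      Projectivization.mk F ![x, 1] (vx1_ne x) =
        Projectivization.mk F ![a * x + b, 1] (vx1_ne _)
    rw [PGL.mk_smul_mk, Projectivization.mk_eq_mk_iff']
    refine ⟨1, ?_⟩
    ext i
    fin_cases i <;> simp [gl_smul_apply, Maff_coe]

/-- the matrix of the inversion -/
noncomputable def Mw : GL (Fin 2) F :=
  Matrix.GeneralLinearGroup.mkOfDetNeZero !![0, 1; 1, 0] (by simp [Matrix.det_fin_two_of])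

theorem Mw_coe : ((Mw : GL (Fin 2) F) : Matrix (Fin 2) (Fin 2) F) = !![0, 1; 1, 0] := rfl

open Classical in
/-- the inversion on the extended line -/
noncomputable def piW : Option F → Option F
  | none => some 0
  | some x => if x = 0 then none else some x⁻¹

theorem Mw_act (o : Option F) :
    (Matrix.ProjGenLinGroup.mk Mw : PGL(Fin 2, F)) • T o = T (piW o) := by
  cases o with
  | none =>
    show (Matrix.ProjGenLinGroup.mk Mw : PGL(Fin 2, F)) •
      Projectivization.mk F ![1, 0] v10_ne = Projectivization.mk F ![0, 1] (vx1_ne 0)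
    rw [PGL.mk_smul_mk, Projectivization.mk_eq_mk_iff']
    refine ⟨1, ?_⟩
    ext i
    fin_cases i <;> simp [gl_smul_apply, Mw_coe]
  | some x =>
    by_cases hx : x = 0
    · have hp : piW (some x) = none := by simp [piW, hx]
      rw [hp, T_some, T_none, PGL.mk_smul_mk, Projectivization.mk_eq_mk_iff']
      refine ⟨1, ?_⟩
      ext i
      fin_cases i <;> simp [gl_smul_apply, Mw_coe, hx]
    · have hp : piW (some x) = some x⁻¹ := by simp [piW, hx]
      rw [hp, T_some, T_some, PGL.mk_smul_mk, Projectivization.mk_eq_mk_iff']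
      refine ⟨x, ?_⟩
      ext i
      fin_cases i <;> simp [gl_smul_apply, Mw_coe, hx]

theorem pgl_eq_one_of_fix (m : PGL(Fin 2, F)) (h1 : m • T (none : Option F) = T none)
    (h2 : m • T (some (0 : F)) = T (some 0)) (h3 : m • T (some (1 : F)) = T (some 1)) :
    m = 1 := by
  induction m using Matrix.ProjGenLinGroup.induction_on with
  | mk M =>
    rw [T_none, PGL.mk_smul_mk, Projectivization.mk_eq_mk_iff'] at h1
    rw [T_some, PGL.mk_smul_mk, Projectivization.mk_eq_mk_iff'] at h2 h3
    obtain ⟨c1, hc1⟩ := h1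
    obtain ⟨c2, hc2⟩ := h2
    obtain ⟨c3, hc3⟩ := h3
    have e10 : (M : Matrix (Fin 2) (Fin 2) F) 1 0 = 0 := by
      have := congrFun hc1 1
      rw [gl_smul_apply] at this
      simpa using this.symm
    have e01 : (M : Matrix (Fin 2) (Fin 2) F) 0 1 = 0 := by
      have := congrFun hc2 0
      rw [gl_smul_apply] at this
      simpa using this.symm
    have e00 : (M : Matrix (Fin 2) (Fin 2) F) 0 0 = c3 := by
      have := congrFun hc3 0
      rw [gl_smul_apply, e01] at this
      simpa using this.symm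
    have e11 : (M : Matrix (Fin 2) (Fin 2) F) 1 1 = c3 := by
      have := congrFun hc3 1
      rw [gl_smul_apply, e10] at this
      simpa using this.symm
    have hdet := Matrix.GeneralLinearGroup.det_ne_zero M
    rw [Matrix.det_fin_two, e00, e11, e01, e10] at hdet
    have hc3' : c3 ≠ 0 := by
      intro h
      apply hdet
      rw [h]
      ring
    have hM : M = Matrix.GeneralLinearGroup.scalar (Fin 2) (Units.mk0 c3 hc3') := by
      apply Units.ext
      ext i j
      rw [Matrix.GeneralLinearGroup.coe_scalar]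
      fin_cases i <;> fin_cases j <;> simp [e00, e01, e10, e11]
    rw [hM]
    exact Matrix.ProjGenLinGroup.mk_scalar _

/-- the coordinate map of the permuted set -/
def Dmap {α : Type*} (inf : α) (pt : F → α) : Option F → α
  | none => inf
  | some x => pt x

theorem stageB {Γ α : Type*} [Group Γ] [MulAction Γ α]
    (h3 : MulAction.IsMultiplyPretransitive Γ α 3)
    (hsharp : ∀ x : Fin 3 ↪ α, MulAction.stabilizer Γ x = ⊥)
    (inf : α) (pt : F → α) (hinj : Function.Injective pt) (hne : ∀ x, pt x ≠ inf)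
    (hcov : ∀ y, y = inf ∨ ∃ x, y = pt x)
    (hF1 : ∀ g : Γ, g • inf = inf → ∃ a b : F, a ≠ 0 ∧ ∀ x, g • pt x = pt (a * x + b))
    (hF2 : ∀ a b : F, a ≠ 0 → ∃ g : Γ, g • inf = inf ∧ ∀ x, g • pt x = pt (a * x + b))
    (hF4 : ∃ t : Γ, t • inf = pt 0 ∧ t • pt 0 = inf ∧ ∀ x, x ≠ 0 → t • pt x = pt x⁻¹) :
    Nonempty (Γ ≃* Matrix.ProjGenLinGroup (Fin 2) F) := by
  classical
  have hD : Function.Bijective (Dmap inf pt) := by
    constructor
    · intro o o' h
      cases o with
      | none =>
        cases o' with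
        | none => rfl
        | some y => exact absurd h.symm (hne y)
      | some x =>
        cases o' with
        | none => exact absurd h (hne x)
        | some y => exact congrArg some (hinj h)
    · intro y
      rcases hcov y with h | ⟨x, h⟩
      · exact ⟨none, h.symm⟩
      · exact ⟨some x, h.symm⟩
  obtain ⟨DE, hDE⟩ : ∃ DE : Option F ≃ α, ∀ o, DE o = Dmap inf pt o :=
    ⟨Equiv.ofBijective _ hD, fun _ => rfl⟩
  obtain ⟨TE, hTE⟩ : ∃ TE : Option F ≃ ℙ F (Fin 2 → F), ∀ o, TE o = T o :=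
    ⟨Equiv.ofBijective _ ⟨T_injective, T_surjective⟩, fun _ => rfl⟩
  obtain ⟨ι, hιdef⟩ : ∃ ι : Γ →* Equiv.Perm (Option F), ∀ g o, ι g o = DE.symm (g • DE o) :=
    ⟨conjHom DE, fun _ _ => rfl⟩
  obtain ⟨Ψ, hΨdef⟩ : ∃ Ψ : PGL(Fin 2, F) →* Equiv.Perm (Option F),
      ∀ m o, Ψ m o = TE.symm (m • TE o) := ⟨conjHom TE, fun _ _ => rfl⟩
  have hι : ∀ g o o', g • Dmap inf pt o = Dmap inf pt o' → ι g o = o' := by
    intro g o o' h
    rw [hιdef, hDE, h, ← hDE, Equiv.symm_apply_apply]
  have hι' : ∀ g o o', ι g o = o' → g • Dmap inf pt o = Dmap inf pt o' := by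
    intro g o o' h
    have := congrArg DE h
    rw [hιdef, Equiv.apply_symm_apply, hDE, hDE] at this
    exact this
  have hΨ : ∀ m o o', m • T o = T o' → Ψ m o = o' := by
    intro m o o' h
    rw [hΨdef, hTE, h, ← hTE, Equiv.symm_apply_apply]
  have hΨ' : ∀ m o o', Ψ m o = o' → m • T o = T o' := by
    intro m o o' h
    have := congrArg TE h
    rw [hΨdef, Equiv.apply_symm_apply, hTE, hTE] at this
    exact this
  have hp0 : inf ≠ pt 0 := (hne 0).symm
  have hp1 : inf ≠ pt 1 := (hne 1).symm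
  have hp01 : pt 0 ≠ pt 1 := fun h => zero_ne_one (hinj h)
  have hιinj : Function.Injective ι := by
    rw [injective_iff_map_eq_one]
    intro g hg
    have hfix : ∀ o, g • Dmap inf pt o = Dmap inf pt o := fun o =>
      hι' g o o (by rw [hg]; rfl)
    exact eq_one_of_fix3 hsharp hp0 hp1 hp01 (hfix none) (hfix (some 0)) (hfix (some 1))
  have hΨinj : Function.Injective Ψ := by
    rw [injective_iff_map_eq_one]
    intro m hm
    have hfix : ∀ o, m • T o = T o := fun o => hΨ' m o o (by rw [hm]; rfl)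
    exact pgl_eq_one_of_fix m (hfix none) (hfix (some 0)) (hfix (some 1))
  have haff : ∀ g : Γ, g • inf = inf → ι g ∈ Ψ.range := by
    intro g hg
    obtain ⟨a, b, ha, hab⟩ := hF1 g hg
    refine MonoidHom.mem_range.mpr ⟨Matrix.ProjGenLinGroup.mk (Maff a b ha), ?_⟩
    apply Equiv.ext
    intro o
    rw [hΨ _ o (piAff a b o) (Maff_act a b ha o)]
    symm
    apply hι
    cases o with
    | none => exact hg
    | some x => exact hab x
  obtain ⟨t, ht1, ht2, ht3⟩ := hF4
  have htmem : ι t ∈ Ψ.range := by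
    refine MonoidHom.mem_range.mpr ⟨Matrix.ProjGenLinGroup.mk Mw, ?_⟩
    apply Equiv.ext
    intro o
    rw [hΨ _ o (piW o) (Mw_act o)]
    symm
    apply hι
    cases o with
    | none => exact ht1
    | some x =>
      by_cases hx : x = 0
      · have hp : piW (some x) = none := by simp [piW, hx]
        rw [hp, hx]
        exact ht2
      · have hp : piW (some x) = some x⁻¹ := by simp [piW, hx]
        rw [hp]
        exact ht3 x hx
  have hsub1 : ∀ g : Γ, ι g ∈ Ψ.range := by
    intro g
    by_cases hg : g • inf = inf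
    · exact haff g hg
    · rcases hcov (g • inf) with h | ⟨c0, hc0⟩
      · exact absurd h hg
      · obtain ⟨h, hhi, hh⟩ := hF2 1 (-c0) one_ne_zero
        have hz : (1 : F) * c0 + -c0 = 0 := by ring
        have hg' : (t * h * g) • inf = inf := by
          rw [mul_smul, mul_smul, hc0, hh, hz, ht2]
        have h1 := haff (t * h * g) hg'
        have h2 := haff h hhi
        have hdec : ι g = (ι h)⁻¹ * (ι t)⁻¹ * ι (t * h * g) := by
          rw [map_mul, map_mul]
          group
        rw [hdec]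
        exact Ψ.range.mul_mem (Ψ.range.mul_mem (Ψ.range.inv_mem h2) (Ψ.range.inv_mem htmem)) h1
  have hsub2 : ∀ m : PGL(Fin 2, F), Ψ m ∈ ι.range := by
    intro m
    have hinjm := (Ψ m).injective
    have d1 : Ψ m none ≠ Ψ m (some 0) := fun h => by simpa using hinjm h
    have d2 : Ψ m none ≠ Ψ m (some 1) := fun h => by simpa using hinjm h
    have d3 : Ψ m (some 0) ≠ Ψ m (some 1) := fun h => by simpa using hinjm h
    obtain ⟨g, hg1, hg2, hg3⟩ := exists_map3 h3 hp0 hp1 hp01
      (hD.1.ne d1) (hD.1.ne d2) (hD.1.ne d3)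
    obtain ⟨m', hm'⟩ := MonoidHom.mem_range.mp (hsub1 g)
    have e1 : ι g none = Ψ m none := hι g none _ hg1
    have e2 : ι g (some 0) = Ψ m (some 0) := hι g (some 0) _ hg2
    have e3 : ι g (some 1) = Ψ m (some 1) := hι g (some 1) _ hg3
    have hmm : m'⁻¹ * m = 1 := by
      apply pgl_eq_one_of_fix
      · apply hΨ'
        rw [map_mul, map_inv, hm', Equiv.Perm.mul_apply, ← e1, Equiv.Perm.inv_def, Equiv.symm_apply_apply]
      · apply hΨ'
        rw [map_mul, map_inv, hm', Equiv.Perm.mul_apply, ← e2, Equiv.Perm.inv_def, Equiv.symm_apply_apply]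
      · apply hΨ'
        rw [map_mul, map_inv, hm', Equiv.Perm.mul_apply, ← e3, Equiv.Perm.inv_def, Equiv.symm_apply_apply]
    have hmeq : m' = m := inv_mul_eq_one.mp hmm
    exact MonoidHom.mem_range.mpr ⟨g, by rw [← hm', hmeq]⟩
  have hR : ι.range = Ψ.range := by
    apply le_antisymm
    · rintro _ ⟨g, rfl⟩
      exact hsub1 g
    · rintro _ ⟨m, rfl⟩
      exact hsub2 m
  exact ⟨(MonoidHom.ofInjective hιinj).trans
    ((MulEquiv.subgroupCongr hR).trans (MonoidHom.ofInjective hΨinj).symm)⟩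

end StageB

/-- Zassenhaus: a sharply triply transitive group of odd degree is `PGL(2, F)`. -/
theorem main {Γ α : Type*} [Group Γ] [MulAction Γ α] [Fintype α] [DecidableEq α]
    (h3 : MulAction.IsMultiplyPretransitive Γ α 3)
    (hsharp : ∀ x : Fin 3 ↪ α, MulAction.stabilizer Γ x = ⊥)
    (hodd : Odd (Fintype.card α)) (hcard : 3 ≤ Fintype.card α) :
    ∃ (F : Type) (_ : Field F) (_ : Fintype F), Fintype.card α = Fintype.card F + 1 ∧
      Nonempty (Γ ≃* Matrix.ProjGenLinGroup (Fin 2) F) := by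
  obtain ⟨F, iF, iFt, inf, pt, hc, hinj, hne, hcov, hF1, hF2, hF4⟩ :=
    stageA h3 hsharp hodd hcard
  exact ⟨F, iF, iFt, hc, stageB h3 hsharp inf pt hinj hne hcov hF1 hF2 hF4⟩

/-- in characteristic two, `SL(2, F) ≅ PGL(2, F)` for finite `F` -/
theorem sl_equiv_pgl {F : Type} [Field F] [Fintype F] (h2 : (2 : F) = 0) :
    Nonempty (Matrix.SpecialLinearGroup (Fin 2) F ≃* Matrix.ProjGenLinGroup (Fin 2) F) := by
  classical
  have hsqinj : Function.Injective (fun x : F => x ^ 2) := by
    intro x y h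
    have h' : x ^ 2 = y ^ 2 := h
    have h0 : (x - y) ^ 2 = 0 := by
      linear_combination h' + (y ^ 2 - x * y) * h2
    have := (pow_eq_zero_iff (two_ne_zero (α := ℕ))).mp h0
    exact sub_eq_zero.mp this
  have hsqsurj : Function.Surjective (fun x : F => x ^ 2) :=
    Finite.injective_iff_surjective.mp hsqinj
  have hsq : ∀ r : Fˣ, ∃ k : Fˣ, k ^ Fintype.card (Fin 2) = r := by
    intro r
    obtain ⟨k, hk⟩ := hsqsurj (r : F)
    have hk' : k ^ 2 = (r : F) := hk
    have hk0 : k ≠ 0 := by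
      intro h
      rw [h] at hk'
      simp at hk'
      exact r.ne_zero hk'.symm
    refine ⟨Units.mk0 k hk0, ?_⟩
    apply Units.ext
    simp [hk']
  have hsurjPSL := Matrix.ProjectiveSpecialLinearGroup.toPGL_surj_of_roots (n := Fin 2) (R := F) hsq
  have hsurj : Function.Surjective
      (Matrix.SpecialLinearGroup.toPGL (n := Fin 2) (R := F)) := by
    intro y
    obtain ⟨x, hx⟩ := hsurjPSL y
    obtain ⟨s, rfl⟩ := QuotientGroup.mk_surjective x
    exact ⟨s, hx⟩
  have hinj : Function.Injective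
      (Matrix.SpecialLinearGroup.toPGL (n := Fin 2) (R := F)) := by
    rw [← MonoidHom.ker_eq_bot_iff, Matrix.SpecialLinearGroup.toPGL_ker,
      Subgroup.eq_bot_iff_forall]
    intro A hA
    rw [Matrix.SpecialLinearGroup.mem_center_iff] at hA
    obtain ⟨r, hr, hrA⟩ := hA
    have hr' : r ^ 2 = 1 := by simpa using hr
    have h0 : (r - 1) ^ 2 = 0 := by
      linear_combination hr' - (r - 1) * h2
    have hr1 : r = 1 := sub_eq_zero.mp ((pow_eq_zero_iff (two_ne_zero (α := ℕ))).mp h0)
    apply Subtype.ext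
    rw [← hrA, hr1, map_one]
    rfl
  exact ⟨MulEquiv.ofBijective (Matrix.SpecialLinearGroup.toPGL (n := Fin 2) (R := F))
    ⟨hinj, hsurj⟩⟩

end Cfsg.Agent.Lib.Helper16.Sharp3
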