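import Mathlib
import Cfsg.Agent.Lib.Helper12.DkD

/-! Exact order of the centralizer of a regular semisimple element of `SL₂(F)`, `F` finite of
characteristic `2`: it is `q - 1` or `q + 1` (conic parametrization). -/

set_option autoImplicit false

namespace Cfsg.Agent.Lib.Helper16.DkTorusCard

open Cfsg.Agent.Lib.Helper12.SL2 Cfsg.Agent.Lib.Helper12.DkD

local notation "SL2" => Matrix.SpecialLinearGroup (Fin 2)

variable {F : Type*} [Field F]

/-- the centralizer of a non-scalar element is in bijection with the conic `s² + τ s t + t² = 1` -/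
theorem card_centralizer_eq_conic (g : SL2 F) (hg : NonScalar g) :
    Nat.card (Subgroup.centralizer ({g} : Set (SL2 F))) =
      Nat.card {st : F × F // st.1 ^ 2 + tr g * st.1 * st.2 + st.2 ^ 2 = 1} := by
  symm
  apply Nat.card_eq_of_bijective
    (fun st : {st : F × F // st.1 ^ 2 + tr g * st.1 * st.2 + st.2 ^ 2 = 1} =>
      (⟨lin g st.1.1 st.1.2 st.2,
        Subgroup.mem_centralizer_singleton_iff.mpr (lin_commute g _ _ st.2)⟩ :
          Subgroup.centralizer ({g} : Set (SL2 F))))
  constructor
  · intro a b hab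
    have h := congrArg Subtype.val hab
    obtain ⟨h1, h2⟩ := lin_inj g hg a.2 b.2 h
    exact Subtype.ext (Prod.ext h1 h2)
  · intro y
    obtain ⟨s, t, hst, e⟩ := exists_coords g hg y
    exact ⟨⟨(s, t), hst⟩, Subtype.ext e.symm⟩

/-- second coordinate of the point of the conic on the line of slope `m` through `(1, 0)` -/
noncomputable def tpar (τ m : F) : F := τ / (m ^ 2 + τ * m + 1)

theorem tpar_spec (τ m : F) (hD : m ^ 2 + τ * m + 1 ≠ 0) :
    (m ^ 2 + τ * m + 1) * tpar τ m = τ := by
  unfold tpar
  rw [mul_comm, div_mul_cancel₀ _ hD]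

theorem tpar_ne_zero {τ m : F} (hτ : τ ≠ 0) (hD : m ^ 2 + τ * m + 1 ≠ 0) : tpar τ m ≠ 0 :=
  div_ne_zero hτ hD

theorem on_conic (h2 : (2 : F) = 0) (τ m : F) (hD : m ^ 2 + τ * m + 1 ≠ 0) :
    (1 + m * tpar τ m) ^ 2 + τ * (1 + m * tpar τ m) * tpar τ m + (tpar τ m) ^ 2 = 1 := by
  have ht := tpar_spec τ m hD
  linear_combination (m + τ) * tpar τ m * h2 + tpar τ m * ht

/-- in characteristic `2` the conic has one point more than there are non-roots of `X² + τX + 1` -/
theorem card_conic_two [Fintype F] (h2 : (2 : F) = 0) (τ : F) (hτ : τ ≠ 0) :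
    Nat.card {st : F × F // st.1 ^ 2 + τ * st.1 * st.2 + st.2 ^ 2 = 1} =
      Nat.card {m : F // m ^ 2 + τ * m + 1 ≠ 0} + 1 := by
  classical
  have hopt : Nat.card (Option {m : F // m ^ 2 + τ * m + 1 ≠ 0}) =
      Nat.card {m : F // m ^ 2 + τ * m + 1 ≠ 0} + 1 := by
    rw [Nat.card_eq_fintype_card, Nat.card_eq_fintype_card, Fintype.card_option]
  rw [← hopt]
  symm
  let Φ : Option {m : F // m ^ 2 + τ * m + 1 ≠ 0} →
      {st : F × F // st.1 ^ 2 + τ * st.1 * st.2 + st.2 ^ 2 = 1} := fun o =>
    match o with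
    | none => ⟨(1, 0), by simp⟩
    | some m => ⟨(1 + m.1 * tpar τ m.1, tpar τ m.1), on_conic h2 τ m.1 m.2⟩
  apply Nat.card_eq_of_bijective Φ
  constructor
  · intro a b hab
    have hab' := congrArg Subtype.val hab
    cases a with
    | none =>
      cases b with
      | none => rfl
      | some m =>
        exfalso
        have h := congrArg Prod.snd hab'
        exact tpar_ne_zero hτ m.2 h.symm
    | some m =>
      cases b with
      | none =>
        exfalso
        have h := congrArg Prod.snd hab'
        exact tpar_ne_zero hτ m.2 h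
      | some m' =>
        have h1 : 1 + m.1 * tpar τ m.1 = 1 + m'.1 * tpar τ m'.1 := congrArg Prod.fst hab'
        have h2' : tpar τ m.1 = tpar τ m'.1 := congrArg Prod.snd hab'
        rw [← h2'] at h1
        have h3 : m.1 * tpar τ m.1 = m'.1 * tpar τ m.1 := by linear_combination h1
        have h4 : m.1 = m'.1 := mul_right_cancel₀ (tpar_ne_zero hτ m.2) h3
        rw [Subtype.ext h4]
  · rintro ⟨⟨s, t⟩, h⟩
    have h' : s ^ 2 + τ * s * t + t ^ 2 = 1 := h
    by_cases ht : t = 0
    · refine ⟨none, ?_⟩
      subst ht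
      have hs : (s - 1) ^ 2 = 0 := by linear_combination h' + (1 - s) * h2
      have hs1 : s = 1 := sub_eq_zero.mp ((pow_eq_zero_iff two_ne_zero).mp hs)
      subst hs1
      rfl
    · have hm : (s - 1) / t * t = s - 1 := div_mul_cancel₀ _ ht
      generalize (s - 1) / t = m at hm
      have h3 : t * ((m ^ 2 + τ * m + 1) * t - τ) = 0 := by
        linear_combination h' + (1 - s - τ * t) * h2 + (m * t + s - 1 + τ * t) * hm
      have h4 : (m ^ 2 + τ * m + 1) * t = τ :=
        sub_eq_zero.mp ((mul_eq_zero.mp h3).resolve_left ht)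
      have hD : m ^ 2 + τ * m + 1 ≠ 0 := by
        intro h0
        rw [h0, zero_mul] at h4
        exact hτ h4.symm
      have h5 : tpar τ m = t := by
        unfold tpar
        rw [div_eq_iff hD]; linear_combination (-1 : F) * h4
      refine ⟨some ⟨m, hD⟩, ?_⟩
      apply Subtype.ext
      show (1 + m * tpar τ m, tpar τ m) = (s, t)
      rw [h5]
      exact Prod.ext (by show 1 + m * t = s; linear_combination hm) rfl

/-- in characteristic `2` the polynomial `X² + τX + 1`, `τ ≠ 0`, has no or two roots -/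
theorem card_roots_two [Fintype F] (h2 : (2 : F) = 0) (τ : F) (hτ : τ ≠ 0) :
    Nat.card {m : F // m ^ 2 + τ * m + 1 = 0} = 0 ∨
      Nat.card {m : F // m ^ 2 + τ * m + 1 = 0} = 2 := by
  classical
  by_cases hex : ∃ m : F, m ^ 2 + τ * m + 1 = 0
  · right
    obtain ⟨m0, hm0⟩ := hex
    have hm1 : (τ + m0) ^ 2 + τ * (τ + m0) + 1 = 0 := by
      linear_combination hm0 + (τ ^ 2 + τ * m0) * h2
    have hne : m0 ≠ τ + m0 := by
      intro h
      apply hτ
      linear_combination (-1 : F) * h
    rw [Nat.card_eq_fintype_card, Fintype.card_subtype]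
    have hset : (Finset.univ.filter (fun m : F => m ^ 2 + τ * m + 1 = 0)) = {m0, τ + m0} := by
      ext m
      simp only [Finset.mem_filter, Finset.mem_univ, true_and, Finset.mem_insert,
        Finset.mem_singleton]
      constructor
      · intro hm
        have h3 : (m - m0) * (m - (τ + m0)) = 0 := by
          linear_combination hm + hm0 + (-τ * m - m * m0 - 1) * h2
        rcases mul_eq_zero.mp h3 with h | h
        · left; exact sub_eq_zero.mp h
        · right; exact sub_eq_zero.mp h
      · rintro (rfl | rfl)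
        · exact hm0
        · exact hm1
    rw [hset, Finset.card_pair hne]
  · left
    rw [Nat.card_eq_zero]
    left
    exact ⟨fun ⟨m, hm⟩ => hex ⟨m, hm⟩⟩

/-- **exact torus order in characteristic `2`** -/
theorem card_centralizer_two [Fintype F] (h2 : (2 : F) = 0) (g : SL2 F) (hg : NonScalar g)
    (hΔ : tr g ^ 2 ≠ 4) :
    Nat.card (Subgroup.centralizer ({g} : Set (SL2 F))) = Fintype.card F - 1 ∨
      Nat.card (Subgroup.centralizer ({g} : Set (SL2 F))) = Fintype.card F + 1 := by
  classical
  have hτ : tr g ≠ 0 := by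
    intro h
    apply hΔ
    rw [h]
    linear_combination (-2 : F) * h2
  rw [card_centralizer_eq_conic g hg, card_conic_two h2 (tr g) hτ]
  have hsum : Nat.card {m : F // m ^ 2 + tr g * m + 1 = 0} +
      Nat.card {m : F // m ^ 2 + tr g * m + 1 ≠ 0} = Fintype.card F := by
    have h := Nat.card_congr (Equiv.sumCompl (fun m : F => m ^ 2 + tr g * m + 1 = 0))
    rw [Nat.card_sum, Nat.card_eq_fintype_card (α := F)] at h
    exact h
  have hq : 2 ≤ Fintype.card F := Fintype.one_lt_card
  rcases card_roots_two h2 (tr g) hτ with h | h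
  · right; omega
  · left; omega

end Cfsg.Agent.Lib.Helper16.DkTorusCard
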