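import Cfsg.Prelude.Def_Solvable
import Cfsg.Prelude.Def_Transfer
import Cfsg.Agent.Lib.Helper16.PCore
import Mathlib.GroupTheory.IsSubnormal

set_option autoImplicit false
open Cfsg
open scoped commutatorElement

namespace Cfsg.Agent.Lib.Helper16

/-! ### `O^p` of a subgroup, in the ambient group -/

/-- `O^p(B)` inside the ambient group: generated by the `p'`-elements of `B`. -/
def opUp {G : Type*} [Group G] (p : ℕ) (B : Subgroup G) : Subgroup G :=
  Subgroup.closure {g : G | g ∈ B ∧ (orderOf g).Coprime p}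

theorem map_pResidual_eq_opUp {G : Type*} [Group G] (p : ℕ) (B : Subgroup G) :
    (Cfsg.pResidual p ↥B).map B.subtype = opUp p B := by
  unfold Cfsg.pResidual opUp
  rw [MonoidHom.map_closure]
  congr 1
  ext g
  constructor
  · rintro ⟨⟨x, hx⟩, hcop, rfl⟩
    refine ⟨hx, ?_⟩
    have : orderOf ((⟨x, hx⟩ : ↥B) : G) = orderOf (⟨x, hx⟩ : ↥B) := Subgroup.orderOf_coe _
    simp only [Subgroup.subtype_apply]
    rw [this]; exact hcop
  · rintro ⟨hg, hcop⟩
    refine ⟨⟨g, hg⟩, ?_, rfl⟩
    have : orderOf ((⟨g, hg⟩ : ↥B) : G) = orderOf (⟨g, hg⟩ : ↥B) := Subgroup.orderOf_coe _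
    show (orderOf (⟨g, hg⟩ : ↥B)).Coprime p
    rw [← this]; exact hcop

theorem opUp_le {G : Type*} [Group G] (p : ℕ) (B : Subgroup G) : opUp p B ≤ B := by
  unfold opUp
  rw [Subgroup.closure_le]
  intro g hg
  exact hg.1

theorem opUp_mono {G : Type*} [Group G] (p : ℕ) {B C : Subgroup G} (h : B ≤ C) :
    opUp p B ≤ opUp p C := by
  unfold opUp
  apply Subgroup.closure_mono
  intro g hg
  exact ⟨h hg.1, hg.2⟩

theorem mem_opUp_of_coprime {G : Type*} [Group G] (p : ℕ) {B : Subgroup G} {g : G} (hg : g ∈ B)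
    (hcop : (orderOf g).Coprime p) : g ∈ opUp p B :=
  Subgroup.subset_closure ⟨hg, hcop⟩

theorem opUp_opUp {G : Type*} [Group G] (p : ℕ) (B : Subgroup G) :
    opUp p (opUp p B) = opUp p B := by
  apply le_antisymm (opUp_le p _)
  conv_lhs => unfold opUp
  rw [Subgroup.closure_le]
  intro g hg
  exact mem_opUp_of_coprime p (mem_opUp_of_coprime p hg.1 hg.2) hg.2

/-- `opUp p B ≤ N` as soon as `N` contains the `p'`-elements of `B`. -/
theorem opUp_le_iff {G : Type*} [Group G] (p : ℕ) (B N : Subgroup G) :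
    opUp p B ≤ N ↔ ∀ g ∈ B, (orderOf g).Coprime p → g ∈ N := by
  unfold opUp
  rw [Subgroup.closure_le]
  constructor
  · intro h g hg hc; exact h ⟨hg, hc⟩
  · intro h g hg; exact h g hg.1 hg.2

/-- Conjugation by an element normalizing `B` preserves `opUp p B`. -/
theorem conj_mem_opUp {G : Type*} [Group G] (p : ℕ) (B : Subgroup G) (x : G)
    (hx : x ∈ Subgroup.normalizer (B : Set G)) : ∀ g ∈ opUp p B, x * g * x⁻¹ ∈ opUp p B := by
  intro g hg
  unfold opUp at hg
  induction hg using Subgroup.closure_induction with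
  | mem g hg =>
    apply mem_opUp_of_coprime
    · exact (Subgroup.mem_normalizer_iff.mp hx g).mp hg.1
    · have : orderOf (x * g * x⁻¹) = orderOf g := by
        have := (MulAut.conj x).orderOf_eq g
        rwa [MulAut.conj_apply] at this
      rw [this]; exact hg.2
  | one => simp
  | mul a b _ _ ha hb =>
    have : x * (a * b) * x⁻¹ = (x * a * x⁻¹) * (x * b * x⁻¹) := by group
    rw [this]; exact Subgroup.mul_mem _ ha hb
  | inv a _ ha =>
    have : x * a⁻¹ * x⁻¹ = (x * a * x⁻¹)⁻¹ := by group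
    rw [this]; exact Subgroup.inv_mem _ ha

/-- A subgroup `S` is normalized by `x` as soon as `x` and `x⁻¹` conjugate `S` into itself. -/
theorem mem_normalizer_of_conj_mem {G : Type*} [Group G] (S : Subgroup G) (x : G)
    (h1 : ∀ g ∈ S, x * g * x⁻¹ ∈ S) (h2 : ∀ g ∈ S, x⁻¹ * g * x ∈ S) :
    x ∈ Subgroup.normalizer (S : Set G) := by
  rw [Subgroup.mem_normalizer_iff]
  intro g
  constructor
  · exact h1 g
  · intro h
    have := h2 _ h
    simpa [mul_assoc] using this

theorem normalizer_le_normalizer_opUp {G : Type*} [Group G] (p : ℕ) (B : Subgroup G) :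
    Subgroup.normalizer (B : Set G) ≤ Subgroup.normalizer ((opUp p B : Subgroup G) : Set G) := by
  intro x hx
  apply mem_normalizer_of_conj_mem
  · exact conj_mem_opUp p B x hx
  · intro g hg
    have := conj_mem_opUp p B x⁻¹ (Subgroup.inv_mem _ hx) g hg
    simpa using this

/-- In a finite group, every element of `B` has a `p`-power power in `opUp p B`. -/
theorem exists_pow_mem_opUp {G : Type*} [Group G] [Finite G] (p : ℕ) [Fact p.Prime]
    (B : Subgroup G) {g : G} (hg : g ∈ B) : ∃ k : ℕ, g ^ (p ^ k) ∈ opUp p B := by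
  obtain ⟨k, m, hm, hkm⟩ := Nat.exists_eq_pow_mul_and_not_dvd (orderOf_pos g).ne' p
    (Fact.out : p.Prime).ne_one
  refine ⟨k, ?_⟩
  apply mem_opUp_of_coprime p (B.pow_mem hg _)
  have hxord : orderOf (g ^ (p ^ k)) = m := by
    rw [orderOf_pow' g (pow_ne_zero k (Fact.out : p.Prime).ne_zero), hkm,
      Nat.gcd_eq_right (Dvd.intro _ rfl)]
    exact Nat.mul_div_cancel_left m (pow_pos (Fact.out : p.Prime).pos k)
  rw [hxord]
  exact ((Nat.Prime.coprime_iff_not_dvd (Fact.out : p.Prime)).mpr hm).symm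

/-- If `D` is a `p`-subgroup normalizing `B`, every `p'`-element of `B ⊔ D` lies in `B`;
hence `O^p(B ⊔ D) ≤ B`. -/
theorem opUp_sup_le_of_isPGroup {G : Type*} [Group G] (p : ℕ) (B D : Subgroup G)
    (hD : IsPGroup p D) (hDB : D ≤ Subgroup.normalizer (B : Set G)) :
    opUp p (B ⊔ D) ≤ B := by
  rw [opUp_le_iff]
  intro g hg hcop
  -- work in the normalizer of B, where B is normal
  set N := Subgroup.normalizer (B : Set G) with hN
  have hBN : B ≤ N := Subgroup.le_normalizer
  have hle : B ⊔ D ≤ N := sup_le hBN hDB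
  have hBn : (B.subgroupOf N).Normal := Subgroup.normal_in_normalizer
  -- g = b * d
  have hg' : (⟨g, hle hg⟩ : ↥N) ∈ (B.subgroupOf N) ⊔ (D.subgroupOf N) := by
    rw [← Subgroup.subgroupOf_sup hBN hDB]
    exact hg
  rw [Subgroup.mem_sup_of_normal_left] at hg'
  obtain ⟨b, hb, d, hd, hbd⟩ := hg'
  -- image of g in N / B
  have h1 : (QuotientGroup.mk' (B.subgroupOf N)) ⟨g, hle hg⟩ = (QuotientGroup.mk' (B.subgroupOf N)) d := by
    rw [← hbd, map_mul]
    have : (QuotientGroup.mk' (B.subgroupOf N)) b = 1 := by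
      simpa [QuotientGroup.eq_one_iff] using hb
    rw [this, one_mul]
  -- d is a p-element
  obtain ⟨k, hk⟩ := exists_pow_eq_one_of_mem hD (show (d : G) ∈ D from hd)
  have hk' : d ^ (p ^ k) = 1 := Subtype.ext (by simpa using hk)
  have h2 : ((QuotientGroup.mk' (B.subgroupOf N)) ⟨g, hle hg⟩) ^ (p ^ k) = 1 := by
    rw [h1, ← map_pow, hk', map_one]
  have h3 : (orderOf ((QuotientGroup.mk' (B.subgroupOf N)) ⟨g, hle hg⟩)).Coprime p := by
    have hdvd : orderOf ((QuotientGroup.mk' (B.subgroupOf N)) ⟨g, hle hg⟩) ∣ orderOf g := by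
      have := orderOf_map_dvd (QuotientGroup.mk' (B.subgroupOf N)) (⟨g, hle hg⟩ : ↥N)
      rwa [← Subgroup.orderOf_coe] at this
    exact Nat.Coprime.coprime_dvd_left hdvd hcop
  have h4 := eq_one_of_pow_prime_pow_of_coprime _ k h2 h3
  have : (⟨g, hle hg⟩ : ↥N) ∈ B.subgroupOf N := by
    simpa [QuotientGroup.eq_one_iff] using h4
  exact this

end Cfsg.Agent.Lib.Helper16
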