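import Mathlib
import Cfsg.Agent.Lib.Helper12.SL2b

/-! Subgroups of `PSL₂(F)` fixing a line normalize a Sylow `p`-subgroup (`p = char F`):
conclusion (b) of Dickson's theorem for the Borel case. -/

set_option autoImplicit false

namespace Cfsg.Agent.Lib.Helper16.BorelCase

open Cfsg.Agent.Lib.Helper12.SL2

local notation "SL2" => Matrix.SpecialLinearGroup (Fin 2)
local notation "PSL2" => Matrix.ProjectiveSpecialLinearGroup (Fin 2)

variable {F : Type*} [Field F]

theorem conj_mem_stab (v : Fin 2 → F) (g u : SL2 F) (c : F) (hg : g • v = c • v)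
    (hu : u • v = v) : (g⁻¹ * u * g) • v = v := by
  rw [mul_smul, mul_smul, hg, smul_comm u c v, hu, ← hg, inv_smul_smul]

/-- the stabilizer of a nonzero vector is (the underlying subgroup of) a Sylow `p`-subgroup -/
theorem exists_sylow_eq_stabilizer [Fintype F] (p : ℕ) [Fact p.Prime] [CharP F p]
    (v : Fin 2 → F) (hv : v ≠ 0) :
    ∃ Q : Sylow p (SL2 F), (Q : Subgroup (SL2 F)) = MulAction.stabilizer (SL2 F) v := by
  classical
  obtain ⟨P0⟩ := (Sylow.nonempty : Nonempty (Sylow p (SL2 F)))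
  obtain ⟨v', hv', hP0⟩ := sylow_eq_stabilizer P0
  obtain ⟨k1, hk1⟩ := exists_smul_e1 hv'
  obtain ⟨k2, hk2⟩ := exists_smul_e1 hv
  have hk : (k2 * k1⁻¹) • v' = v := by
    rw [mul_smul, ← hk1, inv_smul_smul, hk2]
  have hs : Function.Surjective ((MulAut.conj (k2 * k1⁻¹)).toMonoidHom : SL2 F →* SL2 F) :=
    (MulAut.conj (k2 * k1⁻¹)).surjective
  refine ⟨P0.mapSurjective hs, ?_⟩
  rw [Sylow.coe_mapSurjective, hP0, ← MulAction.stabilizer_smul_eq_stabilizer_map_conj, hk]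

theorem borel_case [Fintype F] (p : ℕ) [Fact p.Prime] [CharP F p]
    (Hb : Subgroup (PSL2 F)) (v : Fin 2 → F) (hv : v ≠ 0)
    (hfix : ∀ g : SL2 F, (QuotientGroup.mk g : PSL2 F) ∈ Hb → ∃ c : F, g • v = c • v) :
    ∃ (P : Sylow p (PSL2 F)) (K : Subgroup (PSL2 F)),
      K ≤ Subgroup.normalizer ((P : Subgroup (PSL2 F)) : Set (PSL2 F)) ∧ Nonempty (Hb ≃* K) := by
  classical
  obtain ⟨Q, hQ⟩ := exists_sylow_eq_stabilizer p v hv
  have hsurj : Function.Surjective (QuotientGroup.mk' (Subgroup.center (SL2 F))) :=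
    QuotientGroup.mk'_surjective _
  refine ⟨Q.mapSurjective hsurj, Hb, ?_, ⟨MulEquiv.refl _⟩⟩
  rw [Sylow.coe_mapSurjective, hQ]
  intro h hh
  obtain ⟨g, rfl⟩ := QuotientGroup.mk_surjective h
  obtain ⟨c, hc⟩ := hfix g hh
  obtain ⟨c', hc'⟩ := hfix g⁻¹ (by
    have e : (QuotientGroup.mk g⁻¹ : PSL2 F) = (QuotientGroup.mk g : PSL2 F)⁻¹ := rfl
    rw [e]; exact Hb.inv_mem hh)
  apply Subgroup.le_normalizer_map (QuotientGroup.mk' (Subgroup.center (SL2 F)))
  refine Subgroup.mem_map.mpr ⟨g, ?_, rfl⟩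
  rw [Subgroup.mem_normalizer_iff]
  intro u
  simp only [MulAction.mem_stabilizer_iff]
  constructor
  · intro hu
    have := conj_mem_stab v g⁻¹ u c' hc' hu
    rwa [inv_inv] at this
  · intro hu
    have := conj_mem_stab v g (g * u * g⁻¹) c hc hu
    have e : g⁻¹ * (g * u * g⁻¹) * g = u := by group
    rwa [e] at this

end Cfsg.Agent.Lib.Helper16.BorelCase
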