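import Mathlib
import Cfsg.Agent.Lib.Helper12.SL2b

/-! Tools for the consumers of Dickson's theorem (maximal `A₄`, `S₄`, `A₅` in `PSL₂`):
the quotient `N(P)/P` of a Sylow normalizer of `PSL₂(F)` in the defining characteristic is
abelian; elements of order `3` commute in cyclic and dihedral groups. -/

set_option autoImplicit false

namespace Cfsg.Agent.Lib.Helper16.DkMax

open Cfsg.Agent.Lib.Helper12.SL2

local notation "SL2" => Matrix.SpecialLinearGroup (Fin 2)
local notation "PSL2" => Matrix.ProjectiveSpecialLinearGroup (Fin 2)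

variable {F : Type*} [Field F]

/-- a non-identity element of `SL₂` fixes at most a line -/
theorem dep_of_fix (u : SL2 F) (hu : u ≠ 1) (v w : Fin 2 → F) (hv : u • v = v) (hw : u • w = w) :
    v 0 * w 1 = v 1 * w 0 := by
  by_contra hD
  have hD' : v 0 * w 1 - v 1 * w 0 ≠ 0 := fun h => hD (sub_eq_zero.mp h)
  have hv0 := congrFun hv 0
  have hv1 := congrFun hv 1
  have hw0 := congrFun hw 0
  have hw1 := congrFun hw 1
  rw [Cfsg.Agent.Lib.Helper12.SL2.smul_apply] at hv0 hv1 hw0 hw1
  have e00 : (u 0 0 - 1) * (v 0 * w 1 - v 1 * w 0) = 0 := by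
    linear_combination w 1 * hv0 - v 1 * hw0
  have e01 : u 0 1 * (v 0 * w 1 - v 1 * w 0) = 0 := by
    linear_combination v 0 * hw0 - w 0 * hv0
  have e10 : u 1 0 * (v 0 * w 1 - v 1 * w 0) = 0 := by
    linear_combination w 1 * hv1 - v 1 * hw1
  have e11 : (u 1 1 - 1) * (v 0 * w 1 - v 1 * w 0) = 0 := by
    linear_combination v 0 * hw1 - w 0 * hv1
  apply hu
  apply ext4
  · have := (mul_eq_zero.mp e00).resolve_right hD'
    simpa using sub_eq_zero.mp this
  · have := (mul_eq_zero.mp e01).resolve_right hD'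
    simpa using this
  · have := (mul_eq_zero.mp e10).resolve_right hD'
    simpa using this
  · have := (mul_eq_zero.mp e11).resolve_right hD'
    simpa using sub_eq_zero.mp this

theorem exists_smul_eq_of_dep (v w : Fin 2 → F) (hv : v ≠ 0) (hdep : v 0 * w 1 = v 1 * w 0) :
    ∃ c : F, w = c • v := by
  by_cases h0 : v 0 = 0
  · have h1 : v 1 ≠ 0 := by
      intro h1
      apply hv
      ext i
      fin_cases i
      · exact h0
      · exact h1
    refine ⟨w 1 / v 1, ?_⟩
    rw [h0, zero_mul] at hdep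
    have hw0 : w 0 = 0 := (mul_eq_zero.mp hdep.symm).resolve_left h1
    ext i
    fin_cases i
    · simp [h0, hw0]
    · simp [h1]
  · refine ⟨w 0 / v 0, ?_⟩
    ext i
    fin_cases i
    · simp [h0]
    · simp
      field_simp
      linear_combination hdep

/-- elements stabilizing the line `F v` have commutators fixing `v` -/
theorem comm_fix (g h : SL2 F) (v : Fin 2 → F) (c d : F) (hg : g⁻¹ • v = c • v)
    (hh : h⁻¹ • v = d • v) : (g * h * g⁻¹ * h⁻¹) • v = v := by
  have e : (g⁻¹ * h⁻¹) • v = (h⁻¹ * g⁻¹) • v := by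
    rw [mul_smul, mul_smul, hh, hg, smul_comm g⁻¹ d v, hg, smul_comm h⁻¹ c v, hh,
      smul_comm d c v]
  have e1 : g * h * g⁻¹ * h⁻¹ = (g * h) * (g⁻¹ * h⁻¹) := by group
  have e2 : g * h * (h⁻¹ * g⁻¹) = 1 := by group
  rw [e1, mul_smul, e, ← mul_smul, e2, one_smul]

/-- if the image of `g⁻¹ u g` in `PSL₂` is the image of an element fixing `v`, where `u ≠ 1`
fixes `v`, then `g` stabilizes the line `F v` -/
theorem line_of_conj (v : Fin 2 → F) (hv : v ≠ 0) (g u u' : SL2 F)
    (hu : u • v = v) (hu1 : u ≠ 1) (hu' : u' • v = v)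
    (hmk : (QuotientGroup.mk (g⁻¹ * u * g) : PSL2 F) = QuotientGroup.mk u') :
    ∃ c : F, g • v = c • v := by
  have hz := QuotientGroup.eq.mp hmk
  obtain ⟨r, hr2, hr⟩ := Matrix.SpecialLinearGroup.mem_center_iff.mp hz
  rw [Fintype.card_fin] at hr2
  set w : SL2 F := g⁻¹ * u * g with hw
  -- `w` fixes `g⁻¹ • v`
  have hwfix : w • (g⁻¹ • v) = g⁻¹ • v := by
    rw [hw, ← mul_smul]
    have : g⁻¹ * u * g * g⁻¹ = g⁻¹ * u := by group
    rw [this, mul_smul, hu]
  have hgv : g⁻¹ • v ≠ 0 := by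
    intro h
    apply hv
    have := congrArg (fun x => g • x) h
    simpa using this
  have htw := trace_eq_two_of_fix w (g⁻¹ • v) hgv hwfix
  have htu := trace_eq_two_of_fix u' v hv hu'
  have hmat : (u' : Matrix (Fin 2) (Fin 2) F) =
      (w : Matrix (Fin 2) (Fin 2) F) * Matrix.scalar (Fin 2) r := by
    rw [hr, ← Matrix.SpecialLinearGroup.coe_mul, mul_inv_cancel_left]
  have e00 : u' 0 0 = w 0 0 * r := by
    have := congrFun (congrFun hmat 0) 0
    simpa [Matrix.scalar_apply, Matrix.mul_diagonal] using this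
  have e11 : u' 1 1 = w 1 1 * r := by
    have := congrFun (congrFun hmat 1) 1
    simpa [Matrix.scalar_apply, Matrix.mul_diagonal] using this
  have h2r : 2 * r = 2 := by
    linear_combination -r * htw + htu - e00 - e11
  have hr1 : r = 1 := by
    have h3 : (r - 1) ^ 2 = 0 := by linear_combination hr2 - h2r
    exact sub_eq_zero.mp ((pow_eq_zero_iff two_ne_zero).mp h3)
  have hwu : u' = w := by
    apply Subtype.ext
    rw [hmat, hr1]
    simp
  have hwv : w • v = v := by rw [← hwu]; exact hu'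
  have hugv : u • (g • v) = g • v := by
    have e : u * g = g * w := by rw [hw]; group
    rw [← mul_smul, e, mul_smul, hwv]
  obtain ⟨c, hc⟩ := exists_smul_eq_of_dep v (g • v) hv (dep_of_fix u hu1 v (g • v) hu hugv)
  exact ⟨c, hc⟩

/-- the stabilizer of a nonzero vector contains a non-identity element -/
theorem exists_ne_one_fix (v : Fin 2 → F) (hv : v ≠ 0) : ∃ u : SL2 F, u ≠ 1 ∧ u • v = v := by
  obtain ⟨k, hk⟩ := exists_smul_e1 hv
  refine ⟨k * up 1 * k⁻¹, ?_, ?_⟩
  · intro h
    apply up_ne_one (one_ne_zero : (1 : F) ≠ 0)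
    have : up (1 : F) = k⁻¹ * (k * up 1 * k⁻¹) * k := by group
    rw [this, h]; group
  · apply conj_fix k (up 1) _ v hk
    ext i
    fin_cases i <;> simp [Cfsg.Agent.Lib.Helper12.SL2.smul_apply, up]

/-- **`N(P)/P` is abelian** for a Sylow `p`-subgroup `P` of `PSL₂(F)`, `p = char F`. -/
theorem comm_mem_of_mem_normalizer [Fintype F] (p : ℕ) [Fact p.Prime] [CharP F p]
    (P : Sylow p (PSL2 F)) (x y : PSL2 F)
    (hx : x ∈ Subgroup.normalizer ((P : Subgroup (PSL2 F)) : Set (PSL2 F)))
    (hy : y ∈ Subgroup.normalizer ((P : Subgroup (PSL2 F)) : Set (PSL2 F))) :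
    x * y * x⁻¹ * y⁻¹ ∈ (P : Subgroup (PSL2 F)) := by
  classical
  have hsurj : Function.Surjective (QuotientGroup.mk' (Subgroup.center (SL2 F))) :=
    QuotientGroup.mk'_surjective _
  obtain ⟨Q, hQ⟩ := Sylow.mapSurjective_surjective hsurj p P
  obtain ⟨v, hv, hQv⟩ := sylow_eq_stabilizer Q
  have hP : (P : Subgroup (PSL2 F)) =
      (MulAction.stabilizer (SL2 F) v).map (QuotientGroup.mk' (Subgroup.center (SL2 F))) := by
    rw [← hQ, Sylow.coe_mapSurjective, hQv]
  obtain ⟨u, hu1, hu⟩ := exists_ne_one_fix v hv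
  -- every element of the normalizer lifts to an element stabilizing the line
  have key : ∀ z : PSL2 F, z ∈ Subgroup.normalizer ((P : Subgroup (PSL2 F)) : Set (PSL2 F)) →
      ∀ g : SL2 F, (QuotientGroup.mk g : PSL2 F) = z → ∃ c : F, g⁻¹ • v = c • v := by
    intro z hz g hgz
    have hmem : (QuotientGroup.mk u : PSL2 F) ∈ (P : Subgroup (PSL2 F)) := by
      rw [hP]
      exact Subgroup.mem_map.mpr ⟨u, MulAction.mem_stabilizer_iff.mpr hu, rfl⟩
    have h2 := (Subgroup.mem_normalizer_iff.mp hz _).mp hmem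
    rw [hP] at h2
    obtain ⟨u', hu', hmk⟩ := Subgroup.mem_map.mp h2
    have hu'' : u' • v = v := MulAction.mem_stabilizer_iff.mp hu'
    apply line_of_conj v hv g⁻¹ u u' hu hu1 hu''
    rw [inv_inv]
    have : (QuotientGroup.mk (g * u * g⁻¹) : PSL2 F) = z * QuotientGroup.mk u * z⁻¹ := by
      rw [← hgz]; rfl
    rw [this]
    exact hmk.symm
  obtain ⟨g, rfl⟩ := QuotientGroup.mk_surjective x
  obtain ⟨h, rfl⟩ := QuotientGroup.mk_surjective y
  obtain ⟨c, hc⟩ := key _ hx g rfl
  obtain ⟨d, hd⟩ := key _ hy h rfl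
  rw [hP]
  refine Subgroup.mem_map.mpr ⟨g * h * g⁻¹ * h⁻¹, ?_, rfl⟩
  exact MulAction.mem_stabilizer_iff.mpr (comm_fix g h v c d hc hd)

/-- elements of order dividing `3` commute in a dihedral group -/
theorem dihedral_comm_of_cube {k : ℕ} (a b : DihedralGroup k) (ha : a ^ 3 = 1) (hb : b ^ 3 = 1) :
    a * b = b * a := by
  have hsr : ∀ i : ZMod k, (DihedralGroup.sr i) ^ 3 ≠ 1 := by
    intro i h
    have e : (DihedralGroup.sr i) ^ 3 = DihedralGroup.sr i := by
      rw [pow_succ, pow_two, DihedralGroup.sr_mul_self, one_mul]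
    rw [e, DihedralGroup.one_def] at h
    cases h
  cases a with
  | r i =>
    cases b with
    | r j => rw [DihedralGroup.r_mul_r, DihedralGroup.r_mul_r, add_comm]
    | sr j => exact absurd hb (hsr j)
  | sr i => exact absurd ha (hsr i)

/-- elements of a cyclic group commute -/
theorem cyclic_comm {M : Type*} [Group M] [IsCyclic M] (a b : M) : a * b = b * a := by
  let _ := IsCyclic.commGroup (α := M)
  exact mul_comm a b

end Cfsg.Agent.Lib.Helper16.DkMax
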