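import Mathlib
import Cfsg.Agent.Lib.Helper16.DkMax
import Cfsg.Agent.S0805
import Cfsg.Agent.S0807

/-! Maximality of `A₄`, `S₄`, `A₅` in `PSL₂(F)` from Dickson's list: generic reduction. -/

set_option autoImplicit false

namespace Cfsg.Agent.Lib.Helper16.DkMax

open Cfsg.Agent.Lib.Helper12.SL2

local notation "SL2" => Matrix.SpecialLinearGroup (Fin 2)
local notation "PSL2" => Matrix.ProjectiveSpecialLinearGroup (Fin 2)
local notation "PGL2" => Matrix.ProjGenLinGroup (Fin 2)

/-- a non-commuting pair of elements of order `3` whose commutator has order `2` -/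
def HasPair (X : Type*) [Group X] : Prop :=
  ∃ a b : X, a ^ 3 = 1 ∧ b ^ 3 = 1 ∧ a * b * a⁻¹ * b⁻¹ ≠ 1 ∧ (a * b * a⁻¹ * b⁻¹) ^ 2 = 1

theorem HasPair.of_injective {X Y : Type*} [Group X] [Group Y] (f : X →* Y)
    (hf : Function.Injective f) (h : HasPair X) : HasPair Y := by
  obtain ⟨a, b, ha, hb, hc1, hc2⟩ := h
  have e : f a * f b * (f a)⁻¹ * (f b)⁻¹ = f (a * b * a⁻¹ * b⁻¹) := by
    simp only [map_mul, map_inv]
  refine ⟨f a, f b, by rw [← map_pow, ha, map_one], by rw [← map_pow, hb, map_one], ?_, ?_⟩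
  · rw [e]
    intro h
    apply hc1
    apply hf
    rw [h, map_one]
  · rw [e, ← map_pow, hc2, map_one]

theorem hasPair_S4 : HasPair (Equiv.Perm (Fin 4)) :=
  ⟨Equiv.swap 0 1 * Equiv.swap 1 2, Equiv.swap 0 1 * Equiv.swap 1 3,
    by decide, by decide, by decide, by decide⟩

theorem hasPair_A4 : HasPair (alternatingGroup (Fin 4)) := by
  have ha : Equiv.swap (0 : Fin 4) 1 * Equiv.swap 1 2 ∈ alternatingGroup (Fin 4) := by
    rw [Equiv.Perm.mem_alternatingGroup]; decide
  have hb : Equiv.swap (0 : Fin 4) 1 * Equiv.swap 1 3 ∈ alternatingGroup (Fin 4) := by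
    rw [Equiv.Perm.mem_alternatingGroup]; decide
  refine ⟨⟨_, ha⟩, ⟨_, hb⟩, ?_, ?_, ?_, ?_⟩
  · apply Subtype.ext; simp only [Subgroup.coe_pow, Subgroup.coe_one]; decide
  · apply Subtype.ext; simp only [Subgroup.coe_pow, Subgroup.coe_one]; decide
  · intro h
    have := congrArg Subtype.val h
    simp only [Subgroup.coe_mul, Subgroup.coe_inv, Subgroup.coe_one] at this
    revert this; decide
  · apply Subtype.ext
    simp only [Subgroup.coe_pow, Subgroup.coe_mul, Subgroup.coe_inv, Subgroup.coe_one]; decide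

theorem hasPair_A5 : HasPair (alternatingGroup (Fin 5)) := by
  have ha : Equiv.swap (0 : Fin 5) 1 * Equiv.swap 1 2 ∈ alternatingGroup (Fin 5) := by
    rw [Equiv.Perm.mem_alternatingGroup]; decide
  have hb : Equiv.swap (0 : Fin 5) 1 * Equiv.swap 1 3 ∈ alternatingGroup (Fin 5) := by
    rw [Equiv.Perm.mem_alternatingGroup]; decide
  refine ⟨⟨_, ha⟩, ⟨_, hb⟩, ?_, ?_, ?_, ?_⟩
  · apply Subtype.ext; simp only [Subgroup.coe_pow, Subgroup.coe_one]; decide
  · apply Subtype.ext; simp only [Subgroup.coe_pow, Subgroup.coe_one]; decide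
  · intro h
    have := congrArg Subtype.val h
    simp only [Subgroup.coe_mul, Subgroup.coe_inv, Subgroup.coe_one] at this
    revert this; decide
  · apply Subtype.ext
    simp only [Subgroup.coe_pow, Subgroup.coe_mul, Subgroup.coe_inv, Subgroup.coe_one]; decide

theorem card_S4 : Nat.card (Equiv.Perm (Fin 4)) = 24 := by
  rw [Nat.card_eq_fintype_card, Fintype.card_perm, Fintype.card_fin]; rfl

theorem card_A4 : Nat.card (alternatingGroup (Fin 4)) = 12 := by
  have := two_mul_nat_card_alternatingGroup (α := Fin 4)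
  rw [card_S4] at this; omega

theorem card_A5 : Nat.card (alternatingGroup (Fin 5)) = 60 := by
  have h := two_mul_nat_card_alternatingGroup (α := Fin 5)
  have h5 : Nat.card (Equiv.Perm (Fin 5)) = 120 := by
    rw [Nat.card_eq_fintype_card, Fintype.card_perm, Fintype.card_fin]; rfl
  rw [h5] at h; omega

/-- a group with a `HasPair` is neither cyclic nor dihedral -/
theorem HasPair.not_cyclic {M : Type*} [Group M] (h : HasPair M) : ¬ IsCyclic M := by
  intro hc
  obtain ⟨a, b, -, -, hc1, -⟩ := h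
  apply hc1
  rw [cyclic_comm a b]; group

theorem HasPair.not_dihedral {M : Type*} [Group M] (h : HasPair M) (k : ℕ)
    (e : M ≃* DihedralGroup k) : False := by
  obtain ⟨a, b, ha, hb, hc1, -⟩ := HasPair.of_injective e.toMonoidHom e.injective h
  apply hc1
  rw [dihedral_comm_of_cube a b ha hb]; group

variable {F : Type*} [Field F]

/-- a subgroup of a Sylow normalizer of `PSL₂(F)` (defining characteristic, odd) has no `HasPair` -/
theorem HasPair.not_le_normalizer [Fintype F] (p : ℕ) [Fact p.Prime] [CharP F p] (hp2 : p ≠ 2)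
    (P : Sylow p (PSL2 F)) (K : Subgroup (PSL2 F))
    (hK : K ≤ Subgroup.normalizer ((P : Subgroup (PSL2 F)) : Set (PSL2 F)))
    (h : HasPair K) : False := by
  obtain ⟨a, b, -, -, hc1, hc2⟩ := h
  have hmem : ((a * b * a⁻¹ * b⁻¹ : K) : PSL2 F) ∈ (P : Subgroup (PSL2 F)) := by
    have := comm_mem_of_mem_normalizer p P (a : PSL2 F) (b : PSL2 F) (hK a.2) (hK b.2)
    simpa using this
  obtain ⟨n, hn⟩ := P.isPGroup' ⟨_, hmem⟩
  have hn' : ((a * b * a⁻¹ * b⁻¹ : K) : PSL2 F) ^ p ^ n = 1 := by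
    have := congrArg Subtype.val hn
    simpa using this
  have h2' : ((a * b * a⁻¹ * b⁻¹ : K) : PSL2 F) ^ 2 = 1 := by
    have := congrArg Subtype.val hc2
    simpa using this
  have hcop : Nat.Coprime 2 (p ^ n) :=
    Nat.Coprime.pow_right n ((Nat.coprime_primes Nat.prime_two (Fact.out : p.Prime)).mpr
      (Ne.symm hp2))
  have ho : orderOf ((a * b * a⁻¹ * b⁻¹ : K) : PSL2 F) = 1 :=
    Nat.eq_one_of_dvd_coprimes hcop (orderOf_dvd_of_pow_eq_one h2') (orderOf_dvd_of_pow_eq_one hn')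
  apply hc1
  apply Subtype.ext
  rw [Subgroup.coe_one]
  exact orderOf_eq_one_iff.mp ho

/-- the conclusion of Dickson's theorem (`S0799`) -/
def DList [Fintype F] (q p : ℕ) (H : Subgroup (PSL2 F)) : Prop :=
  (∃ k : ℕ, (k ∣ (q + 1) / Nat.gcd 2 (q - 1) ∨ k ∣ (q - 1) / Nat.gcd 2 (q - 1)) ∧
    ((IsCyclic H ∧ Nat.card H = k) ∨ Nonempty (H ≃* DihedralGroup k))) ∨
  (∃ (P : Sylow p (PSL2 F)) (K : Subgroup (PSL2 F)),
    K ≤ Subgroup.normalizer ((P : Subgroup (PSL2 F)) : Set (PSL2 F)) ∧ Nonempty (H ≃* K)) ∨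
  Nonempty (H ≃* alternatingGroup (Fin 4)) ∨ Nonempty (H ≃* Equiv.Perm (Fin 4)) ∨
  Nonempty (H ≃* alternatingGroup (Fin 5)) ∨
  (∃ (K : Type) (_ : Field K) (_ : Fintype K) (m : ℕ), Fintype.card K ^ m = q ∧
    (Nonempty (H ≃* PSL2 K) ∨ Nonempty (H ≃* PGL2 K)))

/-- the cases (a), (b) of Dickson's list are impossible for overgroups of a `HasPair` subgroup -/
theorem reduce [Fintype F] (p : ℕ) [Fact p.Prime] [CharP F p] (hp2 : p ≠ 2) {q : ℕ}
    (H M : Subgroup (PSL2 F)) (hHM : H ≤ M) (hH : HasPair H) (hD : DList q p M) :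
    Nonempty (M ≃* alternatingGroup (Fin 4)) ∨ Nonempty (M ≃* Equiv.Perm (Fin 4)) ∨
    Nonempty (M ≃* alternatingGroup (Fin 5)) ∨
    (∃ (K : Type) (_ : Field K) (_ : Fintype K) (m : ℕ), Fintype.card K ^ m = q ∧
      (Nonempty (M ≃* PSL2 K) ∨ Nonempty (M ≃* PGL2 K))) := by
  have hM : HasPair M :=
    HasPair.of_injective (Subgroup.inclusion hHM) (Subgroup.inclusion_injective hHM) hH
  rcases hD with ⟨k, -, ⟨hc, -⟩ | ⟨⟨e⟩⟩⟩ | ⟨P, K, hK, ⟨e⟩⟩ | h
  · exact absurd hc hM.not_cyclic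
  · exact (hM.not_dihedral k e).elim
  · exact (HasPair.not_le_normalizer p hp2 P K hK
      (HasPair.of_injective e.toMonoidHom e.injective hM)).elim
  · exact h

theorem two_ne_zero_of_odd_card {K : Type*} [Field K] [Fintype K] (hodd : Odd (Fintype.card K)) :
    (2 : K) ≠ 0 := by
  intro h2
  obtain ⟨k, hk⟩ := hodd
  have h := Nat.cast_card_eq_zero K
  rw [hk] at h
  push_cast at h
  rw [h2, zero_mul, zero_add] at h
  exact one_ne_zero h

theorem two_mul_card_PSL2 {K : Type*} [Field K] [Fintype K] (hodd : Odd (Fintype.card K)) :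
    2 * Nat.card (PSL2 K) = Fintype.card K * (Fintype.card K ^ 2 - 1) := by
  rw [← card_SL2, Cfsg.Agent.S0807.card_SL2_eq (two_ne_zero_of_odd_card hodd)]

theorem card_PGL2_eq {K : Type*} [Field K] [Fintype K] :
    Nat.card (PGL2 K) = Fintype.card K * (Fintype.card K ^ 2 - 1) := by
  have h := Cfsg.Agent.S0805.card_PGL2 (K := K)
  have hk : 2 ≤ Fintype.card K := Fintype.one_lt_card
  have hk1 : 0 < Fintype.card K - 1 := by omega
  apply Nat.eq_of_mul_eq_mul_right hk1
  rw [h]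
  have e : Fintype.card K ^ 2 - Fintype.card K = Fintype.card K * (Fintype.card K - 1) := by
    rw [pow_two, Nat.mul_sub, mul_one]
  rw [e]; ring

/-- a subgroup isomorphic to `PSL₂(K)` with `|K| = |F|` odd is everything -/
theorem eq_top_of_iso_PSL2 [Fintype F] {K : Type*} [Field K] [Fintype K]
    (hodd : Odd (Fintype.card F)) (hK : Fintype.card K = Fintype.card F)
    (M : Subgroup (PSL2 F)) (e : M ≃* PSL2 K) : M = ⊤ := by
  have h1 := two_mul_card_PSL2 (K := K) (hK ▸ hodd)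
  have h2 := two_mul_card_PSL2 (K := F) hodd
  rw [hK, ← h2] at h1
  have h3 : Nat.card M = Nat.card (PSL2 F) := by
    rw [Nat.card_congr e.toEquiv]; omega
  exact (Subgroup.card_eq_iff_eq_top M).mp h3

/-- no subgroup is isomorphic to `PGL₂(K)` with `|K| = |F|` odd -/
theorem false_of_iso_PGL2 [Fintype F] {K : Type*} [Field K] [Fintype K]
    (hodd : Odd (Fintype.card F)) (hK : Fintype.card K = Fintype.card F)
    (M : Subgroup (PSL2 F)) (e : M ≃* PGL2 K) : False := by
  have h1 := card_PGL2_eq (K := K)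
  have h2 := two_mul_card_PSL2 (K := F) hodd
  rw [hK, ← h2] at h1
  have h3 : Nat.card M = 2 * Nat.card (PSL2 F) := by
    rw [Nat.card_congr e.toEquiv]; exact h1
  have h4 := Subgroup.card_le_card_group M
  have h5 : 0 < Nat.card (PSL2 F) := Nat.card_pos
  omega

/-- strict inclusion of finite subgroups: the order grows and divides -/
theorem card_lt_of_lt {G : Type*} [Group G] [Finite G] {H M : Subgroup G} (h : H < M) :
    Nat.card H < Nat.card M ∧ Nat.card H ∣ Nat.card M := by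
  refine ⟨?_, Subgroup.card_dvd_of_le h.le⟩
  by_contra hlt
  exact h.ne (Subgroup.eq_of_le_of_card_ge h.le (not_lt.mp hlt))

end Cfsg.Agent.Lib.Helper16.DkMax
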