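import Cfsg.Agent.Lib.Helper16.SubnormalResidual
import Mathlib.GroupTheory.Nilpotent

set_option autoImplicit false
open Cfsg
open scoped commutatorElement

namespace Cfsg.Agent.Lib.Helper16

/-- Every subgroup of a finite `p`-group is subnormal. -/
theorem isSubnormal_of_isPGroup {G : Type*} [Group G] [Finite G] {p : ℕ} [Fact p.Prime]
    (hG : IsPGroup p G) (B : Subgroup G) : B.IsSubnormal := by
  have hnil : Group.IsNilpotent G := hG.isNilpotent
  have hnc : NormalizerCondition G := Group.normalizerCondition_of_isNilpotent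
  induction B using WellFoundedGT.induction with
  | ind B ih =>
    by_cases hB : B = ⊤
    · rw [hB]; exact Subgroup.IsSubnormal.top
    · have hlt : B < Subgroup.normalizer (B : Set G) := hnc B (lt_top_iff_ne_top.mpr hB)
      exact Subgroup.IsSubnormal.step B _ Subgroup.le_normalizer (ih _ hlt)
        Subgroup.normal_in_normalizer

/-- If `G / R` is a `p`-group then every subgroup containing `R` is subnormal. -/
theorem isSubnormal_of_le_of_pgroup_quot {G : Type*} [Group G] [Finite G] {p : ℕ} [Fact p.Prime]
    (R B : Subgroup G) [R.Normal] (hRB : R ≤ B) (hp : ∀ g : G, ∃ k : ℕ, g ^ (p ^ k) ∈ R) :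
    B.IsSubnormal := by
  have hQ : IsPGroup p (G ⧸ R) := by
    intro q
    obtain ⟨g, rfl⟩ := QuotientGroup.mk_surjective q
    obtain ⟨k, hk⟩ := hp g
    exact ⟨k, by rw [← QuotientGroup.mk_pow, QuotientGroup.eq_one_iff]; exact hk⟩
  have h1 := isSubnormal_of_isPGroup hQ (B.map (QuotientGroup.mk' R))
  have h2 := h1.comap (QuotientGroup.mk' R)
  rw [Subgroup.comap_map_eq, QuotientGroup.ker_mk', sup_of_le_left hRB] at h2
  exact h2

end Cfsg.Agent.Lib.Helper16
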