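import Cfsg.Prelude.Def_LocalStructure
import Cfsg.Agent.Lib.Helper24.SylowTools
import Mathlib

set_option autoImplicit false
open Cfsg
open scoped commutatorElement

namespace Cfsg.Agent.Lib.Helper16

/-! ### Conjugates `Q.map (MulAut.conj g).toMonoidHom` of a subgroup -/

section Conj
variable {H : Type*} [Group H]

theorem mem_map_conj_iff (Q : Subgroup H) (g x : H) :
    x ∈ Q.map (MulAut.conj g).toMonoidHom ↔ g⁻¹ * x * g ∈ Q := by
  constructor
  · rintro ⟨q, hq, rfl⟩
    have : g⁻¹ * ((MulAut.conj g).toMonoidHom q) * g = q := by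
      simp [MulAut.conj_apply, mul_assoc]
    rw [this]; exact hq
  · intro h
    exact ⟨g⁻¹ * x * g, h, by simp [MulAut.conj_apply, mul_assoc]⟩

theorem conj_mem_map_conj (Q : Subgroup H) (g : H) {q : H} (hq : q ∈ Q) :
    g * q * g⁻¹ ∈ Q.map (MulAut.conj g).toMonoidHom :=
  ⟨q, hq, by simp [MulAut.conj_apply]⟩

theorem map_conj_map_conj (Q : Subgroup H) (a b : H) :
    (Q.map (MulAut.conj a).toMonoidHom).map (MulAut.conj b).toMonoidHom =
      Q.map (MulAut.conj (b * a)).toMonoidHom := by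
  rw [Subgroup.map_map]
  congr 1
  ext x
  simp [MulAut.conj_apply, mul_assoc]

theorem map_conj_one (Q : Subgroup H) : Q.map (MulAut.conj (1 : H)).toMonoidHom = Q := by
  ext x
  rw [mem_map_conj_iff]
  simp

theorem map_conj_eq_self_iff (Q : Subgroup H) (g : H) :
    Q.map (MulAut.conj g).toMonoidHom = Q ↔ g ∈ Subgroup.normalizer (Q : Set H) := by
  rw [Subgroup.mem_normalizer_iff]
  constructor
  · intro h x
    constructor
    · intro hx
      rw [← h]; exact conj_mem_map_conj Q g hx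
    · intro hx
      rw [← h, mem_map_conj_iff] at hx
      have e : g⁻¹ * (g * x * g⁻¹) * g = x := by group
      rwa [e] at hx
  · intro h
    ext x
    rw [mem_map_conj_iff, h (g⁻¹ * x * g)]
    have e : g * (g⁻¹ * x * g) * g⁻¹ = x := by group
    rw [e]

theorem map_conj_eq_of_mul_mem_normalizer (Q : Subgroup H) (a b : H)
    (h : a⁻¹ * b ∈ Subgroup.normalizer (Q : Set H)) :
    Q.map (MulAut.conj a).toMonoidHom = Q.map (MulAut.conj b).toMonoidHom := by
  have h1 := (map_conj_eq_self_iff Q _).mpr h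
  have h2 : (Q.map (MulAut.conj (a⁻¹ * b)).toMonoidHom).map (MulAut.conj a).toMonoidHom =
      Q.map (MulAut.conj b).toMonoidHom := by
    rw [map_conj_map_conj]; simp
  rw [← h2, h1]

theorem mul_mem_normalizer_of_map_conj_eq (Q : Subgroup H) (a b : H)
    (h : Q.map (MulAut.conj a).toMonoidHom = Q.map (MulAut.conj b).toMonoidHom) :
    a⁻¹ * b ∈ Subgroup.normalizer (Q : Set H) := by
  rw [← map_conj_eq_self_iff]
  have h2 : Q.map (MulAut.conj (a⁻¹ * b)).toMonoidHom =
      (Q.map (MulAut.conj b).toMonoidHom).map (MulAut.conj a⁻¹).toMonoidHom := by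
    rw [map_conj_map_conj]
  rw [h2, ← h, map_conj_map_conj, inv_mul_cancel, map_conj_one]

theorem map_conj_eq_of_mem (Q : Subgroup H) {q : H} (hq : q ∈ Q) :
    Q.map (MulAut.conj q).toMonoidHom = Q :=
  (map_conj_eq_self_iff Q q).mpr (Subgroup.le_normalizer hq)

/-- `Q^(r*q) = Q^r` for `q ∈ Q`. -/
theorem map_conj_mul_of_mem (Q : Subgroup H) (r : H) {q : H} (hq : q ∈ Q) :
    Q.map (MulAut.conj (r * q)).toMonoidHom = Q.map (MulAut.conj r).toMonoidHom := by
  rw [← map_conj_map_conj, map_conj_eq_of_mem Q hq]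

end Conj

/-! ### Weakly closed subgroups -/

section WC
variable {H : Type*} [Group H] [Finite H] {p : ℕ} [Fact p.Prime]

omit [Finite H] [Fact p.Prime] in
theorem isPGroup_of_isWeaklyClosedSubgroup {Q : Subgroup H}
    (hwc : Cfsg.IsWeaklyClosedSubgroup p Q) : IsPGroup p Q := by
  obtain ⟨T, hQT, _⟩ := hwc
  exact T.isPGroup'.to_le hQT

/-- (W1) A weakly closed subgroup `Q` is the only conjugate of itself in any `p`-subgroup
containing it. -/
theorem weaklyClosed_eq_of_le {Q : Subgroup H} (hwc : Cfsg.IsWeaklyClosedSubgroup p Q)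
    {R : Subgroup H} (hR : IsPGroup p R) (hQR : Q ≤ R) (g : H)
    (hg : Q.map (MulAut.conj g).toMonoidHom ≤ R) : Q.map (MulAut.conj g).toMonoidHom = Q := by
  obtain ⟨T, hQT, hT⟩ := hwc
  obtain ⟨S, hRS⟩ := hR.exists_le_sylow
  obtain ⟨h, hh⟩ := MulAction.exists_smul_eq H T S
  have hS : ∀ x, x ∈ (S : Subgroup H) ↔ h⁻¹ * x * h ∈ (T : Subgroup H) := by
    intro x; rw [← hh]; exact Cfsg.Agent.Lib.Helper24.mem_smul_sylow_iff T h x
  have h1 : Q.map (MulAut.conj h⁻¹).toMonoidHom ≤ T := by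
    intro x hx
    rw [mem_map_conj_iff] at hx
    have := (hS _).mp (hRS (hQR hx))
    simpa [mul_assoc] using this
  have h1' := hT h⁻¹ h1
  have h2 : Q.map (MulAut.conj (h⁻¹ * g)).toMonoidHom ≤ T := by
    intro x hx
    rw [mem_map_conj_iff] at hx
    have hx' : g * ((h⁻¹ * g)⁻¹ * x * (h⁻¹ * g)) * g⁻¹ ∈ Q.map (MulAut.conj g).toMonoidHom :=
      conj_mem_map_conj Q g hx
    have := (hS _).mp (hRS (hg hx'))
    have e : h⁻¹ * (g * ((h⁻¹ * g)⁻¹ * x * (h⁻¹ * g)) * g⁻¹) * h = x := by group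
    rwa [e] at this
  have h2' := hT _ h2
  calc Q.map (MulAut.conj g).toMonoidHom
      = (Q.map (MulAut.conj (h⁻¹ * g)).toMonoidHom).map (MulAut.conj h).toMonoidHom := by
        rw [map_conj_map_conj]; simp
    _ = Q.map (MulAut.conj h).toMonoidHom := by rw [h2']
    _ = (Q.map (MulAut.conj h⁻¹).toMonoidHom).map (MulAut.conj h).toMonoidHom := by rw [h1']
    _ = Q := by rw [map_conj_map_conj, mul_inv_cancel, map_conj_one]

/-- (W2) For a weakly closed subgroup `Q ≤ K`, any conjugate of `Q` inside `K` is a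
`K`-conjugate of `Q`. -/
theorem weaklyClosed_conj_in {Q : Subgroup H} (hwc : Cfsg.IsWeaklyClosedSubgroup p Q)
    (K : Subgroup H) (hQK : Q ≤ K) (g : H) (hg : Q.map (MulAut.conj g).toMonoidHom ≤ K) :
    ∃ k ∈ K, Q.map (MulAut.conj g).toMonoidHom = Q.map (MulAut.conj k).toMonoidHom := by
  have hQp := isPGroup_of_isWeaklyClosedSubgroup hwc
  have hp : IsPGroup p (Q.subgroupOf K) := hQp.comap_subtype
  obtain ⟨P, hP⟩ := hp.exists_le_sylow
  have hQP : Q ≤ (P : Subgroup K).map K.subtype := by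
    intro q hq
    exact ⟨⟨q, hQK hq⟩, hP (by rw [Subgroup.mem_subgroupOf]; exact hq), rfl⟩
  have hgp : IsPGroup p (Q.map (MulAut.conj g).toMonoidHom) := hQp.map _
  obtain ⟨k, hk, hky⟩ :=
    Cfsg.Agent.Lib.Helper24.exists_conj_le_sylow_of_subgroup K P _ hgp hg
  have h3 : Q.map (MulAut.conj (k * g)).toMonoidHom ≤ (P : Subgroup K).map K.subtype := by
    intro x hx
    rw [← map_conj_map_conj, mem_map_conj_iff] at hx
    have := hky _ hx
    have e : k * (k⁻¹ * x * k) * k⁻¹ = x := by group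
    rwa [e] at this
  have h4 := weaklyClosed_eq_of_le hwc (P.isPGroup'.map _) hQP (k * g) h3
  refine ⟨k⁻¹, K.inv_mem hk, ?_⟩
  calc Q.map (MulAut.conj g).toMonoidHom
      = (Q.map (MulAut.conj (k * g)).toMonoidHom).map (MulAut.conj k⁻¹).toMonoidHom := by
        rw [map_conj_map_conj]; simp
    _ = Q.map (MulAut.conj k⁻¹).toMonoidHom := by rw [h4]

end WC

end Cfsg.Agent.Lib.Helper16
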