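import Cfsg.Agent.Lib.Helper16.PReduced

set_option autoImplicit false
open Cfsg
open scoped commutatorElement

namespace Cfsg.Agent.Lib.Helper16

/-- If `D ⊴ L` is a `p`-group modulo the normal subgroup `C ≤ D`, then `D ≤ T C` for every
Sylow `p`-subgroup `T`. -/
theorem exists_sylow_mul_of_pgroup_quot {L : Type*} [Group L] [Finite L] {p : ℕ} [Fact p.Prime]
    (T : Sylow p L) (C D : Subgroup L) [hC : C.Normal] (hDn : D.Normal)
    (hp : ∀ x ∈ D, ∃ k : ℕ, x ^ (p ^ k) ∈ C) :
    ∀ d ∈ D, ∃ t ∈ (T : Subgroup L), ∃ c ∈ C, d = t * c := by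
  intro d hd
  have hmapn : (D.map (QuotientGroup.mk' C)).Normal :=
    Subgroup.Normal.map hDn _ (QuotientGroup.mk'_surjective C)
  have hmapp : IsPGroup p (D.map (QuotientGroup.mk' C)) := by
    rintro ⟨_, ⟨x, hx, rfl⟩⟩
    obtain ⟨k, hk⟩ := hp x hx
    refine ⟨k, ?_⟩
    apply Subtype.ext
    simp only [SubgroupClass.coe_pow, Subgroup.coe_one, QuotientGroup.mk'_apply]
    rw [← QuotientGroup.mk_pow, QuotientGroup.eq_one_iff]
    exact hk
  have hle := hmapp.le_sylow_of_normal (T.mapSurjective (QuotientGroup.mk'_surjective C))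
  have hmem : QuotientGroup.mk' C d ∈ D.map (QuotientGroup.mk' C) := Subgroup.mem_map_of_mem _ hd
  have := hle hmem
  obtain ⟨t, ht, hte⟩ := this
  refine ⟨t, ht, t⁻¹ * d, ?_, by group⟩
  have h1 : (QuotientGroup.mk' C) (t⁻¹ * d) = 1 := by
    rw [map_mul, map_inv, hte]; group
  rw [QuotientGroup.mk'_apply, QuotientGroup.eq_one_iff] at h1
  exact h1

/-- A normal subgroup centralizing a set centralizes its normal closure. -/
theorem le_centralizer_normalClosure {L : Type*} [Group L] (D : Subgroup L) (hD : D.Normal)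
    (s : Set L) (h : D ≤ Subgroup.centralizer s) :
    D ≤ Subgroup.centralizer ((Subgroup.normalClosure s : Subgroup L) : Set L) := by
  unfold Subgroup.normalClosure
  rw [Subgroup.centralizer_closure]
  intro d hd
  rw [Subgroup.mem_centralizer_iff]
  intro g hg
  rw [Group.mem_conjugatesOfSet_iff] at hg
  obtain ⟨a, ha, hconj⟩ := hg
  rw [isConj_iff] at hconj
  obtain ⟨c, rfl⟩ := hconj
  have hd' : c⁻¹ * d * c⁻¹⁻¹ ∈ D := hD.conj_mem d hd c⁻¹
  have := (Subgroup.mem_centralizer_iff.mp (h hd')) a ha
  calc c * a * c⁻¹ * d = c * (a * (c⁻¹ * d * c⁻¹⁻¹)) * c⁻¹ := by group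
    _ = c * ((c⁻¹ * d * c⁻¹⁻¹) * a) * c⁻¹ := by rw [this]
    _ = d * (c * a * c⁻¹) := by group

/-- Elementwise `p`-th powers vanish on the normal closure of a set of elements of order
dividing `p`, provided the normal closure is abelian. -/
theorem pow_eq_one_of_mem_normalClosure {L : Type*} [Group L] (p : ℕ) (s : Set L)
    (hs : ∀ x ∈ s, x ^ p = 1)
    (hcomm : ∀ a ∈ Subgroup.normalClosure s, ∀ b ∈ Subgroup.normalClosure s, a * b = b * a) :
    ∀ a ∈ Subgroup.normalClosure s, a ^ p = 1 := by
  intro a ha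
  have ha' := ha
  unfold Subgroup.normalClosure at ha'
  induction ha' using Subgroup.closure_induction with
  | mem g hg =>
    rw [Group.mem_conjugatesOfSet_iff] at hg
    obtain ⟨x, hx, hconj⟩ := hg
    rw [isConj_iff] at hconj
    obtain ⟨c, rfl⟩ := hconj
    rw [conj_pow, hs x hx]; group
  | one => exact one_pow p
  | mul x y hx hy ihx ihy =>
    have hx' : x ∈ Subgroup.normalClosure s := hx
    have hy' : y ∈ Subgroup.normalClosure s := hy
    rw [(show Commute x y from hcomm x hx' y hy').mul_pow, ihx hx', ihy hy', one_mul]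
  | inv x hx ih =>
    have hx' : x ∈ Subgroup.normalClosure s := hx
    rw [inv_pow, ih hx', inv_one]

/-- **Normal closure of a `p`-reduced normal subgroup of an overgroup of a Sylow subgroup.**
Let `L` be a finite group of characteristic `p`, `T` a Sylow `p`-subgroup, `T ≤ R`, and `X` a
`p`-reduced normal subgroup of `R`. Then the normal closure of `X` in `L` is `p`-reduced. -/
theorem isPReducedNormal_normalClosure {L : Type*} [Group L] [Finite L] {p : ℕ} [Fact p.Prime]
    (hchar : Subgroup.centralizer (Cfsg.pCore p L : Set L) ≤ Cfsg.pCore p L) (T : Sylow p L)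
    (R : Subgroup L) (hTR : (T : Subgroup L) ≤ R) (X : Subgroup ↥R)
    (hX : Cfsg.IsPReducedNormal p X) :
    Cfsg.IsPReducedNormal p (Subgroup.normalClosure ((X.map R.subtype : Subgroup L) : Set L)) := by
  obtain ⟨hXn, hXE, hXN⟩ := (isPReducedNormal_iff p X).mp hX
  set P := Cfsg.pCore p L with hP
  have hPn : P.Normal := pCore_normal p L
  have hPp : IsPGroup p P := pCore_isPGroup p L
  set X' : Subgroup L := X.map R.subtype with hX'
  set V := Subgroup.normalClosure (X' : Set L) with hV
  have hPR : P ≤ R := (pCore_le_sylow T).trans hTR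
  -- P centralizes X'
  have hPX : ∀ z ∈ P, ∀ x ∈ X', z * x = x * z := by
    intro z hz x hx
    have h1 : (P.subgroupOf R) ≤ Cfsg.pCore p ↥R :=
      le_pCore inferInstance hPp.comap_subtype
    have h2 := (isPReducedNormal_pCore_le_centralizer hX) (h1 (show (⟨z, hPR hz⟩ : ↥R) ∈ P.subgroupOf R from hz))
    obtain ⟨y, hy, rfl⟩ := hx
    have := (Subgroup.mem_centralizer_iff.mp h2) y hy
    have h3 := congrArg Subtype.val this
    simpa using h3.symm
  have hX'cent : X' ≤ Subgroup.centralizer (P : Set L) := by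
    intro x hx
    rw [Subgroup.mem_centralizer_iff]
    intro z hz
    exact hPX z hz x hx
  have hX'P : X' ≤ P := hX'cent.trans hchar
  -- Z₀ = Z(P), normal
  set Z₀ := P ⊓ Subgroup.centralizer (P : Set L) with hZ₀
  have hZ₀n : Z₀.Normal := inferInstance
  have hVZ : V ≤ Z₀ := Subgroup.normalClosure_le_normal (le_inf hX'P hX'cent)
  have hVP : V ≤ P := hVZ.trans inf_le_left
  have hVcomm : ∀ a ∈ V, ∀ b ∈ V, a * b = b * a := by
    intro a ha b hb
    exact (Subgroup.mem_centralizer_iff.mp (hVZ hb).2) a (hVP ha)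
  have hVn : V.Normal := Subgroup.normalClosure_normal
  rw [isPReducedNormal_iff]
  refine ⟨hVn, ⟨?_, ?_⟩, ?_⟩
  · apply isMulCommutative_of_le_centralizer
    intro a ha
    rw [Subgroup.mem_centralizer_iff]
    intro b hb
    exact hVcomm b hb a ha
  · apply pow_eq_one_of_mem_normalClosure p _ _ hVcomm
    rintro _ ⟨y, hy, rfl⟩
    have := hXE.2 y hy
    have h3 := congrArg Subtype.val this
    simpa using h3
  · intro D hDn hCD hDp
    have hCn : (Subgroup.centralizer (V : Set L)).Normal := inferInstance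
    -- (a) D ∩ R centralizes X
    have hXc : (Subgroup.centralizer ((X : Subgroup ↥R) : Set ↥R)).Normal := inferInstance
    have hDR : (D.subgroupOf R).Normal := inferInstance
    have ha : D.subgroupOf R ⊔ Subgroup.centralizer ((X : Subgroup ↥R) : Set ↥R) ≤
        Subgroup.centralizer ((X : Subgroup ↥R) : Set ↥R) := by
      apply hXN _ inferInstance le_sup_right
      intro x hx
      rw [Subgroup.mem_sup_of_normal_right] at hx
      obtain ⟨d, hd, c, hc, rfl⟩ := hx
      obtain ⟨k, hk⟩ := hDp (d : L) hd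
      refine ⟨k, ?_⟩
      have hdk : d ^ (p ^ k) ∈ Subgroup.centralizer ((X : Subgroup ↥R) : Set ↥R) := by
        rw [Subgroup.mem_centralizer_iff]
        intro y hy
        have hyV : (y : L) ∈ V := Subgroup.le_normalClosure (⟨y, hy, rfl⟩ : (y : L) ∈ X')
        have := (Subgroup.mem_centralizer_iff.mp hk) (y : L) hyV
        apply Subtype.ext
        simpa using this
      rw [← QuotientGroup.eq_one_iff, QuotientGroup.mk_pow, QuotientGroup.mk_mul,
        (QuotientGroup.eq_one_iff c).mpr hc, mul_one, ← QuotientGroup.mk_pow,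
        QuotientGroup.eq_one_iff]
      exact hdk
    have ha' : ∀ d ∈ D, d ∈ R → ∀ x ∈ X', d * x = x * d := by
      intro d hd hdR x hx
      have h1 : (⟨d, hdR⟩ : ↥R) ∈ Subgroup.centralizer ((X : Subgroup ↥R) : Set ↥R) :=
        ha (le_sup_left (a := D.subgroupOf R) (show (⟨d, hdR⟩ : ↥R) ∈ D.subgroupOf R from hd))
      obtain ⟨y, hy, rfl⟩ := hx
      have := (Subgroup.mem_centralizer_iff.mp h1) y hy
      have h3 := congrArg Subtype.val this
      simpa using h3.symm
    -- (b) D ≤ T C
    have hb := exists_sylow_mul_of_pgroup_quot T (Subgroup.centralizer (V : Set L)) D hDn hDp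
    -- (c) D centralizes X'
    have hc : D ≤ Subgroup.centralizer (X' : Set L) := by
      intro d hd
      obtain ⟨t, ht, c, hc, rfl⟩ := hb d hd
      have htD : t ∈ D := by
        have : t = (t * c) * c⁻¹ := by group
        rw [this]
        exact D.mul_mem hd (D.inv_mem (hCD hc))
      rw [Subgroup.mem_centralizer_iff]
      intro x hx
      have h1 := ha' t htD (hTR ht) x hx
      have h2 := (Subgroup.mem_centralizer_iff.mp hc) x (Subgroup.le_normalClosure hx)
      calc x * (t * c) = (x * t) * c := by group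
        _ = (t * x) * c := by rw [h1]
        _ = t * (x * c) := by group
        _ = t * (c * x) := by rw [h2]
        _ = t * c * x := by group
    exact le_centralizer_normalClosure D hDn _ hc

end Cfsg.Agent.Lib.Helper16
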