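import Cfsg.Prelude.Def_LocalStructure
import Cfsg.Agent.Lib.Helper16.PReducedClosure
import Cfsg.Agent.Lib.Helper16.SylowNormal

set_option autoImplicit false
open Cfsg
open scoped commutatorElement

namespace Cfsg.Agent.Lib.Helper16

/-- In a finite group, `Y_L` is itself `p`-reduced normal. -/
theorem largestPReduced_isPReducedNormal {L : Type*} [Group L] [Finite L] (p : ℕ) [Fact p.Prime] :
    Cfsg.IsPReducedNormal p (Cfsg.largestPReduced p L) := by
  obtain ⟨Y, hY, hmax⟩ := exists_largest_isPReducedNormal (L := L) p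
  have : Cfsg.largestPReduced p L = Y := by
    unfold Cfsg.largestPReduced
    apply le_antisymm
    · exact sSup_le (fun V hV => hmax V hV)
    · exact le_sSup hY
  rw [this]; exact hY

theorem le_largestPReduced {L : Type*} [Group L] {p : ℕ} {V : Subgroup L}
    (hV : Cfsg.IsPReducedNormal p V) : V ≤ Cfsg.largestPReduced p L :=
  le_sSup hV

/-- A central subgroup of exponent `p` is `p`-reduced normal. -/
theorem isPReducedNormal_of_le_center {G : Type*} [Group G] (p : ℕ) (X : Subgroup G)
    (hX : X ≤ Subgroup.center G) (hp : ∀ x ∈ X, x ^ p = 1) : Cfsg.IsPReducedNormal p X := by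
  rw [isPReducedNormal_iff]
  have hcent : Subgroup.centralizer (X : Set G) = ⊤ := by
    rw [eq_top_iff]
    intro g _
    rw [Subgroup.mem_centralizer_iff]
    intro x hx
    exact ((Subgroup.mem_center_iff.mp (hX hx)) g).symm
  refine ⟨⟨?_⟩, ⟨?_, hp⟩, ?_⟩
  · intro x hx g
    have := (Subgroup.mem_center_iff.mp (hX hx)) g
    have h2 : g * x * g⁻¹ = x := by rw [this]; group
    rw [h2]; exact hx
  · apply isMulCommutative_of_le_centralizer
    rw [hcent]; exact le_top
  · intro N _ _ _
    rw [hcent]; exact le_top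

/-- Centralizing passes from a subgroup to the ambient group. -/
theorem map_subtype_le_centralizer {H : Type*} [Group H] (L : Subgroup H) (A B : Subgroup ↥L)
    (h : A ≤ Subgroup.centralizer (B : Set ↥L)) :
    A.map L.subtype ≤ Subgroup.centralizer ((B.map L.subtype : Subgroup H) : Set H) := by
  rintro _ ⟨a, ha, rfl⟩
  rw [Subgroup.mem_centralizer_iff]
  rintro _ ⟨b, hb, rfl⟩
  have := (Subgroup.mem_centralizer_iff.mp (h ha)) b hb
  have h3 := congrArg Subtype.val this
  simpa using h3

/-- A normal subgroup of `L` is normalized by `L` in the ambient group. -/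
theorem le_normalizer_map_subtype_of_normal {H : Type*} [Group H] (L : Subgroup H)
    (Y : Subgroup ↥L) (hY : Y.Normal) :
    L ≤ Subgroup.normalizer ((Y.map L.subtype : Subgroup H) : Set H) := by
  intro l hl
  have key : ∀ l ∈ L, ∀ g ∈ Y.map L.subtype, l * g * l⁻¹ ∈ Y.map L.subtype := by
    rintro l hl _ ⟨y, hy, rfl⟩
    exact ⟨⟨l, hl⟩ * y * ⟨l, hl⟩⁻¹, hY.conj_mem y hy ⟨l, hl⟩, rfl⟩
  rw [Subgroup.mem_normalizer_iff]
  intro g
  constructor
  · exact key l hl g
  · intro h
    have := key l⁻¹ (L.inv_mem hl) _ h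
    simpa [mul_assoc] using this

/-- The normalizer of a subgroup normalizes its centralizer. -/
theorem normalizer_le_normalizer_centralizer {H : Type*} [Group H] (Y : Subgroup H) :
    Subgroup.normalizer (Y : Set H) ≤
      Subgroup.normalizer ((Subgroup.centralizer (Y : Set H) : Subgroup H) : Set H) := by
  have := Subgroup.normal_subgroupOf_centralizer_normalizer (Y : Set H)
  exact (Subgroup.normal_subgroupOf_iff_le_normalizer
    (Subgroup.centralizer_le_normalizer (Y : Set H))).mp this

end Cfsg.Agent.Lib.Helper16
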