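import Cfsg.Prelude.Def_LocalEven
import Cfsg.Agent.Lib.Helper16.PCore

set_option autoImplicit false
open Cfsg
open scoped commutatorElement

namespace Cfsg.Agent.Lib.Helper16

/-- `O_p(L / C) = 1` expressed inside `L`: every normal subgroup `N ≥ C` that is a `p`-group
modulo `C` equals `C`. -/
theorem pCore_quot_eq_bot_iff {L : Type*} [Group L] (p : ℕ) (C : Subgroup L) [C.Normal] :
    Cfsg.pCore p (L ⧸ C) = ⊥ ↔
      ∀ N : Subgroup L, N.Normal → C ≤ N → (∀ x ∈ N, ∃ k : ℕ, x ^ (p ^ k) ∈ C) → N ≤ C := by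
  constructor
  · intro h N hN _ hp
    have hmapn : (N.map (QuotientGroup.mk' C)).Normal :=
      Subgroup.Normal.map hN _ (QuotientGroup.mk'_surjective C)
    have hmapp : IsPGroup p (N.map (QuotientGroup.mk' C)) := by
      rintro ⟨_, ⟨x, hx, rfl⟩⟩
      obtain ⟨k, hk⟩ := hp x hx
      refine ⟨k, ?_⟩
      apply Subtype.ext
      simp only [SubgroupClass.coe_pow, Subgroup.coe_one, QuotientGroup.mk'_apply]
      rw [← QuotientGroup.mk_pow, QuotientGroup.eq_one_iff]
      exact hk
    have hle := le_pCore hmapn hmapp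
    rw [h, le_bot_iff] at hle
    intro x hx
    have : QuotientGroup.mk' C x ∈ N.map (QuotientGroup.mk' C) := Subgroup.mem_map_of_mem _ hx
    rw [hle, Subgroup.mem_bot] at this
    simpa [QuotientGroup.eq_one_iff] using this
  · intro h
    unfold Cfsg.pCore
    rw [eq_bot_iff]
    apply sSup_le
    rintro Q ⟨hQn, hQp⟩
    have hcomap_n : (Q.comap (QuotientGroup.mk' C)).Normal := hQn.comap _
    have hCle : C ≤ Q.comap (QuotientGroup.mk' C) := by
      intro x hx
      rw [Subgroup.mem_comap]
      have : QuotientGroup.mk' C x = 1 := by simpa [QuotientGroup.eq_one_iff] using hx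
      rw [this]; exact Q.one_mem
    have hp : ∀ x ∈ Q.comap (QuotientGroup.mk' C), ∃ k : ℕ, x ^ (p ^ k) ∈ C := by
      intro x hx
      rw [Subgroup.mem_comap] at hx
      obtain ⟨k, hk⟩ := hQp ⟨_, hx⟩
      refine ⟨k, ?_⟩
      have := congrArg Subtype.val hk
      simp only [SubgroupClass.coe_pow, Subgroup.coe_one, QuotientGroup.mk'_apply] at this
      rw [← QuotientGroup.mk_pow, QuotientGroup.eq_one_iff] at this
      exact this
    have hle := h _ hcomap_n hCle hp
    intro q hq
    obtain ⟨x, rfl⟩ := QuotientGroup.mk'_surjective C q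
    have hx : x ∈ Q.comap (QuotientGroup.mk' C) := hq
    have := hle hx
    rw [Subgroup.mem_bot]
    simpa [QuotientGroup.eq_one_iff] using this


/-- Usable form of `IsPReducedNormal` (no quotient groups). -/
theorem isPReducedNormal_iff {L : Type*} [Group L] (p : ℕ) (V : Subgroup L) :
    Cfsg.IsPReducedNormal p V ↔ V.Normal ∧ Cfsg.IsElementaryAbelian p V ∧
      ∀ N : Subgroup L, N.Normal → Subgroup.centralizer (V : Set L) ≤ N →
        (∀ x ∈ N, ∃ k : ℕ, x ^ (p ^ k) ∈ Subgroup.centralizer (V : Set L)) →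
          N ≤ Subgroup.centralizer (V : Set L) := by
  unfold Cfsg.IsPReducedNormal
  constructor
  · rintro ⟨hV, hE, hC, h⟩
    exact ⟨hV, hE, (pCore_quot_eq_bot_iff p _).mp h⟩
  · rintro ⟨hV, hE, h⟩
    have := hV
    exact ⟨hV, hE, inferInstance, (pCore_quot_eq_bot_iff p _).mpr h⟩

/-- An elementary abelian `p`-subgroup is a `p`-group. -/
theorem isElementaryAbelian_isPGroup {L : Type*} [Group L] {p : ℕ} {V : Subgroup L}
    (h : Cfsg.IsElementaryAbelian p V) : IsPGroup p V := by
  rintro ⟨x, hx⟩
  refine ⟨1, ?_⟩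
  apply Subtype.ext
  simpa using h.2 x hx

/-- An abelian subgroup lies in its own centralizer. -/
theorem le_centralizer_of_isMulCommutative {L : Type*} [Group L] {V : Subgroup L}
    (h : IsMulCommutative V) : V ≤ Subgroup.centralizer (V : Set L) := by
  intro x hx
  rw [Subgroup.mem_centralizer_iff]
  intro y hy
  have := h.is_comm.comm ⟨y, hy⟩ ⟨x, hx⟩
  exact congrArg Subtype.val this

/-- A subgroup inside its own centralizer is abelian. -/
theorem isMulCommutative_of_le_centralizer {L : Type*} [Group L] {V : Subgroup L}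
    (h : V ≤ Subgroup.centralizer (V : Set L)) : IsMulCommutative V := by
  refine ⟨⟨?_⟩⟩
  rintro ⟨x, hx⟩ ⟨y, hy⟩
  apply Subtype.ext
  have := (Subgroup.mem_centralizer_iff.mp (h hy)) x hx
  exact this

/-- A `p`-reduced normal subgroup lies in the `p`-core. -/
theorem isPReducedNormal_le_pCore {L : Type*} [Group L] {p : ℕ} {V : Subgroup L}
    (h : Cfsg.IsPReducedNormal p V) : V ≤ Cfsg.pCore p L :=
  Cfsg.Agent.Lib.Helper16.le_pCore h.1 (isElementaryAbelian_isPGroup h.2.1)

/-- The `p`-core of a finite group centralizes every `p`-reduced normal subgroup. -/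
theorem isPReducedNormal_pCore_le_centralizer {L : Type*} [Group L] [Finite L] {p : ℕ}
    [Fact p.Prime] {V : Subgroup L} (h : Cfsg.IsPReducedNormal p V) :
    Cfsg.pCore p L ≤ Subgroup.centralizer (V : Set L) := by
  obtain ⟨hV, hE, hN⟩ := (isPReducedNormal_iff p V).mp h
  have := hV
  have := pCore_normal p L
  have hle := hN (Cfsg.pCore p L ⊔ Subgroup.centralizer (V : Set L)) inferInstance le_sup_right ?_
  · exact le_sup_left.trans hle
  · intro x hx
    rw [Subgroup.mem_sup_of_normal_right] at hx
    obtain ⟨y, hy, z, hz, rfl⟩ := hx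
    obtain ⟨k, hk⟩ := exists_pow_eq_one_of_mem (pCore_isPGroup p L) hy
    refine ⟨k, ?_⟩
    rw [← QuotientGroup.eq_one_iff, QuotientGroup.mk_pow, QuotientGroup.mk_mul,
      (QuotientGroup.eq_one_iff z).mpr hz, mul_one, ← QuotientGroup.mk_pow, hk]
    rfl

/-- The trivial subgroup is `p`-reduced normal. -/
theorem isPReducedNormal_bot {L : Type*} [Group L] (p : ℕ) :
    Cfsg.IsPReducedNormal p (⊥ : Subgroup L) := by
  rw [isPReducedNormal_iff]
  refine ⟨inferInstance, ⟨?_, ?_⟩, ?_⟩
  · apply isMulCommutative_of_le_centralizer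
    exact bot_le
  · intro a ha
    rw [Subgroup.mem_bot] at ha
    subst ha; simp
  · intro N _ _ _ x _
    rw [Subgroup.mem_centralizer_iff]
    intro y hy
    have : y = 1 := by simpa using hy
    subst this; simp

/-- The join of two `p`-reduced normal subgroups of a finite group is `p`-reduced normal. -/
theorem isPReducedNormal_sup {L : Type*} [Group L] [Finite L] {p : ℕ} [Fact p.Prime]
    {V W : Subgroup L} (hV : Cfsg.IsPReducedNormal p V) (hW : Cfsg.IsPReducedNormal p W) :
    Cfsg.IsPReducedNormal p (V ⊔ W) := by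
  obtain ⟨hVn, hVE, hVN⟩ := (isPReducedNormal_iff p V).mp hV
  obtain ⟨hWn, hWE, hWN⟩ := (isPReducedNormal_iff p W).mp hW
  have := hVn
  have := hWn
  have hVW : V ≤ Subgroup.centralizer (W : Set L) := (isPReducedNormal_le_pCore hV).trans (isPReducedNormal_pCore_le_centralizer hW)
  have hWV : W ≤ Subgroup.centralizer (V : Set L) := (isPReducedNormal_le_pCore hW).trans (isPReducedNormal_pCore_le_centralizer hV)
  have hcent : Subgroup.centralizer ((V ⊔ W : Subgroup L) : Set L) =
      Subgroup.centralizer (V : Set L) ⊓ Subgroup.centralizer (W : Set L) := by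
    rw [Subgroup.sup_eq_closure, Subgroup.centralizer_closure]
    ext x
    simp only [Subgroup.mem_centralizer_iff, Subgroup.mem_inf, Set.mem_union]
    constructor
    · intro h
      exact ⟨fun y hy => h y (Or.inl hy), fun y hy => h y (Or.inr hy)⟩
    · rintro ⟨h1, h2⟩ y (hy | hy)
      · exact h1 y hy
      · exact h2 y hy
  rw [isPReducedNormal_iff]
  refine ⟨inferInstance, ⟨?_, ?_⟩, ?_⟩
  · apply isMulCommutative_of_le_centralizer
    rw [hcent]
    apply sup_le
    · exact le_inf (le_centralizer_of_isMulCommutative hVE.1) hVW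
    · exact le_inf hWV (le_centralizer_of_isMulCommutative hWE.1)
  · intro a ha
    rw [Subgroup.mem_sup_of_normal_right] at ha
    obtain ⟨y, hy, z, hz, rfl⟩ := ha
    have hc : Commute y z := by
      have := (Subgroup.mem_centralizer_iff.mp (hVW hy)) z hz
      exact this.symm
    rw [hc.mul_pow, hVE.2 y hy, hWE.2 z hz, one_mul]
  · intro N hN hle hp
    have := hN
    rw [hcent] at hle hp ⊢
    apply le_inf
    · have := hVN (N ⊔ Subgroup.centralizer (V : Set L)) inferInstance le_sup_right ?_
      · exact le_sup_left.trans this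
      · intro x hx
        rw [Subgroup.mem_sup_of_normal_right] at hx
        obtain ⟨y, hy, z, hz, rfl⟩ := hx
        obtain ⟨k, hk⟩ := hp y hy
        refine ⟨k, ?_⟩
        rw [← QuotientGroup.eq_one_iff, QuotientGroup.mk_pow, QuotientGroup.mk_mul,
          (QuotientGroup.eq_one_iff z).mpr hz, mul_one, ← QuotientGroup.mk_pow,
          QuotientGroup.eq_one_iff]
        exact hk.1
    · have := hWN (N ⊔ Subgroup.centralizer (W : Set L)) inferInstance le_sup_right ?_
      · exact le_sup_left.trans this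
      · intro x hx
        rw [Subgroup.mem_sup_of_normal_right] at hx
        obtain ⟨y, hy, z, hz, rfl⟩ := hx
        obtain ⟨k, hk⟩ := hp y hy
        refine ⟨k, ?_⟩
        rw [← QuotientGroup.eq_one_iff, QuotientGroup.mk_pow, QuotientGroup.mk_mul,
          (QuotientGroup.eq_one_iff z).mpr hz, mul_one, ← QuotientGroup.mk_pow,
          QuotientGroup.eq_one_iff]
        exact hk.2

/-- In a finite group there is a largest `p`-reduced normal subgroup. -/
theorem exists_largest_isPReducedNormal {L : Type*} [Group L] [Finite L] (p : ℕ) [Fact p.Prime] :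
    ∃ Y : Subgroup L, Cfsg.IsPReducedNormal p Y ∧
      ∀ V : Subgroup L, Cfsg.IsPReducedNormal p V → V ≤ Y := by
  obtain ⟨Y, _, hY⟩ := Finite.exists_le_maximal (p := fun V : Subgroup L => Cfsg.IsPReducedNormal p V)
    (isPReducedNormal_bot (L := L) p)
  refine ⟨Y, hY.prop, fun V hV => ?_⟩
  have h1 : Cfsg.IsPReducedNormal p (Y ⊔ V) := isPReducedNormal_sup hY.prop hV
  have h2 : Y ⊔ V ≤ Y := hY.le_of_ge h1 le_sup_left
  exact le_sup_right.trans h2

end Cfsg.Agent.Lib.Helper16
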