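import Cfsg.Agent.Lib.Helper16.ResidualQuot
import Cfsg.Agent.Lib.Helper16.PReduced

set_option autoImplicit false
open Cfsg
open scoped commutatorElement Pointwise IsMulCommutative

namespace Cfsg.Agent.Lib.Helper16

/-- **Averaging over a Sylow subgroup.**  Let `V` be a normal elementary abelian `p`-subgroup of
the finite group `H`, `T` a Sylow `p`-subgroup, and `R` a normal subgroup with `R T = H`.  Then
every `x ∈ C_V(T)` is a product `a w` with `a ∈ V ∩ Z(H)` and `w ∈ C_{[V,R]}(T)`. -/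
theorem exists_center_mul_commutator {H : Type*} [Group H] [Finite H] {p : ℕ} [Fact p.Prime]
    (T : Sylow p H) (V : Subgroup H) [hVn : V.Normal] (hV : Cfsg.IsElementaryAbelian p V)
    (R : Subgroup H) [hRn : R.Normal] (hRT : R ⊔ (T : Subgroup H) = ⊤) (x : H) (hxV : x ∈ V)
    (hxT : x ∈ Subgroup.centralizer ((T : Subgroup H) : Set H)) :
    ∃ a w : H, a ∈ V ∧ a ∈ Subgroup.center H ∧ w ∈ ⁅V, R⁆ ∧
      w ∈ Subgroup.centralizer ((T : Subgroup H) : Set H) ∧ x = a * w := by
  classical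
  have : IsMulCommutative ↥V := hV.1
  let _ : Fintype (H ⧸ (T : Subgroup H)) := Fintype.ofFinite _
  have hp : p.Prime := Fact.out
  let X : ↥V := ⟨x, hxV⟩
  let ψ : H → ↥V := fun g => ⟨g * x * g⁻¹, hVn.conj_mem x hxV g⟩
  have hψ : ∀ g t, t ∈ (T : Subgroup H) → ψ (g * t) = ψ g := by
    intro g t ht
    apply Subtype.ext
    show g * t * x * (g * t)⁻¹ = g * x * g⁻¹
    have : t * x = x * t := Subgroup.mem_centralizer_iff.mp hxT t ht
    rw [mul_inv_rev, mul_assoc g t x, this]; group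
  set a : ↥V := ∏ q : H ⧸ (T : Subgroup H), ψ q.out with ha_def
  -- invariance of `a`
  have ha : ∀ h : H, h * (a : H) * h⁻¹ = a := by
    intro h
    have h2 : ∀ q : H ⧸ (T : Subgroup H),
        (MulAut.conjNormal h : MulAut ↥V) (ψ q.out) = ψ ((h • q).out) := by
      intro q
      have hq : h • q = QuotientGroup.mk (h * q.out) := by
        conv_lhs => rw [← QuotientGroup.out_eq' q]
        rfl
      obtain ⟨t, ht⟩ := QuotientGroup.mk_out_eq_mul (T : Subgroup H) (h * q.out)
      rw [hq, ht, hψ _ _ t.2]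
      apply Subtype.ext
      rw [MulAut.conjNormal_apply]
      show h * (q.out * x * q.out⁻¹) * h⁻¹ = h * q.out * x * (h * q.out)⁻¹
      group
    have h1 : (MulAut.conjNormal h : MulAut ↥V) a = a := by
      rw [ha_def, map_prod, Fintype.prod_congr _ _ h2]
      exact Fintype.prod_equiv (MulAction.toPerm h) _ _ (fun q => rfl)
    have := congrArg Subtype.val h1
    rw [MulAut.conjNormal_apply] at this
    exact this
  -- decomposition `a = X ^ n * w'`
  let c : H → ↥V := fun g => X⁻¹ * ψ g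
  have hc : ∀ g : H, ((c g : ↥V) : H) ∈ ⁅V, R⁆ := by
    intro g
    have hg : g ∈ R ⊔ (T : Subgroup H) := by rw [hRT]; trivial
    rw [Subgroup.mem_sup_of_normal_left] at hg
    obtain ⟨r, hr, t, ht, rfl⟩ := hg
    have e : ((c (r * t) : ↥V) : H) = ⁅x⁻¹, r⁆ := by
      have h1 : ψ (r * t) = ψ r := hψ r t ht
      show ((X⁻¹ * ψ (r * t) : ↥V) : H) = _
      rw [h1]
      show x⁻¹ * (r * x * r⁻¹) = _
      rw [commutatorElement_def]; group
    rw [e]
    exact Subgroup.commutator_mem_commutator (V.inv_mem hxV) hr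
  set w' : ↥V := ∏ q : H ⧸ (T : Subgroup H), c q.out with hw'_def
  have hw' : (w' : H) ∈ ⁅V, R⁆ := by
    have : w' ∈ (⁅V, R⁆).subgroupOf V := by
      rw [hw'_def]
      apply Subgroup.prod_mem
      intro q _
      exact hc q.out
    exact this
  set n := Fintype.card (H ⧸ (T : Subgroup H)) with hn
  have haX : a = X ^ n * w' := by
    have hXn : (∏ _q : H ⧸ (T : Subgroup H), X) = X ^ n := by
      rw [Finset.prod_const, Finset.card_univ]
    rw [ha_def, hw'_def, ← hXn, ← Finset.prod_mul_distrib]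
    apply Fintype.prod_congr
    intro q
    show ψ q.out = X * (X⁻¹ * ψ q.out)
    rw [mul_inv_cancel_left]
  have hncop : Nat.Coprime n p := by
    have h1 : n = (T : Subgroup H).index := by
      rw [hn, Subgroup.index_eq_card, Nat.card_eq_fintype_card]
    rw [h1]
    exact ((Nat.Prime.coprime_iff_not_dvd hp).mpr T.not_dvd_index).symm
  obtain ⟨m, -, hm⟩ := Nat.exists_mul_mod_eq_one_of_coprime hncop hp.one_lt
  have hXp : X ^ p = 1 := by
    apply Subtype.ext
    exact hV.2 x hxV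
  have hX : X = (a * w'⁻¹) ^ m := by
    have : a * w'⁻¹ = X ^ n := by rw [haX]; exact mul_inv_cancel_right _ _
    rw [this, ← pow_mul, pow_eq_pow_mod (n * m) hXp, hm, pow_one]
  have hX' : X = a ^ m * (w'⁻¹) ^ m := by rw [hX, mul_pow]
  refine ⟨((a ^ m : ↥V) : H), (((w'⁻¹) ^ m : ↥V) : H), (a ^ m).2, ?_, ?_, ?_, ?_⟩
  · rw [Subgroup.mem_center_iff]
    intro g
    have h1 : g * ((a : H) ^ m) * g⁻¹ = (a : H) ^ m := by
      rw [← conj_pow, ha g]
    have h2 : ((a ^ m : ↥V) : H) = (a : H) ^ m := rfl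
    rw [h2]
    calc g * (a : H) ^ m = (g * (a : H) ^ m * g⁻¹) * g := by group
      _ = (a : H) ^ m * g := by rw [h1]
  · have : (((w'⁻¹) ^ m : ↥V) : H) = ((w' : H)⁻¹) ^ m := rfl
    rw [this]
    exact Subgroup.pow_mem _ (Subgroup.inv_mem _ hw') m
  · -- `w'' = a'⁻¹ x` commutes with `T`
    have e : (((w'⁻¹) ^ m : ↥V) : H) = ((a ^ m : ↥V) : H)⁻¹ * x := by
      have := congrArg Subtype.val hX'
      have h3 : x = ((a ^ m : ↥V) : H) * (((w'⁻¹) ^ m : ↥V) : H) := this
      rw [h3]; group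
    rw [e]
    apply Subgroup.mul_mem _ _ hxT
    apply Subgroup.inv_mem
    rw [Subgroup.mem_centralizer_iff]
    intro t _
    have h1 : t * ((a : H) ^ m) * t⁻¹ = (a : H) ^ m := by
      rw [← conj_pow, ha t]
    have h2 : ((a ^ m : ↥V) : H) = (a : H) ^ m := rfl
    rw [h2]
    calc t * (a : H) ^ m = (t * (a : H) ^ m * t⁻¹) * t := by group
      _ = (a : H) ^ m * t := by rw [h1]
  · exact congrArg Subtype.val hX'

end Cfsg.Agent.Lib.Helper16
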