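import Mathlib

set_option autoImplicit false
set_option maxHeartbeats 1000000

/-!
Finite groups in which the centralizer of every non-central element is a maximal subgroup
(helper16): basic lemmas.

* `linked`: commuting non-central elements with different centralizers have the same prime
  order modulo the centre;
* `exponent_of_nonabelian`: a non-abelian centralizer has prime exponent modulo the centre;
* `index_prime_of_normal_coatom`, `coatom_normal_of_isPGroup`;
* `caseA`: if all centralizers are normal, the central quotient is elementary abelian.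
-/

namespace Cfsg.Agent.Lib.Helper16.CentMax

open scoped commutatorElement

variable {G : Type*} [Group G]

/-- centralizer of a single element -/
abbrev cz (x : G) : Subgroup G := Subgroup.centralizer ({x} : Set G)

/-- the hypothesis: centralizers of non-central elements are maximal subgroups -/
def Hyp (G : Type*) [Group G] : Prop :=
  ∀ x : G, x ∉ Subgroup.center G → IsCoatom (Subgroup.centralizer ({x} : Set G))

/-- order of the image in the central quotient -/
noncomputable abbrev om (x : G) : ℕ := orderOf (QuotientGroup.mk' (Subgroup.center G) x)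

theorem mem_cz {x g : G} : g ∈ cz x ↔ g * x = x * g := Subgroup.mem_centralizer_singleton_iff

theorem self_mem_cz (x : G) : x ∈ cz x := mem_cz.mpr rfl

theorem center_le_cz (x : G) : Subgroup.center G ≤ cz x := Subgroup.center_le_centralizer _

theorem cz_ne_top {x : G} (hx : x ∉ Subgroup.center G) : cz x ≠ ⊤ := by
  intro h
  apply hx
  rw [Subgroup.mem_center_iff]
  intro g
  have : g ∈ cz x := h ▸ Subgroup.mem_top g
  exact mem_cz.mp this

theorem cz_eq_top {x : G} (hx : x ∈ Subgroup.center G) : cz x = ⊤ := by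
  rw [eq_top_iff]
  intro g _
  exact mem_cz.mpr (Subgroup.mem_center_iff.mp hx g)

theorem cz_eq_of_le (h : Hyp G) {x a : G} (hx : x ∉ Subgroup.center G)
    (ha : a ∉ Subgroup.center G) (hle : cz x ≤ cz a) : cz a = cz x := by
  rcases (h x hx).le_iff.mp hle with h1 | h1
  · exact absurd h1 (cz_ne_top ha)
  · exact h1

theorem cz_pow (h : Hyp G) {x : G} (hx : x ∉ Subgroup.center G) {k : ℕ}
    (hk : x ^ k ∉ Subgroup.center G) : cz (x ^ k) = cz x := by
  apply cz_eq_of_le h hx hk
  intro m hm
  exact mem_cz.mpr ((show Commute m x from mem_cz.mp hm).pow_right k).eq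

theorem cz_central_mul {z u : G} (hz : z ∈ Subgroup.center G) : cz (z * u) = cz u := by
  ext g
  rw [mem_cz, mem_cz]
  have hzg : g * z = z * g := Subgroup.mem_center_iff.mp hz g
  constructor
  · intro h1
    have h2 : z * (g * u) = z * (u * g) := by
      calc z * (g * u) = g * (z * u) := by rw [← mul_assoc z g u, ← hzg, mul_assoc g z u]
        _ = z * u * g := h1
        _ = z * (u * g) := mul_assoc z u g
    exact mul_left_cancel h2
  · intro h1
    calc g * (z * u) = z * (g * u) := by rw [← mul_assoc g z u, hzg, mul_assoc z g u]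
      _ = z * (u * g) := by rw [h1]
      _ = z * u * g := (mul_assoc z u g).symm

theorem pow_mem_center_iff (x : G) (k : ℕ) :
    x ^ k ∈ Subgroup.center G ↔ om x ∣ k := by
  rw [orderOf_dvd_iff_pow_eq_one, ← map_pow, QuotientGroup.mk'_apply, QuotientGroup.eq_one_iff]

theorem om_ne_one {x : G} (hx : x ∉ Subgroup.center G) : om x ≠ 1 := by
  intro h
  apply hx
  have := (pow_mem_center_iff x 1).mpr (by rw [h])
  rwa [pow_one] at this

theorem om_eq_of_prime {x : G} (hx : x ∉ Subgroup.center G) {p : ℕ} (hp : p.Prime)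
    (hxp : x ^ p ∈ Subgroup.center G) : om x = p := by
  have h1 := (pow_mem_center_iff x p).mp hxp
  rcases (Nat.dvd_prime hp).mp h1 with h2 | h2
  · exact absurd h2 (om_ne_one hx)
  · exact h2

/-- if `g` commutes with `x * y` and with `y`, it commutes with `x` -/
theorem comm_left_of_comm_mul {g x y : G} (h1 : g * (x * y) = x * y * g) (h2 : g * y = y * g) :
    g * x = x * g := by
  have h3 : g * x * y = x * g * y := by
    calc g * x * y = g * (x * y) := mul_assoc g x y
      _ = x * y * g := h1
      _ = x * (y * g) := mul_assoc x y g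
      _ = x * (g * y) := by rw [h2]
      _ = x * g * y := (mul_assoc x g y).symm
  exact mul_right_cancel h3

/-- if `g` commutes with `x * y` and with `x`, it commutes with `y` -/
theorem comm_right_of_comm_mul {g x y : G} (h1 : g * (x * y) = x * y * g) (h2 : g * x = x * g) :
    g * y = y * g := by
  have h3 : x * (g * y) = x * (y * g) := by
    calc x * (g * y) = x * g * y := (mul_assoc x g y).symm
      _ = g * x * y := by rw [h2]
      _ = g * (x * y) := mul_assoc g x y
      _ = x * y * g := h1
      _ = x * (y * g) := mul_assoc x y g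
  exact mul_left_cancel h3

theorem linked_aux (h : Hyp G) [Finite G] {x y : G} (hx : x ∉ Subgroup.center G)
    (hy : y ∉ Subgroup.center G) (hc : x * y = y * x) (hne : cz x ≠ cz y) :
    ¬ om x < om y := by
  intro hlt
  have hapos : 0 < om x := orderOf_pos _
  have hxa : x ^ om x ∈ Subgroup.center G := (pow_mem_center_iff x _).mpr dvd_rfl
  have hya : y ^ om x ∉ Subgroup.center G := by
    intro h1
    have := Nat.le_of_dvd hapos ((pow_mem_center_iff y _).mp h1)
    omega
  have hxy : x * y ∉ Subgroup.center G := by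
    intro hz
    apply hne
    symm
    apply cz_eq_of_le h hx hy
    intro g hg
    rw [mem_cz] at hg ⊢
    exact comm_right_of_comm_mul (Subgroup.mem_center_iff.mp hz g) hg
  have hw : (x * y) ^ om x = x ^ om x * y ^ om x := (show Commute x y from hc).mul_pow _
  have hcw : cz ((x * y) ^ om x) = cz y := by
    rw [hw, cz_central_mul hxa, cz_pow h hy hya]
  have hwZ : (x * y) ^ om x ∉ Subgroup.center G := by
    intro h1
    exact cz_ne_top hy (hcw ▸ cz_eq_top h1)
  have hcxy : cz (x * y) = cz y := by
    rw [← cz_pow h hxy hwZ, hcw]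
  apply hne
  apply cz_eq_of_le h hy hx
  intro g hg
  have hg1 : g ∈ cz (x * y) := hcxy ▸ hg
  rw [mem_cz] at hg hg1 ⊢
  exact comm_left_of_comm_mul hg1 hg

/-- commuting non-central elements with different centralizers have the same prime order modulo
the centre -/
theorem linked (h : Hyp G) [Finite G] {x y : G} (hx : x ∉ Subgroup.center G)
    (hy : y ∉ Subgroup.center G) (hc : x * y = y * x) (hne : cz x ≠ cz y) :
    ∃ p : ℕ, p.Prime ∧ om x = p ∧ om y = p := by
  have heq : ∀ {x y : G}, x ∉ Subgroup.center G → y ∉ Subgroup.center G → x * y = y * x →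
      cz x ≠ cz y → om x = om y := by
    intro x y hx hy hc hne
    have h1 := linked_aux h hx hy hc hne
    have h2 := linked_aux h hy hx hc.symm hne.symm
    omega
  have hxy := heq hx hy hc hne
  have h1 : om x ≠ 1 := om_ne_one hx
  have hp : (om x).minFac.Prime := Nat.minFac_prime h1
  have hdvd : (om x).minFac ∣ om x := Nat.minFac_dvd _
  have hpos : 0 < om x := orderOf_pos _
  by_cases hpn : (om x).minFac = om x
  · exact ⟨om x, hpn ▸ hp, rfl, hxy.symm⟩
  · exfalso
    have hlt : (om x).minFac < om x := lt_of_le_of_ne (Nat.le_of_dvd hpos hdvd) hpn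
    have hx' : x ^ (om x).minFac ∉ Subgroup.center G := by
      intro h2
      have := Nat.le_of_dvd hp.pos ((pow_mem_center_iff x _).mp h2)
      omega
    have hc' : x ^ (om x).minFac * y = y * x ^ (om x).minFac :=
      ((show Commute x y from hc).pow_left _).eq
    have hne' : cz (x ^ (om x).minFac) ≠ cz y := by rw [cz_pow h hx hx']; exact hne
    have h3 := heq hx' hy hc' hne'
    have h4 : om (x ^ (om x).minFac) = om x / (om x).minFac := by
      show orderOf (QuotientGroup.mk' (Subgroup.center G) (x ^ (om x).minFac)) = _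
      rw [map_pow, orderOf_pow' _ hp.ne_zero, Nat.gcd_eq_right hdvd]
    have h5 : om x / (om x).minFac < om x := Nat.div_lt_self hpos hp.one_lt
    omega

/-- a non-abelian centralizer has prime exponent modulo the centre -/
theorem exponent_of_nonabelian (h : Hyp G) [Finite G] {x : G} (hx : x ∉ Subgroup.center G)
    {y m0 : G} (hy : y ∈ cz x) (hm0 : m0 ∈ cz x) (hym : m0 * y ≠ y * m0) :
    ∃ p : ℕ, p.Prime ∧ om x = p ∧ ∀ m ∈ cz x, m ^ p ∈ Subgroup.center G := by
  have hyZ : y ∉ Subgroup.center G := fun hz => hym (Subgroup.mem_center_iff.mp hz m0)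
  have hxy : x * y = y * x := (mem_cz.mp hy).symm
  have hne : cz x ≠ cz y := by
    intro heq
    exact hym (mem_cz.mp (heq ▸ hm0))
  obtain ⟨p, hp, hxp, hyp⟩ := linked h hx hyZ hxy hne
  refine ⟨p, hp, hxp, ?_⟩
  intro m hm
  by_cases hmZ : m ∈ Subgroup.center G
  · exact Subgroup.pow_mem _ hmZ p
  · have hxm : x * m = m * x := (mem_cz.mp hm).symm
    by_cases hcm : cz x = cz m
    · have hym' : m * y = y * m := (mem_cz.mp (hcm ▸ hy : y ∈ cz m)).symm
      have hne' : cz m ≠ cz y := hcm ▸ hne
      obtain ⟨p', _, hmp', hyp'⟩ := linked h hmZ hyZ hym' hne'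
      have : p' = p := by rw [← hyp', hyp]
      rw [pow_mem_center_iff, hmp', this]
    · obtain ⟨p', _, hxp', hmp'⟩ := linked h hx hmZ hxm hcm
      have : p' = p := by rw [← hxp', hxp]
      rw [pow_mem_center_iff, hmp', this]

theorem decomp_of_normal_coatom {N : Subgroup G} [N.Normal] (hN : IsCoatom N) {t : G}
    (ht : t ∉ N) (a : G) : ∃ n ∈ N, ∃ k : ℤ, a = n * t ^ k := by
  have hsup : N ⊔ Subgroup.zpowers t = ⊤ := by
    apply hN.2
    apply lt_of_le_of_ne le_sup_left
    intro heq
    apply ht
    rw [heq]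
    exact (le_sup_right : Subgroup.zpowers t ≤ N ⊔ Subgroup.zpowers t) (Subgroup.mem_zpowers t)
  have ha : a ∈ ((N ⊔ Subgroup.zpowers t : Subgroup G) : Set G) := by
    rw [hsup]; exact Subgroup.mem_top a
  rw [Subgroup.normal_mul] at ha
  obtain ⟨n, hn, z, hz, rfl⟩ := Set.mem_mul.mp ha
  obtain ⟨k, rfl⟩ := Subgroup.mem_zpowers_iff.mp hz
  exact ⟨n, hn, k, rfl⟩

theorem index_prime_of_normal_coatom [Finite G] {N : Subgroup G} [N.Normal] (hN : IsCoatom N) :
    N.index.Prime := by
  have h1 : N.index ≠ 1 := fun h => hN.1 (Subgroup.index_eq_one.mp h)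
  have hp : (N.index.minFac).Prime := Nat.minFac_prime h1
  haveI : Fact (N.index.minFac).Prime := ⟨hp⟩
  have hdvd : N.index.minFac ∣ Nat.card (G ⧸ N) := by
    rw [← Subgroup.index_eq_card]; exact Nat.minFac_dvd _
  obtain ⟨gb, hgb⟩ := exists_prime_orderOf_dvd_card' (N.index.minFac) hdvd
  obtain ⟨g, rfl⟩ := QuotientGroup.mk_surjective gb
  have hgN : g ∉ N := by
    intro hg
    have h2 : ((g : G ⧸ N)) = 1 := (QuotientGroup.eq_one_iff g).mpr hg
    rw [h2, orderOf_one] at hgb
    exact hp.one_lt.ne hgb
  have htop : Subgroup.zpowers (g : G ⧸ N) = ⊤ := by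
    rw [eq_top_iff]
    intro a _
    obtain ⟨a0, rfl⟩ := QuotientGroup.mk_surjective a
    obtain ⟨n, hn, k, rfl⟩ := decomp_of_normal_coatom hN hgN a0
    rw [Subgroup.mem_zpowers_iff]
    refine ⟨k, ?_⟩
    rw [QuotientGroup.mk_mul, (QuotientGroup.eq_one_iff n).mpr hn, one_mul, QuotientGroup.mk_zpow]
  have hcard : Nat.card (G ⧸ N) = N.index.minFac := by
    rw [← Subgroup.card_top (G := G ⧸ N), ← htop, Nat.card_zpowers, hgb]
  have h3 : N.index = N.index.minFac := (Subgroup.index_eq_card N).trans hcard
  rw [h3]; exact hp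

theorem commutator_mem_of_normal_coatom {N : Subgroup G} [N.Normal] (hN : IsCoatom N) (a b : G) :
    ⁅a, b⁆ ∈ N := by
  obtain ⟨t, -, ht⟩ := SetLike.exists_of_lt hN.lt_top
  obtain ⟨n1, hn1, i, rfl⟩ := decomp_of_normal_coatom hN ht a
  obtain ⟨n2, hn2, j, rfl⟩ := decomp_of_normal_coatom hN ht b
  rw [← QuotientGroup.eq_one_iff, commutatorElement_def]
  have ha : ((n1 * t ^ i : G) : G ⧸ N) = (t : G ⧸ N) ^ i := by
    rw [QuotientGroup.mk_mul, (QuotientGroup.eq_one_iff n1).mpr hn1, one_mul,
      QuotientGroup.mk_zpow]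
  have hb : ((n2 * t ^ j : G) : G ⧸ N) = (t : G ⧸ N) ^ j := by
    rw [QuotientGroup.mk_mul, (QuotientGroup.eq_one_iff n2).mpr hn2, one_mul,
      QuotientGroup.mk_zpow]
  rw [QuotientGroup.mk_mul, QuotientGroup.mk_mul, QuotientGroup.mk_mul, QuotientGroup.mk_inv,
    QuotientGroup.mk_inv, ha, hb, (Commute.zpow_zpow_self (t : G ⧸ N) i j).eq]
  group

theorem coatom_normal_of_isPGroup [Finite G] {p : ℕ} (hp : p.Prime)
    (hP : IsPGroup p (G ⧸ Subgroup.center G)) {M : Subgroup G} (hM : IsCoatom M) : M.Normal := by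
  haveI : Fact p.Prime := ⟨hp⟩
  haveI : Group.IsNilpotent (G ⧸ Subgroup.center G) := hP.isNilpotent
  haveI : Group.IsNilpotent G :=
    Subgroup.isNilpotent_of_ker_le_center (QuotientGroup.mk' (Subgroup.center G))
      (by rw [QuotientGroup.ker_mk'])
  exact Subgroup.NormalizerCondition.normal_of_coatom M Group.normalizerCondition_of_isNilpotent hM

/-- normality from containing all commutators -/
theorem normal_of_commutators_mem {N : Subgroup G} (hN : ∀ a b : G, ⁅a, b⁆ ∈ N) : N.Normal := by
  refine ⟨fun n hn a => ?_⟩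
  have h1 : a * n * a⁻¹ = ⁅a, n⁆ * n := by rw [commutatorElement_def]; group
  rw [h1]
  exact N.mul_mem (hN a n) hn

end Cfsg.Agent.Lib.Helper16.CentMax
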