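import Mathlib
import Cfsg.Agent.Lib.Helper16.CentMaxA

set_option autoImplicit false
set_option maxHeartbeats 1000000

/-!
Finite groups in which the centralizer of every non-central element is a maximal subgroup
(helper16): the case of all centralizers normal, and the case where both normal and non-normal
centralizers occur.
-/

namespace Cfsg.Agent.Lib.Helper16.CentMax

open scoped commutatorElement

variable {G : Type*} [Group G]

theorem pow_mem_center_of_class_two (hc2 : ∀ a b : G, ⁅a, b⁆ ∈ Subgroup.center G) {x : G} {r : ℕ}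
    (hr : ∀ g : G, g ^ r ∈ cz x) : x ^ r ∈ Subgroup.center G := by
  rw [Subgroup.mem_center_iff]
  intro g
  obtain ⟨c, hc⟩ : ∃ c, c = g * x * g⁻¹ * x⁻¹ := ⟨_, rfl⟩
  have hcZ : c ∈ Subgroup.center G := by
    have := hc2 g x; rwa [commutatorElement_def, ← hc] at this
  have h1 : g * x * g⁻¹ = c * x := by rw [hc]; group
  have hP : ∀ n : ℕ, g ^ n * x * (g ^ n)⁻¹ = c ^ n * x := by
    intro n
    induction n with
    | zero => simp
    | succ n ih =>
      have hcn : g * c ^ n = c ^ n * g :=
        Subgroup.mem_center_iff.mp (Subgroup.pow_mem _ hcZ n) g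
      calc g ^ (n + 1) * x * (g ^ (n + 1))⁻¹ = g * (g ^ n * x * (g ^ n)⁻¹) * g⁻¹ := by
            rw [pow_succ']; group
        _ = g * (c ^ n * x) * g⁻¹ := by rw [ih]
        _ = (g * c ^ n) * (x * g⁻¹) := by group
        _ = (c ^ n * g) * (x * g⁻¹) := by rw [hcn]
        _ = c ^ n * (g * x * g⁻¹) := by group
        _ = c ^ n * (c * x) := by rw [h1]
        _ = c ^ (n + 1) * x := by rw [pow_succ, mul_assoc]
  have h2 : g ^ r * x = x * g ^ r := mem_cz.mp (hr g)
  have h3 : c ^ r * x = x := by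
    rw [← hP r, h2]; group
  have h4 : c ^ r = 1 := by
    have : c ^ r * x = 1 * x := by rw [h3, one_mul]
    exact mul_right_cancel this
  have hcx : Commute c x := (Subgroup.mem_center_iff.mp hcZ x).symm
  have h5 : g * x ^ r * g⁻¹ = x ^ r := by
    rw [← conj_pow, h1, hcx.mul_pow, h4, one_mul]
  exact mul_inv_eq_iff_eq_mul.mp h5

/-- if all centralizers of non-central elements are normal, the central quotient is elementary
abelian -/
theorem caseA (h : Hyp G) [Finite G] (hna : ∃ a b : G, a * b ≠ b * a)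
    (hall : ∀ x : G, x ∉ Subgroup.center G → (cz x).Normal) :
    ∃ p : ℕ, p.Prime ∧ (∀ a b : G ⧸ Subgroup.center G, a * b = b * a) ∧
      ∀ a : G ⧸ Subgroup.center G, a ^ p = 1 := by
  have hc2 : ∀ a b : G, ⁅a, b⁆ ∈ Subgroup.center G := by
    intro a b
    rw [Subgroup.mem_center_iff]
    intro g
    by_cases hg : g ∈ Subgroup.center G
    · exact (Subgroup.mem_center_iff.mp hg _).symm
    · haveI := hall g hg
      have := commutator_mem_of_normal_coatom (h g hg) a b
      exact (mem_cz.mp this).symm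
  have hprime : ∀ x : G, x ∉ Subgroup.center G → (om x).Prime := by
    intro x hx
    haveI := hall x hx
    have hr := index_prime_of_normal_coatom (h x hx)
    have h1 := pow_mem_center_of_class_two hc2 (fun g => Subgroup.pow_index_mem (cz x) g)
    rw [om_eq_of_prime hx hr h1]
    exact hr
  have hcomm : ∀ a b : G ⧸ Subgroup.center G, a * b = b * a := by
    intro a b
    obtain ⟨a0, rfl⟩ := QuotientGroup.mk_surjective a
    obtain ⟨b0, rfl⟩ := QuotientGroup.mk_surjective b
    rw [← QuotientGroup.mk_mul, ← QuotientGroup.mk_mul, QuotientGroup.eq]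
    have := hc2 b0⁻¹ a0⁻¹
    rw [commutatorElement_def] at this
    convert this using 1
    group
  obtain ⟨a, b, hab⟩ := hna
  have hx0 : a ∉ Subgroup.center G := fun ha => hab (Subgroup.mem_center_iff.mp ha b).symm
  refine ⟨om a, hprime a hx0, hcomm, ?_⟩
  intro gb
  obtain ⟨g, rfl⟩ := QuotientGroup.mk_surjective gb
  by_cases hg : g ∈ Subgroup.center G
  · rw [(QuotientGroup.eq_one_iff g).mpr hg, one_pow]
  · by_cases hpe : om g = om a
    · have : (QuotientGroup.mk' (Subgroup.center G) g) ^ om g = 1 := pow_orderOf_eq_one _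
      rw [hpe] at this
      exact this
    · exfalso
      have hcop : Nat.Coprime (om g) (om a) :=
        (Nat.coprime_primes (hprime g hg) (hprime a hx0)).mpr hpe
      have hcm : Commute (QuotientGroup.mk' (Subgroup.center G) g)
          (QuotientGroup.mk' (Subgroup.center G) a) := hcomm _ _
      have h1 := hcm.orderOf_mul_eq_mul_orderOf_of_coprime hcop
      have h2 : om (g * a) = om g * om a := by
        show orderOf (QuotientGroup.mk' (Subgroup.center G) (g * a)) = _
        rw [map_mul]; exact h1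
      have hga : g * a ∉ Subgroup.center G := by
        intro hz
        have h3 := (pow_mem_center_iff (g * a) 1).mp (by rwa [pow_one])
        rw [h2] at h3
        have h4 := Nat.eq_one_of_mul_eq_one_right (Nat.dvd_one.mp h3)
        exact (hprime g hg).one_lt.ne' h4
      have h3 := hprime (g * a) hga
      rw [h2] at h3
      exact Nat.not_prime_mul (hprime g hg).one_lt.ne' (hprime a hx0).one_lt.ne' h3

/-- a non-central element with non-normal centralizer does not commute with a non-central element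
with normal centralizer -/
theorem not_commute_of_normal (h : Hyp G) [Finite G] {x s : G} (hx : x ∉ Subgroup.center G)
    (hxn : ¬ (cz x).Normal) (hs : s ∉ Subgroup.center G) (hsn : (cz s).Normal) :
    x * s ≠ s * x := by
  intro hc
  have hne : cz x ≠ cz s := fun heq => hxn (heq ▸ hsn)
  obtain ⟨p, hp, hxp, hsp⟩ := linked h hx hs hc hne
  -- exponent of `cz x`
  have hsx : s ∈ cz x := mem_cz.mpr hc.symm
  have hxs : x ∈ cz s := mem_cz.mpr hc
  have hex : ∃ m ∈ cz x, m * s ≠ s * m := by
    by_contra hcon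
    push Not at hcon
    apply hne
    symm
    apply cz_eq_of_le h hx hs
    intro m hm
    exact mem_cz.mpr (hcon m hm)
  obtain ⟨m0, hm0, hm0s⟩ := hex
  obtain ⟨p1, hp1, hxp1, hexp1⟩ := exponent_of_nonabelian h hx hsx hm0 hm0s
  have hpp1 : p1 = p := by rw [← hxp1, hxp]
  have hexps : ∀ m ∈ cz s, m ^ p ∈ Subgroup.center G := by
    by_cases hab : ∃ y ∈ cz s, ∃ m ∈ cz s, m * y ≠ y * m
    · obtain ⟨y, hy, m, hm, hmy⟩ := hab
      obtain ⟨p2, hp2, hsp2, hexp2⟩ := exponent_of_nonabelian h hs hy hm hmy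
      have : p2 = p := by rw [← hsp2, hsp]
      rw [← this]; exact hexp2
    · push Not at hab
      intro m hm
      by_cases hmZ : m ∈ Subgroup.center G
      · exact Subgroup.pow_mem _ hmZ p
      · have hcm : cz m = cz s := by
          apply cz_eq_of_le h hs hmZ
          intro u hu
          exact mem_cz.mpr (hab m hm u hu)
        have hxm : x * m = m * x := by
          have : x ∈ cz m := hcm ▸ hxs
          exact mem_cz.mp this
        have hne' : cz x ≠ cz m := by rw [hcm]; exact hne
        obtain ⟨p3, _, hxp3, hmp3⟩ := linked h hx hmZ hxm hne'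
        have : p3 = p := by rw [← hxp3, hxp]
        rw [pow_mem_center_iff, hmp3, this]
  -- the central quotient is a `p`-group
  haveI : Fact p.Prime := ⟨hp⟩
  have hA : IsPGroup p ↥((cz x).map (QuotientGroup.mk' (Subgroup.center G))) := by
    rintro ⟨u, hu⟩
    obtain ⟨m, hm, rfl⟩ := Subgroup.mem_map.mp hu
    refine ⟨1, Subtype.ext ?_⟩
    rw [Subgroup.coe_pow, Subgroup.coe_one, pow_one]
    show (QuotientGroup.mk' (Subgroup.center G) m) ^ p = 1
    rw [← map_pow, QuotientGroup.mk'_apply, QuotientGroup.eq_one_iff, ← hpp1]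
    exact hexp1 m hm
  have hB : IsPGroup p ↥((cz s).map (QuotientGroup.mk' (Subgroup.center G))) := by
    rintro ⟨u, hu⟩
    obtain ⟨m, hm, rfl⟩ := Subgroup.mem_map.mp hu
    refine ⟨1, Subtype.ext ?_⟩
    rw [Subgroup.coe_pow, Subgroup.coe_one, pow_one]
    show (QuotientGroup.mk' (Subgroup.center G) m) ^ p = 1
    rw [← map_pow, QuotientGroup.mk'_apply, QuotientGroup.eq_one_iff]
    exact hexps m hm
  haveI : ((cz s).map (QuotientGroup.mk' (Subgroup.center G))).Normal :=
    Subgroup.Normal.map hsn _ (QuotientGroup.mk'_surjective _)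
  have hAB := IsPGroup.to_sup_of_normal_right hA hB
  have htop : (cz x).map (QuotientGroup.mk' (Subgroup.center G)) ⊔
      (cz s).map (QuotientGroup.mk' (Subgroup.center G)) = ⊤ := by
    rw [← Subgroup.map_sup, (h x hx).sup_eq_top_of_ne (h s hs) hne,
      Subgroup.map_top_of_surjective _ (QuotientGroup.mk'_surjective _)]
  have hP : IsPGroup p (G ⧸ Subgroup.center G) := by
    intro g
    have hg : g ∈ (cz x).map (QuotientGroup.mk' (Subgroup.center G)) ⊔
        (cz s).map (QuotientGroup.mk' (Subgroup.center G)) := by rw [htop]; exact Subgroup.mem_top g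
    obtain ⟨k, hk⟩ := hAB ⟨g, hg⟩
    refine ⟨k, ?_⟩
    have := congrArg Subtype.val hk
    rwa [Subgroup.coe_pow, Subgroup.coe_one] at this
  exact hxn (coatom_normal_of_isPGroup hp hP (h x hx))

/-- the centralizer of the commutator subgroup -/
def SS (G : Type*) [Group G] : Subgroup G :=
  Subgroup.centralizer ((commutator G : Subgroup G) : Set G)

theorem normal_of_mem_SS {g : G} (hg : g ∈ SS G) : (cz g).Normal := by
  apply normal_of_commutators_mem
  intro a b
  have h1 : ⁅a, b⁆ ∈ commutator G := by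
    rw [_root_.commutator_def]
    exact Subgroup.commutator_mem_commutator (Subgroup.mem_top a) (Subgroup.mem_top b)
  exact mem_cz.mpr ((Subgroup.mem_centralizer_iff.mp hg) ⁅a, b⁆ h1)

theorem mem_SS_of_normal (h : Hyp G) {g : G} (hg : g ∉ Subgroup.center G) (hn : (cz g).Normal) :
    g ∈ SS G := by
  rw [SS, Subgroup.mem_centralizer_iff]
  intro c hc
  have hle : commutator G ≤ cz g := by
    rw [_root_.commutator_def, Subgroup.commutator_le]
    intro a _ b _
    exact commutator_mem_of_normal_coatom (h g hg) a b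
  exact mem_cz.mp (hle hc)

theorem center_le_SS : Subgroup.center G ≤ SS G := by
  intro z hz
  rw [SS, Subgroup.mem_centralizer_iff]
  intro c _
  exact Subgroup.mem_center_iff.mp hz c

theorem caseBI (h : Hyp G) [Finite G] {x0 s0 : G} (hx0n : ¬ (cz x0).Normal)
    (hs0 : s0 ∉ Subgroup.center G) (hs0n : (cz s0).Normal) :
    SS G = cz s0 ∧ (∀ a ∈ SS G, ∀ b ∈ SS G, a * b = b * a) ∧ x0 ∉ SS G ∧
    (∀ g, g ∉ SS G → ∀ s ∈ SS G, g * s = s * g → s ∈ Subgroup.center G) := by
  have hx0S : x0 ∉ SS G := fun hmem => hx0n (normal_of_mem_SS hmem)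
  have hfpf : ∀ g, g ∉ SS G → ∀ s ∈ SS G, g * s = s * g → s ∈ Subgroup.center G := by
    intro g hg s hs hc
    by_contra hsZ
    have hgZ : g ∉ Subgroup.center G := fun hz => hg (center_le_SS hz)
    have hgn : ¬ (cz g).Normal := fun hn => hg (mem_SS_of_normal h hgZ hn)
    exact not_commute_of_normal h hgZ hgn hsZ (normal_of_mem_SS hs) hc
  have hle : ∀ s ∈ SS G, s ∉ Subgroup.center G → cz s ≤ SS G := by
    intro s hs hsZ c hc
    by_contra hcS
    exact hsZ (hfpf c hcS s hs (mem_cz.mp hc))
  have hSeq : ∀ s ∈ SS G, s ∉ Subgroup.center G → SS G = cz s := by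
    intro s hs hsZ
    rcases (h s hsZ).le_iff.mp (hle s hs hsZ) with h1 | h1
    · exact absurd (h1 ▸ Subgroup.mem_top x0) hx0S
    · exact h1
  have hs0S : s0 ∈ SS G := mem_SS_of_normal h hs0 hs0n
  refine ⟨hSeq s0 hs0S hs0, ?_, hx0S, hfpf⟩
  intro a ha b hb
  by_cases haZ : a ∈ Subgroup.center G
  · exact (Subgroup.mem_center_iff.mp haZ b).symm
  · have : b ∈ cz a := hSeq a ha haZ ▸ hb
    exact (mem_cz.mp this).symm

theorem caseBI_pgroup (h : Hyp G) [Finite G] {x0 s0 : G} (hx0 : x0 ∉ Subgroup.center G)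
    (hx0n : ¬ (cz x0).Normal) (hs0 : s0 ∉ Subgroup.center G) (hs0n : (cz s0).Normal) :
    ∃ p : ℕ, p.Prime ∧ ∀ s ∈ SS G, ∃ k : ℕ, s ^ (p ^ k) ∈ Subgroup.center G := by
  obtain ⟨hSeq, hab, hx0S, hfpf⟩ := caseBI h hx0n hs0 hs0n
  have hs0S : s0 ∈ SS G := mem_SS_of_normal h hs0 hs0n
  haveI hSn : (SS G).Normal := hSeq ▸ hs0n
  have h1 : om s0 ≠ 1 := om_ne_one hs0
  have hp : (om s0).minFac.Prime := Nat.minFac_prime h1
  have hdvd : (om s0).minFac ∣ om s0 := Nat.minFac_dvd _
  have hpos : 0 < om s0 := orderOf_pos _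
  obtain ⟨p, hpdef⟩ : ∃ p, p = (om s0).minFac := ⟨_, rfl⟩
  rw [← hpdef] at hp hdvd
  refine ⟨p, hp, ?_⟩
  -- the subgroup of `p`-elements modulo the centre
  let T : Subgroup G :=
    { carrier := {s | s ∈ SS G ∧ ∃ k : ℕ, s ^ (p ^ k) ∈ Subgroup.center G}
      mul_mem' := by
        rintro a b ⟨ha, ka, hka⟩ ⟨hb, kb, hkb⟩
        refine ⟨(SS G).mul_mem ha hb, ka + kb, ?_⟩
        rw [(show Commute a b from hab a ha b hb).mul_pow, pow_add]
        apply Subgroup.mul_mem
        · rw [pow_mul]; exact Subgroup.pow_mem _ hka _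
        · rw [pow_mul']; exact Subgroup.pow_mem _ hkb _
      one_mem' := ⟨(SS G).one_mem, 0, by simp⟩
      inv_mem' := by
        rintro a ⟨ha, ka, hka⟩
        refine ⟨(SS G).inv_mem ha, ka, ?_⟩
        rw [inv_pow]; exact Subgroup.inv_mem _ hka }
  have hTmem : ∀ s, s ∈ T ↔ s ∈ SS G ∧ ∃ k : ℕ, s ^ (p ^ k) ∈ Subgroup.center G :=
    fun s => Iff.rfl
  haveI hTn : T.Normal := by
    refine ⟨fun a ha g => ?_⟩
    obtain ⟨haS, k, hk⟩ := (hTmem a).mp ha
    refine (hTmem _).mpr ⟨hSn.conj_mem a haS g, k, ?_⟩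
    rw [conj_pow]
    have : g * a ^ p ^ k * g⁻¹ = a ^ p ^ k := by
      rw [Subgroup.mem_center_iff.mp hk g]; group
    rw [this]; exact hk
  have hZT : Subgroup.center G ≤ T := by
    intro z hz
    exact (hTmem z).mpr ⟨center_le_SS hz, 0, by simpa using hz⟩
  -- an element of `T` outside the centre
  have ht0 : s0 ^ (om s0 / p) ∈ T := by
    refine (hTmem _).mpr ⟨Subgroup.pow_mem _ hs0S _, 1, ?_⟩
    rw [pow_one, ← pow_mul, Nat.div_mul_cancel hdvd]
    exact (pow_mem_center_iff s0 _).mpr dvd_rfl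
  have ht0Z : s0 ^ (om s0 / p) ∉ Subgroup.center G := by
    intro hz
    have h2 := Nat.le_of_dvd (Nat.div_pos (Nat.le_of_dvd hpos hdvd) hp.pos)
      ((pow_mem_center_iff s0 _).mp hz)
    have h3 : om s0 / p < om s0 := Nat.div_lt_self hpos hp.one_lt
    omega
  have ht0x : s0 ^ (om s0 / p) ∉ cz x0 := by
    intro hmem
    apply ht0Z
    exact hfpf x0 hx0S _ ((hTmem _).mp ht0).1 (mem_cz.mp hmem).symm
  have hsup : cz x0 ⊔ T = ⊤ := by
    apply (h x0 hx0).2
    apply lt_of_le_of_ne le_sup_left
    intro heq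
    have h5 : s0 ^ (om s0 / p) ∈ cz x0 ⊔ T := (le_sup_right : T ≤ cz x0 ⊔ T) ht0
    exact ht0x (heq.symm.le h5)
  intro s hs
  have hs' : s ∈ ((cz x0 ⊔ T : Subgroup G) : Set G) := by rw [hsup]; exact Subgroup.mem_top s
  rw [Subgroup.mul_normal] at hs'
  obtain ⟨m, hm, t, ht, rfl⟩ := Set.mem_mul.mp hs'
  have htS : t ∈ SS G := ((hTmem t).mp ht).1
  have hmS : m ∈ SS G := by
    have : m = m * t * t⁻¹ := by group
    rw [this]; exact (SS G).mul_mem hs ((SS G).inv_mem htS)
  have hmZ : m ∈ Subgroup.center G := hfpf x0 hx0S m hmS (mem_cz.mp hm).symm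
  exact ((hTmem _).mp (T.mul_mem (hZT hmZ) ht)).2

theorem caseBI_final (h : Hyp G) [Finite G] {x0 s0 : G} (hx0 : x0 ∉ Subgroup.center G)
    (hx0n : ¬ (cz x0).Normal) (hs0 : s0 ∉ Subgroup.center G) (hs0n : (cz s0).Normal) :
    ¬ IsMulCommutative (G ⧸ Subgroup.center G) ∧
    (∀ H : Subgroup (G ⧸ Subgroup.center G), H ≠ ⊤ → IsMulCommutative ↥H) ∧
    ∃ p q a : ℕ, p.Prime ∧ q.Prime ∧ p ≠ q ∧ Nat.card (G ⧸ Subgroup.center G) = p ^ a * q ∧
      ∀ P : Subgroup (G ⧸ Subgroup.center G), Nat.card ↥P = p ^ a → P.Normal := by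
  obtain ⟨hSeq, hab, hx0S, hfpf⟩ := caseBI h hx0n hs0 hs0n
  obtain ⟨p, hp, hpk⟩ := caseBI_pgroup h hx0 hx0n hs0 hs0n
  haveI hSn : (SS G).Normal := hSeq ▸ hs0n
  have hSco : IsCoatom (SS G) := hSeq ▸ h s0 hs0
  have hsurj : Function.Surjective (QuotientGroup.mk' (Subgroup.center G)) :=
    QuotientGroup.mk'_surjective _
  refine ⟨?_, ?_, ?_⟩
  · intro hcomm
    apply hx0n
    apply normal_of_commutators_mem
    intro a b
    have h1 : QuotientGroup.mk' (Subgroup.center G) ⁅a, b⁆ = 1 := by
      rw [map_commutatorElement, commutatorElement_eq_one_iff_commute]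
      exact hcomm.is_comm.comm _ _
    exact center_le_cz x0 ((QuotientGroup.eq_one_iff _).mp h1)
  · intro H hH
    have hKab : ∀ a : G, QuotientGroup.mk' (Subgroup.center G) a ∈ H →
        ∀ b : G, QuotientGroup.mk' (Subgroup.center G) b ∈ H → a * b = b * a := by
      by_cases hKS : ∀ a : G, QuotientGroup.mk' (Subgroup.center G) a ∈ H → a ∈ SS G
      · intro a ha b hb
        exact hab a (hKS a ha) b (hKS b hb)
      · push Not at hKS
        obtain ⟨hh, hhK, hhS⟩ := hKS
        have hhZ : hh ∉ Subgroup.center G := fun hz => hhS (center_le_SS hz)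
        have hdec : ∀ m ∈ cz hh, ∃ z ∈ Subgroup.center G, ∃ k : ℤ, m = z * hh ^ k := by
          intro m hm
          obtain ⟨n, hn, k, hk⟩ := decomp_of_normal_coatom hSco hhS m
          refine ⟨n, ?_, k, hk⟩
          apply hfpf hh hhS n hn
          have hn' : n = m * (hh ^ k)⁻¹ := by rw [hk]; group
          have hc1 : Commute hh m := (mem_cz.mp hm).symm
          have hc2 : Commute hh ((hh ^ k)⁻¹) := (Commute.self_zpow hh k).inv_right
          rw [hn']
          exact (hc1.mul_right hc2).eq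
        obtain ⟨K, hKdef⟩ : ∃ K : Subgroup G,
          K = H.comap (QuotientGroup.mk' (Subgroup.center G)) := ⟨_, rfl⟩
        have hKmem : ∀ g : G, g ∈ K ↔ QuotientGroup.mk' (Subgroup.center G) g ∈ H := by
          intro g
          rw [hKdef, Subgroup.mem_comap]
        have hle : cz hh ≤ K := by
          intro m hm
          obtain ⟨z, hz, k, rfl⟩ := hdec m hm
          apply K.mul_mem
          · rw [hKmem, QuotientGroup.mk'_apply, (QuotientGroup.eq_one_iff z).mpr hz]
            exact H.one_mem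
          · exact K.zpow_mem ((hKmem hh).mpr hhK) k
        have hKtop : K ≠ ⊤ := by
          intro htop
          apply hH
          rw [eq_top_iff]
          intro u _
          obtain ⟨g, rfl⟩ := hsurj u
          have : g ∈ K := by rw [htop]; exact Subgroup.mem_top g
          exact (hKmem g).mp this
        have hKeq : K = cz hh := by
          rcases (h hh hhZ).le_iff.mp hle with h1 | h1
          · exact absurd h1 hKtop
          · exact h1
        intro a ha b hb
        have ha' : a ∈ cz hh := by rw [← hKeq]; exact (hKmem a).mpr ha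
        have hb' : b ∈ cz hh := by rw [← hKeq]; exact (hKmem b).mpr hb
        obtain ⟨z1, hz1, i, hi⟩ := hdec a ha'
        obtain ⟨z2, hz2, j, hj⟩ := hdec b hb'
        have hcz1 : ∀ y, Commute z1 y := fun y => (Subgroup.mem_center_iff.mp hz1 y).symm
        have hcz2 : ∀ y, Commute y z2 := fun y => Subgroup.mem_center_iff.mp hz2 y
        rw [hi, hj]
        exact ((hcz1 _).mul_left ((hcz2 _).mul_right (Commute.zpow_zpow_self hh i j))).eq
    refine ⟨⟨fun a b => Subtype.ext ?_⟩⟩
    obtain ⟨a0, ha0⟩ := hsurj a.1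
    obtain ⟨b0, hb0⟩ := hsurj b.1
    have haK : QuotientGroup.mk' (Subgroup.center G) a0 ∈ H := by rw [ha0]; exact a.2
    have hbK : QuotientGroup.mk' (Subgroup.center G) b0 ∈ H := by rw [hb0]; exact b.2
    show a.1 * b.1 = b.1 * a.1
    rw [← ha0, ← hb0, ← map_mul, ← map_mul, hKab a0 haK b0 hbK]
  · haveI : Fact p.Prime := ⟨hp⟩
    have hSbP : IsPGroup p ↥((SS G).map (QuotientGroup.mk' (Subgroup.center G))) := by
      rintro ⟨u, hu⟩
      obtain ⟨s, hs, rfl⟩ := Subgroup.mem_map.mp hu
      obtain ⟨k, hk⟩ := hpk s hs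
      refine ⟨k, Subtype.ext ?_⟩
      rw [Subgroup.coe_pow, Subgroup.coe_one]
      show (QuotientGroup.mk' (Subgroup.center G) s) ^ (p ^ k) = 1
      rw [← map_pow, QuotientGroup.mk'_apply, QuotientGroup.eq_one_iff]
      exact hk
    obtain ⟨a, ha⟩ := (IsPGroup.iff_card).mp hSbP
    have hq : (SS G).index.Prime := index_prime_of_normal_coatom hSco
    have hidx : ((SS G).map (QuotientGroup.mk' (Subgroup.center G))).index = (SS G).index :=
      Subgroup.index_map_eq (SS G) hsurj (by rw [QuotientGroup.ker_mk']; exact center_le_SS)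
    have hcard : Nat.card (G ⧸ Subgroup.center G) = p ^ a * (SS G).index := by
      rw [← Subgroup.card_mul_index ((SS G).map (QuotientGroup.mk' (Subgroup.center G))), ha,
        hidx]
    have hpq : p ≠ (SS G).index := by
      intro heq
      have hP : IsPGroup p (G ⧸ Subgroup.center G) := by
        apply IsPGroup.of_card (n := a + 1)
        rw [hcard, ← heq, pow_succ]
      exact hx0n (coatom_normal_of_isPGroup hp hP (h x0 hx0))
    refine ⟨p, (SS G).index, a, hp, hq, hpq, hcard, ?_⟩
    intro P hP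
    have hle : P ≤ (SS G).map (QuotientGroup.mk' (Subgroup.center G)) := by
      intro u hu
      obtain ⟨g, rfl⟩ := hsurj u
      have h1 : (QuotientGroup.mk' (Subgroup.center G) g) ^ (p ^ a) = 1 := by
        have h2 : (⟨_, hu⟩ : ↥P) ^ Nat.card ↥P = 1 := pow_card_eq_one'
        rw [hP] at h2
        have h3 := congrArg Subtype.val h2
        rwa [Subgroup.coe_pow, Subgroup.coe_one] at h3
      have h4 : g ^ (p ^ a) ∈ SS G := by
        have h4' : QuotientGroup.mk' (Subgroup.center G) (g ^ (p ^ a)) = 1 := by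
          rw [map_pow]; exact h1
        exact center_le_SS ((QuotientGroup.eq_one_iff _).mp h4')
      have h5 : g ^ (SS G).index ∈ SS G := Subgroup.pow_index_mem (SS G) g
      have hcop : Nat.Coprime (p ^ a) (SS G).index :=
        Nat.Coprime.pow_left a ((Nat.coprime_primes hp hq).mpr hpq)
      have h6 : orderOf (QuotientGroup.mk' (SS G) g) ∣ Nat.gcd (p ^ a) (SS G).index := by
        apply Nat.dvd_gcd
        · apply orderOf_dvd_of_pow_eq_one
          rw [← map_pow, QuotientGroup.mk'_apply, QuotientGroup.eq_one_iff]; exact h4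
        · apply orderOf_dvd_of_pow_eq_one
          rw [← map_pow, QuotientGroup.mk'_apply, QuotientGroup.eq_one_iff]; exact h5
      rw [Nat.Coprime.gcd_eq_one hcop] at h6
      have h7 : QuotientGroup.mk' (SS G) g = 1 := orderOf_eq_one_iff.mp (Nat.dvd_one.mp h6)
      have h8 : g ∈ SS G := (QuotientGroup.eq_one_iff g).mp h7
      exact Subgroup.mem_map_of_mem _ h8
    have heq : P = (SS G).map (QuotientGroup.mk' (Subgroup.center G)) :=
      Subgroup.eq_of_le_of_card_ge hle (le_of_eq (by rw [ha, hP]))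
    rw [heq]
    exact Subgroup.Normal.map hSn _ hsurj

theorem caseA_solvable (hcomm : ∀ a b : G ⧸ Subgroup.center G, a * b = b * a) :
    Group.IsSolvable G := by
  haveI : Group.IsSolvable ↥(Subgroup.center G) := Group.isSolvable_of_comm
    (fun a b => Subtype.ext (Subgroup.mem_center_iff.mp a.2 b.1).symm)
  haveI : Group.IsSolvable (G ⧸ Subgroup.center G) := Group.isSolvable_of_comm hcomm
  exact Group.isSolvable_of_ker_le_range (Subgroup.center G).subtype
    (QuotientGroup.mk' (Subgroup.center G))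
    (le_of_eq (by rw [QuotientGroup.ker_mk', Subgroup.range_subtype]))

theorem caseBI_solvable (h : Hyp G) [Finite G] {x0 s0 : G}
    (hx0n : ¬ (cz x0).Normal) (hs0 : s0 ∉ Subgroup.center G) (hs0n : (cz s0).Normal) :
    Group.IsSolvable G := by
  obtain ⟨hSeq, hab, hx0S, hfpf⟩ := caseBI h hx0n hs0 hs0n
  haveI hSn : (SS G).Normal := hSeq ▸ hs0n
  have hSco : IsCoatom (SS G) := hSeq ▸ h s0 hs0
  haveI : Group.IsSolvable ↥(SS G) :=
    Group.isSolvable_of_comm (fun a b => Subtype.ext (hab a.1 a.2 b.1 b.2))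
  haveI : Group.IsSolvable (G ⧸ SS G) := by
    apply Group.isSolvable_of_comm
    intro a b
    obtain ⟨a0, rfl⟩ := QuotientGroup.mk_surjective a
    obtain ⟨b0, rfl⟩ := QuotientGroup.mk_surjective b
    rw [← QuotientGroup.mk_mul, ← QuotientGroup.mk_mul, QuotientGroup.eq]
    have := commutator_mem_of_normal_coatom hSco b0⁻¹ a0⁻¹
    rw [commutatorElement_def] at this
    convert this using 1
    group
  exact Group.isSolvable_of_ker_le_range (SS G).subtype (QuotientGroup.mk' (SS G))
    (le_of_eq (by rw [QuotientGroup.ker_mk', Subgroup.range_subtype]))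

end Cfsg.Agent.Lib.Helper16.CentMax
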