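import Mathlib
import Cfsg.Agent.Lib.Helper16.CentMaxA
import Cfsg.Agent.Lib.Helper16.CentMaxB
import Cfsg.Agent.Lib.Helper13.FrobStruct
import Cfsg.Agent.S0034
import Cfsg.Agent.S0041

set_option autoImplicit false
set_option maxHeartbeats 1000000

/-!
Finite groups in which the centralizer of every non-central element is a maximal subgroup
(helper16): the case where no centralizer of a non-central element is normal is impossible, and
the final structure theorems.
-/

namespace Cfsg.Agent.Lib.Helper16.CentMax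

open scoped commutatorElement Pointwise

variable {G : Type*} [Group G]

theorem normalizer_eq_of_not_normal {M : Subgroup G} (hM : IsCoatom M) (hn : ¬ M.Normal) :
    Subgroup.normalizer (M : Set G) = M := by
  rcases hM.le_iff.mp (Subgroup.le_normalizer : M ≤ Subgroup.normalizer (M : Set G)) with h1 | h1
  · exact absurd (Subgroup.normalizer_eq_top_iff.mp h1) hn
  · exact h1

theorem conj_mem_cz_iff {w g x : G} : w * g * w⁻¹ ∈ cz x ↔ g ∈ cz (w⁻¹ * x * w) := by
  rw [mem_cz, mem_cz]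
  constructor
  · intro h1
    calc g * (w⁻¹ * x * w) = w⁻¹ * (w * g * w⁻¹ * x) * w := by group
      _ = w⁻¹ * (x * (w * g * w⁻¹)) * w := by rw [h1]
      _ = w⁻¹ * x * w * g := by group
  · intro h1
    calc w * g * w⁻¹ * x = w * (g * (w⁻¹ * x * w)) * w⁻¹ := by group
      _ = w * (w⁻¹ * x * w * g) * w⁻¹ := by rw [h1]
      _ = x * (w * g * w⁻¹) := by group

/-- an element conjugating `x` into its coset of the centre centralizes `x` when the centralizer of
`x` is a non-normal maximal subgroup -/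
theorem mem_cz_of_conj (h : Hyp G) {x : G} (hx : x ∉ Subgroup.center G) (hn : ¬ (cz x).Normal)
    {w z : G} (hz : z ∈ Subgroup.center G) (hw : w⁻¹ * x * w = z * x) : w ∈ cz x := by
  have h1 : w ∈ Subgroup.normalizer ((cz x : Subgroup G) : Set G) := by
    rw [Subgroup.mem_normalizer_iff]
    intro g
    rw [conj_mem_cz_iff, hw, cz_central_mul hz]
  rwa [normalizer_eq_of_not_normal (h x hx) hn] at h1

/-- the centralizer of a non-identity element of a Frobenius kernel lies in the kernel -/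
theorem frob_kernel_commute {Q : Type*} [Group Q] {H N : Subgroup Q}
    (hF : Cfsg.Agent.Lib.Helper13.FrobData H N) {n c : Q} (hn : n ∈ N) (hn1 : n ≠ 1)
    (hc : c * n = n * c) : c ∈ N := by
  by_contra hcN
  obtain ⟨g, hg⟩ := hF.exists_cj_of_not_mem hcN
  rw [Cfsg.Agent.S0034.mem_conj_smul] at hg
  have hc1 : g⁻¹ * c * g ≠ 1 := by
    intro h1
    apply hcN
    have hc1' : c = 1 := by
      have h2 : c = g * (g⁻¹ * c * g) * g⁻¹ := by group
      rw [h2, h1]; group
    rw [hc1']; exact N.one_mem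
  have hn' : g⁻¹ * n * g ∈ N := by
    have := hF.normal.conj_mem n hn g⁻¹
    rwa [inv_inv] at this
  have hcomm : g⁻¹ * n * g * (g⁻¹ * c * g) = g⁻¹ * c * g * (g⁻¹ * n * g) := by
    have e1 : g⁻¹ * n * g * (g⁻¹ * c * g) = g⁻¹ * (n * c) * g := by group
    have e2 : g⁻¹ * c * g * (g⁻¹ * n * g) = g⁻¹ * (c * n) * g := by group
    rw [e1, e2, hc]
  have h3 : g⁻¹ * n * g ∈ H := hF.mem_of_commute hg hc1 hcomm
  have h4 : g⁻¹ * n * g ∈ N ⊓ H := ⟨hn', h3⟩
  rw [hF.isCompl.disjoint.eq_bot, Subgroup.mem_bot] at h4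
  apply hn1
  have h2 : n = g * (g⁻¹ * n * g) * g⁻¹ := by group
  rw [h2, h4]; group

/-- no centralizer normal, some centralizer abelian: impossible (Frobenius' theorem) -/
theorem caseBII_abelian (h : Hyp G) [Finite G]
    (hall : ∀ x : G, x ∉ Subgroup.center G → ¬ (cz x).Normal)
    {x : G} (hx : x ∉ Subgroup.center G) (hab : ∀ a ∈ cz x, ∀ b ∈ cz x, a * b = b * a) :
    False := by
  have hsurj := QuotientGroup.mk'_surjective (Subgroup.center G)
  have hcomap : ((cz x).map (QuotientGroup.mk' (Subgroup.center G))).comap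
      (QuotientGroup.mk' (Subgroup.center G)) = cz x := by
    apply Subgroup.comap_map_eq_self
    rw [QuotientGroup.ker_mk']; exact center_le_cz x
  have hmemMb : ∀ g : G, QuotientGroup.mk' (Subgroup.center G) g ∈
      (cz x).map (QuotientGroup.mk' (Subgroup.center G)) ↔ g ∈ cz x := by
    intro g
    rw [← Subgroup.mem_comap, hcomap]
  have hcu : ∀ u ∈ cz x, u ∉ Subgroup.center G → cz u = cz x := by
    intro u hu huZ
    apply cz_eq_of_le h hx huZ
    intro m hm
    exact mem_cz.mpr (hab m hm u hu)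
  have hFC : Cfsg.IsFrobeniusComplement
      ((cz x).map (QuotientGroup.mk' (Subgroup.center G))) := by
    refine ⟨?_, ?_, ?_⟩
    · intro hbot
      apply hx
      have h1 : QuotientGroup.mk' (Subgroup.center G) x ∈
          (cz x).map (QuotientGroup.mk' (Subgroup.center G)) := (hmemMb x).mpr (self_mem_cz x)
      rw [hbot, Subgroup.mem_bot] at h1
      exact (QuotientGroup.eq_one_iff x).mp h1
    · intro htop
      apply cz_ne_top hx
      rw [← hcomap, htop, Subgroup.comap_top]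
    · intro gb hgb
      obtain ⟨g, rfl⟩ := hsurj gb
      have hg : g ∉ cz x := fun hmem => hgb ((hmemMb g).mpr hmem)
      rw [eq_bot_iff]
      intro ub hub
      obtain ⟨u, rfl⟩ := hsurj ub
      rw [Subgroup.mem_bot]
      by_contra hu1
      have huZ : u ∉ Subgroup.center G := fun hz => hu1 ((QuotientGroup.eq_one_iff u).mpr hz)
      have hu1' : u ∈ cz x := (hmemMb u).mp hub.1
      have hu2 : g⁻¹ * u * g ∈ cz x := by
        have h2 := (Subgroup.mem_inf.mp hub).2
        rw [Cfsg.Agent.S0034.mem_conj_smul, ← map_inv, ← map_mul, ← map_mul] at h2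
        exact (hmemMb _).mp h2
      have hc1 := hcu u hu1' huZ
      have huZ' : g⁻¹ * u * g ∉ Subgroup.center G := by
        intro hz
        apply huZ
        have h2 : u = g * (g⁻¹ * u * g) * g⁻¹ := by group
        rw [h2]
        exact (inferInstance : (Subgroup.center G).Normal).conj_mem _ hz g
      have hc2 := hcu _ hu2 huZ'
      have hgN : g ∈ Subgroup.normalizer ((cz x : Subgroup G) : Set G) := by
        rw [Subgroup.mem_normalizer_iff]
        intro m
        have h3 : g * m * g⁻¹ ∈ cz x ↔ m ∈ cz x := by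
          rw [← hc1, conj_mem_cz_iff, hc2, hc1]
        exact h3.symm
      rw [normalizer_eq_of_not_normal (h x hx) (hall x hx)] at hgN
      exact hg hgN
  obtain ⟨N, hF⟩ := Cfsg.Agent.Lib.Helper13.exists_frobData _ hFC
  have hNn : N.Normal := hF.normal
  have hNbot : N ≠ ⊥ := by
    intro hbot
    have h1 := hF.isCompl
    rw [hbot] at h1
    exact hFC.2.1 (Subgroup.isComplement'_bot_left.mp h1)
  obtain ⟨⟨nb, hnb⟩, hnb1⟩ := Subgroup.ne_bot_iff_exists_ne_one.mp hNbot
  have hnb1' : nb ≠ 1 := fun h1 => hnb1 (Subtype.ext h1)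
  obtain ⟨n, rfl⟩ := hsurj nb
  have hnZ : n ∉ Subgroup.center G := fun hz => hnb1' ((QuotientGroup.eq_one_iff n).mpr hz)
  have hle : cz n ≤ N.comap (QuotientGroup.mk' (Subgroup.center G)) := by
    intro c hc
    rw [Subgroup.mem_comap]
    apply frob_kernel_commute hF hnb hnb1'
    rw [← map_mul, ← map_mul, mem_cz.mp hc]
  have hNtop : N.comap (QuotientGroup.mk' (Subgroup.center G)) ≠ ⊤ := by
    intro htop
    have hN : N = ⊤ := by
      rw [eq_top_iff]; intro u _
      obtain ⟨g, rfl⟩ := hsurj u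
      have h1 : g ∈ N.comap (QuotientGroup.mk' (Subgroup.center G)) := by
        rw [htop]; exact Subgroup.mem_top g
      exact h1
    have h1 := hF.isCompl
    rw [hN] at h1
    exact hFC.1 (Subgroup.isComplement'_top_left.mp h1)
  have heq : N.comap (QuotientGroup.mk' (Subgroup.center G)) = cz n := by
    rcases (h n hnZ).le_iff.mp hle with h1 | h1
    · exact absurd h1 hNtop
    · exact h1
  apply hall n hnZ
  rw [← heq]
  exact Subgroup.Normal.comap hNn _

/-- a computation with conjugates -/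
theorem conj_comm_aux {m d y w : G} (E1 : y * m = m * y * w) (E2 : d * y = y * d)
    (E3 : d * w = w * d) : m * d * m⁻¹ * y = y * (m * d * m⁻¹) := by
  have A : m⁻¹ * y = y * w * m⁻¹ := by
    calc m⁻¹ * y = m⁻¹ * (y * m) * m⁻¹ := by group
      _ = m⁻¹ * (m * y * w) * m⁻¹ := by rw [E1]
      _ = y * w * m⁻¹ := by group
  calc m * d * m⁻¹ * y = m * d * (m⁻¹ * y) := by group
    _ = m * d * (y * w * m⁻¹) := by rw [A]
    _ = m * (d * y) * w * m⁻¹ := by group
    _ = m * (y * d) * w * m⁻¹ := by rw [E2]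
    _ = m * y * (d * w) * m⁻¹ := by group
    _ = m * y * (w * d) * m⁻¹ := by rw [E3]
    _ = (m * y * w) * d * m⁻¹ := by group
    _ = y * m * d * m⁻¹ := by rw [← E1]
    _ = y * (m * d * m⁻¹) := by group

/-- no centralizer normal, all centralizers non-abelian: impossible -/
theorem caseBII_nonabelian (h : Hyp G) [Finite G]
    (hall : ∀ x : G, x ∉ Subgroup.center G → ¬ (cz x).Normal)
    (hnab : ∀ x : G, x ∉ Subgroup.center G → ∃ a ∈ cz x, ∃ b ∈ cz x, a * b ≠ b * a)
    {x0 : G} (hx0 : x0 ∉ Subgroup.center G) : False := by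
  have hexp : ∀ x : G, x ∉ Subgroup.center G → ∃ p : ℕ, p.Prime ∧ om x = p ∧
      ∀ m ∈ cz x, m ^ p ∈ Subgroup.center G := by
    intro x hx
    obtain ⟨a, ha, b, hb, hab⟩ := hnab x hx
    exact exponent_of_nonabelian h hx hb ha hab
  obtain ⟨p, hp, hx0p, hexp0⟩ := hexp x0 hx0
  haveI : Fact p.Prime := ⟨hp⟩
  obtain ⟨a0, ha0, b0, hb0, hab0⟩ := hnab x0 hx0
  -- the quotient of `cz x0` by its centre is a nontrivial `p`-group
  have hPG : IsPGroup p (↥(cz x0) ⧸ Subgroup.center ↥(cz x0)) := by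
    intro u
    obtain ⟨m, rfl⟩ := QuotientGroup.mk_surjective u
    refine ⟨1, ?_⟩
    rw [pow_one, ← QuotientGroup.mk_pow, QuotientGroup.eq_one_iff, Subgroup.mem_center_iff]
    intro g
    apply Subtype.ext
    rw [Subgroup.coe_mul, Subgroup.coe_mul, Subgroup.coe_pow]
    exact Subgroup.mem_center_iff.mp (hexp0 m.1 m.2) g.1
  haveI : Nontrivial (↥(cz x0) ⧸ Subgroup.center ↥(cz x0)) := by
    refine ⟨⟨((⟨a0, ha0⟩ : ↥(cz x0)) : ↥(cz x0) ⧸ Subgroup.center ↥(cz x0)), 1, ?_⟩⟩
    intro h1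
    rw [QuotientGroup.eq_one_iff, Subgroup.mem_center_iff] at h1
    have h2 := h1 ⟨b0, hb0⟩
    exact hab0 (congrArg Subtype.val h2).symm
  haveI := hPG.center_nontrivial
  obtain ⟨⟨cb, hcb⟩, hcb1⟩ :=
    exists_ne (1 : ↥(Subgroup.center (↥(cz x0) ⧸ Subgroup.center ↥(cz x0))))
  obtain ⟨⟨y, hy⟩, rfl⟩ := QuotientGroup.mk_surjective cb
  have hcb1' : ((⟨y, hy⟩ : ↥(cz x0)) : ↥(cz x0) ⧸ Subgroup.center ↥(cz x0)) ≠ 1 :=
    fun h1 => hcb1 (Subtype.ext h1)
  have hy'Z : (⟨y, hy⟩ : ↥(cz x0)) ∉ Subgroup.center ↥(cz x0) :=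
    fun hz => hcb1' ((QuotientGroup.eq_one_iff _).mpr hz)
  have hw : ∀ m ∈ cz x0, ∀ g ∈ cz x0,
      g * ((m * y)⁻¹ * (y * m)) = (m * y)⁻¹ * (y * m) * g := by
    intro m hm g hg
    have h1 := Subgroup.mem_center_iff.mp hcb
      ((⟨m, hm⟩ : ↥(cz x0)) : ↥(cz x0) ⧸ Subgroup.center ↥(cz x0))
    rw [← QuotientGroup.mk_mul, ← QuotientGroup.mk_mul, QuotientGroup.eq,
      Subgroup.mem_center_iff] at h1
    have h2 := h1 ⟨g, hg⟩
    exact congrArg Subtype.val h2
  have hyM : ∃ m0 ∈ cz x0, m0 * y ≠ y * m0 := by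
    by_contra hcon
    push Not at hcon
    apply hy'Z
    rw [Subgroup.mem_center_iff]
    intro g
    exact Subtype.ext (hcon g.1 g.2)
  have hyZ : y ∉ Subgroup.center G := by
    obtain ⟨m0, hm0, hne⟩ := hyM
    exact fun hz => hne (Subgroup.mem_center_iff.mp hz m0)
  obtain ⟨p', hp', hyp', hexpy'⟩ := hexp y hyZ
  have hx0y : x0 ∈ cz y := mem_cz.mpr (mem_cz.mp hy).symm
  have hpp' : p' = p := by
    have h1 := hexpy' x0 hx0y
    have h2 := om_eq_of_prime hx0 hp' h1
    rw [← h2, hx0p]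
  have hexpy : ∀ m ∈ cz y, m ^ p ∈ Subgroup.center G := by
    intro m hm
    rw [← hpp']; exact hexpy' m hm
  have hczne : cz y ≠ cz x0 := by
    intro heq
    obtain ⟨m0, hm0, hne⟩ := hyM
    have hm0' : m0 ∈ cz y := by rw [heq]; exact hm0
    exact hne (mem_cz.mp hm0')
  have hnotle : ¬ cz y ≤ cz x0 := by
    intro hle
    exact hczne (cz_eq_of_le h hyZ hx0 hle).symm
  -- `cz y` is nilpotent
  haveI hnil : Group.IsNilpotent ↥(cz y) := by
    let f : ↥(cz y) →* G ⧸ Subgroup.center G :=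
      (QuotientGroup.mk' (Subgroup.center G)).comp (cz y).subtype
    have hPr : IsPGroup p ↥f.range := by
      rintro ⟨u, hu⟩
      obtain ⟨m, rfl⟩ := MonoidHom.mem_range.mp hu
      refine ⟨1, Subtype.ext ?_⟩
      rw [pow_one, Subgroup.coe_pow, Subgroup.coe_one]
      show (QuotientGroup.mk' (Subgroup.center G) m.1) ^ p = 1
      rw [← map_pow, QuotientGroup.mk'_apply, QuotientGroup.eq_one_iff]
      exact hexpy m.1 m.2
    haveI : Group.IsNilpotent ↥f.range := hPr.isNilpotent
    apply Subgroup.isNilpotent_of_ker_le_center f.rangeRestrict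
    rw [MonoidHom.ker_rangeRestrict]
    intro m hm
    rw [MonoidHom.mem_ker] at hm
    have hmZ : m.1 ∈ Subgroup.center G := (QuotientGroup.eq_one_iff m.1).mp hm
    rw [Subgroup.mem_center_iff]
    intro g
    exact Subtype.ext (Subgroup.mem_center_iff.mp hmZ g.1)
  have hD : ∃ n ∈ cz y, n ∉ cz x0 ∧
      ∀ d, d ∈ cz x0 ⊓ cz y ↔ n * d * n⁻¹ ∈ cz x0 ⊓ cz y := by
    have hnc := Group.normalizerCondition_of_isNilpotent (G := ↥(cz y))
    have hlt : (cz x0 ⊓ cz y).subgroupOf (cz y) < ⊤ := by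
      rw [lt_top_iff_ne_top]
      intro htop
      apply hnotle
      intro g hg
      have h1 : (⟨g, hg⟩ : ↥(cz y)) ∈ (cz x0 ⊓ cz y).subgroupOf (cz y) := by
        rw [htop]; exact Subgroup.mem_top _
      rw [Subgroup.mem_subgroupOf] at h1
      exact h1.1
    obtain ⟨n', hn'N, hn'D⟩ := SetLike.exists_of_lt (hnc _ hlt)
    refine ⟨n'.1, n'.2, ?_, ?_⟩
    · intro hmem
      apply hn'D
      rw [Subgroup.mem_subgroupOf]
      exact ⟨hmem, n'.2⟩
    · intro d
      rw [Subgroup.mem_normalizer_iff] at hn'N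
      constructor
      · intro hd
        have h1 := (hn'N ⟨d, hd.2⟩).mp (Subgroup.mem_subgroupOf.mpr hd)
        rw [Subgroup.mem_subgroupOf] at h1
        exact h1
      · intro hd
        have hd' : d ∈ cz y := by
          have e : d = n'.1⁻¹ * (n'.1 * d * n'.1⁻¹) * n'.1 := by group
          rw [e]
          exact (cz y).mul_mem ((cz y).mul_mem ((cz y).inv_mem n'.2) hd.2) n'.2
        have h1 := (hn'N ⟨d, hd'⟩).mpr (Subgroup.mem_subgroupOf.mpr hd)
        rw [Subgroup.mem_subgroupOf] at h1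
        exact h1
  obtain ⟨n, hny, hnx0, hnD⟩ := hD
  have hconj : ∀ m ∈ cz x0, ∀ d ∈ cz x0 ⊓ cz y, m * d * m⁻¹ ∈ cz x0 ⊓ cz y := by
    intro m hm d hd
    refine Subgroup.mem_inf.mpr
      ⟨(cz x0).mul_mem ((cz x0).mul_mem hm hd.1) ((cz x0).inv_mem hm), ?_⟩
    rw [mem_cz]
    apply conj_comm_aux (w := (m * y)⁻¹ * (y * m))
    · group
    · exact mem_cz.mp hd.2
    · exact hw m hm d hd.1
  have hDn : (cz x0 ⊓ cz y).Normal := by
    rw [← Subgroup.normalizer_eq_top_iff]
    apply (h x0 hx0).2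
    apply lt_of_le_of_ne
    · intro m hm
      rw [Subgroup.mem_normalizer_iff]
      intro d
      constructor
      · exact hconj m hm d
      · intro hd
        have h1 := hconj m⁻¹ ((cz x0).inv_mem hm) _ hd
        have e : m⁻¹ * (m * d * m⁻¹) * m⁻¹⁻¹ = d := by group
        rwa [e] at h1
    · intro heq
      have h1 : n ∈ Subgroup.normalizer ((cz x0 ⊓ cz y : Subgroup G) : Set G) :=
        Subgroup.mem_normalizer_iff.mpr hnD
      exact hnx0 (heq.symm.le h1)
  -- pass to the central quotient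
  obtain ⟨Db, hDb⟩ : ∃ Db : Subgroup (G ⧸ Subgroup.center G),
    Db = (cz x0 ⊓ cz y).map (QuotientGroup.mk' (Subgroup.center G)) := ⟨_, rfl⟩
  haveI hDbn : Db.Normal := by
    rw [hDb]; exact Subgroup.Normal.map hDn _ (QuotientGroup.mk'_surjective _)
  have hDbmem : ∀ g : G, QuotientGroup.mk' (Subgroup.center G) g ∈ Db ↔ g ∈ cz x0 ⊓ cz y := by
    intro g
    rw [hDb, ← Subgroup.mem_comap, Subgroup.comap_map_eq_self]
    rw [QuotientGroup.ker_mk']
    exact le_inf (center_le_cz x0) (center_le_cz y)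
  have hVcomm : IsMulCommutative
      ↥(Db ⊓ Subgroup.centralizer (Db : Set (G ⧸ Subgroup.center G))) := by
    refine ⟨⟨fun a b => Subtype.ext ?_⟩⟩
    exact Subgroup.mem_centralizer_iff.mp b.2.2 a.1 a.2.1
  have hx0V : QuotientGroup.mk' (Subgroup.center G) x0 ∈
      Db ⊓ Subgroup.centralizer (Db : Set (G ⧸ Subgroup.center G)) := by
    refine Subgroup.mem_inf.mpr ⟨(hDbmem x0).mpr ⟨self_mem_cz x0, hx0y⟩, ?_⟩
    rw [Subgroup.mem_centralizer_iff]
    intro u hu
    obtain ⟨d, rfl⟩ := QuotientGroup.mk'_surjective (Subgroup.center G) u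
    have hd := (hDbmem d).mp hu
    rw [← map_mul, ← map_mul, mem_cz.mp hd.1]
  have hVbot : Db ⊓ Subgroup.centralizer (Db : Set (G ⧸ Subgroup.center G)) ≠ ⊥ := by
    intro hbot
    rw [hbot, Subgroup.mem_bot] at hx0V
    exact hx0 ((QuotientGroup.eq_one_iff x0).mp hx0V)
  -- a second prime
  have hqt : ∃ t : G, t ∉ Subgroup.center G ∧ om t ≠ p := by
    by_contra hcon
    push Not at hcon
    have hP : IsPGroup p (G ⧸ Subgroup.center G) := by
      intro gb
      obtain ⟨g, rfl⟩ := QuotientGroup.mk'_surjective (Subgroup.center G) gb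
      by_cases hg : g ∈ Subgroup.center G
      · refine ⟨0, ?_⟩
        rw [pow_zero, pow_one, QuotientGroup.mk'_apply]
        exact (QuotientGroup.eq_one_iff g).mpr hg
      · refine ⟨1, ?_⟩
        rw [pow_one, ← map_pow, QuotientGroup.mk'_apply, QuotientGroup.eq_one_iff]
        exact (pow_mem_center_iff g p).mpr (dvd_of_eq (hcon g hg))
    exact hall x0 hx0 (coatom_normal_of_isPGroup hp hP (h x0 hx0))
  obtain ⟨t, ht, htp⟩ := hqt
  obtain ⟨q, hq, htq, hexpt⟩ := hexp t ht
  have hqp : q ≠ p := fun heq => htp (htq.trans heq)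
  obtain ⟨a, ha, b, hb, hab⟩ := hnab t ht
  obtain ⟨E, hE⟩ : ∃ E : Subgroup (G ⧸ Subgroup.center G),
    E = Subgroup.closure {QuotientGroup.mk' (Subgroup.center G) t,
      QuotientGroup.mk' (Subgroup.center G) b} := ⟨_, rfl⟩
  have hEcomm : IsMulCommutative ↥E := by
    rw [hE]
    apply Subgroup.isMulCommutative_closure
    intro u hu v hv
    have htb : QuotientGroup.mk' (Subgroup.center G) t * QuotientGroup.mk' (Subgroup.center G) b
        = QuotientGroup.mk' (Subgroup.center G) b * QuotientGroup.mk' (Subgroup.center G) t := by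
      rw [← map_mul, ← map_mul, mem_cz.mp hb]
    simp only [Set.mem_insert_iff, Set.mem_singleton_iff] at hu hv
    rcases hu with rfl | rfl <;> rcases hv with rfl | rfl
    · rfl
    · exact htb
    · exact htb.symm
    · rfl
  have hEle : ∀ e ∈ E, ∃ e0 ∈ cz t, QuotientGroup.mk' (Subgroup.center G) e0 = e := by
    have hle : E ≤ (cz t).map (QuotientGroup.mk' (Subgroup.center G)) := by
      rw [hE, Subgroup.closure_le]
      intro u hu
      simp only [Set.mem_insert_iff, Set.mem_singleton_iff] at hu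
      rcases hu with rfl | rfl
      · exact Subgroup.mem_map_of_mem _ (self_mem_cz t)
      · exact Subgroup.mem_map_of_mem _ hb
    intro e he
    exact Subgroup.mem_map.mp (hle he)
  have hfpf : ∀ e ∈ E, e ≠ 1 →
      (Db ⊓ Subgroup.centralizer (Db : Set (G ⧸ Subgroup.center G))) ⊓
        Subgroup.centralizer {e} = ⊥ := by
    intro e he he1
    obtain ⟨e0, he0, rfl⟩ := hEle e he
    have he0Z : e0 ∉ Subgroup.center G :=
      fun hz => he1 ((QuotientGroup.eq_one_iff e0).mpr hz)
    rw [eq_bot_iff]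
    intro vb hvb
    rw [Subgroup.mem_bot]
    by_contra hv1
    obtain ⟨v, rfl⟩ := QuotientGroup.mk'_surjective (Subgroup.center G) vb
    have hvZ : v ∉ Subgroup.center G := fun hz => hv1 ((QuotientGroup.eq_one_iff v).mpr hz)
    have hvD : v ∈ cz x0 ⊓ cz y := (hDbmem v).mp hvb.1.1
    have hcomm : QuotientGroup.mk' (Subgroup.center G) v * QuotientGroup.mk' (Subgroup.center G) e0
        = QuotientGroup.mk' (Subgroup.center G) e0 * QuotientGroup.mk' (Subgroup.center G) v :=
      Subgroup.mem_centralizer_singleton_iff.mp hvb.2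
    have hz : (e0 * v)⁻¹ * (v * e0) ∈ Subgroup.center G := by
      rw [← QuotientGroup.eq, QuotientGroup.mk_mul, QuotientGroup.mk_mul]
      exact hcomm.symm
    have hw1 : e0⁻¹ * v * e0 = (e0 * v)⁻¹ * (v * e0) * v := by
      have e1 : e0⁻¹ * v * e0 = v * ((e0 * v)⁻¹ * (v * e0)) := by group
      rw [e1]
      exact Subgroup.mem_center_iff.mp hz v
    have he0v : e0 ∈ cz v := mem_cz_of_conj h hvZ (hall v hvZ) hz hw1
    obtain ⟨pv, hpv, hvpv, hexpv⟩ := hexp v hvZ
    have hpvp : pv = p := by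
      have h1 := hexp0 v hvD.1
      rw [← hvpv, om_eq_of_prime hvZ hp h1]
    have h1 : e0 ^ p ∈ Subgroup.center G := by rw [← hpvp]; exact hexpv e0 he0v
    have h2 : e0 ^ q ∈ Subgroup.center G := hexpt e0 he0
    have h3 : om e0 ∣ Nat.gcd p q :=
      Nat.dvd_gcd ((pow_mem_center_iff e0 p).mp h1) ((pow_mem_center_iff e0 q).mp h2)
    rw [Nat.Coprime.gcd_eq_one ((Nat.coprime_primes hp hq).mpr hqp.symm)] at h3
    exact om_ne_one he0Z (Nat.dvd_one.mp h3)
  haveI := hVcomm
  haveI := hEcomm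
  have hcyc : IsCyclic ↥E := Cfsg.Agent.S0041.result E
    (Db ⊓ Subgroup.centralizer (Db : Set (G ⧸ Subgroup.center G))) hVbot
    (by rw [Subgroup.normalizer_eq_top]; exact le_top) hfpf (Or.inl hEcomm)
  haveI := hcyc
  obtain ⟨⟨gen, hgenE⟩, hgen⟩ := IsCyclic.exists_generator (α := ↥E)
  have hgenq : (⟨gen, hgenE⟩ : ↥E) ^ q = 1 := by
    obtain ⟨e0, he0, he0eq⟩ := hEle gen hgenE
    apply Subtype.ext
    rw [Subgroup.coe_pow, Subgroup.coe_one]
    show gen ^ q = 1
    rw [← he0eq, ← map_pow, QuotientGroup.mk'_apply, QuotientGroup.eq_one_iff]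
    exact hexpt e0 he0
  have hcardE : Nat.card ↥E ∣ q := by
    rw [← orderOf_eq_card_of_forall_mem_zpowers hgen]
    exact orderOf_dvd_of_pow_eq_one hgenq
  have htE : QuotientGroup.mk' (Subgroup.center G) t ∈ E := by
    rw [hE]; exact Subgroup.subset_closure (Set.mem_insert _ _)
  have hbE : QuotientGroup.mk' (Subgroup.center G) b ∈ E := by
    rw [hE]; exact Subgroup.subset_closure (Set.mem_insert_of_mem _ (Set.mem_singleton _))
  have hzle : Subgroup.zpowers (QuotientGroup.mk' (Subgroup.center G) t) ≤ E := by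
    rw [Subgroup.zpowers_le]; exact htE
  have hzcard : Nat.card ↥(Subgroup.zpowers (QuotientGroup.mk' (Subgroup.center G) t)) = q := by
    rw [Nat.card_zpowers]; exact htq
  have hzeq : Subgroup.zpowers (QuotientGroup.mk' (Subgroup.center G) t) = E := by
    apply Subgroup.eq_of_le_of_card_ge hzle
    rw [hzcard]
    exact Nat.le_of_dvd hq.pos hcardE
  have hbz : QuotientGroup.mk' (Subgroup.center G) b ∈
      Subgroup.zpowers (QuotientGroup.mk' (Subgroup.center G) t) := by
    rw [hzeq]; exact hbE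
  obtain ⟨k, hk⟩ := Subgroup.mem_zpowers_iff.mp hbz
  have hz : (t ^ k)⁻¹ * b ∈ Subgroup.center G := by
    rw [← QuotientGroup.eq, QuotientGroup.mk_zpow]
    exact hk
  apply hab
  have hb' : b = t ^ k * ((t ^ k)⁻¹ * b) := by group
  have hat : Commute a t := mem_cz.mp ha
  have hazz : Commute a ((t ^ k)⁻¹ * b) := Subgroup.mem_center_iff.mp hz a
  rw [hb']
  exact ((hat.zpow_right k).mul_right hazz).eq

/-- no centralizer of a non-central element normal: impossible -/
theorem caseBII (h : Hyp G) [Finite G]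
    (hall : ∀ x : G, x ∉ Subgroup.center G → ¬ (cz x).Normal)
    {x0 : G} (hx0 : x0 ∉ Subgroup.center G) : False := by
  by_cases hab : ∃ x : G, x ∉ Subgroup.center G ∧ ∀ a ∈ cz x, ∀ b ∈ cz x, a * b = b * a
  · obtain ⟨x, hx, habx⟩ := hab
    exact caseBII_abelian h hall hx habx
  · push Not at hab
    exact caseBII_nonabelian h hall hab hx0

/-- the structure theorem -/
theorem main (h : Hyp G) [Finite G] (hna : ∃ a b : G, a * b ≠ b * a) :
    (∃ p : ℕ, p.Prime ∧ (∀ a b : G ⧸ Subgroup.center G, a * b = b * a) ∧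
      ∀ a : G ⧸ Subgroup.center G, a ^ p = 1) ∨
    (¬ IsMulCommutative (G ⧸ Subgroup.center G) ∧
      (∀ H : Subgroup (G ⧸ Subgroup.center G), H ≠ ⊤ → IsMulCommutative ↥H) ∧
      ∃ p q a : ℕ, p.Prime ∧ q.Prime ∧ p ≠ q ∧
        Nat.card (G ⧸ Subgroup.center G) = p ^ a * q ∧
        ∀ P : Subgroup (G ⧸ Subgroup.center G), Nat.card ↥P = p ^ a → P.Normal) := by
  by_cases hallN : ∀ x : G, x ∉ Subgroup.center G → (cz x).Normal
  · exact Or.inl (caseA h hna hallN)
  · push Not at hallN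
    obtain ⟨x0, hx0, hx0n⟩ := hallN
    by_cases hs : ∃ s0 : G, s0 ∉ Subgroup.center G ∧ (cz s0).Normal
    · obtain ⟨s0, hs0, hs0n⟩ := hs
      exact Or.inr (caseBI_final h hx0 hx0n hs0 hs0n)
    · push Not at hs
      exact (caseBII h hs hx0).elim

/-- solvability -/
theorem solvable (h : Hyp G) [Finite G] : Group.IsSolvable G := by
  by_cases hna : ∃ a b : G, a * b ≠ b * a
  · by_cases hallN : ∀ x : G, x ∉ Subgroup.center G → (cz x).Normal
    · obtain ⟨p, hp, hcomm, _⟩ := caseA h hna hallN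
      exact caseA_solvable hcomm
    · push Not at hallN
      obtain ⟨x0, hx0, hx0n⟩ := hallN
      by_cases hs : ∃ s0 : G, s0 ∉ Subgroup.center G ∧ (cz s0).Normal
      · obtain ⟨s0, hs0, hs0n⟩ := hs
        exact caseBI_solvable h hx0n hs0 hs0n
      · push Not at hs
        exact (caseBII h hs hx0).elim
  · push Not at hna
    exact Group.isSolvable_of_comm hna

end Cfsg.Agent.Lib.Helper16.CentMax
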