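import Cfsg.Agent.Lib.Helper16.ThompsonAxB
import Cfsg.Agent.Lib.Helper16.LargestPReduced

set_option autoImplicit false
open Cfsg
open scoped commutatorElement

namespace Cfsg.Agent.Lib.Helper16

section
variable {H : Type*} [Group H]

theorem inf_normalizer_le_normalizer_inf (A B : Subgroup H) :
    Subgroup.normalizer (A : Set H) ⊓ Subgroup.normalizer (B : Set H) ≤
      Subgroup.normalizer ((A ⊓ B : Subgroup H) : Set H) := by
  intro n hn
  rw [Subgroup.mem_normalizer_iff]
  intro h
  rw [Subgroup.mem_inf, Subgroup.mem_inf, ← Subgroup.mem_normalizer_iff.mp hn.1 h,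
    ← Subgroup.mem_normalizer_iff.mp hn.2 h]

/-- Ambient form of "`K` has characteristic `p`". -/
def IsCharPSub (p : ℕ) (K : Subgroup H) : Prop :=
  K ⊓ Subgroup.centralizer ((opDown p K : Subgroup H) : Set H) ≤ opDown p K

theorem isCharPSub_of_type (p : ℕ) (K : Subgroup H)
    (h : Subgroup.centralizer (Cfsg.pCore p ↥K : Set ↥K) ≤ Cfsg.pCore p ↥K) : IsCharPSub p K := by
  intro x hx
  rw [← map_pCore_eq_opDown] at hx ⊢
  have h1 : (⟨x, hx.1⟩ : ↥K) ∈ Subgroup.centralizer (Cfsg.pCore p ↥K : Set ↥K) := by
    rw [Subgroup.mem_centralizer_iff]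
    intro y hy
    apply Subtype.ext
    exact Subgroup.mem_centralizer_iff.mp hx.2 (y : H) ⟨y, hy, rfl⟩
  exact ⟨⟨x, hx.1⟩, h h1, rfl⟩

theorem type_of_isCharPSub (p : ℕ) (K : Subgroup H) (h : IsCharPSub p K) :
    Subgroup.centralizer (Cfsg.pCore p ↥K : Set ↥K) ≤ Cfsg.pCore p ↥K := by
  intro x hx
  have h1 : (x : H) ∈ K ⊓ Subgroup.centralizer ((opDown p K : Subgroup H) : Set H) := by
    refine Subgroup.mem_inf.mpr ⟨x.2, ?_⟩
    rw [← map_pCore_eq_opDown, Subgroup.mem_centralizer_iff]
    rintro _ ⟨y, hy, rfl⟩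
    exact congrArg Subtype.val (Subgroup.mem_centralizer_iff.mp hx y hy)
  have h2 := h h1
  rw [← map_pCore_eq_opDown] at h2
  obtain ⟨y, hy, hyx⟩ := h2
  have : y = x := Subtype.ext hyx
  rwa [← this]

theorem isCharPSub_top (p : ℕ) (h : Subgroup.centralizer (Cfsg.pCore p H : Set H) ≤ Cfsg.pCore p H) :
    IsCharPSub p (⊤ : Subgroup H) := by
  unfold IsCharPSub
  rw [opDown_top, top_inf_eq]
  exact h

variable [Finite H] {p : ℕ} [Fact p.Prime]

/-- If `K` has characteristic `p` and the `p`-subgroup `A` normalizes `K`, then `C_K(A)` has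
characteristic `p`. -/
theorem isCharPSub_inf_centralizer (K A : Subgroup H) (hK : IsCharPSub p K) (hA : IsPGroup p A)
    (hAK : A ≤ Subgroup.normalizer (K : Set H)) :
    IsCharPSub p (K ⊓ Subgroup.centralizer (A : Set H)) := by
  set X := opDown p K with hX
  set C := K ⊓ Subgroup.centralizer (A : Set H) with hC
  set R := opDown p C with hR
  have hXp : IsPGroup p X := opDown_isPGroup p K
  have hKX : K ≤ Subgroup.normalizer ((X : Subgroup H) : Set H) := le_normalizer_opDown p K
  have hAX : A ≤ Subgroup.normalizer ((X : Subgroup H) : Set H) :=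
    hAK.trans (normalizer_le_normalizer_opDown p K)
  have hCK : C ≤ K := inf_le_left
  -- Y = C_X(A) ≤ R
  have hYR : X ⊓ Subgroup.centralizer (A : Set H) ≤ R := by
    apply le_opDown p
    · exact inf_le_inf_right _ (opDown_le p K)
    · refine le_trans ?_ (inf_normalizer_le_normalizer_inf _ _)
      exact le_inf (hCK.trans hKX) (inf_le_right.trans Subgroup.le_normalizer)
    · exact hXp.to_le inf_le_left
  -- E = C_C(R) is a normal p-subgroup of C
  unfold IsCharPSub
  apply le_opDown p inf_le_left
  · refine le_trans ?_ (inf_normalizer_le_normalizer_inf _ _)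
    exact le_inf Subgroup.le_normalizer
      ((le_normalizer_opDown p C).trans (normalizer_le_normalizer_centralizer _))
  · apply isPGroup_of_coprime_elements_trivial
    intro e he hcop
    have heK : e ∈ K := hCK he.1
    have heA : e ∈ Subgroup.centralizer (A : Set H) := he.1.2
    have hfix : e ∈ Subgroup.centralizer
        ((X ⊓ Subgroup.centralizer (A : Set H) : Subgroup H) : Set H) :=
      Subgroup.centralizer_le hYR he.2
    have h1 := thompson_AxB A X e hA hXp hcop heA hAX (hKX heK) hfix
    have h2 : e ∈ X := hK ⟨heK, h1⟩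
    obtain ⟨j, hj⟩ := exists_pow_eq_one_of_mem hXp h2
    exact eq_one_of_pow_prime_pow_of_coprime e j hj hcop


/-- Normalizer condition for `p`-subgroups, ambient form. -/
theorem exists_mem_normalizer_not_mem (R A : Subgroup H)
    (hR : IsPGroup p R) (hAR : A < R) :
    ∃ t ∈ R, t ∈ Subgroup.normalizer (A : Set H) ∧ t ∉ A := by
  have hAtop : A.subgroupOf R < ⊤ := by
    rw [lt_top_iff_ne_top]
    intro h
    apply hAR.not_ge
    exact Subgroup.subgroupOf_eq_top.mp h
  have hnil : Group.IsNilpotent ↥R := hR.isNilpotent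
  have hnc := Group.normalizerCondition_of_isNilpotent (G := ↥R) _ hAtop
  obtain ⟨t, htN, htA⟩ := Set.exists_of_ssubset hnc
  refine ⟨(t : H), t.2, ?_, ?_⟩
  · rw [Subgroup.mem_normalizer_iff]
    intro h
    constructor
    · intro hh
      have hhR : h ∈ R := hAR.le hh
      exact (Subgroup.mem_normalizer_iff.mp htN ⟨h, hhR⟩).mp hh
    · intro hh
      have hhR : h ∈ R := by
        have h1 : (t : H) * h * (t : H)⁻¹ ∈ R := hAR.le hh
        have h2 := R.mul_mem (R.mul_mem (R.inv_mem t.2) h1) t.2
        have e : (t : H)⁻¹ * ((t : H) * h * (t : H)⁻¹) * (t : H) = h := by group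
        rwa [e] at h2
      exact (Subgroup.mem_normalizer_iff.mp htN ⟨h, hhR⟩).mpr hh
  · intro h
    apply htA
    exact h

/-- If `C_H(P')` has characteristic `p` for some subgroup `P'` of the `p`-group `P`, then so does
`C_H(P)`. -/
theorem isCharPSub_centralizer_of_le (P : Subgroup H) (hP : IsPGroup p P) :
    ∀ n : ℕ, ∀ P' : Subgroup H, P' ≤ P → Nat.card P - Nat.card P' ≤ n →
      IsCharPSub p (Subgroup.centralizer (P' : Set H)) →
      IsCharPSub p (Subgroup.centralizer (P : Set H)) := by
  intro n
  induction n with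
  | zero =>
    intro P' hle hcard hgood
    have : P' = P := Subgroup.eq_of_le_of_card_ge hle (by omega)
    rwa [this] at hgood
  | succ n ih =>
    intro P' hle hcard hgood
    by_cases heq : P' = P
    · rwa [heq] at hgood
    · have hlt : P' < P := lt_of_le_of_ne hle heq
      obtain ⟨t, htP, htN, htnot⟩ := exists_mem_normalizer_not_mem P P' hP hlt
      have hle' : P' ≤ P ⊓ Subgroup.normalizer (P' : Set H) := le_inf hle Subgroup.le_normalizer
      have hlt' : P' < P ⊓ Subgroup.normalizer (P' : Set H) := by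
        refine lt_of_le_of_ne hle' ?_
        intro h
        apply htnot
        rw [h]; exact ⟨htP, htN⟩
      have h1 := isCharPSub_inf_centralizer (Subgroup.centralizer (P' : Set H))
        (P ⊓ Subgroup.normalizer (P' : Set H)) hgood (hP.to_le inf_le_left)
        (inf_le_right.trans (normalizer_le_normalizer_centralizer P'))
      have h2 : Subgroup.centralizer (P' : Set H) ⊓
          Subgroup.centralizer ((P ⊓ Subgroup.normalizer (P' : Set H) : Subgroup H) : Set H) =
          Subgroup.centralizer ((P ⊓ Subgroup.normalizer (P' : Set H) : Subgroup H) : Set H) :=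
        inf_eq_right.mpr (Subgroup.centralizer_le hle')
      rw [h2] at h1
      have hc1 := card_lt_card_of_lt hlt'
      have hc2 : Nat.card ↥(P ⊓ Subgroup.normalizer (P' : Set H)) ≤ Nat.card ↥P :=
        Subgroup.card_le_of_le inf_le_left
      exact ih _ inf_le_left (by omega) h1

end

end Cfsg.Agent.Lib.Helper16
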