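import Cfsg.Agent.Lib.Helper16.ParabolicChar2
import Cfsg.Agent.Lib.Helper20.CharPLocal
import Cfsg.Agent.Lib.Helper20.Bender

set_option autoImplicit false
open Cfsg
open scoped commutatorElement Pointwise

namespace Cfsg.Agent.Lib.Helper16

section
variable {K : Type*} [Group K] [Finite K] {p : ℕ} [Fact p.Prime]

/-- `F*(K) = O_p(K)` iff `C_K(O_p(K)) ≤ O_p(K)`. -/
theorem genFitting_eq_pCore_iff :
    Cfsg.generalizedFittingSubgroup K = Cfsg.pCore p K ↔
      Subgroup.centralizer (Cfsg.pCore p K : Set K) ≤ Cfsg.pCore p K := by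
  constructor
  · intro h
    rw [← h]
    exact Cfsg.Agent.Lib.Helper20.centralizer_genFitting_le
  · intro h
    have hO : Cfsg.pPrimeCore p K = ⊥ := by
      have h1 : Cfsg.pPrimeCore p K ≤ Cfsg.pCore p K :=
        (Cfsg.Agent.Lib.Helper20.pPrimeCore_le_centralizer_pCore p).trans h
      have hdisj : Cfsg.pPrimeCore p K ⊓ Cfsg.pCore p K = ⊥ := by
        apply disjoint_iff.mp
        apply Subgroup.disjoint_of_coprime_natCard
        obtain ⟨k, hk⟩ := IsPGroup.iff_card.mp (Cfsg.Agent.Lib.Helper20.pCore_isPGroup' (G := K) p)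
        rw [hk]
        exact Nat.Coprime.pow_right k (Cfsg.Agent.Lib.Helper20.pPrimeCore_coprime' p)
      rw [eq_bot_iff, ← hdisj]
      exact le_inf le_rfl h1
    have hF := Cfsg.Agent.Lib.Helper20.fitting_eq_pCore_of_pPrimeCore_eq_bot p hO
    have hE : Cfsg.layer K = ⊥ := by
      apply Cfsg.Agent.Lib.Helper20.centralizer_fitting_le_iff_layer_eq_bot.mp
      rw [hF]
      exact h
    unfold Cfsg.generalizedFittingSubgroup
    rw [hE, bot_sup_eq]
    exact hF

end

section
variable {G : Type*} [Group G] [Finite G] {p : ℕ} [Fact p.Prime]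

/-- Ambient form of the bridge. -/
theorem genFitting_eq_pCore_iff_isCharPSub (K : Subgroup G) :
    Cfsg.generalizedFittingSubgroup ↥K = Cfsg.pCore p ↥K ↔ IsCharPSub p K := by
  rw [genFitting_eq_pCore_iff]
  exact ⟨isCharPSub_of_type p K, type_of_isCharPSub p K⟩

/-- If `K` has characteristic `p` and `R` is a `p`-subgroup of `K`, then `N_K(R)` has
characteristic `p`. -/
theorem isCharPSub_inf_normalizer (K R : Subgroup G) (hK : IsCharPSub p K) (hR : IsPGroup p R)
    (hRK : R ≤ K) : IsCharPSub p (K ⊓ Subgroup.normalizer (R : Set G)) := by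
  set P := opDown p K with hP
  set N := K ⊓ Subgroup.normalizer (R : Set G) with hN
  set Q := opDown p N with hQ
  have hPp : IsPGroup p P := opDown_isPGroup p K
  have hQp : IsPGroup p Q := opDown_isPGroup p N
  have hKP : K ≤ Subgroup.normalizer ((P : Subgroup G) : Set G) := le_normalizer_opDown p K
  have hNK : N ≤ K := inf_le_left
  have hQN : Q ≤ N := opDown_le p N
  have hNQ : N ≤ Subgroup.normalizer ((Q : Subgroup G) : Set G) := le_normalizer_opDown p N
  have hPNQ : P ⊓ N ≤ Q := by
    apply le_opDown p inf_le_right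
    · refine le_trans ?_ (inf_normalizer_le_normalizer_inf _ _)
      exact le_inf (hNK.trans hKP) Subgroup.le_normalizer
    · exact hPp.to_le inf_le_left
  have hRQ : R ≤ Q := le_opDown p (le_inf hRK Subgroup.le_normalizer) inf_le_right hR
  have hYQ : P ⊓ Subgroup.centralizer ((Q : Subgroup G) : Set G) ≤ Q := by
    refine le_trans (le_inf inf_le_left ?_) hPNQ
    refine le_inf (inf_le_left.trans (opDown_le p K)) ?_
    exact inf_le_right.trans ((Subgroup.centralizer_le hRQ).trans
      (Subgroup.centralizer_le_normalizer _))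
  unfold IsCharPSub
  apply le_opDown p inf_le_left
  · refine le_trans ?_ (inf_normalizer_le_normalizer_inf _ _)
    exact le_inf Subgroup.le_normalizer (hNQ.trans (normalizer_le_normalizer_centralizer _))
  · apply isPGroup_of_coprime_elements_trivial
    intro e he hcop
    have heK : e ∈ K := hNK he.1
    have hfix : e ∈ Subgroup.centralizer
        ((P ⊓ Subgroup.centralizer ((Q : Subgroup G) : Set G) : Subgroup G) : Set G) :=
      Subgroup.centralizer_le hYQ he.2
    have h1 := thompson_AxB Q P e hQp hPp hcop he.2 ((hQN.trans hNK).trans hKP) (hKP heK) hfix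
    have h2 : e ∈ P := hK ⟨heK, h1⟩
    obtain ⟨j, hj⟩ := exists_pow_eq_one_of_mem hPp h2
    exact eq_one_of_pow_prime_pow_of_coprime e j hj hcop

/-- If `l ∈ O_p(N_G(R))` centralizes the `p`-subgroup `R` and `C_G(l)` has characteristic `p`,
then `N_G(R)` has characteristic `p`. -/
theorem isCharPSub_normalizer_of_centralizer (R : Subgroup G) (hR : IsPGroup p R) (l : G)
    (hl : l ∈ opDown p (Subgroup.normalizer (R : Set G)))
    (hRl : R ≤ Subgroup.centralizer ({l} : Set G))
    (hC : IsCharPSub p (Subgroup.centralizer ({l} : Set G))) :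
    IsCharPSub p (Subgroup.normalizer (R : Set G)) := by
  set N := Subgroup.normalizer (R : Set G) with hN
  set Q := opDown p N with hQ
  have hD := isCharPSub_inf_normalizer _ R hC hR hRl
  rw [← hN] at hD
  set C := N ⊓ Subgroup.centralizer ((Q : Subgroup G) : Set G) with hCdef
  have hNQ : N ≤ Subgroup.normalizer ((Q : Subgroup G) : Set G) := le_normalizer_opDown p N
  have hNC : N ≤ Subgroup.normalizer ((C : Subgroup G) : Set G) := by
    refine le_trans ?_ (inf_normalizer_le_normalizer_inf _ _)
    exact le_inf Subgroup.le_normalizer (hNQ.trans (normalizer_le_normalizer_centralizer _))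
  have hCD : C ≤ Subgroup.centralizer ({l} : Set G) ⊓ N := by
    refine le_inf ?_ inf_le_left
    intro x hx
    rw [Subgroup.mem_centralizer_iff]
    intro y hy
    rw [Set.mem_singleton_iff] at hy
    subst hy
    exact Subgroup.mem_centralizer_iff.mp hx.2 y hl
  have hCc : IsCharPSub p C := isCharPSub_of_normal _ C hCD (inf_le_right.trans hNC) hD
  have hOC : opDown p C ≤ Q := opDown_le_opDown_of_normal p inf_le_left hNC
  intro x hx
  apply hOC
  apply hCc
  exact ⟨hx, Subgroup.centralizer_le hOC hx.2⟩

/-- Conjugation invariance of `C_G(z)` having characteristic `p`. -/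
theorem isCharPSub_centralizer_conj (z g : G)
    (hC : IsCharPSub p (Subgroup.centralizer ({z} : Set G))) :
    IsCharPSub p (Subgroup.centralizer ({g * z * g⁻¹} : Set G)) := by
  have h1 := isCharPSub_map_conj _ g hC
  have e : (Subgroup.centralizer ({z} : Set G)).map (MulAut.conj g).toMonoidHom =
      Subgroup.centralizer ({g * z * g⁻¹} : Set G) := by
    ext x
    rw [mem_map_conj_iff, Subgroup.mem_centralizer_iff, Subgroup.mem_centralizer_iff]
    constructor
    · intro h y hy
      rw [Set.mem_singleton_iff] at hy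
      subst hy
      have := h z rfl
      calc g * z * g⁻¹ * x = g * (z * (g⁻¹ * x * g)) * g⁻¹ := by group
        _ = g * ((g⁻¹ * x * g) * z) * g⁻¹ := by rw [this]
        _ = x * (g * z * g⁻¹) := by group
    · intro h y hy
      rw [Set.mem_singleton_iff] at hy
      subst hy
      have := h (g * y * g⁻¹) rfl
      calc y * (g⁻¹ * x * g) = g⁻¹ * ((g * y * g⁻¹) * x) * g := by group
        _ = g⁻¹ * (x * (g * y * g⁻¹)) * g := by rw [this]
        _ = g⁻¹ * x * g * y := by group
  rwa [e] at h1

end

end Cfsg.Agent.Lib.Helper16
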