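import Mathlib
import Cfsg.Agent.S0803
import Cfsg.Agent.S0804
import Cfsg.Agent.S0808
import Cfsg.Agent.Lib.Helper16.DkMax2

/-!
Piece (A) of the S5892 plan (helper16): a subgroup `M ≅ A₄` of `PSL₂(q)`, `q` odd, is not maximal
when `q ≡ ±1 (mod 8)` (it lies in the normalizer `S₄` of its Klein four group), nor when
`q ≡ ±3 (mod 8)` and `q ≡ ±1 (mod 10)` (it lies in an `A₅`).
-/

set_option autoImplicit false
set_option maxHeartbeats 1000000

namespace Cfsg.Agent.Lib.Helper16.DkA4Max

open Cfsg.Agent.Lib.Helper12.SL2 Cfsg.Agent.Lib.Helper12.Quat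
open Cfsg.Agent.Lib.Helper16.DkMax

local notation "SL2" => Matrix.SpecialLinearGroup (Fin 2)
local notation "PSL2" => Matrix.ProjectiveSpecialLinearGroup (Fin 2)

/-- normalizers of conjugate subgroups have the same order -/
theorem card_normalizer_map_conj {G : Type*} [Group G] (H : Subgroup G) (g : G) :
    Nat.card (Subgroup.normalizer ((H.map (MulAut.conj g).toMonoidHom : Subgroup G) : Set G)) =
      Nat.card (Subgroup.normalizer (H : Set G)) := by
  rw [← Subgroup.map_equiv_normalizer_eq H (MulAut.conj g),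
    Cfsg.Agent.Lib.Helper12.SylTwo.card_map_conj]

/-- the image of a Klein four group under an injective homomorphism -/
theorem isKleinFour_map {Y G : Type*} [Group Y] [Group G] (f : Y →* G)
    (hf : Function.Injective f) (V : Subgroup Y) (hV : IsKleinFour V) :
    IsKleinFour (V.map f) := by
  have e : V ≃* V.map f := V.equivMapOfInjective f hf
  exact ⟨by rw [← Nat.card_congr e.toEquiv]; exact hV.card_four,
    by rw [← Monoid.exponent_eq_of_mulEquiv e]; exact hV.exponent_two⟩

/-- an `A₄`-subgroup normalizes a Klein four group -/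
theorem exists_klein_of_A4 {G : Type*} [Group G] (M : Subgroup G)
    (e : M ≃* alternatingGroup (Fin 4)) :
    ∃ V : Subgroup G, IsKleinFour V ∧ M ≤ Subgroup.normalizer (V : Set G) := by
  have h4 : Nat.card (Fin 4) = 4 := by simp
  have hn : (alternatingGroup.kleinFour (Fin 4)).Normal := alternatingGroup.normal_kleinFour h4
  have hf : Function.Injective (M.subtype.comp e.symm.toMonoidHom) :=
    M.subtype_injective.comp e.symm.injective
  refine ⟨(alternatingGroup.kleinFour (Fin 4)).map (M.subtype.comp e.symm.toMonoidHom),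
    isKleinFour_map _ hf _ (alternatingGroup.kleinFour_isKleinFour h4), ?_⟩
  have h := Subgroup.le_normalizer_map (H := alternatingGroup.kleinFour (Fin 4))
    (M.subtype.comp e.symm.toMonoidHom)
  rw [Subgroup.normalizer_eq_top_iff.mpr hn] at h
  intro m hm
  apply h
  refine ⟨e ⟨m, hm⟩, Subgroup.mem_top _, ?_⟩
  simp

theorem exists_A4_to_A5 :
    ∃ g4 : alternatingGroup (Fin 4) →* alternatingGroup (Fin 5), Function.Injective g4 := by
  classical
  have hφ : Function.Injective
      (Equiv.Perm.extendDomainHom (finSuccAboveEquiv (Fin.last 4))) :=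
    Equiv.Perm.extendDomainHom_injective _
  have hmem : ∀ x : alternatingGroup (Fin 4),
      ((Equiv.Perm.extendDomainHom (finSuccAboveEquiv (Fin.last 4))).comp
        (alternatingGroup (Fin 4)).subtype) x ∈ alternatingGroup (Fin 5) := by
    intro x
    rw [Equiv.Perm.mem_alternatingGroup]
    show Equiv.Perm.sign (Equiv.Perm.extendDomain (x : Equiv.Perm (Fin 4))
      (finSuccAboveEquiv (Fin.last 4))) = 1
    rw [Equiv.Perm.sign_extendDomain]
    exact Equiv.Perm.mem_alternatingGroup.mp x.2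
  refine ⟨((Equiv.Perm.extendDomainHom (finSuccAboveEquiv (Fin.last 4))).comp
    (alternatingGroup (Fin 4)).subtype).codRestrict (alternatingGroup (Fin 5)) hmem, ?_⟩
  intro x y hxy
  have h1 := congrArg Subtype.val hxy
  exact Subtype.ext (hφ h1)

variable {F : Type*} [Field F] [Fintype F]

theorem card_normalizer_klein_le (hodd : Odd (Fintype.card F))
    (h8 : Fintype.card F % 8 = 3 ∨ Fintype.card F % 8 = 5) (V : Subgroup (PSL2 F))
    (hV : IsKleinFour V) : Nat.card (Subgroup.normalizer (V : Set (PSL2 F))) ≤ 12 := by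
  have h2 := Cfsg.Agent.S2428.two_ne_zero_of_odd hodd
  have hq : Fintype.card F % 2 = 1 := Nat.odd_iff.mp hodd
  have hT := Cfsg.Agent.S2431.card_Tor_qi h2 hq
  have hq1 : 1 < Fintype.card F := Fintype.one_lt_card
  have hn8 : ¬ 8 ∣ Nat.card (Tor (qi : SL2 F)) := by
    rw [hT]; split_ifs <;> omega
  obtain ⟨α, β, h, g, rfl⟩ := Cfsg.Agent.S0808.exists_conj_VV h2 V hV
  rw [card_normalizer_map_conj]
  exact card_normalizer_VV_le' h2 α β h hn8

theorem card_normalizer_klein_eq (hodd : Odd (Fintype.card F))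
    (h8 : Fintype.card F % 8 = 1 ∨ Fintype.card F % 8 = 7) (V : Subgroup (PSL2 F))
    (hV : IsKleinFour V) : Nat.card (Subgroup.normalizer (V : Set (PSL2 F))) = 24 := by
  have h2 := Cfsg.Agent.S2428.two_ne_zero_of_odd hodd
  obtain ⟨s, hs⟩ : ∃ s : F, 2 * s ^ 2 = 1 := by
    have : IsSquare (2 : F) := FiniteField.isSquare_two_iff.mpr (by omega)
    obtain ⟨w, hw⟩ := this
    have hw0 : w ≠ 0 := by
      rintro rfl
      apply h2
      rw [hw, mul_zero]
    refine ⟨w⁻¹, ?_⟩
    rw [hw]
    field_simp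
  obtain ⟨α, β, h, g, rfl⟩ := Cfsg.Agent.S0808.exists_conj_VV h2 V hV
  rw [card_normalizer_map_conj]
  exact Cfsg.Agent.S0803.card_normalizer_VV_eq h2 α β h s hs

/-- `A₄` is not maximal in `PSL₂(q)` when `q ≡ ±1 (mod 8)` -/
theorem not_coatom_A4_mod8 (hodd : Odd (Fintype.card F)) (h5 : 5 ≤ Fintype.card F)
    (M : Subgroup (PSL2 F)) (e : Nonempty (M ≃* alternatingGroup (Fin 4)))
    (h8 : Fintype.card F % 8 = 1 ∨ Fintype.card F % 8 = 7) : ¬ IsCoatom M := by
  obtain ⟨e⟩ := e
  intro hco
  obtain ⟨V, hV, hMV⟩ := exists_klein_of_A4 M e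
  have h24 := card_normalizer_klein_eq hodd h8 V hV
  have h12 : Nat.card M = 12 := by rw [Nat.card_congr e.toEquiv, card_A4]
  have hlt : M < Subgroup.normalizer (V : Set (PSL2 F)) := by
    refine lt_of_le_of_ne hMV ?_
    intro h
    rw [h] at h12
    omega
  have htop := hco.2 _ hlt
  rw [htop, Subgroup.card_top] at h24
  have hG := two_mul_card_PSL2 (K := F) hodd
  have hq7 : 7 ≤ Fintype.card F := by omega
  have h49 : 49 ≤ Fintype.card F ^ 2 := by nlinarith
  have h48 : 48 ≤ Fintype.card F ^ 2 - 1 := by omega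
  have := Nat.mul_le_mul hq7 h48
  omega

/-- `A₄` is not maximal in `PSL₂(q)` when `q ≡ ±3 (mod 8)` and `q ≡ ±1 (mod 10)` -/
theorem not_coatom_A4_mod10 (hodd : Odd (Fintype.card F)) (h5 : 5 ≤ Fintype.card F)
    (M : Subgroup (PSL2 F)) (e : Nonempty (M ≃* alternatingGroup (Fin 4)))
    (h8 : Fintype.card F % 8 = 3 ∨ Fintype.card F % 8 = 5)
    (h10 : Fintype.card F % 10 = 1 ∨ Fintype.card F % 10 = 9) : ¬ IsCoatom M := by
  obtain ⟨e⟩ := e
  intro hco
  have hG := two_mul_card_PSL2 (K := F) hodd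
  obtain ⟨V, hV, hMV⟩ := exists_klein_of_A4 M e
  have h12 : Nat.card M = 12 := by rw [Nat.card_congr e.toEquiv, card_A4]
  have hNV := card_normalizer_klein_le hodd h8 V hV
  have hMeq : M = Subgroup.normalizer (V : Set (PSL2 F)) :=
    Subgroup.eq_of_le_of_card_ge hMV (by rw [h12]; exact hNV)
  have h5d : 5 ∣ Fintype.card F * (Fintype.card F ^ 2 - 1) := by
    have hm : Fintype.card F % 5 = 1 ∨ Fintype.card F % 5 = 4 := by omega
    have h1 : Fintype.card F ^ 2 % 5 = 1 := by
      rw [Nat.pow_mod]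
      rcases hm with h | h <;> rw [h]
    have h2 : 5 ∣ Fintype.card F ^ 2 - 1 := by omega
    exact Dvd.dvd.mul_left h2 _
  obtain ⟨L, ⟨e5⟩⟩ := (Cfsg.Agent.S0804.result (F := F) rfl).mpr h5d
  obtain ⟨g4, hg4⟩ := exists_A4_to_A5
  obtain ⟨Fm, hFmdef⟩ : ∃ Fm : alternatingGroup (Fin 4) →* PSL2 F,
      Fm = (L.subtype.comp e5.symm.toMonoidHom).comp g4 := ⟨_, rfl⟩
  have hFm : Function.Injective Fm := by
    rw [hFmdef]
    exact (L.subtype_injective.comp e5.symm.injective).comp hg4
  have hFL : Fm.range ≤ L := by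
    rintro _ ⟨x, rfl⟩
    rw [hFmdef]
    exact (e5.symm (g4 x)).2
  have h4 : Nat.card (Fin 4) = 4 := by simp
  have hn : (alternatingGroup.kleinFour (Fin 4)).Normal := alternatingGroup.normal_kleinFour h4
  have hV0 : IsKleinFour ((alternatingGroup.kleinFour (Fin 4)).map Fm) :=
    isKleinFour_map Fm hFm _ (alternatingGroup.kleinFour_isKleinFour h4)
  have hR : Fm.range ≤ Subgroup.normalizer
      (((alternatingGroup.kleinFour (Fin 4)).map Fm : Subgroup (PSL2 F)) : Set (PSL2 F)) := by
    have h := Subgroup.le_normalizer_map (H := alternatingGroup.kleinFour (Fin 4)) Fm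
    rw [Subgroup.normalizer_eq_top_iff.mpr hn, ← MonoidHom.range_eq_map] at h
    exact h
  have hRc : Nat.card Fm.range = 12 := by
    rw [← Nat.card_congr (MonoidHom.ofInjective hFm).toEquiv, card_A4]
  have hReq : Fm.range = Subgroup.normalizer
      (((alternatingGroup.kleinFour (Fin 4)).map Fm : Subgroup (PSL2 F)) : Set (PSL2 F)) :=
    Subgroup.eq_of_le_of_card_ge hR
      (by rw [hRc]; exact card_normalizer_klein_le hodd h8 _ hV0)
  obtain ⟨g, hg⟩ := Cfsg.Agent.S0808.main1 hodd h8 _ V hV0 hV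
  have hML : M ≤ L.map (MulAut.conj g).toMonoidHom := by
    rw [hMeq, hg, ← Subgroup.map_equiv_normalizer_eq _ (MulAut.conj g), ← hReq]
    exact Subgroup.map_mono hFL
  have hLc : Nat.card (L.map (MulAut.conj g).toMonoidHom) = 60 := by
    rw [Cfsg.Agent.Lib.Helper12.SylTwo.card_map_conj, Nat.card_congr e5.toEquiv, card_A5]
  have hlt : M < L.map (MulAut.conj g).toMonoidHom := by
    refine lt_of_le_of_ne hML ?_
    intro h
    rw [h] at h12
    omega
  have htop := hco.2 _ hlt
  rw [htop, Subgroup.card_top] at hLc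
  have hq11 : 11 ≤ Fintype.card F := by omega
  have h121 : 121 ≤ Fintype.card F ^ 2 := by nlinarith
  have h120 : 120 ≤ Fintype.card F ^ 2 - 1 := by omega
  have := Nat.mul_le_mul hq11 h120
  omega

end Cfsg.Agent.Lib.Helper16.DkA4Max
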