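import Mathlib
import Cfsg.Agent.Lib.Helper16.DkTorusCard
import Cfsg.Agent.Lib.Helper12.C8

/-! Exact order of the centralizer of a regular semisimple element of `SL₂(F)`, `F` finite,
every characteristic. -/

set_option autoImplicit false

namespace Cfsg.Agent.Lib.Helper16.DkTorusCard

open Cfsg.Agent.Lib.Helper12.SL2

local notation "SL2" => Matrix.SpecialLinearGroup (Fin 2)

variable {F : Type*} [Field F]

/-- **exact torus order**, every characteristic -/
theorem card_centralizer [Fintype F] (g : SL2 F) (hg : NonScalar g) (hΔ : tr g ^ 2 ≠ 4) :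
    Nat.card (Subgroup.centralizer ({g} : Set (SL2 F))) = Fintype.card F - 1 ∨
      Nat.card (Subgroup.centralizer ({g} : Set (SL2 F))) = Fintype.card F + 1 := by
  by_cases h2 : (2 : F) = 0
  · exact card_centralizer_two h2 g hg hΔ
  · exact (card_Tor_regular h2 g hΔ).1

end Cfsg.Agent.Lib.Helper16.DkTorusCard
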