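import Cfsg.Agent.Lib.Helper16.FrakH0

set_option autoImplicit false
open Cfsg
open scoped commutatorElement Pointwise

namespace Cfsg.Agent.Lib.Helper16

section
variable {G : Type*} [Group G] [Finite G] {p : ℕ} [Fact p.Prime] {M H : Subgroup G}

omit [Finite G] [Fact p.Prime] in
theorem frakH_pCoreOf_le (hH : Cfsg.IsInFrakH p M H) : opDown p M ≤ H := by
  rw [← pCoreOf_eq_opDown]; exact hH.2.1

theorem frakH_Y_le (hH : Cfsg.IsInFrakH p M H) : Cfsg.largestPReducedOf p M ≤ H :=
  (largestPReducedOf_le_opDown p M).trans (frakH_pCoreOf_le hH)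

omit [Finite G] [Fact p.Prime] in
/-- Minimality: a subgroup `P` of `H` containing `O_p(M)` with `O_p(P) ≤ O_p(H)` is `H`. -/
theorem frakH_eq_of_opDown_le (hH : Cfsg.IsInFrakH p M H) (P : Subgroup G)
    (hRP : opDown p M ≤ P) (hPH : P ≤ H) (h : opDown p P ≤ opDown p H) : P = H := by
  by_contra hne
  have hlt : P < H := lt_of_le_of_ne hPH hne
  have h1 := hH.2.2.2 P (by rw [pCoreOf_eq_opDown]; exact hRP) hlt
  apply hH.2.2.1
  rw [pCoreOf_eq_opDown] at h1 ⊢
  exact h1.trans h

/-- `H = N O_p(M)` for every normal subgroup `N` of `H` containing `Y_M`. -/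
theorem frakH_sup_eq_of_normal (hH : Cfsg.IsInFrakH p M H) (N : Subgroup G) (hNH : N ≤ H)
    (hHN : H ≤ Subgroup.normalizer (N : Set G)) (hYN : Cfsg.largestPReducedOf p M ≤ N) :
    N ⊔ opDown p M = H := by
  have hRH := frakH_pCoreOf_le hH
  by_contra hne
  have hle : N ⊔ opDown p M ≤ H := sup_le hNH hRH
  have hlt : N ⊔ opDown p M < H := lt_of_le_of_ne hle hne
  have h1 := hH.2.2.2 (N ⊔ opDown p M) (by rw [pCoreOf_eq_opDown]; exact le_sup_right) hlt
  apply hH.2.2.1
  rw [pCoreOf_eq_opDown] at h1 ⊢
  set P := N ⊔ opDown p M with hP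
  have h2 : Cfsg.largestPReducedOf p M ≤ opDown p P ⊓ N := le_inf h1 hYN
  have h3 : opDown p P ⊓ N ≤ opDown p N := by
    apply le_opDown p inf_le_right
    · refine le_trans ?_ (inf_normalizer_le_normalizer_inf _ _)
      exact le_inf ((le_sup_left : N ≤ P).trans (le_normalizer_opDown p P)) Subgroup.le_normalizer
    · exact (opDown_isPGroup p P).to_le inf_le_left
  exact (h2.trans h3).trans (opDown_le_opDown_of_normal p hNH hHN)

/-- `H = O^p(H) O_p(M)`. -/
theorem frakH_opUp_sup (hH : Cfsg.IsInFrakH p M H) : opUp p H ⊔ opDown p M = H := by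
  apply frakH_eq_of_opDown_le hH _ le_sup_right (sup_le (opUp_le p H) (frakH_pCoreOf_le hH))
  exact opDown_le_opDown_of_opUp_le _ H (sup_le (opUp_le p H) (frakH_pCoreOf_le hH)) le_sup_left

/-- `H` is the normal closure of `O_p(M)` in `H`. -/
theorem frakH_normalClosure_eq (hH : Cfsg.IsInFrakH p M H) :
    (Subgroup.normalClosure (((opDown p M).subgroupOf H : Subgroup ↥H) : Set ↥H)).map H.subtype =
      H := by
  apply frakH_eq_of_opDown_le hH _ (le_map_normalClosure_subgroupOf _ H (frakH_pCoreOf_le hH))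
    (Subgroup.map_subtype_le _)
  exact opDown_le_opDown_of_normal p (Subgroup.map_subtype_le _)
    (le_normalizer_map_normalClosure _ H)

/-- `O^p(H)` lies in every normal subgroup of `H` containing `Y_M`. -/
theorem frakH_opUp_le_of_normal (hH : Cfsg.IsInFrakH p M H) (N : Subgroup G) (hNH : N ≤ H)
    (hHN : H ≤ Subgroup.normalizer (N : Set G)) (hYN : Cfsg.largestPReducedOf p M ≤ N) :
    opUp p H ≤ N := by
  have h1 := frakH_sup_eq_of_normal hH N hNH hHN hYN
  have h2 := opUp_sup_le_of_isPGroup p N (opDown p M) (opDown_isPGroup p M)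
    ((frakH_pCoreOf_le hH).trans hHN)
  rwa [h1] at h2

/-- `O^p(H) Y_M` is the normal closure of `Y_M` in `H`. -/
theorem frakH_opUp_sup_Y (hH : Cfsg.IsInFrakH p M H) :
    opUp p H ⊔ Cfsg.largestPReducedOf p M =
      (Subgroup.normalClosure (((Cfsg.largestPReducedOf p M).subgroupOf H : Subgroup ↥H) :
        Set ↥H)).map H.subtype := by
  set Y := Cfsg.largestPReducedOf p M with hY
  have hYH : Y ≤ H := frakH_Y_le hH
  apply le_antisymm
  · apply sup_le
    · exact frakH_opUp_le_of_normal hH _ (Subgroup.map_subtype_le _)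
        (le_normalizer_map_normalClosure _ H) (le_map_normalClosure_subgroupOf Y H hYH)
    · exact le_map_normalClosure_subgroupOf Y H hYH
  · have hHN : H ≤ Subgroup.normalizer ((opUp p H ⊔ Y : Subgroup G) : Set G) := by
      refine (frakH_opUp_sup hH).symm.le.trans (sup_le ?_ ?_)
      · exact le_sup_left.trans Subgroup.le_normalizer
      · refine le_trans ?_ (inf_normalizer_le_normalizer_sup _ _)
        apply le_inf
        · exact (frakH_pCoreOf_le hH).trans
            (Subgroup.le_normalizer.trans (normalizer_le_normalizer_opUp p H))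
        · exact (opDown_le p M).trans (le_normalizer_largestPReducedOf p M)
    exact map_normalClosure_subgroupOf_le Y H _ (sup_le (opUp_le p H) hYH) hHN le_sup_right

/-- `O^p(H) = [O^p(H), Y_M]`. -/
theorem frakH_commutator_opUp (hH : Cfsg.IsInFrakH p M H) :
    ⁅opUp p H, Cfsg.largestPReducedOf p M⁆ = opUp p H := by
  set Y := Cfsg.largestPReducedOf p M with hY
  set R := opUp p H with hR
  have hYH : Y ≤ H := frakH_Y_le hH
  have hYp : IsPGroup p Y :=
    isElementaryAbelian_isPGroup (largestPReducedOf_isElementaryAbelian p M)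
  have hHR : H ≤ Subgroup.normalizer (R : Set G) :=
    Subgroup.le_normalizer.trans (normalizer_le_normalizer_opUp p H)
  have hXR : ⁅R, Y⁆ ≤ R := commutator_le_of_le_normalizer' R Y (hYH.trans hHR)
  apply le_antisymm hXR
  set X := ⁅R, Y⁆ with hX
  have hR₀N : opDown p M ≤ Subgroup.normalizer (R : Set G) ⊓ Subgroup.normalizer (Y : Set G) :=
    le_inf ((frakH_pCoreOf_le hH).trans hHR)
      ((opDown_le p M).trans (le_normalizer_largestPReducedOf p M))
  have hHX : H ≤ Subgroup.normalizer (X : Set G) := by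
    refine (frakH_opUp_sup hH).symm.le.trans (sup_le ?_ ?_)
    · exact le_normalizer_commutator_left R Y
    · exact hR₀N.trans (inf_normalizer_le_normalizer_commutator R Y)
  have hYX : Y ≤ Subgroup.normalizer (X : Set G) := le_normalizer_commutator_right R Y
  -- X ⊔ Y is normal in H
  have hHXY : H ≤ Subgroup.normalizer ((X ⊔ Y : Subgroup G) : Set G) := by
    refine (frakH_opUp_sup hH).symm.le.trans (sup_le ?_ ?_)
    · -- R normalizes X ⊔ Y
      have key : ∀ r ∈ R, (X ⊔ Y).map (MulAut.conj r).toMonoidHom ≤ X ⊔ Y := by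
        intro r hr
        rw [Subgroup.map_sup]
        apply sup_le
        · exact ((map_conj_eq_self_iff X r).mpr (le_normalizer_commutator_left R Y hr)).le.trans
            le_sup_left
        · rintro _ ⟨y, hy, rfl⟩
          show (MulAut.conj r) y ∈ _
          rw [MulAut.conj_apply]
          have e : r * y * r⁻¹ = ⁅r, y⁆ * y := by rw [commutatorElement_def]; group
          rw [e]
          exact Subgroup.mul_mem _ (le_sup_left (b := Y) (Subgroup.commutator_mem_commutator hr hy))
            (le_sup_right (a := X) hy)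
      intro r hr
      exact mem_normalizer_of_map_conj_le _ r (key r hr) (key r⁻¹ (R.inv_mem hr))
    · refine le_trans ?_ (inf_normalizer_le_normalizer_sup _ _)
      exact le_inf (hR₀N.trans (inf_normalizer_le_normalizer_commutator R Y)) (hR₀N.trans inf_le_right)
  have h1 : R ≤ X ⊔ Y :=
    frakH_opUp_le_of_normal hH _ (sup_le (hXR.trans (opUp_le p H)) hYH) hHXY le_sup_right
  have h2 : opUp p R ≤ opUp p (X ⊔ Y) := opUp_mono p h1
  rw [hR, opUp_opUp] at h2
  exact h2.trans (opUp_sup_le_of_isPGroup p X Y hYp hYX)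

end

end Cfsg.Agent.Lib.Helper16
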