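import Cfsg.Agent.Lib.Helper16.FrakM
import Cfsg.Agent.Lib.Helper16.SubnormalPGroup
import Cfsg.Agent.Lib.Helper16.SubnormalResidual
import Cfsg.Agent.Lib.Helper16.ThompsonAxB2

set_option autoImplicit false
open Cfsg
open scoped commutatorElement Pointwise

namespace Cfsg.Agent.Lib.Helper16

section
variable {G : Type*} [Group G]

/-- Elements normalizing `A` and `B` normalize `A ⊔ B`. -/
theorem inf_normalizer_le_normalizer_sup (A B : Subgroup G) :
    Subgroup.normalizer (A : Set G) ⊓ Subgroup.normalizer (B : Set G) ≤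
      Subgroup.normalizer ((A ⊔ B : Subgroup G) : Set G) := by
  have key : ∀ g ∈ Subgroup.normalizer (A : Set G) ⊓ Subgroup.normalizer (B : Set G),
      (A ⊔ B).map (MulAut.conj g).toMonoidHom ≤ A ⊔ B := by
    intro g hg
    rw [Subgroup.map_sup]
    apply sup_le
    · exact ((map_conj_eq_self_iff A g).mpr hg.1).le.trans le_sup_left
    · exact ((map_conj_eq_self_iff B g).mpr hg.2).le.trans le_sup_right
  intro g hg
  exact mem_normalizer_of_map_conj_le _ g (key g hg) (key g⁻¹ (Subgroup.inv_mem _ hg))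

/-- The normal closure in `H` of a subgroup `Y ≤ H`, viewed in `G`. -/
theorem le_map_normalClosure_subgroupOf (Y H : Subgroup G) (hYH : Y ≤ H) :
    Y ≤ (Subgroup.normalClosure ((Y.subgroupOf H : Subgroup ↥H) : Set ↥H)).map H.subtype := by
  intro y hy
  exact ⟨⟨y, hYH hy⟩, Subgroup.subset_normalClosure (Subgroup.mem_subgroupOf.mpr hy), rfl⟩

theorem map_normalClosure_subgroupOf_le (Y H Z : Subgroup G) (hZH : Z ≤ H)
    (hHZ : H ≤ Subgroup.normalizer (Z : Set G)) (hYZ : Y ≤ Z) :
    (Subgroup.normalClosure ((Y.subgroupOf H : Subgroup ↥H) : Set ↥H)).map H.subtype ≤ Z := by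
  have hn : (Z.subgroupOf H).Normal := (Subgroup.normal_subgroupOf_iff_le_normalizer hZH).mpr hHZ
  have h1 : Subgroup.normalClosure ((Y.subgroupOf H : Subgroup ↥H) : Set ↥H) ≤ Z.subgroupOf H := by
    apply Subgroup.normalClosure_le_normal
    intro y hy
    exact Subgroup.mem_subgroupOf.mpr (hYZ (Subgroup.mem_subgroupOf.mp hy))
  have h2 := Subgroup.map_mono (f := H.subtype) h1
  rwa [Subgroup.map_subgroupOf_eq_of_le hZH] at h2

theorem le_normalizer_map_normalClosure (Y H : Subgroup G) :
    H ≤ Subgroup.normalizer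
      (((Subgroup.normalClosure ((Y.subgroupOf H : Subgroup ↥H) : Set ↥H)).map H.subtype :
        Subgroup G) : Set G) :=
  le_normalizer_map_subtype_of_normal H _ Subgroup.normalClosure_normal

end

section
variable {G : Type*} [Group G] [Finite G] {p : ℕ} [Fact p.Prime]

/-- `O_p` of a subgroup commutes with `subgroupOf`. -/
theorem opDown_subgroupOf (P H : Subgroup G) (hPH : P ≤ H) :
    opDown p (P.subgroupOf H) = (opDown p P).subgroupOf H := by
  apply le_antisymm
  · have h1 : (opDown p (P.subgroupOf H)).map H.subtype ≤ opDown p P := by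
      apply le_opDown p
      · have := Subgroup.map_mono (f := H.subtype) (opDown_le p (P.subgroupOf H))
        rwa [Subgroup.map_subgroupOf_eq_of_le hPH] at this
      · intro x hx
        have hxn := le_normalizer_opDown p (P.subgroupOf H)
          (show (⟨x, hPH hx⟩ : ↥H) ∈ P.subgroupOf H from Subgroup.mem_subgroupOf.mpr hx)
        apply mem_normalizer_of_conj_mem
        · rintro _ ⟨y, hy, rfl⟩
          exact ⟨⟨x, hPH hx⟩ * y * ⟨x, hPH hx⟩⁻¹, conj_mem_of_mem_normalizer hxn hy, rfl⟩
        · rintro _ ⟨y, hy, rfl⟩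
          exact ⟨⟨x, hPH hx⟩⁻¹ * y * ⟨x, hPH hx⟩, conj_inv_mem_of_mem_normalizer hxn hy, rfl⟩
      · exact (opDown_isPGroup p (P.subgroupOf H)).map _
    intro x hx
    exact Subgroup.mem_subgroupOf.mpr (h1 ⟨x, hx, rfl⟩)
  · apply le_opDown p
    · intro x hx
      exact Subgroup.mem_subgroupOf.mpr (opDown_le p P (Subgroup.mem_subgroupOf.mp hx))
    · intro x hx
      have hxn := le_normalizer_opDown p P (Subgroup.mem_subgroupOf.mp hx)
      apply mem_normalizer_of_conj_mem
      · intro y hy
        rw [Subgroup.mem_subgroupOf] at hy ⊢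
        have := conj_mem_of_mem_normalizer hxn hy
        simpa using this
      · intro y hy
        rw [Subgroup.mem_subgroupOf] at hy ⊢
        have := conj_inv_mem_of_mem_normalizer hxn hy
        simpa using this
    · exact (opDown_isPGroup p P).comap_subtype

/-- If `O^p(H) ≤ P ≤ H` then `O_p(P) ≤ O_p(H)`. -/
theorem opDown_le_opDown_of_opUp_le (P H : Subgroup G) (hPH : P ≤ H) (hR : opUp p H ≤ P) :
    opDown p P ≤ opDown p H := by
  have hRn : ((opUp p H).subgroupOf H).Normal := by
    rw [Subgroup.normal_subgroupOf_iff_le_normalizer (opUp_le p H)]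
    exact Subgroup.le_normalizer.trans (normalizer_le_normalizer_opUp p H)
  have hsub : (P.subgroupOf H).IsSubnormal := by
    apply isSubnormal_of_le_of_pgroup_quot (p := p) ((opUp p H).subgroupOf H) (P.subgroupOf H)
    · intro x hx
      exact Subgroup.mem_subgroupOf.mpr (hR (Subgroup.mem_subgroupOf.mp hx))
    · intro g
      obtain ⟨k, hk⟩ := exists_pow_mem_opUp p H g.2
      refine ⟨k, ?_⟩
      rw [Subgroup.mem_subgroupOf]
      simpa using hk
  have h1 := opDown_le_pCore_of_isSubnormal p hsub
  rw [opDown_subgroupOf P H hPH] at h1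
  have h2 := Subgroup.map_mono (f := H.subtype) h1
  rw [Subgroup.map_subgroupOf_eq_of_le ((opDown_le p P).trans hPH), map_pCore_eq_opDown] at h2
  exact h2

end

end Cfsg.Agent.Lib.Helper16
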