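import Cfsg.Agent.Lib.Helper16.PReducedClosure
import Cfsg.Agent.Lib.Helper16.Residual
import Cfsg.Agent.Lib.Helper13.Coprime
import Cfsg.Agent.Lib.Helper14.FrattiniQuot
import Cfsg.Agent.Lib.Helper3.PIrred

set_option autoImplicit false
open Cfsg
open scoped commutatorElement Pointwise

namespace Cfsg.Agent.Lib.Helper16

/-- A finite group `W` with a normal subgroup `K` of `p`-power index which is central modulo a
normal `p`-subgroup `D₀` is `p`-closed. -/
theorem isPClosed_of_central_mod {W : Type*} [Group W] [Finite W] {p : ℕ} [Fact p.Prime]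
    (K D₀ : Subgroup W) [hKn : K.Normal] [hDn : D₀.Normal] (hD₀ : IsPGroup p D₀)
    (hK : ∀ g : W, ∃ k : ℕ, g ^ (p ^ k) ∈ K)
    (hc : ∀ k ∈ K, ∀ w : W, ⁅k, w⁆ ∈ D₀) : Cfsg.IsPClosed p W := by
  intro P
  have hD₀P : D₀ ≤ (P : Subgroup W) := hD₀.le_sylow_of_normal P
  have hKN : K ≤ Subgroup.normalizer ((P : Subgroup W) : Set W) := by
    have key : ∀ k ∈ K, ∀ x ∈ (P : Subgroup W), k * x * k⁻¹ ∈ (P : Subgroup W) := by
      intro k hk x hx
      have h1 : k * x * k⁻¹ = ⁅k, x⁆ * x := by rw [commutatorElement_def]; group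
      rw [h1]
      exact Subgroup.mul_mem _ (hD₀P (hc k hk x)) hx
    intro k hk
    apply mem_normalizer_of_conj_mem
    · exact key k hk
    · intro x hx
      have := key k⁻¹ (K.inv_mem hk) x hx
      simpa using this
  have htop : Subgroup.normalizer ((P : Subgroup W) : Set W) = ⊤ := by
    rw [eq_top_iff]
    intro w _
    obtain ⟨t, ht, c, hc', hw⟩ := exists_sylow_mul_of_pgroup_quot P K ⊤ inferInstance
      (fun x _ => hK x) w (Subgroup.mem_top w)
    rw [hw]
    exact Subgroup.mul_mem _ (Subgroup.le_normalizer ht) (hKN hc')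
  exact Subgroup.normalizer_eq_top_iff.mp htop

/-- The subgroup of elements acting trivially on `A` modulo the normal subgroup `B`. -/
def commStab {L : Type*} [Group L] (A B : Subgroup L) [hB : B.Normal] : Subgroup L where
  carrier := {x | ∀ a ∈ A, ⁅a, x⁆ ∈ B}
  one_mem' := by
    intro a _
    simp only [commutatorElement_def, mul_one, inv_one, mul_inv_cancel]
    exact B.one_mem
  mul_mem' := by
    intro x y hx hy a ha
    have h1 : ⁅a, x * y⁆ = ⁅a, x⁆ * (x * ⁅a, y⁆ * x⁻¹) := by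
      simp only [commutatorElement_def]; group
    rw [h1]
    exact B.mul_mem (hx a ha) (hB.conj_mem _ (hy a ha) x)
  inv_mem' := by
    intro x hx a ha
    have h1 : ⁅a, x⁻¹⁆ = x⁻¹ * (⁅a, x⁆)⁻¹ * x⁻¹⁻¹ := by
      simp only [commutatorElement_def]; group
    rw [h1]
    exact hB.conj_mem _ (B.inv_mem (hx a ha)) x⁻¹

theorem mem_commStab {L : Type*} [Group L] (A B : Subgroup L) [hB : B.Normal] (x : L) :
    x ∈ commStab A B ↔ ∀ a ∈ A, ⁅a, x⁆ ∈ B := Iff.rfl

theorem commStab_normal {L : Type*} [Group L] (A B : Subgroup L) [hA : A.Normal] [hB : B.Normal] :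
    (commStab A B).Normal := by
  refine ⟨fun x hx g => ?_⟩
  intro a ha
  have h1 : ⁅a, g * x * g⁻¹⁆ = g * ⁅g⁻¹ * a * g⁻¹⁻¹, x⁆ * g⁻¹ := by
    simp only [commutatorElement_def]; group
  rw [h1]
  exact hB.conj_mem _ (hx _ (hA.conj_mem a ha g⁻¹)) g

/-- A `p'`-element acting trivially on `A / A'` (`A` a normal `p`-subgroup) centralizes `A`. -/
theorem mem_centralizer_of_coprime_of_commutator_mem {L : Type*} [Group L] [Finite L] {p : ℕ}
    [Fact p.Prime] (A : Subgroup L) [hA : A.Normal] (hAp : IsPGroup p A) (x : L)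
    (hcop : (orderOf x).Coprime p) (h : ∀ a ∈ A, ⁅a, x⁆ ∈ ⁅A, A⁆) :
    x ∈ Subgroup.centralizer (A : Set L) := by
  set X := Subgroup.zpowers x with hX
  have hXA : X ≤ Subgroup.normalizer (A : Set L) := by
    rw [Subgroup.normalizer_eq_top]; exact le_top
  have hcard : (Nat.card X).Coprime (Nat.card A) := by
    obtain ⟨n, hn⟩ := IsPGroup.iff_card.mp hAp
    rw [hn, hX, Nat.card_zpowers]
    exact Nat.Coprime.pow_right n hcop
  have hsup := Cfsg.Agent.Lib.Helper13.coprime_commutator_sup_centralizer X A hXA hcard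
    (Or.inl inferInstance)
  have hXstab : X ≤ commStab A ⁅A, A⁆ := by
    rw [hX, Subgroup.zpowers_le]
    exact h
  have hle : ⁅A, X⁆ ≤ ⁅A, A⁆ := by
    rw [Subgroup.commutator_le]
    intro a ha z hz
    exact hXstab hz a ha
  have hsup2 : (A ⊓ Subgroup.centralizer (X : Set L)) ⊔ ⁅A, A⁆ = A := by
    apply le_antisymm
    · exact sup_le inf_le_left (Subgroup.commutator_le_right A A)
    · calc A = ⁅A, X⁆ ⊔ (A ⊓ Subgroup.centralizer (X : Set L)) := hsup.symm
        _ ≤ (A ⊓ Subgroup.centralizer (X : Set L)) ⊔ ⁅A, A⁆ := sup_le (hle.trans le_sup_right) le_sup_left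
  have hcomm : (⁅A, A⁆).subgroupOf A = commutator ↥A := by
    have h1 : (commutator ↥A).map A.subtype = ⁅A, A⁆ := by
      rw [commutator_def, Subgroup.map_commutator, ← MonoidHom.range_eq_map, Subgroup.range_subtype]
    rw [← h1]
    exact Subgroup.comap_map_eq_self_of_injective A.subtype_injective _
  have htop : (A ⊓ Subgroup.centralizer (X : Set L)).subgroupOf A ⊔ frattini ↥A = ⊤ := by
    rw [eq_top_iff]
    have h2 : (A ⊓ Subgroup.centralizer (X : Set L)).subgroupOf A ⊔ (⁅A, A⁆).subgroupOf A = ⊤ := by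
      rw [← Subgroup.subgroupOf_sup inf_le_left (Subgroup.commutator_le_right A A), hsup2,
        Subgroup.subgroupOf_self]
    rw [← h2]
    apply sup_le_sup_left
    rw [hcomm]
    exact Cfsg.Agent.Lib.Helper14.commutator_le_frattini_of_isPGroup' hAp
  have h3 := frattini_nongenerating htop
  rw [Subgroup.mem_centralizer_iff]
  intro a ha
  have h4 : (⟨a, ha⟩ : ↥A) ∈ (A ⊓ Subgroup.centralizer (X : Set L)).subgroupOf A := by
    rw [h3]; exact Subgroup.mem_top _
  rw [Subgroup.mem_subgroupOf] at h4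
  have h5 : a ∈ Subgroup.centralizer (X : Set L) := (Subgroup.mem_inf.mp h4).2
  rw [Subgroup.mem_centralizer_iff] at h5
  exact (h5 x (Subgroup.mem_zpowers x)).symm

/-- Criterion for a `p`-subgroup `Y` to lie in `O_p(L)`: `Y` acts trivially on `A/A'` for a normal
`p`-subgroup `A`, and centralizes `C_L(A)` modulo a normal `p`-subgroup `D₁`. -/
theorem le_pCore_of_commutator_conditions {L : Type*} [Group L] [Finite L] {p : ℕ}
    [Fact p.Prime] (A D₁ Y : Subgroup L) [hA : A.Normal] [hD₁ : D₁.Normal]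
    (hAp : IsPGroup p A) (hD₁p : IsPGroup p D₁) (hYp : IsPGroup p Y)
    (ha : ∀ a ∈ A, ∀ y ∈ Y, ⁅a, y⁆ ∈ ⁅A, A⁆)
    (hb : ∀ d ∈ Subgroup.centralizer (A : Set L), ∀ y ∈ Y, ⁅d, y⁆ ∈ D₁) :
    Y ≤ Cfsg.pCore p L := by
  set D := Subgroup.centralizer (A : Set L) with hD
  have hDn : D.Normal := Subgroup.normal_centralizer
  have hW₁n : (commStab D D₁).Normal := commStab_normal D D₁
  have hW₂n : (commStab A ⁅A, A⁆).Normal := commStab_normal A ⁅A, A⁆
  set W := commStab D D₁ ⊓ commStab A ⁅A, A⁆ with hW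
  have hWn : W.Normal := inferInstance
  have hYW : Y ≤ W := by
    intro y hy
    refine Subgroup.mem_inf.mpr ⟨?_, ?_⟩
    · intro d hd; exact hb d hd y hy
    · intro a ha'; exact ha a ha' y hy
  have hKD : opUp p W ≤ D := by
    rw [opUp_le_iff]
    intro g hg hcop
    exact mem_centralizer_of_coprime_of_commutator_mem A hAp g hcop (Subgroup.mem_inf.mp hg).2
  have hKn : ((opUp p W).subgroupOf W).Normal := by
    rw [Subgroup.normal_subgroupOf_iff_le_normalizer (opUp_le p W)]
    exact Subgroup.le_normalizer.trans (normalizer_le_normalizer_opUp p W)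
  have hD₀n : (D₁.subgroupOf W).Normal := hD₁.subgroupOf W
  have hcl : Cfsg.IsPClosed p ↥W := by
    apply isPClosed_of_central_mod ((opUp p W).subgroupOf W) (D₁.subgroupOf W)
      hD₁p.comap_subtype
    · intro g
      obtain ⟨k, hk⟩ := exists_pow_mem_opUp p W g.2
      refine ⟨k, ?_⟩
      rw [Subgroup.mem_subgroupOf]
      simpa using hk
    · intro k hk w
      rw [Subgroup.mem_subgroupOf] at hk ⊢
      have h1 : (w : L) ∈ commStab D D₁ := (Subgroup.mem_inf.mp w.2).1
      have := h1 (k : L) (hKD hk)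
      have e : ((⁅k, w⁆ : ↥W) : L) = ⁅(k : L), (w : L)⁆ := by
        simp [commutatorElement_def]
      rw [e]; exact this
  exact Cfsg.Agent.Lib.Helper3.le_pCore_of_le_isPClosed hcl hYW hYp

end Cfsg.Agent.Lib.Helper16
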