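import Cfsg.Agent.Lib.Helper16.FrakH
import Cfsg.Agent.Lib.Helper16.PClosedCentral

set_option autoImplicit false
open Cfsg
open scoped commutatorElement Pointwise

namespace Cfsg.Agent.Lib.Helper16

section
variable {G : Type*} [Group G] [Finite G] {p : ℕ} [Fact p.Prime]

omit [Finite G] [Fact p.Prime] in
theorem isPGroup_zpowers_of_pow_eq_one (x : G) (k : ℕ) (hx : x ^ (p ^ k) = 1) :
    IsPGroup p (Subgroup.zpowers x) := by
  rintro ⟨y, hy⟩
  obtain ⟨n, rfl⟩ := Subgroup.mem_zpowers_iff.mp hy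
  refine ⟨k, ?_⟩
  apply Subtype.ext
  simp only [SubgroupClass.coe_pow, Subgroup.coe_one]
  rw [← zpow_natCast, ← zpow_mul, mul_comm, zpow_mul, zpow_natCast, hx, one_zpow]

omit [Finite G] [Fact p.Prime] in
/-- Ambient criterion for `p`-closedness: a normal `p`-subgroup `V` of `N` containing all
`p`-elements of `N`. -/
theorem isPClosed_of_forall_mem (N V : Subgroup G) (hVN : V ≤ N)
    (hNV : N ≤ Subgroup.normalizer (V : Set G)) (hVp : IsPGroup p V)
    (h : ∀ x ∈ N, (∃ k : ℕ, x ^ (p ^ k) = 1) → x ∈ V) : Cfsg.IsPClosed p ↥N := by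
  intro P
  have hn : (V.subgroupOf N).Normal := (Subgroup.normal_subgroupOf_iff_le_normalizer hVN).mpr hNV
  have hle : (P : Subgroup ↥N) ≤ V.subgroupOf N := by
    intro x hx
    rw [Subgroup.mem_subgroupOf]
    apply h _ x.2
    obtain ⟨k, hk⟩ := P.2 ⟨x, hx⟩
    refine ⟨k, ?_⟩
    have := congrArg (fun z : ↥(P : Subgroup ↥N) => ((z : ↥N) : G)) hk
    simpa using this
  have heq : V.subgroupOf N = (P : Subgroup ↥N) := P.3 hVp.comap_subtype hle
  rw [← heq]
  exact hn

/-- In a `p`-closed subgroup every `p`-element lies in `O_p`. -/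
theorem mem_opDown_of_isPClosed (N : Subgroup G) (hcl : Cfsg.IsPClosed p ↥N) (x : G) (hxN : x ∈ N)
    (k : ℕ) (hx : x ^ (p ^ k) = 1) : x ∈ opDown p N := by
  have h1 := le_pCoreOf_of_isPClosed N N (Subgroup.zpowers x) le_rfl Subgroup.le_normalizer hcl
    ((Subgroup.zpowers_le).mpr hxN) (isPGroup_zpowers_of_pow_eq_one x k hx)
  rw [pCoreOf_eq_opDown] at h1
  exact h1 (Subgroup.mem_zpowers x)

/-- **`H ∈ ℌ` is `p`-irreducible** (ambient form): a normal subgroup of `H` that is not
`p`-closed contains `O^p(H)`. -/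
theorem frakH_opUp_le_of_not_isPClosed {M H : Subgroup G} (hH : Cfsg.IsInFrakH p M H)
    (N : Subgroup G) (hNH : N ≤ H) (hHN : H ≤ Subgroup.normalizer (N : Set G))
    (hncl : ¬ Cfsg.IsPClosed p ↥N) : opUp p H ≤ N := by
  set R₀ := opDown p M with hR₀
  set Y := Cfsg.largestPReducedOf p M with hY
  have hRH : R₀ ≤ H := frakH_pCoreOf_le hH
  have hYH : Y ≤ H := frakH_Y_le hH
  by_cases hP : N ⊔ R₀ = H
  · have h2 := opUp_sup_le_of_isPGroup p N R₀ (opDown_isPGroup p M) (hRH.trans hHN)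
    rwa [hP] at h2
  · exfalso
    apply hncl
    set P := N ⊔ R₀ with hPdef
    have hPH : P ≤ H := sup_le hNH hRH
    have hlt : P < H := lt_of_le_of_ne hPH hP
    have hYP : Y ≤ opDown p P := by
      have := hH.2.2.2 P (by rw [pCoreOf_eq_opDown]; exact le_sup_right) hlt
      rwa [pCoreOf_eq_opDown] at this
    set V := opDown p N with hV
    have hHV : H ≤ Subgroup.normalizer (V : Set G) := hHN.trans (normalizer_le_normalizer_opDown p N)
    have hVN : V ≤ N := opDown_le p N
    have hinf : N ⊓ opDown p P ≤ V := by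
      apply le_opDown p inf_le_left
      · refine le_trans ?_ (inf_normalizer_le_normalizer_inf _ _)
        exact le_inf Subgroup.le_normalizer ((le_sup_left : N ≤ P).trans (le_normalizer_opDown p P))
      · exact (opDown_isPGroup p P).to_le inf_le_right
    have hkey : ∀ n ∈ N, ∀ y ∈ Y, ⁅n, y⁆ ∈ V := by
      intro n hn y hy
      apply hinf
      refine Subgroup.mem_inf.mpr ⟨?_, ?_⟩
      · have e : ⁅n, y⁆ = n * (y * n⁻¹ * y⁻¹) := by rw [commutatorElement_def]; group
        rw [e]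
        exact N.mul_mem hn (conj_mem_of_mem_normalizer (hHN (hYH hy)) (N.inv_mem hn))
      · have e : ⁅n, y⁆ = (n * y * n⁻¹) * y⁻¹ := by rw [commutatorElement_def]
        rw [e]
        exact Subgroup.mul_mem _ (conj_mem_of_mem_normalizer
          (le_normalizer_opDown p P (le_sup_left (b := R₀) hn)) (hYP hy))
          (Subgroup.inv_mem _ (hYP hy))
    -- the stabilizer of `N / V` in `H`
    have hAn : (N.subgroupOf H).Normal := (Subgroup.normal_subgroupOf_iff_le_normalizer hNH).mpr hHN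
    have hBn : (V.subgroupOf H).Normal :=
      (Subgroup.normal_subgroupOf_iff_le_normalizer (hVN.trans hNH)).mpr hHV
    set Cs := (commStab (N.subgroupOf H) (V.subgroupOf H)).map H.subtype with hCs
    have hYCs : Y ≤ Cs := by
      intro y hy
      refine ⟨⟨y, hYH hy⟩, ?_, rfl⟩
      intro a ha
      rw [Subgroup.mem_subgroupOf] at ha ⊢
      have e : ((⁅a, (⟨y, hYH hy⟩ : ↥H)⁆ : ↥H) : G) = ⁅(a : G), y⁆ := by
        simp [commutatorElement_def]
      rw [e]
      exact hkey _ ha y hy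
    have hRCs : opUp p H ≤ Cs :=
      frakH_opUp_le_of_normal hH Cs (Subgroup.map_subtype_le _)
        (le_normalizer_map_subtype_of_normal H _ (commStab_normal _ _)) hYCs
    have hkey2 : ∀ n ∈ N, ∀ r ∈ opUp p H, ⁅n, r⁆ ∈ V := by
      intro n hn r hr
      obtain ⟨r', hr', rfl⟩ := hRCs hr
      have := hr' ⟨n, hNH hn⟩ (Subgroup.mem_subgroupOf.mpr hn)
      rw [Subgroup.mem_subgroupOf] at this
      have e : ((⁅(⟨n, hNH hn⟩ : ↥H), r'⁆ : ↥H) : G) = ⁅n, (r' : G)⁆ := by
        simp [commutatorElement_def]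
      rw [e] at this
      exact this
    have hHR : H ≤ Subgroup.normalizer ((opUp p H : Subgroup G) : Set G) :=
      Subgroup.le_normalizer.trans (normalizer_le_normalizer_opUp p H)
    have hKn : ((N ⊓ opUp p H).subgroupOf N).Normal := by
      rw [Subgroup.normal_subgroupOf_iff_le_normalizer inf_le_left]
      refine le_trans ?_ (inf_normalizer_le_normalizer_inf _ _)
      exact le_inf Subgroup.le_normalizer (hNH.trans hHR)
    have hDn : (V.subgroupOf N).Normal :=
      (Subgroup.normal_subgroupOf_iff_le_normalizer hVN).mpr (le_normalizer_opDown p N)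
    apply isPClosed_of_central_mod ((N ⊓ opUp p H).subgroupOf N) (V.subgroupOf N)
      (opDown_isPGroup p N).comap_subtype
    · intro g
      obtain ⟨k, hk⟩ := exists_pow_mem_opUp p H (hNH g.2)
      refine ⟨k, ?_⟩
      rw [Subgroup.mem_subgroupOf]
      refine Subgroup.mem_inf.mpr ⟨?_, ?_⟩
      · exact (g ^ (p ^ k)).2
      · simpa using hk
    · intro k hk w
      rw [Subgroup.mem_subgroupOf] at hk ⊢
      have e : ((⁅k, w⁆ : ↥N) : G) = (⁅(w : G), (k : G)⁆)⁻¹ := by
        rw [commutatorElement_inv]; simp [commutatorElement_def]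
      rw [e]
      exact V.inv_mem (hkey2 _ w.2 _ (Subgroup.mem_inf.mp hk).2)

/-- `p`-irreducibility (ambient form) passes from `H` to `H Q` for a `p`-group `Q` with
`H ≤ N(Q)` and `Q ≤ N(H)`. -/
theorem opUp_sup_le_of_not_isPClosed (H Qg N : Subgroup G) (hQgp : IsPGroup p Qg)
    (hHQ : H ≤ Subgroup.normalizer (Qg : Set G)) (hQH : Qg ≤ Subgroup.normalizer (H : Set G))
    (hirr : ∀ N' : Subgroup G, N' ≤ H → H ≤ Subgroup.normalizer (N' : Set G) →
      ¬ Cfsg.IsPClosed p ↥N' → opUp p H ≤ N')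
    (hNle : N ≤ H ⊔ Qg) (hnorm : H ⊔ Qg ≤ Subgroup.normalizer (N : Set G))
    (hncl : ¬ Cfsg.IsPClosed p ↥N) : opUp p (H ⊔ Qg) ≤ N := by
  have hstar : opUp p (H ⊔ Qg) ≤ opUp p H := by
    have h1 := opUp_sup_le_of_isPGroup p H Qg hQgp hQH
    have h2 := opUp_mono p h1
    rwa [opUp_opUp] at h2
  set N' := (N ⊔ Qg) ⊓ H with hN'
  have hN'H : N' ≤ H := inf_le_right
  have hQN : Qg ≤ Subgroup.normalizer (N : Set G) := le_sup_right.trans hnorm
  have hHN : H ≤ Subgroup.normalizer (N : Set G) := le_sup_left.trans hnorm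
  have hstarNQ : H ⊔ Qg ≤ Subgroup.normalizer ((N ⊔ Qg : Subgroup G) : Set G) := by
    refine le_trans ?_ (inf_normalizer_le_normalizer_sup _ _)
    exact le_inf hnorm (sup_le hHQ Subgroup.le_normalizer)
  have hstarN' : H ⊔ Qg ≤ Subgroup.normalizer (N' : Set G) := by
    refine le_trans ?_ (inf_normalizer_le_normalizer_inf _ _)
    exact le_inf hstarNQ (sup_le Subgroup.le_normalizer hQH)
  have hnot : ¬ Cfsg.IsPClosed p ↥N' := by
    intro hcl'
    apply hncl
    set V' := opDown p N' with hV'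
    have hV'H : V' ≤ H := (opDown_le p N').trans hN'H
    have hV''p : IsPGroup p ↥(V' ⊔ Qg) :=
      IsPGroup.to_sup_of_normal_right' (opDown_isPGroup p N') hQgp (hV'H.trans hHQ)
    have hstarV'' : H ⊔ Qg ≤ Subgroup.normalizer ((V' ⊔ Qg : Subgroup G) : Set G) := by
      refine le_trans ?_ (inf_normalizer_le_normalizer_sup _ _)
      exact le_inf (hstarN'.trans (normalizer_le_normalizer_opDown p N'))
        (sup_le hHQ Subgroup.le_normalizer)
    have hinf : (V' ⊔ Qg) ⊓ N ≤ opDown p N := by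
      apply le_opDown p inf_le_right
      · refine le_trans ?_ (inf_normalizer_le_normalizer_inf _ _)
        exact le_inf (hNle.trans hstarV'') Subgroup.le_normalizer
      · exact hV''p.to_le inf_le_left
    apply isPClosed_of_forall_mem N (opDown p N) (opDown_le p N) (le_normalizer_opDown p N)
      (opDown_isPGroup p N)
    rintro x hxN ⟨k, hk⟩
    apply hinf
    refine Subgroup.mem_inf.mpr ⟨?_, hxN⟩
    have hx1 : x ∈ ((H ⊔ Qg : Subgroup G) : Set G) := hNle hxN
    rw [Subgroup.coe_mul_of_left_le_normalizer_right H Qg hHQ] at hx1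
    obtain ⟨h, hh, q, hq, hhq⟩ := hx1
    have hhq' : h * q = x := hhq
    have hhN' : h ∈ N' := by
      refine Subgroup.mem_inf.mpr ⟨?_, hh⟩
      have : h = x * q⁻¹ := by rw [← hhq']; group
      rw [this]
      exact Subgroup.mul_mem _ (le_sup_left (b := Qg) hxN) (le_sup_right (a := N) (Qg.inv_mem hq))
    obtain ⟨q', hq', hpow⟩ := exists_mul_pow_eq Qg h q (hHQ hh) hq (p ^ k)
    rw [hhq', hk] at hpow
    have hhpow : h ^ (p ^ k) ∈ Qg := by
      have : h ^ (p ^ k) = q'⁻¹ := by
        rw [eq_inv_iff_mul_eq_one]; exact hpow.symm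
      rw [this]; exact Qg.inv_mem hq'
    obtain ⟨j, hj⟩ := hQgp ⟨h ^ (p ^ k), hhpow⟩
    have hj' : (h ^ (p ^ k)) ^ (p ^ j) = 1 := by
      have := congrArg Subtype.val hj
      simpa using this
    have hhV' : h ∈ V' := by
      apply mem_opDown_of_isPClosed N' hcl' h hhN' (k + j)
      rw [pow_add, pow_mul]; exact hj'
    rw [← hhq']
    exact Subgroup.mul_mem _ (le_sup_left (b := Qg) hhV') (le_sup_right (a := V') hq)
  have h1 : opUp p H ≤ N ⊔ Qg :=
    (hirr N' hN'H (le_sup_left.trans hstarN') hnot).trans inf_le_left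
  have h2 := opUp_mono p h1
  rw [opUp_opUp] at h2
  exact hstar.trans (h2.trans (opUp_sup_le_of_isPGroup p N Qg hQgp hQN))

end

end Cfsg.Agent.Lib.Helper16
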