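import Cfsg.Agent.Lib.Helper16.FrakM
import Cfsg.Agent.Lib.Helper16.CharP

set_option autoImplicit false
open Cfsg
open scoped commutatorElement Pointwise

namespace Cfsg.Agent.Lib.Helper16

section
variable {G : Type*} [Group G]

/-- Words of length `k` in the alphabet `A`. -/
def wordSet (A : Set G) : ℕ → Set G
  | 0 => {1}
  | k + 1 => {x | ∃ s ∈ A, ∃ y ∈ wordSet A k, x = s * y}

theorem wordSet_mul_right (A : Set G) :
    ∀ k, ∀ y ∈ wordSet A k, ∀ s ∈ A, y * s ∈ wordSet A (k + 1) := by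
  intro k
  induction k with
  | zero =>
    intro y hy s hs
    have : y = 1 := hy
    exact ⟨s, hs, 1, rfl, by rw [this, one_mul, mul_one]⟩
  | succ k ih =>
    rintro y ⟨s', hs', y', hy', rfl⟩ s hs
    exact ⟨s', hs', y' * s, ih y' hy' s hs, by rw [mul_assoc]⟩

theorem wordSet_inv (A : Set G) (hA : ∀ s ∈ A, s⁻¹ ∈ A) :
    ∀ k, ∀ x ∈ wordSet A k, x⁻¹ ∈ wordSet A k := by
  intro k
  induction k with
  | zero =>
    intro x hx
    have : x = 1 := hx
    rw [this, inv_one]; exact rfl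
  | succ k ih =>
    rintro x ⟨s, hs, y, hy, rfl⟩
    rw [mul_inv_rev]
    exact wordSet_mul_right A k y⁻¹ (ih y hy) s⁻¹ (hA s hs)

theorem exists_mem_wordSet_of_mem_closure (A : Set G) (hA : ∀ s ∈ A, s⁻¹ ∈ A) {x : G}
    (hx : x ∈ Subgroup.closure A) : ∃ k, x ∈ wordSet A k := by
  induction hx using Subgroup.closure_induction_left with
  | one => exact ⟨0, rfl⟩
  | mul_left s hs y hy ih =>
    obtain ⟨k, hk⟩ := ih
    exact ⟨k + 1, s, hs, y, hk, rfl⟩
  | inv_mul_cancel s hs y hy ih =>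
    obtain ⟨k, hk⟩ := ih
    exact ⟨k + 1, s⁻¹, hA s hs, y, hk, rfl⟩

end

section
variable {G : Type*} [Group G] [Finite G] {p : ℕ} [Fact p.Prime]

/-- **Asymmetric case, key step.**  Let `M ∈ 𝔐` contain the Sylow subgroup `S`, with `Y_M`
asymmetric, and let `T` be a `p`-subgroup of `M†` containing `O_p(M)`.  Then every
`⟨M, N_G(T)⟩`-conjugate of `Y_M` lies in `O_p(M)`. -/
theorem frakM_conj_le_of_asym {M : Subgroup G} (hM : Cfsg.IsInFrakM p M) (S : Sylow p G)
    (hSM : (S : Subgroup G) ≤ M) (hasym : ¬ Cfsg.IsSymmetricIn (Cfsg.largestPReducedOf p M))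
    (T : Subgroup G) (hT : IsPGroup p T)
    (hTMd : T ≤ M ⊔ Subgroup.centralizer ((Cfsg.largestPReducedOf p M : Subgroup G) : Set G))
    (hQT : Cfsg.pCoreOf p M ≤ T) :
    ∀ x ∈ M ⊔ Subgroup.normalizer (T : Set G),
      (Cfsg.largestPReducedOf p M).map (MulAut.conj x).toMonoidHom ≤ Cfsg.pCoreOf p M := by
  set Y := Cfsg.largestPReducedOf p M with hY
  set C := Subgroup.centralizer (Y : Set G) with hC
  set QM := Cfsg.pCoreOf p M with hQM
  set A : Set G := (M : Set G) ∪ (Subgroup.normalizer (T : Set G) : Set G) with hA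
  have hAinv : ∀ s ∈ A, s⁻¹ ∈ A := by
    rintro s (hs | hs)
    · exact Or.inl (M.inv_mem hs)
    · exact Or.inr (Subgroup.inv_mem _ hs)
  have hYQ : Y ≤ QM := by
    rw [hQM, pCoreOf_eq_opDown]; exact largestPReducedOf_le_opDown p M
  have hTN : T ≤ Subgroup.normalizer (Y : Set G) := hTMd.trans (dagger_le_normalizer M)
  have hTC : T ⊓ C = QM := frakM_inf_centralizer_eq hM S hSM T hT hTMd hQT
  -- conjugating `O_p(M)` by a letter stays inside `T`
  have hstep : ∀ s ∈ A, QM.map (MulAut.conj s).toMonoidHom ≤ T := by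
    rintro s (hs | hs)
    · have : s ∈ Subgroup.normalizer (QM : Set G) := by
        rw [hQM, pCoreOf_eq_opDown]; exact le_normalizer_opDown p M hs
      rw [(map_conj_eq_self_iff QM s).mpr this]; exact hQT
    · exact (map_conj_mono hQT s).trans_eq ((map_conj_eq_self_iff T s).mpr hs)
  have main : ∀ k, ∀ x ∈ wordSet A k, Y.map (MulAut.conj x).toMonoidHom ≤ QM := by
    intro k
    induction k with
    | zero =>
      intro x hx
      have : x = 1 := hx
      rw [this, map_conj_one]; exact hYQ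
    | succ k ih =>
      intro x hx
      have hx' := hx
      obtain ⟨s, hs, y, hy, rfl⟩ := hx
      have h1 : Y.map (MulAut.conj (s * y)).toMonoidHom ≤ T := by
        rw [← map_conj_map_conj]
        exact (map_conj_mono (ih y hy) s).trans (hstep s hs)
      have hinv := wordSet_inv A hAinv (k + 1) (s * y) hx'
      obtain ⟨t, ht, r, hr, hrt⟩ := hinv
      have h2 : Y.map (MulAut.conj (s * y)⁻¹).toMonoidHom ≤ T := by
        rw [hrt, ← map_conj_map_conj]
        exact (map_conj_mono (ih r hr) t).trans (hstep t ht)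
      have h3 := commutator_eq_bot_of_not_isSymmetricIn hasym (s * y) (h1.trans hTN)
        (h2.trans hTN)
      rw [Subgroup.commutator_comm, Subgroup.commutator_eq_bot_iff_le_centralizer] at h3
      rw [← hTC]
      exact le_inf h1 h3
  intro x hx
  have hx' : x ∈ Subgroup.closure A := by
    rw [hA, Subgroup.closure_union, Subgroup.closure_eq, Subgroup.closure_eq]; exact hx
  obtain ⟨k, hk⟩ := exists_mem_wordSet_of_mem_closure A hAinv hx'
  exact main k x hk


/-- Under the asymmetric hypothesis and parabolic characteristic `p` (in the form provided by a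
large subgroup), `N_G(T) ≤ M†` for every `p`-subgroup `T` of `M†` containing `O_p(M)`. -/
theorem frakM_normalizer_le_dagger {M : Subgroup G} (hM : Cfsg.IsInFrakM p M) (S : Sylow p G)
    (hSM : (S : Subgroup G) ≤ M) (hasym : ¬ Cfsg.IsSymmetricIn (Cfsg.largestPReducedOf p M))
    (hpar : ∀ R : Subgroup G, Cfsg.IsParabolic p R → Cfsg.pCore p ↥R ≠ ⊥ →
      Subgroup.centralizer ((Cfsg.pCoreOf p R : Subgroup G) : Set G) ≤ Cfsg.pCoreOf p R)
    (T : Subgroup G) (hT : IsPGroup p T)
    (hTMd : T ≤ M ⊔ Subgroup.centralizer ((Cfsg.largestPReducedOf p M : Subgroup G) : Set G))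
    (hQT : Cfsg.pCoreOf p M ≤ T) :
    Subgroup.normalizer (T : Set G) ≤
      M ⊔ Subgroup.centralizer ((Cfsg.largestPReducedOf p M : Subgroup G) : Set G) := by
  set Y := Cfsg.largestPReducedOf p M with hY
  set C := Subgroup.centralizer (Y : Set G) with hC
  set QM := Cfsg.pCoreOf p M with hQM
  set X := M ⊔ Subgroup.normalizer (T : Set G) with hX
  by_cases hY1 : Y = ⊥
  · have : C = ⊤ := by
      rw [hC, hY1, Subgroup.centralizer_eq_top_iff_subset]
      intro x hx
      have : x = 1 := hx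
      rw [this]; exact Subgroup.one_mem _
    rw [this, sup_top_eq]; exact le_top
  · set W := Cfsg.Agent.S2840.conjJoin Y X with hW
    have hWQ : W ≤ QM :=
      iSup_le (fun x => frakM_conj_le_of_asym hM S hSM hasym T hT hTMd hQT x x.2)
    have hQMM : QM ≤ M := by rw [hQM, pCoreOf_eq_opDown]; exact opDown_le p M
    have hQp : IsPGroup p QM := by rw [hQM, pCoreOf_eq_opDown]; exact opDown_isPGroup p M
    have hWX : W ≤ X := hWQ.trans (hQMM.trans le_sup_left)
    have hXW : X ≤ Subgroup.normalizer (W : Set G) := Cfsg.Agent.S2840.le_normalizer_conjJoin Y X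
    have hWp : IsPGroup p W := hQp.to_le hWQ
    have hWne : W ≠ ⊥ := fun h => hY1 (le_bot_iff.mp (h ▸ Cfsg.Agent.S2840.le_conjJoin Y X))
    have hWle : W ≤ Cfsg.pCoreOf p X := by
      rw [pCoreOf_eq_opDown]; exact le_opDown p hWX hXW hWp
    have hcore : Cfsg.pCore p ↥X ≠ ⊥ := by
      intro h
      apply hWne
      rw [← le_bot_iff]
      unfold Cfsg.pCoreOf at hWle
      rw [h, Subgroup.map_bot] at hWle
      exact hWle
    have hXpar : Cfsg.IsParabolic p X := ⟨S, hSM.trans le_sup_left⟩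
    have hXmem : X ∈ Cfsg.charPSubgroups p G := ⟨hcore, hpar X hXpar hcore⟩
    exact le_sup_right.trans (frakM_le_dagger hM X hXmem le_sup_left)

theorem frakM_normalizer_le_normalizer_pCoreOf {M : Subgroup G} (hM : Cfsg.IsInFrakM p M)
    (S : Sylow p G) (hSM : (S : Subgroup G) ≤ M)
    (hasym : ¬ Cfsg.IsSymmetricIn (Cfsg.largestPReducedOf p M))
    (hpar : ∀ R : Subgroup G, Cfsg.IsParabolic p R → Cfsg.pCore p ↥R ≠ ⊥ →
      Subgroup.centralizer ((Cfsg.pCoreOf p R : Subgroup G) : Set G) ≤ Cfsg.pCoreOf p R)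
    (T : Subgroup G) (hT : IsPGroup p T)
    (hTMd : T ≤ M ⊔ Subgroup.centralizer ((Cfsg.largestPReducedOf p M : Subgroup G) : Set G))
    (hQT : Cfsg.pCoreOf p M ≤ T) :
    Subgroup.normalizer (T : Set G) ≤
      Subgroup.normalizer ((Cfsg.pCoreOf p M : Subgroup G) : Set G) := by
  have h1 := frakM_normalizer_le_dagger hM S hSM hasym hpar T hT hTMd hQT
  have h2 : Subgroup.normalizer (T : Set G) ≤ Subgroup.normalizer
      ((T ⊓ Subgroup.centralizer ((Cfsg.largestPReducedOf p M : Subgroup G) : Set G) :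
        Subgroup G) : Set G) :=
    le_trans (le_inf le_rfl (h1.trans (dagger_le_normalizer_centralizer M)))
      (inf_normalizer_le_normalizer_inf T _)
  rwa [frakM_inf_centralizer_eq hM S hSM T hT hTMd hQT] at h2

/-- Every `p`-subgroup containing `O_p(M)` normalizes it. -/
theorem frakM_pgroup_le_normalizer {M : Subgroup G} (hM : Cfsg.IsInFrakM p M)
    (S : Sylow p G) (hSM : (S : Subgroup G) ≤ M)
    (hasym : ¬ Cfsg.IsSymmetricIn (Cfsg.largestPReducedOf p M))
    (hpar : ∀ R : Subgroup G, Cfsg.IsParabolic p R → Cfsg.pCore p ↥R ≠ ⊥ →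
      Subgroup.centralizer ((Cfsg.pCoreOf p R : Subgroup G) : Set G) ≤ Cfsg.pCoreOf p R)
    (L : Subgroup G) (hL : IsPGroup p L) (hQL : Cfsg.pCoreOf p M ≤ L) :
    L ≤ Subgroup.normalizer ((Cfsg.pCoreOf p M : Subgroup G) : Set G) := by
  set QM := Cfsg.pCoreOf p M with hQM
  by_contra hne
  have hlt : L ⊓ Subgroup.normalizer (QM : Set G) < L :=
    lt_of_le_of_ne inf_le_left (fun h => hne (h ▸ inf_le_right))
  obtain ⟨t, htL, htN, htn⟩ := exists_mem_normalizer_not_mem L _ hL hlt
  have hL₁Md : L ⊓ Subgroup.normalizer (QM : Set G) ≤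
      M ⊔ Subgroup.centralizer ((Cfsg.largestPReducedOf p M : Subgroup G) : Set G) :=
    inf_le_right.trans (frakM_normalizer_pCoreOf_le hM)
  have hQL₁ : QM ≤ L ⊓ Subgroup.normalizer (QM : Set G) := le_inf hQL Subgroup.le_normalizer
  have := frakM_normalizer_le_normalizer_pCoreOf hM S hSM hasym hpar _ (hL.to_le inf_le_left)
    hL₁Md hQL₁ htN
  exact htn (Subgroup.mem_inf.mpr ⟨htL, this⟩)

/-- `N_G(L) ≤ N_G(O_p(M))` for every `p`-subgroup `L` containing `O_p(M)`. -/
theorem frakM_normalizer_pgroup_le {M : Subgroup G} (hM : Cfsg.IsInFrakM p M)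
    (S : Sylow p G) (hSM : (S : Subgroup G) ≤ M)
    (hasym : ¬ Cfsg.IsSymmetricIn (Cfsg.largestPReducedOf p M))
    (hpar : ∀ R : Subgroup G, Cfsg.IsParabolic p R → Cfsg.pCore p ↥R ≠ ⊥ →
      Subgroup.centralizer ((Cfsg.pCoreOf p R : Subgroup G) : Set G) ≤ Cfsg.pCoreOf p R)
    (L : Subgroup G) (hL : IsPGroup p L) (hQL : Cfsg.pCoreOf p M ≤ L) :
    Subgroup.normalizer (L : Set G) ≤
      Subgroup.normalizer ((Cfsg.pCoreOf p M : Subgroup G) : Set G) :=
  frakM_normalizer_le_normalizer_pCoreOf hM S hSM hasym hpar L hL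
    ((frakM_pgroup_le_normalizer hM S hSM hasym hpar L hL hQL).trans
      (frakM_normalizer_pCoreOf_le hM)) hQL

end

end Cfsg.Agent.Lib.Helper16
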