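import Cfsg.Agent.Lib.Helper16.FrakH2
import Cfsg.Agent.Lib.Helper16.FrakM2
import Cfsg.Agent.Lib.Helper16.CharP
import Cfsg.Agent.S2821

set_option autoImplicit false
open Cfsg
open scoped commutatorElement Pointwise

universe u

namespace Cfsg.Agent.Lib.Helper16

section
variable {G : Type u} [Group G] [Finite G] {p : ℕ} [Fact p.Prime]

/-- `O_p` commutes with conjugation. -/
theorem opDown_map_conj (K : Subgroup G) (g : G) :
    opDown p (K.map (MulAut.conj g).toMonoidHom) = (opDown p K).map (MulAut.conj g).toMonoidHom := by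
  have key : ∀ (K : Subgroup G) (g : G),
      (opDown p K).map (MulAut.conj g).toMonoidHom ≤ opDown p (K.map (MulAut.conj g).toMonoidHom) := by
    intro K g
    apply le_opDown p (map_conj_mono (opDown_le p K) g)
    · intro x hx
      rw [mem_normalizer_map_conj_iff]
      rw [mem_map_conj_iff] at hx
      exact le_normalizer_opDown p K hx
    · exact (opDown_isPGroup p K).map _
  apply le_antisymm _ (key K g)
  have h1 := key (K.map (MulAut.conj g).toMonoidHom) g⁻¹
  rw [map_conj_map_conj, inv_mul_cancel, map_conj_one] at h1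
  have h2 := map_conj_mono h1 g
  rwa [map_conj_map_conj, mul_inv_cancel, map_conj_one] at h2

/-- Characteristic `p` is invariant under conjugation. -/
theorem isCharPSub_map_conj (K : Subgroup G) (g : G) (hK : IsCharPSub p K) :
    IsCharPSub p (K.map (MulAut.conj g).toMonoidHom) := by
  unfold IsCharPSub at hK ⊢
  rw [opDown_map_conj]
  intro x hx
  rw [mem_map_conj_iff]
  apply hK
  refine Subgroup.mem_inf.mpr ⟨(mem_map_conj_iff K g x).mp hx.1, ?_⟩
  exact (mem_centralizer_map_conj_iff _ g x).mp hx.2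

/-- A subgroup of a characteristic `p` group containing its `O_p` has characteristic `p`. -/
theorem isCharPSub_of_opDown_le (X P : Subgroup G) (hPX : P ≤ X) (hU : opDown p X ≤ P)
    (hX : IsCharPSub p X) : IsCharPSub p P := by
  have h1 : opDown p X ≤ opDown p P :=
    le_opDown p hU (hPX.trans (le_normalizer_opDown p X)) (opDown_isPGroup p X)
  intro x hx
  apply h1
  apply hX
  exact Subgroup.mem_inf.mpr ⟨hPX hx.1, Subgroup.centralizer_le h1 hx.2⟩

/-- A normal subgroup of a characteristic `p` group has characteristic `p`. -/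
theorem isCharPSub_of_normal (X N : Subgroup G) (hNX : N ≤ X)
    (hXN : X ≤ Subgroup.normalizer (N : Set G)) (hX : IsCharPSub p X) : IsCharPSub p N := by
  set U := opDown p X with hU
  set V := opDown p N with hV
  set K := N ⊓ Subgroup.centralizer (V : Set G) with hK
  have hXV : X ≤ Subgroup.normalizer (V : Set G) := hXN.trans (normalizer_le_normalizer_opDown p N)
  have hXK : X ≤ Subgroup.normalizer (K : Set G) := by
    refine le_trans ?_ (inf_normalizer_le_normalizer_inf _ _)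
    exact le_inf hXN (hXV.trans (normalizer_le_normalizer_centralizer V))
  have hXU : X ≤ Subgroup.normalizer (U : Set G) := le_normalizer_opDown p X
  have hUX : U ≤ X := opDown_le p X
  have hKX : K ≤ X := inf_le_left.trans hNX
  have hUKV : U ⊓ K ≤ V := by
    apply le_opDown p (inf_le_right.trans inf_le_left)
    · refine le_trans ?_ (inf_normalizer_le_normalizer_inf _ _)
      exact le_inf (hNX.trans hXU) (hNX.trans hXK)
    · exact (opDown_isPGroup p X).to_le inf_le_left
  have hcomm : ⁅U, K⁆ ≤ V := by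
    refine le_trans ?_ hUKV
    apply le_inf
    · exact commutator_le_of_le_normalizer' U K (hKX.trans hXU)
    · rw [Subgroup.commutator_comm]
      exact commutator_le_of_le_normalizer' K U (hUX.trans hXK)
  have hVK : ⁅V, K⁆ = ⊥ := by
    rw [Subgroup.commutator_comm, Subgroup.commutator_eq_bot_iff_le_centralizer]
    exact inf_le_right
  have hUp : IsPGroup p U := opDown_isPGroup p X
  have hone : ∀ x ∈ K, (orderOf x).Coprime p → x = 1 := by
    intro x hxK hcop
    set Xx := Subgroup.zpowers x with hXx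
    have hXxK : Xx ≤ K := (Subgroup.zpowers_le).mpr hxK
    have hXxU : Xx ≤ Subgroup.normalizer (U : Set G) := hXxK.trans (hKX.trans hXU)
    have hcard : (Nat.card Xx).Coprime (Nat.card U) := by
      obtain ⟨n, hn⟩ := IsPGroup.iff_card.mp hUp
      rw [hn, hXx, Nat.card_zpowers]
      exact Nat.Coprime.pow_right n hcop
    have h1 := Cfsg.Agent.Lib.Helper13.coprime_commutator_stable Xx U hXxU hcard
      (Or.inl inferInstance)
    have h2 : ⁅⁅U, Xx⁆, Xx⁆ = ⊥ := by
      rw [eq_bot_iff, ← hVK]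
      exact Subgroup.commutator_mono ((Subgroup.commutator_mono le_rfl hXxK).trans hcomm) hXxK
    rw [h2] at h1
    have h3 : U ≤ Subgroup.centralizer (Xx : Set G) :=
      Subgroup.commutator_eq_bot_iff_le_centralizer.mp h1.symm
    have hxU : x ∈ U := by
      apply hX
      refine Subgroup.mem_inf.mpr ⟨hKX hxK, ?_⟩
      rw [Subgroup.mem_centralizer_iff]
      intro u hu
      exact ((Subgroup.mem_centralizer_iff.mp (h3 hu)) x (Subgroup.mem_zpowers x)).symm
    obtain ⟨k, hk⟩ := hUp ⟨x, hxU⟩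
    have hk' : x ^ (p ^ k) = 1 := by
      have := congrArg Subtype.val hk
      simpa using this
    have hdvd : orderOf x ∣ p ^ k := orderOf_dvd_of_pow_eq_one hk'
    have : orderOf x = 1 := Nat.Coprime.eq_one_of_dvd (Nat.Coprime.pow_right k hcop) hdvd
    exact orderOf_eq_one_iff.mp this
  have hKp : IsPGroup p K := by
    rintro ⟨k, hk⟩
    obtain ⟨j, hj⟩ := exists_pow_coprime p k
    refine ⟨j, ?_⟩
    apply Subtype.ext
    simp only [SubgroupClass.coe_pow, Subgroup.coe_one]
    exact hone _ (K.pow_mem hk _) hj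
  exact le_opDown p inf_le_left (hNX.trans hXK) hKp

/-- The part of `H ∈ ℌ_G(O_p(M))` not involving characteristic `p`. -/
def IsPreFrakH (p : ℕ) (M H : Subgroup G) : Prop :=
  opDown p M ≤ H ∧ ¬ Cfsg.largestPReducedOf p M ≤ opDown p H ∧
    ∀ P : Subgroup G, opDown p M ≤ P → P < H → Cfsg.largestPReducedOf p M ≤ opDown p P

omit [Finite G] [Fact p.Prime] in
theorem preFrakH_eq_of_opDown_le {M H : Subgroup G} (hH : IsPreFrakH p M H) (P : Subgroup G)
    (hRP : opDown p M ≤ P) (hPH : P ≤ H) (h : opDown p P ≤ opDown p H) : P = H := by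
  by_contra hne
  exact hH.2.1 ((hH.2.2 P hRP (lt_of_le_of_ne hPH hne)).trans h)

theorem preFrakH_eq_conjJoin {M H : Subgroup G} (hH : IsPreFrakH p M H) :
    Cfsg.Agent.S2840.conjJoin (opDown p M) H = H :=
  preFrakH_eq_of_opDown_le hH _ (Cfsg.Agent.S2840.le_conjJoin _ H)
    (Cfsg.Agent.S2840.conjJoin_le _ H hH.1)
    (opDown_le_opDown_of_normal p (Cfsg.Agent.S2840.conjJoin_le _ H hH.1)
      (Cfsg.Agent.S2840.le_normalizer_conjJoin _ H))

theorem preFrakH_le_normalizer {M H : Subgroup G} (hH : IsPreFrakH p M H) (X : Subgroup G)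
    (hHX : H ≤ Subgroup.normalizer (X : Set G))
    (hXR : X ≤ Subgroup.normalizer ((opDown p M : Subgroup G) : Set G)) :
    X ≤ Subgroup.normalizer (H : Set G) := by
  have key : ∀ x ∈ X, H.map (MulAut.conj x).toMonoidHom ≤ H := by
    intro x hx
    conv_lhs => rw [← preFrakH_eq_conjJoin hH]
    unfold Cfsg.Agent.S2840.conjJoin
    rw [Subgroup.map_iSup]
    apply iSup_le
    rintro ⟨h, hh⟩
    rw [map_conj_map_conj]
    have hx' : h⁻¹ * x * h ∈ X := conj_inv_mem_of_mem_normalizer (hHX hh) hx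
    have e : x * h = h * (h⁻¹ * x * h) := by group
    simp only
    rw [e, ← map_conj_map_conj, (map_conj_eq_self_iff _ _).mpr (hXR hx')]
    exact Cfsg.Agent.S2840.conj_le_of_mem _ H hH.1 hh
  intro x hx
  exact mem_normalizer_of_map_conj_le _ x (key x hx) (key x⁻¹ (X.inv_mem hx))

/-- **Existence of `H ∈ ℌ_G(O_p(M))`** when `Y_M` is char-`p`-tall and asymmetric. -/
theorem exists_isInFrakH {M : Subgroup G}
    (hpar : ∀ R : Subgroup G, Cfsg.IsParabolic p R → Cfsg.pCore p ↥R ≠ ⊥ →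
      Subgroup.centralizer ((Cfsg.pCoreOf p R : Subgroup G) : Set G) ≤ Cfsg.pCoreOf p R)
    (S : Sylow p G) (hSM : (S : Subgroup G) ≤ M) (hM : Cfsg.IsInFrakM p M)
    (hasym : ¬ Cfsg.IsSymmetricIn (Cfsg.largestPReducedOf p M))
    (htall : Cfsg.IsCharPTall p (Cfsg.largestPReducedOf p M)) :
    ∃ H : Subgroup G, Cfsg.IsInFrakH p M H := by
  set Y := Cfsg.largestPReducedOf p M with hY
  set C := Subgroup.centralizer ((Y : Subgroup G) : Set G) with hC
  obtain ⟨T, L₁, hTL₁, hL₁char, hYL₁⟩ :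
      ∃ (T : Sylow p ↥C) (L : Subgroup G), ((T : Subgroup ↥C).map C.subtype ≤ L) ∧
        Subgroup.centralizer (pCore p ↥L : Set ↥L) ≤ pCore p ↥L ∧
        ¬ Y ≤ (pCore p ↥L).map L.subtype := htall
  set R₀ := opDown p M with hR₀
  have hR₀p : IsPGroup p R₀ := opDown_isPGroup p M
  have hMrel : Subgroup.centralizer (Cfsg.pCore p ↥M : Set ↥M) ≤ Cfsg.pCore p ↥M := by
    apply type_of_isCharPSub
    unfold IsCharPSub
    rw [← map_pCore_eq_opDown]
    exact inf_le_right.trans hM.1.2
  -- `O_p(M)` is a Sylow subgroup of `C_G(Y_M)`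
  have hSC : (S : Subgroup G) ⊓ C = R₀ := by
    have := frakM_inf_centralizer_eq hM S hSM (S : Subgroup G) S.2 (hSM.trans le_sup_left)
      (by rw [pCoreOf_eq_opDown]; exact opDown_le_sylow S M hSM)
    rw [pCoreOf_eq_opDown] at this
    exact this
  obtain ⟨P₀, hP₀⟩ : ∃ P₀ : Sylow p ↥C,
      (P₀ : Subgroup ↥C) = ((S : Subgroup G) ⊓ C).subgroupOf C :=
    (Cfsg.Agent.S2821.result S M hSM hMrel _ rfl).1
  rw [hSC] at hP₀
  obtain ⟨c, hc⟩ := MulAction.exists_smul_eq ↥C T P₀
  set c₀ : G := (c : G) with hc₀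
  have hc₀C : c₀ ∈ C := c.2
  set L₂ := L₁.map (MulAut.conj c₀).toMonoidHom with hL₂
  have hR₀C : R₀ ≤ C := by
    have := pCoreOf_le_centralizer_largestPReducedOf (p := p) M
    rwa [pCoreOf_eq_opDown] at this
  have hR₀L₂ : R₀ ≤ L₂ := by
    intro r hr
    rw [hL₂, mem_map_conj_iff]
    apply hTL₁
    have h1 : (⟨r, hR₀C hr⟩ : ↥C) ∈ ((c • T : Sylow p ↥C) : Subgroup ↥C) := by
      rw [hc, hP₀, Subgroup.mem_subgroupOf]; exact hr
    rw [Cfsg.Agent.Lib.Helper24.mem_smul_sylow_iff] at h1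
    refine ⟨_, h1, ?_⟩
    simp [hc₀]
  have hL₂char : IsCharPSub p L₂ := isCharPSub_map_conj L₁ c₀ (isCharPSub_of_type p L₁ hL₁char)
  have hYL₂ : ¬ Y ≤ opDown p L₂ := by
    intro h
    apply hYL₁
    rw [map_pCore_eq_opDown]
    intro y hy
    have h1 := h hy
    rw [hL₂, opDown_map_conj, mem_map_conj_iff] at h1
    have h2 : c₀⁻¹ * y * c₀ = y := by
      have := (Subgroup.mem_centralizer_iff.mp hc₀C) y hy
      rw [mul_assoc, this, ← mul_assoc, inv_mul_cancel, one_mul]
    rwa [h2] at h1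
  -- the minimal subgroup
  obtain ⟨H, hHL₂, hHmin⟩ := Finite.exists_le_minimal
    (p := fun P : Subgroup G => R₀ ≤ P ∧ ¬ Y ≤ opDown p P) (a := L₂) ⟨hR₀L₂, hYL₂⟩
  have hpre : IsPreFrakH p M H := by
    refine ⟨hHmin.prop.1, hHmin.prop.2, ?_⟩
    intro P hRP hPH
    by_contra h
    exact hPH.not_ge (hHmin.le_of_le ⟨hRP, h⟩ hPH.le)
  set U₁ := opDown p L₂ with hU₁
  have hU₁R₀ : U₁ ≤ Subgroup.normalizer (R₀ : Set G) := by
    have hsup : IsPGroup p ↥(R₀ ⊔ U₁) :=
      IsPGroup.to_sup_of_normal_right' hR₀p (opDown_isPGroup p L₂)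
        (hR₀L₂.trans (le_normalizer_opDown p L₂))
    have := frakM_pgroup_le_normalizer hM S hSM hasym hpar (R₀ ⊔ U₁) hsup
      (by rw [pCoreOf_eq_opDown]; exact le_sup_left)
    rw [pCoreOf_eq_opDown] at this
    exact le_sup_right.trans this
  have hU₁H : U₁ ≤ Subgroup.normalizer (H : Set G) :=
    preFrakH_le_normalizer hpre U₁ (hHL₂.trans (le_normalizer_opDown p L₂)) hU₁R₀
  have hH₁char : IsCharPSub p (H ⊔ U₁) :=
    isCharPSub_of_opDown_le L₂ (H ⊔ U₁) (sup_le hHL₂ (opDown_le p L₂)) le_sup_right hL₂char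
  have hHchar : IsCharPSub p H :=
    isCharPSub_of_normal (H ⊔ U₁) H le_sup_left (sup_le Subgroup.le_normalizer hU₁H) hH₁char
  refine ⟨H, type_of_isCharPSub p H hHchar, ?_, ?_, ?_⟩
  · rw [pCoreOf_eq_opDown]; exact hpre.1
  · rw [pCoreOf_eq_opDown]; exact hpre.2.1
  · intro P hRP hPH
    rw [pCoreOf_eq_opDown] at hRP ⊢
    exact hpre.2.2 P hRP hPH

end

end Cfsg.Agent.Lib.Helper16
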