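import Cfsg.Agent.Lib.Helper16.LargestOf
import Cfsg.Agent.Lib.Helper16.SubnormalResidual

set_option autoImplicit false
open Cfsg
open scoped commutatorElement Pointwise

namespace Cfsg.Agent.Lib.Helper16

/-- A subnormal subgroup that is a `p`-group modulo `C_G(V)` centralizes the `p`-reduced normal
subgroup `V`. -/
theorem le_centralizer_of_isSubnormal {G : Type*} [Group G] [Finite G] {p : ℕ} [Fact p.Prime]
    {V : Subgroup G} (hV : Cfsg.IsPReducedNormal p V) {N : Subgroup G} (hN : N.IsSubnormal)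
    (hp : ∀ x ∈ N, ∃ k : ℕ, x ^ (p ^ k) ∈ Subgroup.centralizer (V : Set G)) :
    N ≤ Subgroup.centralizer (V : Set G) := by
  obtain ⟨hVn, hVE, hCn, hcore⟩ := hV
  set C := Subgroup.centralizer (V : Set G) with hC
  have hsn : (N.map (QuotientGroup.mk' C)).IsSubnormal := hN.map (QuotientGroup.mk'_surjective C)
  have hpg : IsPGroup p (N.map (QuotientGroup.mk' C)) := by
    rintro ⟨_, ⟨x, hx, rfl⟩⟩
    obtain ⟨k, hk⟩ := hp x hx
    refine ⟨k, ?_⟩
    apply Subtype.ext
    simp only [SubgroupClass.coe_pow, Subgroup.coe_one, QuotientGroup.mk'_apply]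
    rw [← QuotientGroup.mk_pow, QuotientGroup.eq_one_iff]
    exact hk
  have hle := le_pCore_of_isSubnormal_of_isPGroup p hsn hpg
  rw [hcore, le_bot_iff] at hle
  intro x hx
  have : QuotientGroup.mk' C x ∈ N.map (QuotientGroup.mk' C) := Subgroup.mem_map_of_mem _ hx
  rw [hle, Subgroup.mem_bot, QuotientGroup.mk'_apply, QuotientGroup.eq_one_iff] at this
  exact this

/-- If `g` has order prime to `p` and `g ^ (p ^ k) ∈ S`, then `g ∈ S`. -/
theorem mem_of_pow_mem_of_coprime {G : Type*} [Group G] {p : ℕ} (S : Subgroup G) (g : G) (k : ℕ)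
    (hcop : (orderOf g).Coprime p) (h : g ^ (p ^ k) ∈ S) : g ∈ S := by
  have hc : (p ^ k).Coprime (orderOf g) := (Nat.Coprime.pow_right k hcop).symm
  obtain ⟨m, hm⟩ := exists_pow_eq_self_of_coprime hc
  rw [← hm]
  exact S.pow_mem h m

/-- If `R` is generated by `p'`-elements, normalizes the abelian `p`-group `V`, and
`[V, R, R] = 1`, then `[V, R] = 1`. -/
theorem commutator_eq_bot_of_commutator_commutator_eq_bot {G : Type*} [Group G] {p : ℕ}
    (V R : Subgroup G) (hVp : IsPGroup p V) (hRV : R ≤ Subgroup.normalizer (V : Set G))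
    (hR : opUp p R = R) (h : ⁅⁅V, R⁆, R⁆ = ⊥) : ⁅V, R⁆ = ⊥ := by
  rw [Subgroup.commutator_comm, Subgroup.commutator_eq_bot_iff_le_centralizer]
  rw [← hR, opUp_le_iff]
  intro x hx hcop
  rw [Subgroup.mem_centralizer_iff]
  intro v hv
  have hz : ⁅v, x⁆ ∈ ⁅V, R⁆ := Subgroup.commutator_mem_commutator hv hx
  have hzx : ⁅v, x⁆ * x = x * ⁅v, x⁆ := by
    have h1 : ⁅⁅v, x⁆, x⁆ ∈ ⁅⁅V, R⁆, R⁆ := Subgroup.commutator_mem_commutator hz hx
    rw [h, Subgroup.mem_bot, commutatorElement_eq_one_iff_mul_comm] at h1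
    exact h1
  have hzV : ⁅v, x⁆ ∈ V := commutator_le_of_le_normalizer' V R hRV hz
  obtain ⟨k, hk⟩ := exists_pow_eq_one_of_mem hVp hzV
  exact commute_of_coprime_commutator v x hzx k hk hcop

end Cfsg.Agent.Lib.Helper16
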