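import Cfsg.Agent.Lib.Helper3.PIrred
import Cfsg.Agent.Lib.Helper16.PReducedSubnormal

set_option autoImplicit false
open Cfsg
open scoped commutatorElement Pointwise

namespace Cfsg.Agent.Lib.Helper16

/-- `p`-closedness is invariant under isomorphism. -/
theorem isPClosed_of_equiv {A B : Type*} [Group A] [Group B] {p : ℕ} (e : A ≃* B)
    (h : Cfsg.IsPClosed p A) : Cfsg.IsPClosed p B := by
  intro P
  have hle : (P : Subgroup B) ≤ e.toMonoidHom.range := by
    rw [MonoidHom.range_eq_top.mpr e.surjective]; exact le_top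
  have hn : ((P : Subgroup B).comap e.toMonoidHom).Normal :=
    h (P.comapOfInjective e.toMonoidHom e.injective hle)
  have := hn.map e.toMonoidHom e.surjective
  rwa [Subgroup.map_comap_eq_self_of_surjective e.surjective] at this

section
variable {K : Type*} [Group K] [Finite K] {p : ℕ} [Fact p.Prime]

omit [Finite K] [Fact p.Prime] in
/-- In a `p`-irreducible group, a normal subgroup not containing `O^p(K)` is `p`-closed. -/
theorem isPClosed_of_isPIrreducible (hK : Cfsg.IsPIrreducible p K) (N : Subgroup K)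
    [hN : N.Normal] (hres : ¬ Cfsg.pResidual p K ≤ N) : Cfsg.IsPClosed p ↥N := by
  by_contra h
  exact hres (hK.2 N hN h)

/-- In a `p`-irreducible group `K`, if the normal subgroup `N` contains `O_p(K)` but not
`O^p(K)`, then `O_p(K / N) = 1`. -/
theorem pCore_quot_eq_bot_of_isPIrreducible (hK : Cfsg.IsPIrreducible p K) (N : Subgroup K)
    [hN : N.Normal] (hres : ¬ Cfsg.pResidual p K ≤ N) (hcore : Cfsg.pCore p K ≤ N) :
    Cfsg.pCore p (K ⧸ N) = ⊥ := by
  rw [pCore_quot_eq_bot_iff]
  intro D hD hND hp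
  by_cases hcl : Cfsg.IsPClosed p ↥D
  · intro x hx
    obtain ⟨k, hk⟩ := hp x hx
    obtain ⟨a, m, hm, ham⟩ := Nat.exists_eq_pow_mul_and_not_dvd (orderOf_pos x).ne' p
      (Fact.out : p.Prime).ne_one
    have hxm : (x ^ m) ^ (p ^ a) = 1 := by
      rw [← pow_mul, mul_comm, ← ham, pow_orderOf_eq_one]
    have hY : IsPGroup p (Subgroup.zpowers (x ^ m)) := by
      have hdvd : orderOf (x ^ m) ∣ p ^ a := orderOf_dvd_of_pow_eq_one hxm
      obtain ⟨j, _, hj⟩ := (Nat.dvd_prime_pow (Fact.out : p.Prime)).mp hdvd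
      exact IsPGroup.of_card (by rw [Nat.card_zpowers, hj])
    have hYD : Subgroup.zpowers (x ^ m) ≤ D := Subgroup.zpowers_le.mpr (D.pow_mem hx m)
    have := hD
    have h1 : x ^ m ∈ N :=
      hcore (Cfsg.Agent.Lib.Helper3.le_pCore_of_le_isPClosed hcl hYD hY (Subgroup.mem_zpowers _))
    have hcop : Nat.Coprime m (p ^ k) :=
      Nat.Coprime.pow_right k ((Nat.Prime.coprime_iff_not_dvd (Fact.out : p.Prime)).mpr hm).symm
    exact Cfsg.Agent.Lib.Helper3.mem_of_pow_mem_of_coprime' N x h1 hk hcop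
  · exfalso
    apply hres
    have hle := hK.2 D hD hcl
    unfold Cfsg.pResidual
    rw [Subgroup.closure_le]
    intro g hg
    have hgD : g ∈ D := hle (Subgroup.subset_closure hg)
    obtain ⟨k, hk⟩ := hp g hgD
    exact mem_of_pow_mem_of_coprime N g k hg hk

end

end Cfsg.Agent.Lib.Helper16
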