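import Cfsg.Agent.Lib.Helper16.PReducedMeet
import Cfsg.Agent.Lib.Helper16.PIrredNormal
import Cfsg.Agent.Lib.Helper24.SylowTools
import Cfsg.Agent.S2840

set_option autoImplicit false
open Cfsg
open scoped commutatorElement Pointwise

namespace Cfsg.Agent.Lib.Helper16

section
variable {G : Type*} [Group G]

theorem pCoreOf_eq_opDown (p : ℕ) (K : Subgroup G) : Cfsg.pCoreOf p K = opDown p K := by
  unfold Cfsg.pCoreOf; exact map_pCore_eq_opDown p K

/-- The asymmetric step: if `Y` is asymmetric and `Y`, `Y^x` normalize each other, they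
commute. -/
theorem commutator_eq_bot_of_not_isSymmetricIn {Y : Subgroup G}
    (hasym : ¬ Cfsg.IsSymmetricIn Y) (x : G)
    (h1 : Y.map (MulAut.conj x).toMonoidHom ≤ Subgroup.normalizer (Y : Set G))
    (h2 : Y.map (MulAut.conj x⁻¹).toMonoidHom ≤ Subgroup.normalizer (Y : Set G)) :
    ⁅Y, Y.map (MulAut.conj x).toMonoidHom⁆ = ⊥ := by
  by_contra h
  apply hasym
  refine ⟨x, h, le_inf ?_ ?_⟩
  · exact commutator_le_of_le_normalizer' Y _ h1
  · rw [Subgroup.commutator_comm]
    apply commutator_le_of_le_normalizer'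
    intro y hy
    rw [mem_normalizer_map_conj_iff]
    apply h2
    have := conj_mem_map_conj Y x⁻¹ hy
    simpa using this

/-- A join of pairwise commuting elementary abelian subgroups is elementary abelian. -/
theorem isElementaryAbelian_iSup {p : ℕ} {ι : Sort*} (f : ι → Subgroup G)
    (hf : ∀ i, Cfsg.IsElementaryAbelian p (f i))
    (hc : ∀ i j, f i ≤ Subgroup.centralizer (f j : Set G)) :
    Cfsg.IsElementaryAbelian p (⨆ i, f i) := by
  have hcomm : (⨆ i, f i) ≤ Subgroup.centralizer ((⨆ i, f i : Subgroup G) : Set G) := by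
    apply iSup_le
    intro i
    rw [Subgroup.le_centralizer_iff]
    apply iSup_le
    intro j
    exact hc j i
  refine ⟨isMulCommutative_of_le_centralizer hcomm, ?_⟩
  intro a ha
  refine Subgroup.iSup_induction' f (C := fun a _ => a ^ p = 1) ?_ ?_ ?_ ha
  · intro i x hx; exact (hf i).2 x hx
  · exact one_pow p
  · intro x y hx hy hxp hyp
    have hxy : Commute x y := (Subgroup.mem_centralizer_iff.mp (hcomm hy) x hx)
    rw [hxy.mul_pow, hxp, hyp, one_mul]

end

section
variable {G : Type*} [Group G] [Finite G] {p : ℕ} [Fact p.Prime]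

/-- `M† = M C_G(Y_M)` normalizes `Y_M`. -/
theorem dagger_le_normalizer (M : Subgroup G) :
    M ⊔ Subgroup.centralizer ((Cfsg.largestPReducedOf p M : Subgroup G) : Set G) ≤
      Subgroup.normalizer ((Cfsg.largestPReducedOf p M : Subgroup G) : Set G) :=
  sup_le (le_normalizer_largestPReducedOf p M) (Subgroup.centralizer_le_normalizer _)

/-- `M†` normalizes `C_G(Y_M)`. -/
theorem dagger_le_normalizer_centralizer (M : Subgroup G) :
    M ⊔ Subgroup.centralizer ((Cfsg.largestPReducedOf p M : Subgroup G) : Set G) ≤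
      Subgroup.normalizer ((Subgroup.centralizer
        ((Cfsg.largestPReducedOf p M : Subgroup G) : Set G) : Subgroup G) : Set G) :=
  (dagger_le_normalizer M).trans (normalizer_le_normalizer_centralizer _)

theorem pCoreOf_le_centralizer_largestPReducedOf (M : Subgroup G) :
    Cfsg.pCoreOf p M ≤
      Subgroup.centralizer ((Cfsg.largestPReducedOf p M : Subgroup G) : Set G) := by
  rw [pCoreOf_eq_opDown]; exact opDown_le_centralizer_largestPReducedOf p M

/-- A `p`-subgroup of a `p`-closed normal subgroup `N` of `K` lies in `O_p(K)` (ambient). -/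
theorem le_pCoreOf_of_isPClosed (K N P : Subgroup G) (hNK : N ≤ K)
    (hKN : K ≤ Subgroup.normalizer (N : Set G)) (hcl : Cfsg.IsPClosed p ↥N) (hPN : P ≤ N)
    (hP : IsPGroup p P) : P ≤ Cfsg.pCoreOf p K := by
  have hn : (N.subgroupOf K).Normal :=
    (Subgroup.normal_subgroupOf_iff_le_normalizer hNK).mpr hKN
  have hcl' : Cfsg.IsPClosed p ↥(N.subgroupOf K) :=
    isPClosed_of_equiv (Subgroup.subgroupOfEquivOfLe hNK).symm hcl
  have h1 : P.subgroupOf K ≤ N.subgroupOf K := fun x hx => hPN hx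
  have h2 := Cfsg.Agent.Lib.Helper3.le_pCore_of_le_isPClosed hcl' h1 hP.comap_subtype
  have h3 := Subgroup.map_mono (f := K.subtype) h2
  rwa [Subgroup.map_subgroupOf_eq_of_le (hPN.trans hNK)] at h3

/-- In `M ∈ 𝔐`, a `p`-subgroup of `C_M(Y_M)` lies in `O_p(M)`. -/
theorem frakM_le_pCoreOf {M : Subgroup G} (hM : Cfsg.IsInFrakM p M) (P : Subgroup G)
    (hP : IsPGroup p P)
    (hPM : P ≤ M ⊓ Subgroup.centralizer ((Cfsg.largestPReducedOf p M : Subgroup G) : Set G)) :
    P ≤ Cfsg.pCoreOf p M := by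
  refine le_pCoreOf_of_isPClosed M _ P inf_le_left ?_ hM.2.2.2.2.1 hPM hP
  refine le_trans ?_ (inf_normalizer_le_normalizer_inf _ _)
  exact le_inf Subgroup.le_normalizer
    (le_sup_left.trans (dagger_le_normalizer_centralizer M))

omit [Fact p.Prime] in
/-- Every member of `𝓛_G` containing `M ∈ 𝔐` lies in `M†`. -/
theorem frakM_le_dagger {M : Subgroup G} (hM : Cfsg.IsInFrakM p M) (X : Subgroup G)
    (hX : X ∈ Cfsg.charPSubgroups p G) (hMX : M ≤ X) :
    X ≤ M ⊔ Subgroup.centralizer ((Cfsg.largestPReducedOf p M : Subgroup G) : Set G) := by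
  obtain ⟨X', hXX', hX'⟩ := Finite.exists_le_maximal
    (p := fun L : Subgroup G => L ∈ Cfsg.charPSubgroups p G) hX
  have hX'mem : X' ∈ Cfsg.maxCharPSubgroups p G :=
    ⟨hX'.prop, fun L hL hle => le_antisymm (hX'.le_of_ge hL hle) hle⟩
  have := hM.2.2.1 X' hX'mem (hMX.trans hXX')
  rw [← this]; exact hXX'

omit [Finite G] [Fact p.Prime] in
theorem pCoreOf_ne_bot_of_mem_charPSubgroups {M : Subgroup G}
    (hM : M ∈ Cfsg.charPSubgroups p G) : Cfsg.pCoreOf p M ≠ ⊥ := by
  intro h
  apply hM.1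
  unfold Cfsg.pCoreOf at h
  exact (Subgroup.map_eq_bot_iff_of_injective _ (Subgroup.subtype_injective M)).mp h

omit [Finite G] [Fact p.Prime] in
/-- The normalizer of a `p`-group containing `O_p(M)`, `M ∈ 𝓛_G`, is in `𝓛_G`. -/
theorem normalizer_mem_charPSubgroups {M : Subgroup G} (hM : M ∈ Cfsg.charPSubgroups p G)
    (T : Subgroup G) (hT : IsPGroup p T) (hQT : Cfsg.pCoreOf p M ≤ T) :
    Subgroup.normalizer (T : Set G) ∈ Cfsg.charPSubgroups p G := by
  have hTle : T ≤ Cfsg.pCoreOf p (Subgroup.normalizer (T : Set G)) := by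
    rw [pCoreOf_eq_opDown]
    exact le_opDown p Subgroup.le_normalizer le_rfl hT
  have hne : Cfsg.pCoreOf p (Subgroup.normalizer (T : Set G)) ≠ ⊥ := by
    intro h
    apply pCoreOf_ne_bot_of_mem_charPSubgroups hM
    rw [h] at hTle
    exact le_bot_iff.mp (hQT.trans hTle)
  constructor
  · intro h
    apply hne
    unfold Cfsg.pCoreOf
    rw [h, Subgroup.map_bot]
  · have hMc : Subgroup.centralizer ((Cfsg.pCoreOf p M : Subgroup G) : Set G) ≤
        Cfsg.pCoreOf p M := hM.2
    show Subgroup.centralizer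
      ((Cfsg.pCoreOf p (Subgroup.normalizer (T : Set G)) : Subgroup G) : Set G) ≤
        Cfsg.pCoreOf p (Subgroup.normalizer (T : Set G))
    exact (Subgroup.centralizer_le (hQT.trans hTle)).trans (hMc.trans (hQT.trans hTle))

/-- `N_G(O_p(M)) ≤ M†` for `M ∈ 𝔐`. -/
theorem frakM_normalizer_pCoreOf_le {M : Subgroup G} (hM : Cfsg.IsInFrakM p M) :
    Subgroup.normalizer ((Cfsg.pCoreOf p M : Subgroup G) : Set G) ≤
      M ⊔ Subgroup.centralizer ((Cfsg.largestPReducedOf p M : Subgroup G) : Set G) := by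
  apply frakM_le_dagger hM _
    (normalizer_mem_charPSubgroups hM.1 _ (by rw [pCoreOf_eq_opDown]; exact opDown_isPGroup p M)
      le_rfl)
  rw [pCoreOf_eq_opDown]; exact le_normalizer_opDown p M

/-- For `M ∈ 𝔐` containing the Sylow subgroup `S` and a `p`-subgroup `T` of `M†` containing
`O_p(M)`: `C_T(Y_M) = O_p(M)`. -/
theorem frakM_inf_centralizer_eq {M : Subgroup G} (hM : Cfsg.IsInFrakM p M) (S : Sylow p G)
    (hSM : (S : Subgroup G) ≤ M) (T : Subgroup G) (hT : IsPGroup p T)
    (hTMd : T ≤ M ⊔ Subgroup.centralizer ((Cfsg.largestPReducedOf p M : Subgroup G) : Set G))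
    (hQT : Cfsg.pCoreOf p M ≤ T) :
    T ⊓ Subgroup.centralizer ((Cfsg.largestPReducedOf p M : Subgroup G) : Set G) =
      Cfsg.pCoreOf p M := by
  set C := Subgroup.centralizer ((Cfsg.largestPReducedOf p M : Subgroup G) : Set G) with hC
  set QM := Cfsg.pCoreOf p M with hQM
  have hSMd : (S : Subgroup G) ≤ M ⊔ C := hSM.trans le_sup_left
  have hP : IsPGroup p ↥(T ⊓ C) := hT.to_le inf_le_left
  obtain ⟨h, hh, hconj⟩ := Cfsg.Agent.Lib.Helper24.exists_conj_le_sylow_of_subgroup (M ⊔ C)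
    (S.subtype hSMd) (T ⊓ C) hP (inf_le_left.trans hTMd)
  rw [sylow_subtype_map S (M ⊔ C) hSMd] at hconj
  have h1 : (T ⊓ C).map (MulAut.conj h).toMonoidHom ≤ QM := by
    apply frakM_le_pCoreOf hM _ (hP.map _)
    rintro _ ⟨y, hy, rfl⟩
    show (MulAut.conj h) y ∈ _
    rw [MulAut.conj_apply]
    exact Subgroup.mem_inf.mpr ⟨hSM (hconj y hy),
      conj_mem_of_mem_normalizer (dagger_le_normalizer_centralizer M hh) (Subgroup.mem_inf.mp hy).2⟩
  have hQP : QM ≤ T ⊓ C := le_inf hQT (pCoreOf_le_centralizer_largestPReducedOf M)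
  have h2 : QM.map (MulAut.conj h).toMonoidHom ≤ QM := (map_conj_mono hQP h).trans h1
  have h3 := map_conj_eq_of_le QM h h2
  apply le_antisymm _ hQP
  intro y hy
  have := h1 (conj_mem_map_conj (T ⊓ C) h hy)
  rw [← h3, mem_map_conj_iff] at this
  have e : h⁻¹ * (h * y * h⁻¹) * h = y := by group
  rwa [e] at this

end

end Cfsg.Agent.Lib.Helper16
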