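import Cfsg.Agent.Lib.Helper16.LargestPReduced

set_option autoImplicit false
open Cfsg
open scoped commutatorElement Pointwise

namespace Cfsg.Agent.Lib.Helper16

/-- Centralizer of `W.subgroupOf L` inside `L`. -/
theorem centralizer_subgroupOf_eq {H : Type*} [Group H] (L W : Subgroup H) (hWL : W ≤ L) :
    Subgroup.centralizer ((W.subgroupOf L : Subgroup ↥L) : Set ↥L) =
      (Subgroup.centralizer (W : Set H)).subgroupOf L := by
  ext x
  rw [Subgroup.mem_subgroupOf, Subgroup.mem_centralizer_iff, Subgroup.mem_centralizer_iff]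
  constructor
  · intro h w hw
    have := h ⟨w, hWL hw⟩ (by simpa [Subgroup.mem_subgroupOf] using hw)
    have h3 := congrArg Subtype.val this
    simpa using h3
  · intro h w hw
    apply Subtype.ext
    have := h (w : H) (by simpa [Subgroup.mem_subgroupOf] using hw)
    simpa using this

theorem isElementaryAbelian_subgroupOf_iff {H : Type*} [Group H] (p : ℕ) (L W : Subgroup H)
    (hWL : W ≤ L) :
    Cfsg.IsElementaryAbelian p (W.subgroupOf L) ↔ Cfsg.IsElementaryAbelian p W := by
  unfold Cfsg.IsElementaryAbelian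
  constructor
  · rintro ⟨hc, hp⟩
    refine ⟨?_, ?_⟩
    · apply isMulCommutative_of_le_centralizer
      intro a ha
      rw [Subgroup.mem_centralizer_iff]
      intro b hb
      have h1 := le_centralizer_of_isMulCommutative hc
        (show (⟨a, hWL ha⟩ : ↥L) ∈ W.subgroupOf L from ha)
      have := (Subgroup.mem_centralizer_iff.mp h1) ⟨b, hWL hb⟩ (show (⟨b, hWL hb⟩ : ↥L) ∈ W.subgroupOf L from hb)
      have h3 := congrArg Subtype.val this
      simpa using h3
    · intro a ha
      have := hp ⟨a, hWL ha⟩ ha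
      have h3 := congrArg Subtype.val this
      simpa using h3
  · rintro ⟨hc, hp⟩
    refine ⟨?_, ?_⟩
    · apply isMulCommutative_of_le_centralizer
      rw [centralizer_subgroupOf_eq L W hWL]
      intro a ha
      exact le_centralizer_of_isMulCommutative hc ha
    · intro a ha
      apply Subtype.ext
      have := hp (a : H) ha
      simpa using this

/-- If `n` normalizes `C` then `(n * c) ^ m ∈ n ^ m * C`. -/
theorem exists_mul_pow_eq {H : Type*} [Group H] (C : Subgroup H) (n c : H)
    (hn : n ∈ Subgroup.normalizer (C : Set H)) (hc : c ∈ C) (m : ℕ) :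
    ∃ c' ∈ C, (n * c) ^ m = n ^ m * c' := by
  induction m with
  | zero => exact ⟨1, C.one_mem, by simp⟩
  | succ m ih =>
    obtain ⟨c', hc', h⟩ := ih
    refine ⟨(n⁻¹ * c' * n) * c, C.mul_mem ?_ hc, ?_⟩
    · have := (Subgroup.mem_normalizer_iff.mp (Subgroup.inv_mem _ hn) c').mp hc'
      simpa using this
    · rw [pow_succ, h, pow_succ]; group

/-- Ambient characterization of `p`-reduced normal subgroups of a subgroup `L`. -/
theorem isPReducedNormal_subgroupOf_iff {H : Type*} [Group H] (p : ℕ) (L W : Subgroup H)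
    (hWL : W ≤ L) :
    Cfsg.IsPReducedNormal p (W.subgroupOf L) ↔
      L ≤ Subgroup.normalizer (W : Set H) ∧ Cfsg.IsElementaryAbelian p W ∧
      ∀ N : Subgroup H, N ≤ L → L ≤ Subgroup.normalizer (N : Set H) →
        L ⊓ Subgroup.centralizer (W : Set H) ≤ N →
        (∀ x ∈ N, ∃ k : ℕ, x ^ (p ^ k) ∈ Subgroup.centralizer (W : Set H)) →
          N ≤ Subgroup.centralizer (W : Set H) := by
  rw [isPReducedNormal_iff, Subgroup.normal_subgroupOf_iff_le_normalizer hWL,
    isElementaryAbelian_subgroupOf_iff p L W hWL, centralizer_subgroupOf_eq L W hWL]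
  constructor
  · rintro ⟨h1, h2, h3⟩
    refine ⟨h1, h2, ?_⟩
    intro N hNL hLN hCN hp
    have := h3 (N.subgroupOf L) ((Subgroup.normal_subgroupOf_iff_le_normalizer hNL).mpr hLN) ?_ ?_
    · intro n hn
      exact this (show (⟨n, hNL hn⟩ : ↥L) ∈ N.subgroupOf L from hn)
    · intro x hx
      exact hCN ⟨x.2, hx⟩
    · intro x hx
      obtain ⟨k, hk⟩ := hp (x : H) hx
      exact ⟨k, by simpa [Subgroup.mem_subgroupOf] using hk⟩
  · rintro ⟨h1, h2, h3⟩
    refine ⟨h1, h2, ?_⟩
    intro N hNn hCN hp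
    have hNL : N.map L.subtype ≤ L := Subgroup.map_subtype_le N
    have := h3 (N.map L.subtype) hNL (le_normalizer_map_subtype_of_normal L N hNn) ?_ ?_
    · intro x hx
      exact this ⟨x, hx, rfl⟩
    · rintro x ⟨hxL, hxC⟩
      exact ⟨⟨x, hxL⟩, hCN (show (⟨x, hxL⟩ : ↥L) ∈ (Subgroup.centralizer (W : Set H)).subgroupOf L from hxC), rfl⟩
    · rintro _ ⟨x, hx, rfl⟩
      obtain ⟨k, hk⟩ := hp x hx
      exact ⟨k, by simpa [Subgroup.mem_subgroupOf] using hk⟩

end Cfsg.Agent.Lib.Helper16
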