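import Cfsg.Agent.Lib.Helper16.PReducedStructure

set_option autoImplicit false
open Cfsg
open scoped commutatorElement Pointwise

namespace Cfsg.Agent.Lib.Helper16

theorem largestPReducedOf_le {H : Type*} [Group H] (p : ℕ) (L : Subgroup H) :
    Cfsg.largestPReducedOf p L ≤ L := Subgroup.map_subtype_le _

theorem largestPReducedOf_subgroupOf {H : Type*} [Group H] (p : ℕ) (L : Subgroup H) :
    (Cfsg.largestPReducedOf p L).subgroupOf L = Cfsg.largestPReduced p ↥L :=
  Subgroup.comap_map_eq_self_of_injective Subtype.coe_injective _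

theorem largestPReducedOf_isPReducedNormal {H : Type*} [Group H] [Finite H] (p : ℕ)
    [Fact p.Prime] (L : Subgroup H) :
    Cfsg.IsPReducedNormal p ((Cfsg.largestPReducedOf p L).subgroupOf L) := by
  rw [largestPReducedOf_subgroupOf]
  exact largestPReduced_isPReducedNormal p

theorem le_largestPReducedOf {H : Type*} [Group H] (p : ℕ) (L W : Subgroup H) (hWL : W ≤ L)
    (hW : Cfsg.IsPReducedNormal p (W.subgroupOf L)) : W ≤ Cfsg.largestPReducedOf p L := by
  have hle := le_largestPReduced hW
  have := Subgroup.map_mono (f := L.subtype) hle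
  rwa [Subgroup.map_subgroupOf_eq_of_le hWL] at this

theorem le_normalizer_largestPReducedOf {H : Type*} [Group H] [Finite H] (p : ℕ)
    [Fact p.Prime] (L : Subgroup H) :
    L ≤ Subgroup.normalizer ((Cfsg.largestPReducedOf p L : Subgroup H) : Set H) :=
  le_normalizer_map_subtype_of_normal L _ (largestPReduced_isPReducedNormal p).1

/-- A Sylow subgroup of `H` contained in `L`, as a Sylow subgroup of `L`, maps back to itself. -/
theorem sylow_subtype_map {H : Type*} [Group H] {p : ℕ} (T : Sylow p H) (L : Subgroup H)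
    (hTL : (T : Subgroup H) ≤ L) :
    ((T.subtype hTL : Sylow p ↥L) : Subgroup ↥L).map L.subtype = (T : Subgroup H) := by
  rw [Sylow.coe_subtype, Subgroup.map_subgroupOf_eq_of_le hTL]

/-- `O_p(L) ≤ T` for a Sylow subgroup `T` of `H` contained in `L`. -/
theorem opDown_le_sylow {H : Type*} [Group H] [Finite H] {p : ℕ} [Fact p.Prime] (T : Sylow p H)
    (L : Subgroup H) (hTL : (T : Subgroup H) ≤ L) : opDown p L ≤ (T : Subgroup H) := by
  rw [← map_pCore_eq_opDown, ← sylow_subtype_map T L hTL]
  exact Subgroup.map_mono (pCore_le_sylow _)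

theorem largestPReducedOf_le_opDown {H : Type*} [Group H] [Finite H] (p : ℕ) [Fact p.Prime]
    (L : Subgroup H) : Cfsg.largestPReducedOf p L ≤ opDown p L := by
  rw [← map_pCore_eq_opDown]
  exact Subgroup.map_mono (isPReducedNormal_le_pCore (largestPReduced_isPReducedNormal p))

theorem largestPReducedOf_le_sylow {H : Type*} [Group H] [Finite H] {p : ℕ} [Fact p.Prime]
    (T : Sylow p H) (L : Subgroup H) (hTL : (T : Subgroup H) ≤ L) :
    Cfsg.largestPReducedOf p L ≤ (T : Subgroup H) :=
  (largestPReducedOf_le_opDown p L).trans (opDown_le_sylow T L hTL)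

/-- `O_p(L)` centralizes `Y_L`. -/
theorem opDown_le_centralizer_largestPReducedOf {H : Type*} [Group H] [Finite H] (p : ℕ)
    [Fact p.Prime] (L : Subgroup H) :
    opDown p L ≤ Subgroup.centralizer ((Cfsg.largestPReducedOf p L : Subgroup H) : Set H) := by
  rw [← map_pCore_eq_opDown]
  exact map_subtype_le_centralizer L _ _
    (isPReducedNormal_pCore_le_centralizer (largestPReduced_isPReducedNormal p))

theorem largestPReducedOf_isElementaryAbelian {H : Type*} [Group H] [Finite H] (p : ℕ)
    [Fact p.Prime] (L : Subgroup H) :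
    Cfsg.IsElementaryAbelian p (Cfsg.largestPReducedOf p L) := by
  have := (largestPReducedOf_isPReducedNormal p L).2.1
  rwa [isElementaryAbelian_subgroupOf_iff p L _ (largestPReducedOf_le p L)] at this

theorem map_omegaCenterSub {H : Type*} [Group H] (p : ℕ) (L Q : Subgroup H) (hQL : Q ≤ L) :
    (omegaCenterSub p (Q.subgroupOf L)).map L.subtype = omegaCenterSub p Q := by
  ext w
  constructor
  · rintro ⟨x, ⟨h1, h2, h3⟩, rfl⟩
    refine ⟨h1, ?_, ?_⟩
    · rw [centralizer_subgroupOf_eq L Q hQL] at h2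
      exact h2
    · have := congrArg Subtype.val h3
      simpa using this
  · rintro ⟨h1, h2, h3⟩
    refine ⟨⟨w, hQL h1⟩, ⟨h1, ?_, ?_⟩, rfl⟩
    · rw [centralizer_subgroupOf_eq L Q hQL]
      exact h2
    · apply Subtype.ext
      simpa using h3

/-- `Y_L = Ω₁(Z(C_T(Y_L)))` for a subgroup `L ≥ T` of characteristic `p`, in the ambient group. -/
theorem largestPReducedOf_eq_omegaCenterSub {H : Type*} [Group H] [Finite H] {p : ℕ}
    [Fact p.Prime] (T : Sylow p H) (L : Subgroup H) (hTL : (T : Subgroup H) ≤ L)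
    (hL : Subgroup.centralizer (Cfsg.pCore p ↥L : Set ↥L) ≤ Cfsg.pCore p ↥L) :
    Cfsg.largestPReducedOf p L = omegaCenterSub p ((T : Subgroup H) ⊓
      Subgroup.centralizer ((Cfsg.largestPReducedOf p L : Subgroup H) : Set H)) := by
  set YL := Cfsg.largestPReducedOf p L with hYL
  set C := Subgroup.centralizer (YL : Set H) with hC
  have hYLL : YL ≤ L := largestPReducedOf_le p L
  have hsub : YL.subgroupOf L = Cfsg.largestPReduced p ↥L := largestPReducedOf_subgroupOf p L
  have hT₀L : (T : Subgroup H) ⊓ C ≤ L := inf_le_left.trans hTL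
  have hTL' : (((T : Subgroup H) ⊓ C).subgroupOf L) =
      ((T.subtype hTL : Sylow p ↥L) : Subgroup ↥L) ⊓
        Subgroup.centralizer ((Cfsg.largestPReduced p ↥L : Subgroup ↥L) : Set ↥L) := by
    rw [Sylow.coe_subtype, ← hsub, centralizer_subgroupOf_eq L YL hYLL]
    rfl
  have hstruct := largest_pReduced_structure hL (T.subtype hTL) (Cfsg.largestPReduced p ↥L)
    ⟨largestPReduced_isPReducedNormal p, fun V hV => le_largestPReduced hV⟩ _ hTL'
  have h3 := hstruct.2.2
  have : YL = (Cfsg.largestPReduced p ↥L).map L.subtype := rfl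
  rw [this, h3, map_omegaCenterSub p L _ hT₀L]

end Cfsg.Agent.Lib.Helper16
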