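import Cfsg.Agent.Lib.Helper16.FrakM
import Cfsg.Agent.Lib.Helper16.SylowNormal
import Cfsg.Agent.Lib.Helper16.CharP
import Cfsg.Agent.S2821
import Cfsg.Agent.S2822
import Cfsg.Agent.S2824

/-! Existence of members of `𝔐_H(T)` (the basic property), following
Meierfrankenfeld–Stellmacher–Stroth. -/

set_option autoImplicit false
open Cfsg
open scoped commutatorElement Pointwise

namespace Cfsg.Agent.Lib.Helper16


/-- `p`-reduced normality is preserved by pulling back along an isomorphism. -/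
theorem isPReducedNormal_comap_equiv {A B : Type*} [Group A] [Group B] {p : ℕ} (e : A ≃* B)
    (V : Subgroup B) (hV : Cfsg.IsPReducedNormal p V) :
    Cfsg.IsPReducedNormal p (V.comap e.toMonoidHom) := by
  obtain ⟨hVn, hVE, hVN⟩ := (isPReducedNormal_iff p V).mp hV
  have hcent : ∀ x : A, x ∈ Subgroup.centralizer ((V.comap e.toMonoidHom : Subgroup A) : Set A) ↔
      e x ∈ Subgroup.centralizer (V : Set B) := by
    intro x
    rw [Subgroup.mem_centralizer_iff, Subgroup.mem_centralizer_iff]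
    constructor
    · intro h v hv
      have h1 := h (e.symm v) (by
        show e.toMonoidHom (e.symm v) ∈ V
        simpa using hv)
      have := congrArg e h1
      simpa using this
    · intro h y hy
      have h1 := h (e y) hy
      apply e.injective
      simpa using h1
  rw [isPReducedNormal_iff]
  refine ⟨hVn.comap _, ⟨?_, ?_⟩, ?_⟩
  · apply isMulCommutative_of_le_centralizer
    intro x hx
    rw [hcent]
    exact (le_centralizer_of_isMulCommutative hVE.1) hx
  · intro a ha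
    apply e.injective
    have := hVE.2 (e a) ha
    simpa using this
  · intro N hN hCN hp
    have hN' : (N.map e.toMonoidHom).Normal := hN.map _ e.surjective
    have h1 : Subgroup.centralizer (V : Set B) ≤ N.map e.toMonoidHom := by
      intro c hc
      refine ⟨e.symm c, hCN ?_, by simp⟩
      rw [hcent]; simpa using hc
    have h2 : ∀ x ∈ N.map e.toMonoidHom, ∃ k : ℕ, x ^ (p ^ k) ∈ Subgroup.centralizer (V : Set B) := by
      rintro _ ⟨x, hx, rfl⟩
      obtain ⟨k, hk⟩ := hp x hx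
      refine ⟨k, ?_⟩
      rw [hcent] at hk
      simpa using hk
    have h3 := hVN _ hN' h1 h2
    intro x hx
    rw [hcent]
    exact h3 ⟨x, hx, rfl⟩

/-- Double `subgroupOf` as a pull-back along the canonical isomorphism. -/
theorem subgroupOf_subgroupOf_eq_comap {G : Type*} [Group G] (W R K : Subgroup G) (hRK : R ≤ K) :
    (W.subgroupOf K).subgroupOf (R.subgroupOf K) =
      (W.subgroupOf R).comap (Subgroup.subgroupOfEquivOfLe hRK).toMonoidHom := by
  ext x
  simp [Subgroup.mem_subgroupOf]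



section
variable {G : Type*} [Group G] [Finite G] {p : ℕ} [Fact p.Prime]

/-- Monotonicity of `Y` on overgroups of a Sylow subgroup (ambient form of the normal closure
lemma). -/
theorem largestPReducedOf_mono_of_sylow (T : Sylow p G) (R K : Subgroup G)
    (hTR : (T : Subgroup G) ≤ R) (hRK : R ≤ K)
    (hK : Subgroup.centralizer (Cfsg.pCore p ↥K : Set ↥K) ≤ Cfsg.pCore p ↥K) :
    Cfsg.largestPReducedOf p R ≤ Cfsg.largestPReducedOf p K := by
  set YR := Cfsg.largestPReducedOf p R with hYR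
  have hYRR : YR ≤ R := largestPReducedOf_le p R
  have hYRK : YR ≤ K := hYRR.trans hRK
  set T' : Sylow p ↥K := T.subtype (hTR.trans hRK) with hT'
  set R' : Subgroup ↥K := R.subgroupOf K with hR'
  have hTR' : (T' : Subgroup ↥K) ≤ R' := by
    rw [hT', Sylow.coe_subtype]
    intro x hx
    rw [Subgroup.mem_subgroupOf] at hx ⊢
    exact hTR hx
  set X : Subgroup ↥R' := (YR.subgroupOf K).subgroupOf R' with hX
  have hXred : Cfsg.IsPReducedNormal p X := by
    rw [hX, hR', subgroupOf_subgroupOf_eq_comap YR R K hRK]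
    exact isPReducedNormal_comap_equiv _ _ (largestPReducedOf_isPReducedNormal p R)
  have hcl := isPReducedNormal_normalClosure hK T' R' hTR' X hXred
  have hle := le_largestPReduced hcl
  have hmap : X.map R'.subtype = YR.subgroupOf K := by
    rw [hX]
    apply Subgroup.map_subgroupOf_eq_of_le
    intro x hx
    rw [Subgroup.mem_subgroupOf] at hx ⊢
    exact hYRR hx
  rw [hmap] at hle
  have h2 : YR.subgroupOf K ≤ Cfsg.largestPReduced p ↥K :=
    Subgroup.le_normalClosure.trans hle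
  have h3 := Subgroup.map_mono (f := K.subtype) h2
  rwa [Subgroup.map_subgroupOf_eq_of_le hYRK] at h3

/-- A nontrivial `p`-group has a nontrivial central element of order `p`. -/
theorem exists_central_of_ne_bot (T : Subgroup G) (hT : IsPGroup p T) (hT1 : T ≠ ⊥) :
    ∃ l ∈ T, l ≠ 1 ∧ (∀ s ∈ T, s * l = l * s) ∧ l ^ p = 1 := by
  have : Nontrivial ↥T := (Subgroup.nontrivial_iff_ne_bot T).mpr hT1
  have := hT.center_nontrivial
  have hcp : IsPGroup p (Subgroup.center ↥T) := hT.to_subgroup _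
  have hdvd : p ∣ Nat.card (Subgroup.center ↥T) := by
    rcases hcp.card_eq_or_dvd with h | h
    · exfalso
      have := Finite.one_lt_card (α := Subgroup.center ↥T)
      omega
    · exact h
  obtain ⟨z, hz⟩ := exists_prime_orderOf_dvd_card' p hdvd
  refine ⟨((z : ↥T) : G), (z : ↥T).2, ?_, ?_, ?_⟩
  · intro h
    have h1 : z = 1 := by
      apply Subtype.ext; apply Subtype.ext; simpa using h
    rw [h1, orderOf_one] at hz
    exact (Fact.out : p.Prime).one_lt.ne hz
  · intro s hs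
    have := (Subgroup.mem_center_iff.mp z.2) ⟨s, hs⟩
    exact congrArg Subtype.val this
  · have : z ^ p = 1 := by rw [← hz]; exact pow_orderOf_eq_one z
    have h2 := congrArg (fun w : Subgroup.center ↥T => ((w : ↥T) : G)) this
    simpa using h2

/-- `Y_X ≠ 1` for `X` of characteristic `p` containing a nontrivial Sylow subgroup. -/
theorem largestPReducedOf_ne_bot (T : Sylow p G) (X : Subgroup G) (hTX : (T : Subgroup G) ≤ X)
    (hX : Subgroup.centralizer (Cfsg.pCore p ↥X : Set ↥X) ≤ Cfsg.pCore p ↥X)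
    (hT1 : (T : Subgroup G) ≠ ⊥) : Cfsg.largestPReducedOf p X ≠ ⊥ := by
  obtain ⟨l, hlT, hl1, hlc, hlp⟩ := exists_central_of_ne_bot (T : Subgroup G) T.2 hT1
  have hmem := Cfsg.Agent.S2821.omega_center_sylow_le hX (T.subtype hTX) ⟨l, hTX hlT⟩
    (by rw [Sylow.coe_subtype, Subgroup.mem_subgroupOf]; exact hlT)
    (by
      intro s hs
      rw [Sylow.coe_subtype, Subgroup.mem_subgroupOf] at hs
      apply Subtype.ext
      exact hlc s hs)
    (by apply Subtype.ext; simpa using hlp)
  intro h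
  apply hl1
  have h2 : l ∈ Cfsg.largestPReducedOf p X := ⟨⟨l, hTX hlT⟩, hmem, rfl⟩
  rw [h] at h2
  exact Subgroup.mem_bot.mp h2

end



section
variable {A : Type*} [Group A]

/-- `|A : K| = |D : K ∩ D|` when `A = K D`, `D` normal. -/
theorem index_eq_relIndex_of_sup_eq_top [Finite A] (K D : Subgroup A) [D.Normal]
    (h : K ⊔ D = ⊤) : K.index = (K ⊓ D).relIndex D := by
  have h1 : D.relIndex K = D.index := by
    have := Subgroup.relIndex_sup_right (H := K) (K := D)
    rw [h, Subgroup.relIndex_top_right] at this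
    exact this.symm
  have e1 := Subgroup.relIndex_mul_index (inf_le_left : K ⊓ D ≤ K)
  have e2 := Subgroup.relIndex_mul_index (inf_le_right : K ⊓ D ≤ D)
  rw [Subgroup.inf_relIndex_left, h1] at e1
  have : D.index * K.index = D.index * (K ⊓ D).relIndex D := by rw [e1, mul_comm, e2]
  exact Nat.eq_of_mul_eq_mul_left (Nat.pos_of_ne_zero Subgroup.index_ne_zero_of_finite) this

/-- A subgroup of index prime to `p` contains a conjugate of every Sylow `p`-subgroup. -/
theorem exists_smul_le_of_not_dvd_index [Finite A] {p : ℕ} [Fact p.Prime] (T : Sylow p A)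
    (K : Subgroup A) (h : ¬ p ∣ K.index) : ∃ g : A, MulAut.conj g • (T : Subgroup A) ≤ K := by
  obtain ⟨P₀⟩ : Nonempty (Sylow p ↥K) := inferInstance
  have hPp : IsPGroup p ((P₀ : Subgroup ↥K).map K.subtype) := P₀.2.map _
  have hidx : ¬ p ∣ ((P₀ : Subgroup ↥K).map K.subtype).index := by
    rw [Subgroup.index_map_subtype]
    intro hd
    rcases (Nat.Prime.dvd_mul (Fact.out : p.Prime)).mp hd with h' | h'
    · exact P₀.not_dvd_index h'
    · exact h h'
  set S := hPp.toSylow hidx with hS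
  obtain ⟨g, hg⟩ := MulAction.exists_smul_eq A T S
  refine ⟨g, ?_⟩
  have h2 : MulAut.conj g • (T : Subgroup A) = (S : Subgroup A) := by
    rw [← hg]; rfl
  rw [h2]
  show (P₀ : Subgroup ↥K).map K.subtype ≤ K
  exact Subgroup.map_subtype_le _

/-- Minimality consequences (type level): if no proper subgroup `K ≥ T` supplements the normal
subgroup `D`, then `D` is `p`-closed and its image modulo `O_p(A)` is in the Frattini subgroup. -/
theorem isPClosed_and_frattini_of_minimal [Finite A] {p : ℕ} [Fact p.Prime] (T : Sylow p A)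
    (D : Subgroup A) [hD : D.Normal]
    (hmin : ∀ K : Subgroup A, (T : Subgroup A) ≤ K → K ⊔ D = ⊤ → K = ⊤) :
    Cfsg.IsPClosed p ↥D ∧
      D.map (QuotientGroup.mk' (Cfsg.pCore p A)) ≤ frattini (A ⧸ Cfsg.pCore p A) := by
  obtain ⟨Q, hQ⟩ := exists_sylow_subgroupOf_normal T D
  have hfr := Sylow.normalizer_sup_eq_top Q
  have hmap : (Q : Subgroup ↥D).map D.subtype = (T : Subgroup A) ⊓ D := by
    rw [hQ, Subgroup.subgroupOf_map_subtype]
  rw [hmap] at hfr
  have hTn : (T : Subgroup A) ≤ Subgroup.normalizer (((T : Subgroup A) ⊓ D : Subgroup A) : Set A) := by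
    refine le_trans ?_ (inf_normalizer_le_normalizer_inf _ _)
    refine le_inf Subgroup.le_normalizer ?_
    rw [Subgroup.normalizer_eq_top]; exact le_top
  have hntop := hmin _ hTn hfr
  have hQ'n : ((T : Subgroup A) ⊓ D).Normal := Subgroup.normalizer_eq_top_iff.mp hntop
  have hQ'p : IsPGroup p ((T : Subgroup A) ⊓ D : Subgroup A) := T.2.to_le inf_le_left
  have hQn : (Q : Subgroup ↥D).Normal := by
    rw [hQ]
    have : ((T : Subgroup A).subgroupOf D) = ((T : Subgroup A) ⊓ D).subgroupOf D := by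
      rw [Subgroup.inf_subgroupOf_right]
    rw [this]
    exact hQ'n.subgroupOf D
  constructor
  · intro P
    obtain ⟨g, hg⟩ := MulAction.exists_smul_eq ↥D Q P
    rw [← hg, Sylow.smul_eq_of_normal]
    exact hQn
  · unfold frattini Order.radical
    apply le_iInf₂
    intro Kb hKb
    by_contra hle
    have hsup : Kb ⊔ D.map (QuotientGroup.mk' (Cfsg.pCore p A)) = ⊤ := by
      apply hKb.2
      exact lt_of_le_of_ne le_sup_left (fun h => hle (h ▸ le_sup_right))
    set K := Kb.comap (QuotientGroup.mk' (Cfsg.pCore p A)) with hK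
    have hsurj : Function.Surjective (QuotientGroup.mk' (Cfsg.pCore p A)) :=
      QuotientGroup.mk'_surjective _
    have hPK : Cfsg.pCore p A ≤ K := by
      intro x hx
      rw [hK, Subgroup.mem_comap]
      have : QuotientGroup.mk' (Cfsg.pCore p A) x = 1 := by
        rw [QuotientGroup.mk'_apply, QuotientGroup.eq_one_iff]; exact hx
      rw [this]; exact Kb.one_mem
    have hKD : K ⊔ D = ⊤ := by
      have h1 : (K ⊔ D).map (QuotientGroup.mk' (Cfsg.pCore p A)) = ⊤ := by
        rw [Subgroup.map_sup, hK, Subgroup.map_comap_eq_self_of_surjective hsurj, hsup]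
      have h2 : (QuotientGroup.mk' (Cfsg.pCore p A)).ker ≤ K ⊔ D := by
        rw [QuotientGroup.ker_mk']; exact hPK.trans le_sup_left
      have h3 := Subgroup.comap_map_eq_self h2
      rw [h1, Subgroup.comap_top] at h3
      exact h3.symm
    -- index of K is prime to p
    have hQ'K : (T : Subgroup A) ⊓ D ≤ K := (le_pCore hQ'n hQ'p).trans hPK
    have hidx : ¬ p ∣ K.index := by
      rw [index_eq_relIndex_of_sup_eq_top K D hKD]
      intro hd
      have h1 : (K ⊓ D).relIndex D ∣ ((T : Subgroup A) ⊓ D).relIndex D :=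
        Subgroup.relIndex_dvd_of_le_left D (le_inf hQ'K inf_le_right)
      have h2 : ((T : Subgroup A) ⊓ D).relIndex D = (Q : Subgroup ↥D).index := by
        rw [hQ, Subgroup.inf_relIndex_right]; rfl
      rw [h2] at h1
      exact Q.not_dvd_index (hd.trans h1)
    obtain ⟨g, hg⟩ := exists_smul_le_of_not_dvd_index T K hidx
    have hT2 : (T : Subgroup A) ≤ MulAut.conj g⁻¹ • K := by
      have := Subgroup.pointwise_smul_le_pointwise_smul_iff (a := MulAut.conj g⁻¹).mpr hg
      rwa [← mul_smul, ← map_mul, inv_mul_cancel, map_one, one_smul] at this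
    have hsup2 : MulAut.conj g⁻¹ • K ⊔ D = ⊤ := by
      have h1 : MulAut.conj g⁻¹ • (K ⊔ D) = MulAut.conj g⁻¹ • K ⊔ MulAut.conj g⁻¹ • D :=
        Subgroup.smul_sup _ _ _
      rw [Subgroup.Normal.conj_smul_eq_self g⁻¹ D, hKD] at h1
      rw [← h1]
      exact (Subgroup.Normal.conj_smul_eq_self g⁻¹ (⊤ : Subgroup A))
    have h4 := hmin _ hT2 hsup2
    have hKtop : K = ⊤ := by
      have := congrArg (fun S => MulAut.conj g • S) h4
      simp only [smul_smul] at this
      rw [← map_mul, mul_inv_cancel, map_one, one_smul] at this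
      rw [this]; simp
    apply hKb.1
    have h5 := Subgroup.map_comap_eq_self_of_surjective hsurj Kb
    rw [← hK, hKtop, Subgroup.map_top_of_surjective _ hsurj] at h5
    exact h5.symm

end



section
variable {G : Type*} [Group G] [Finite G] {p : ℕ} [Fact p.Prime]

omit [Finite G] [Fact p.Prime] in
/-- Members of `𝓛` have characteristic `p` in the relative sense. -/
theorem relCharP_of_mem_charPSubgroups {X : Subgroup G} (hX : X ∈ Cfsg.charPSubgroups p G) :
    Subgroup.centralizer (Cfsg.pCore p ↥X : Set ↥X) ≤ Cfsg.pCore p ↥X := by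
  apply type_of_isCharPSub
  unfold IsCharPSub
  rw [← map_pCore_eq_opDown]
  exact inf_le_right.trans hX.2

theorem sylow_ne_bot_of_mem_charPSubgroups (T : Sylow p G) {X : Subgroup G}
    (hTX : (T : Subgroup G) ≤ X) (hX : X ∈ Cfsg.charPSubgroups p G) : (T : Subgroup G) ≠ ⊥ := by
  intro h
  have h1 := opDown_le_sylow T X hTX
  rw [h] at h1
  have := pCoreOf_ne_bot_of_mem_charPSubgroups hX
  rw [pCoreOf_eq_opDown] at this
  exact this (le_bot_iff.mp h1)

omit [Finite G] [Fact p.Prime] in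
/-- (P0) a parabolic subgroup with a nontrivial normal `p`-subgroup is in `𝓛`. -/
theorem mem_charPSubgroups_of_parabolic
    (hpar : ∀ R : Subgroup G, Cfsg.IsParabolic p R → Cfsg.pCore p ↥R ≠ ⊥ →
      Subgroup.centralizer ((Cfsg.pCoreOf p R : Subgroup G) : Set G) ≤ Cfsg.pCoreOf p R)
    (T : Sylow p G) (X W : Subgroup G) (hTX : (T : Subgroup G) ≤ X) (hW1 : W ≠ ⊥)
    (hWp : IsPGroup p W) (hWX : W ≤ X) (hXW : X ≤ Subgroup.normalizer (W : Set G)) :
    X ∈ Cfsg.charPSubgroups p G := by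
  have hne : Cfsg.pCore p ↥X ≠ ⊥ := by
    intro h
    have h1 : W ≤ opDown p X := le_opDown p hWX hXW hWp
    rw [← map_pCore_eq_opDown, h, Subgroup.map_bot] at h1
    exact hW1 (le_bot_iff.mp h1)
  exact ⟨hne, hpar X ⟨T, hTX⟩ hne⟩

/-- (P1) `X† ∈ 𝓛` for `X ∈ 𝓛(T)`. -/
theorem dagger_mem_charPSubgroups
    (hpar : ∀ R : Subgroup G, Cfsg.IsParabolic p R → Cfsg.pCore p ↥R ≠ ⊥ →
      Subgroup.centralizer ((Cfsg.pCoreOf p R : Subgroup G) : Set G) ≤ Cfsg.pCoreOf p R)
    (T : Sylow p G) (X : Subgroup G) (hTX : (T : Subgroup G) ≤ X)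
    (hX : X ∈ Cfsg.charPSubgroups p G) :
    X ⊔ Subgroup.centralizer ((Cfsg.largestPReducedOf p X : Subgroup G) : Set G) ∈
      Cfsg.charPSubgroups p G := by
  have hXrel := relCharP_of_mem_charPSubgroups hX
  have hT1 := sylow_ne_bot_of_mem_charPSubgroups T hTX hX
  have hY1 := largestPReducedOf_ne_bot T X hTX hXrel hT1
  exact mem_charPSubgroups_of_parabolic hpar T _ (Cfsg.largestPReducedOf p X)
    (hTX.trans le_sup_left) hY1
    (isElementaryAbelian_isPGroup (largestPReducedOf_isElementaryAbelian p X))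
    ((largestPReducedOf_le p X).trans le_sup_left) (dagger_le_normalizer X)

/-- (P2) `C_G(Y_M) ≤ M` for `M ∈ 𝓜(T)`. -/
theorem centralizer_le_of_mem_maxCharPSubgroups
    (hpar : ∀ R : Subgroup G, Cfsg.IsParabolic p R → Cfsg.pCore p ↥R ≠ ⊥ →
      Subgroup.centralizer ((Cfsg.pCoreOf p R : Subgroup G) : Set G) ≤ Cfsg.pCoreOf p R)
    (T : Sylow p G) (Mt : Subgroup G) (hTMt : (T : Subgroup G) ≤ Mt)
    (hMt : Mt ∈ Cfsg.maxCharPSubgroups p G) :
    Subgroup.centralizer ((Cfsg.largestPReducedOf p Mt : Subgroup G) : Set G) ≤ Mt := by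
  have h := hMt.2 _ (dagger_mem_charPSubgroups hpar T Mt hTMt hMt.1) le_sup_left
  calc Subgroup.centralizer ((Cfsg.largestPReducedOf p Mt : Subgroup G) : Set G)
      ≤ Mt ⊔ Subgroup.centralizer ((Cfsg.largestPReducedOf p Mt : Subgroup G) : Set G) :=
        le_sup_right
    _ = Mt := h

/-- The minimal supplement of `C_G(Y_M̃)` over `T` in a maximal `M̃ ∈ 𝓜(T)`. -/
theorem props_of_minimal
    (hpar : ∀ R : Subgroup G, Cfsg.IsParabolic p R → Cfsg.pCore p ↥R ≠ ⊥ →
      Subgroup.centralizer ((Cfsg.pCoreOf p R : Subgroup G) : Set G) ≤ Cfsg.pCoreOf p R)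
    (T : Sylow p G) (Mt M : Subgroup G) (hMt : Mt ∈ Cfsg.maxCharPSubgroups p G)
    (hTM : (T : Subgroup G) ≤ M)
    (hfac : M ⊔ Subgroup.centralizer ((Cfsg.largestPReducedOf p Mt : Subgroup G) : Set G) = Mt)
    (hmin : ∀ K : Subgroup G, (T : Subgroup G) ≤ K → K ≤ M →
      K ⊔ Subgroup.centralizer ((Cfsg.largestPReducedOf p Mt : Subgroup G) : Set G) = Mt →
        K = M) :
    M ∈ Cfsg.charPSubgroups p G ∧
    Cfsg.largestPReducedOf p M = Cfsg.largestPReducedOf p Mt ∧
    M ⊔ Subgroup.centralizer ((Cfsg.largestPReducedOf p M : Subgroup G) : Set G) = Mt ∧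
    Cfsg.IsPClosed p ↥(M ⊓ Subgroup.centralizer ((Cfsg.largestPReducedOf p M : Subgroup G) : Set G)) ∧
    ((M ⊓ Subgroup.centralizer ((Cfsg.largestPReducedOf p M : Subgroup G) : Set G)).subgroupOf M).map
        (QuotientGroup.mk' (Cfsg.pCore p ↥M)) ≤ frattini (↥M ⧸ Cfsg.pCore p ↥M) := by
  set C := Subgroup.centralizer ((Cfsg.largestPReducedOf p Mt : Subgroup G) : Set G) with hC
  have hMMt : M ≤ Mt := le_sup_left.trans_eq hfac
  have hTMt : (T : Subgroup G) ≤ Mt := hTM.trans hMMt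
  have hCMt : C ≤ Mt := centralizer_le_of_mem_maxCharPSubgroups hpar T Mt hTMt hMt
  have hMtrel := relCharP_of_mem_charPSubgroups hMt.1
  have hT1 := sylow_ne_bot_of_mem_charPSubgroups T hTMt hMt.1
  have hYMt1 := largestPReducedOf_ne_bot T Mt hTMt hMtrel hT1
  have hYMtT : Cfsg.largestPReducedOf p Mt ≤ (T : Subgroup G) :=
    largestPReducedOf_le_sylow T Mt hTMt
  have hMtN : Mt ≤ Subgroup.normalizer ((Cfsg.largestPReducedOf p Mt : Subgroup G) : Set G) :=
    le_normalizer_largestPReducedOf p Mt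
  have hM𝓛 : M ∈ Cfsg.charPSubgroups p G :=
    mem_charPSubgroups_of_parabolic hpar T M (Cfsg.largestPReducedOf p Mt) hTM hYMt1
      (isElementaryAbelian_isPGroup (largestPReducedOf_isElementaryAbelian p Mt))
      (hYMtT.trans hTM) (hMMt.trans hMtN)
  have hMrel := relCharP_of_mem_charPSubgroups hM𝓛
  have hY1 : Cfsg.largestPReducedOf p M ≤ Cfsg.largestPReducedOf p Mt :=
    largestPReducedOf_mono_of_sylow T M Mt hTM hMMt hMtrel
  have hY2 : Cfsg.largestPReducedOf p Mt ≤ Cfsg.largestPReducedOf p M := by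
    apply Cfsg.Agent.S2822.result T M Mt hTM hTMt hMrel hMtrel
    rw [← hC, hfac, sup_eq_left.mpr hCMt]
  have hYeq : Cfsg.largestPReducedOf p M = Cfsg.largestPReducedOf p Mt := le_antisymm hY1 hY2
  rw [hYeq, ← hC]
  have hMnC : M ≤ Subgroup.normalizer (C : Set G) :=
    (hMMt.trans hMtN).trans (normalizer_le_normalizer_centralizer _)
  have hDn : ((M ⊓ C).subgroupOf M).Normal := by
    rw [Subgroup.normal_subgroupOf_iff_le_normalizer inf_le_left]
    refine le_trans ?_ (inf_normalizer_le_normalizer_inf _ _)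
    exact le_inf Subgroup.le_normalizer hMnC
  have hmin' : ∀ K : Subgroup ↥M, ((T.subtype hTM : Sylow p ↥M) : Subgroup ↥M) ≤ K →
      K ⊔ (M ⊓ C).subgroupOf M = ⊤ → K = ⊤ := by
    intro K hTK hKD
    have hK'M : K.map M.subtype ≤ M := Subgroup.map_subtype_le _
    have hTK' : (T : Subgroup G) ≤ K.map M.subtype := by
      intro t ht
      refine ⟨⟨t, hTM ht⟩, hTK ?_, rfl⟩
      rw [Sylow.coe_subtype, Subgroup.mem_subgroupOf]
      exact ht
    have hsup : K.map M.subtype ⊔ C = Mt := by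
      apply le_antisymm
      · exact sup_le (hK'M.trans hMMt) hCMt
      · rw [← hfac]
        apply sup_le _ le_sup_right
        have h1 := congrArg (Subgroup.map M.subtype) hKD
        rw [Subgroup.map_sup, Subgroup.subgroupOf_map_subtype, ← MonoidHom.range_eq_map,
          Subgroup.range_subtype] at h1
        calc M = Subgroup.map M.subtype K ⊔ M ⊓ C ⊓ M := h1.symm
          _ ≤ Subgroup.map M.subtype K ⊔ C :=
            sup_le le_sup_left ((inf_le_left.trans inf_le_right).trans le_sup_right)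
    have h2 := hmin _ hTK' hK'M hsup
    have h3 := Subgroup.comap_map_eq_self_of_injective M.subtype_injective K
    rw [h2] at h3
    rw [← h3]
    exact Subgroup.subgroupOf_self M
  obtain ⟨hcl, hfr⟩ := @isPClosed_and_frattini_of_minimal ↥M _ _ p _ (T.subtype hTM)
    ((M ⊓ C).subgroupOf M) hDn hmin'
  refine ⟨hM𝓛, rfl, hfac, ?_, hfr⟩
  exact isPClosed_of_equiv (Subgroup.subgroupOfEquivOfLe inf_le_left) hcl

end


section
variable {G : Type*} [Group G] [Finite G] {p : ℕ} [Fact p.Prime]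

/-- **Existence of members of `𝔐_H(T)`** (the basic property). -/
theorem exists_frakM
    (hpar : ∀ R : Subgroup G, Cfsg.IsParabolic p R → Cfsg.pCore p ↥R ≠ ⊥ →
      Subgroup.centralizer ((Cfsg.pCoreOf p R : Subgroup G) : Set G) ≤ Cfsg.pCoreOf p R)
    (T : Sylow p G) (L : Subgroup G) (hTL : (T : Subgroup G) ≤ L)
    (hL : L ∈ Cfsg.charPSubgroups p G) :
    ∃ M Ls : Subgroup G, (T : Subgroup G) ≤ M ∧ Cfsg.IsInFrakM p M ∧ (T : Subgroup G) ≤ Ls ∧
      Ls ≤ M ∧ Ls ∈ Cfsg.charPSubgroups p G ∧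
      Cfsg.largestPReducedOf p L = Cfsg.largestPReducedOf p Ls ∧
      Cfsg.largestPReducedOf p L ≤ Cfsg.largestPReducedOf p M ∧
      L ⊔ Subgroup.centralizer ((Cfsg.largestPReducedOf p L : Subgroup G) : Set G) =
        Ls ⊔ Subgroup.centralizer ((Cfsg.largestPReducedOf p L : Subgroup G) : Set G) := by
  set YL := Cfsg.largestPReducedOf p L with hYL
  set CL := Subgroup.centralizer ((YL : Subgroup G) : Set G) with hCL
  have hT1 := sylow_ne_bot_of_mem_charPSubgroups T hTL hL
  have hLrel := relCharP_of_mem_charPSubgroups hL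
  have hYL1 : YL ≠ ⊥ := largestPReducedOf_ne_bot T L hTL hLrel hT1
  have hYLp : IsPGroup p YL :=
    isElementaryAbelian_isPGroup (largestPReducedOf_isElementaryAbelian p L)
  have hYLT : YL ≤ (T : Subgroup G) := largestPReducedOf_le_sylow T L hTL
  let Good : Subgroup G → Prop := fun Mt =>
    Mt ∈ Cfsg.maxCharPSubgroups p G ∧ (T : Subgroup G) ≤ Mt ∧
      ∃ L₀ : Subgroup G, (T : Subgroup G) ≤ L₀ ∧ L₀ ≤ Mt ∧ L₀ ∈ Cfsg.charPSubgroups p G ∧
        Cfsg.largestPReducedOf p L₀ = YL ∧ L₀ ⊔ CL = L ⊔ CL ∧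
        YL ≤ Cfsg.largestPReducedOf p Mt
  -- `Good` is nonempty
  have hne : Nonempty {Mt : Subgroup G // Good Mt} := by
    obtain ⟨Mt₀, hLMt₀, hmax⟩ := Finite.exists_le_maximal
      (p := fun X : Subgroup G => X ∈ Cfsg.charPSubgroups p G) hL
    have hMt₀ : Mt₀ ∈ Cfsg.maxCharPSubgroups p G :=
      ⟨hmax.prop, fun X hX hle => le_antisymm (hmax.le_of_ge hX hle) hle⟩
    refine ⟨⟨Mt₀, hMt₀, hTL.trans hLMt₀, L, hTL, hLMt₀, hL, rfl, rfl, ?_⟩⟩
    exact largestPReducedOf_mono_of_sylow T L Mt₀ hTL hLMt₀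
      (relCharP_of_mem_charPSubgroups hMt₀.1)
  obtain ⟨⟨Mt, hMtGood⟩, hcard⟩ := Finite.exists_max
    (fun X : {Mt : Subgroup G // Good Mt} => Nat.card (Cfsg.largestPReducedOf p X.1))
  obtain ⟨hMt, hTMt, L₀, hTL₀, hL₀Mt, hL₀, hYL₀, hL₀fac, hYLMt⟩ := hMtGood
  set C := Subgroup.centralizer ((Cfsg.largestPReducedOf p Mt : Subgroup G) : Set G) with hC
  have hCMt : C ≤ Mt := centralizer_le_of_mem_maxCharPSubgroups hpar T Mt hTMt hMt
  have hCCL : C ≤ CL := Subgroup.centralizer_le hYLMt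
  -- the minimal supplement
  obtain ⟨M, hMMt, hMmin⟩ := Finite.exists_le_minimal
    (p := fun K : Subgroup G => (T : Subgroup G) ≤ K ∧ K ⊔ C = Mt)
    (a := Mt) ⟨hTMt, sup_eq_left.mpr hCMt⟩
  have hTM : (T : Subgroup G) ≤ M := hMmin.prop.1
  have hfac : M ⊔ C = Mt := hMmin.prop.2
  have hmin : ∀ K : Subgroup G, (T : Subgroup G) ≤ K → K ≤ M → K ⊔ C = Mt → K = M :=
    fun K hTK hKM hK => le_antisymm hKM (hMmin.le_of_le ⟨hTK, hK⟩ hKM)
  obtain ⟨hM𝓛, hYeq, hdag, hcl, hfr⟩ := props_of_minimal hpar T Mt M hMt hTM hfac hmin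
  have hMtN : Mt ≤ Subgroup.normalizer ((Cfsg.largestPReducedOf p Mt : Subgroup G) : Set G) :=
    le_normalizer_largestPReducedOf p Mt
  have hMnC : M ≤ Subgroup.normalizer (C : Set G) :=
    (hMMt.trans hMtN).trans (normalizer_le_normalizer_centralizer _)
  -- moving `L₀` into `M`
  set B := L₀ ⊔ C with hB
  set M' := B ⊓ M with hM'
  have hBMt : B ≤ Mt := sup_le hL₀Mt hCMt
  have hBeq : B = M' ⊔ C := by
    apply le_antisymm
    · intro b hb
      have hb1 : b ∈ ((M ⊔ C : Subgroup G) : Set G) := by rw [hfac]; exact hBMt hb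
      rw [Subgroup.coe_mul_of_left_le_normalizer_right M C hMnC] at hb1
      obtain ⟨m, hm, c, hc, hmc⟩ := hb1
      have hmB : m ∈ B := by
        have : m = b * c⁻¹ := by
          have : m * c = b := hmc
          rw [← this]; group
        rw [this]
        exact B.mul_mem hb (B.inv_mem (le_sup_right (a := L₀) hc))
      have : m * c = b := hmc
      rw [← this]
      exact Subgroup.mul_mem _ (le_sup_left (b := C) (Subgroup.mem_inf.mpr ⟨hmB, hm⟩))
        (le_sup_right (a := M') hc)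
    · exact sup_le inf_le_left le_sup_right
  have hL₀rel := relCharP_of_mem_charPSubgroups hL₀
  have hTM' : (T : Subgroup G) ≤ M' := le_inf (hTL₀.trans le_sup_left) hTM
  have hL₀N : L₀ ⊔ CL ≤ Subgroup.normalizer ((YL : Subgroup G) : Set G) := by
    have := dagger_le_normalizer (p := p) L₀
    rwa [hYL₀] at this
  have hBN : B ≤ Subgroup.normalizer ((YL : Subgroup G) : Set G) :=
    (sup_le le_sup_left (hCCL.trans le_sup_right)).trans hL₀N
  have hM'𝓛 : M' ∈ Cfsg.charPSubgroups p G :=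
    mem_charPSubgroups_of_parabolic hpar T M' YL hTM' hYL1 hYLp (hYLT.trans hTM')
      (inf_le_left.trans hBN)
  have hM'rel := relCharP_of_mem_charPSubgroups hM'𝓛
  have hfac' : M' ⊔ CL = L₀ ⊔ CL := by
    calc M' ⊔ CL = M' ⊔ (C ⊔ CL) := by rw [sup_eq_right.mpr hCCL]
      _ = (M' ⊔ C) ⊔ CL := (sup_assoc _ _ _).symm
      _ = (L₀ ⊔ C) ⊔ CL := by rw [← hBeq]
      _ = L₀ ⊔ (C ⊔ CL) := sup_assoc _ _ _
      _ = L₀ ⊔ CL := by rw [sup_eq_right.mpr hCCL]
  set T₀ := (T : Subgroup G) ⊓ CL with hT₀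
  set Ls := M' ⊓ Subgroup.normalizer ((T₀ : Subgroup G) : Set G) with hLs
  have h2824 := Cfsg.Agent.S2824.result T L₀ M' hTL₀ hTM' hL₀rel hM'rel T₀
    (by rw [hT₀, hCL, hYL₀]) (by rw [hYL₀]; exact hfac') Ls rfl
  rw [hYL₀] at h2824
  obtain ⟨hYLs, hLsfac⟩ := h2824
  have hTLs : (T : Subgroup G) ≤ Ls := by
    refine le_inf hTM' ?_
    refine le_trans ?_ (inf_normalizer_le_normalizer_inf _ _)
    refine le_inf Subgroup.le_normalizer ?_
    exact ((hTL₀.trans le_sup_left).trans hL₀N).trans (normalizer_le_normalizer_centralizer _)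
  have hLsM : Ls ≤ M := inf_le_left.trans inf_le_right
  have hLs𝓛 : Ls ∈ Cfsg.charPSubgroups p G := by
    have h1 : YL ≤ Ls := hYLs ▸ largestPReducedOf_le p Ls
    have h2 : Ls ≤ Subgroup.normalizer ((YL : Subgroup G) : Set G) := by
      have := le_normalizer_largestPReducedOf p Ls
      rwa [hYLs] at this
    exact mem_charPSubgroups_of_parabolic hpar T Ls YL hTLs hYL1 hYLp h1 h2
  -- uniqueness
  have huniq : ∀ X ∈ Cfsg.maxCharPSubgroups p G, M ≤ X → X = Mt := by
    intro X hX hMX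
    have hTX : (T : Subgroup G) ≤ X := hTM.trans hMX
    have hXrel := relCharP_of_mem_charPSubgroups hX.1
    have hYMX : Cfsg.largestPReducedOf p M ≤ Cfsg.largestPReducedOf p X :=
      largestPReducedOf_mono_of_sylow T M X hTM hMX hXrel
    rw [hYeq] at hYMX
    have hXGood : Good X :=
      ⟨hX, hTX, Ls, hTLs, hLsM.trans hMX, hLs𝓛, hYLs, by rw [← hLsfac, hL₀fac],
        hYLMt.trans hYMX⟩
    have hc := hcard ⟨X, hXGood⟩
    have hYX : Cfsg.largestPReducedOf p Mt = Cfsg.largestPReducedOf p X :=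
      Subgroup.eq_of_le_of_card_ge hYMX hc
    have hCX : C ≤ X := by
      have := centralizer_le_of_mem_maxCharPSubgroups hpar T X hTX hX
      rwa [← hYX] at this
    have hMtX : Mt ≤ X := by rw [← hfac]; exact sup_le hMX hCX
    exact hMt.2 X hX.1 hMtX
  refine ⟨M, Ls, hTM, ?_, hTLs, hLsM, hLs𝓛, hYLs.symm, ?_, ?_⟩
  · refine ⟨hM𝓛, ?_, ?_, ?_, hcl, hfr⟩
    · rw [hdag]; exact hMt
    · intro X hX hMX
      rw [hdag]; exact huniq X hX hMX
    · rw [hdag]; exact hYeq
  · rw [hYeq]; exact hYLMt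
  · rw [← hLsfac, hL₀fac]

end


end Cfsg.Agent.Lib.Helper16
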