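import Mathlib.GroupTheory.Frattini
import Mathlib.GroupTheory.PGroup
import Mathlib.GroupTheory.Commutator.Basic
import Mathlib.Order.Preorder.Finite
import Mathlib.FieldTheory.Finite.Basic

set_option autoImplicit false
open scoped commutatorElement

namespace Cfsg.Agent.Lib.Helper16

/-- If `N` is a subgroup of a finite group `P` containing the commutator subgroup and all `p`-th
powers (so `P / N` is elementary abelian), then every element outside `N` is avoided by some
maximal subgroup containing `N`. -/
theorem exists_coatom_not_mem {P : Type*} [Group P] [Finite P] {p : ℕ} [hp : Fact p.Prime]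
    (N : Subgroup P) (hcomm : commutator P ≤ N) (hpow : ∀ x : P, x ^ p ∈ N)
    (x : P) (hx : x ∉ N) : ∃ M : Subgroup P, IsCoatom M ∧ N ≤ M ∧ x ∉ M := by
  obtain ⟨M, hNM, hM⟩ := Finite.exists_le_maximal (p := fun M : Subgroup P => N ≤ M ∧ x ∉ M)
    (a := N) ⟨le_rfl, hx⟩
  have hMN : N ≤ M := hM.prop.1
  have hxM : x ∉ M := hM.prop.2
  refine ⟨M, ⟨?_, ?_⟩, hMN, hxM⟩
  · intro h; rw [h] at hxM; exact hxM (Subgroup.mem_top x)
  · intro K hK
    have hMn : M.Normal := Subgroup.Normal.of_commutator_le (G := P) (hcomm.trans hMN)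
    -- x ∈ K
    have hxK : x ∈ K := by
      by_contra hxK
      have := hM.le_of_ge (y := K) ⟨hMN.trans hK.le, hxK⟩ hK.le
      exact (lt_irrefl _ (lt_of_lt_of_le hK this))
    rw [eq_top_iff]
    intro y _
    by_cases hyM : y ∈ M
    · exact hK.le hyM
    · -- x ∈ M ⊔ zpowers y
      have hlt : M < M ⊔ Subgroup.zpowers y := by
        refine lt_of_le_of_ne le_sup_left ?_
        intro h
        apply hyM
        rw [h]
        exact le_sup_right (a := M) (Subgroup.mem_zpowers y)
      have hxsup : x ∈ M ⊔ Subgroup.zpowers y := by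
        by_contra hxs
        have := hM.le_of_ge (y := M ⊔ Subgroup.zpowers y) ⟨hMN.trans le_sup_left, hxs⟩ le_sup_left
        exact (lt_irrefl _ (lt_of_lt_of_le hlt this))
      rw [Subgroup.mem_sup_of_normal_left] at hxsup
      obtain ⟨m, hm, z, hz, hmz⟩ := hxsup
      obtain ⟨i, rfl⟩ := Subgroup.mem_zpowers_iff.mp hz
      -- y ^ i ∈ K
      have hyiK : y ^ i ∈ K := by
        have : y ^ i = m⁻¹ * x := by rw [← hmz]; group
        rw [this]
        exact K.mul_mem (K.inv_mem (hK.le hm)) hxK
      -- p does not divide i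
      have hpi : ¬ (p : ℤ) ∣ i := by
        rintro ⟨j, rfl⟩
        apply hxM
        rw [← hmz]
        refine M.mul_mem hm ?_
        rw [zpow_mul, zpow_natCast]
        exact M.zpow_mem (hMN (hpow y)) j
      have hcop : IsCoprime i (p : ℤ) := by
        have hprime : Prime (p : ℤ) := Nat.prime_iff_prime_int.mp hp.out
        exact (hprime.coprime_iff_not_dvd.mpr hpi).symm
      obtain ⟨a, b, hab⟩ := hcop
      have : y = (y ^ i) ^ a * (y ^ p) ^ b := by
        rw [← zpow_mul, ← zpow_natCast y p, ← zpow_mul, ← zpow_add]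
        have : i * a + (p : ℤ) * b = 1 := by linarith
        rw [this, zpow_one]
      rw [this]
      exact K.mul_mem (K.zpow_mem hyiK a) (K.zpow_mem (hK.le (hMN (hpow y))) b)

/-- If `P / N` is elementary abelian (`N` contains commutators and `p`-th powers) then
`Φ(P) ≤ N`. -/
theorem frattini_le_of_elementary_quotient {P : Type*} [Group P] [Finite P] {p : ℕ}
    [Fact p.Prime] (N : Subgroup P) (hcomm : commutator P ≤ N) (hpow : ∀ x : P, x ^ p ∈ N) :
    frattini P ≤ N := by
  intro x hx
  by_contra hxN
  obtain ⟨M, hM, _, hxM⟩ := exists_coatom_not_mem N hcomm hpow x hxN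
  exact hxM (frattini_le_coatom hM hx)

end Cfsg.Agent.Lib.Helper16
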