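import Cfsg.Agent.Lib.Helper16.WeaklyClosed
import Cfsg.Agent.Lib.Helper16.Subnormal
import Cfsg.Agent.Lib.Helper2.NilpotentBasic

set_option autoImplicit false
open Cfsg
open scoped commutatorElement

namespace Cfsg.Agent.Lib.Helper16

section ConjMore
variable {H : Type*} [Group H]

theorem mem_centralizer_map_conj_iff (Q : Subgroup H) (g x : H) :
    x ∈ Subgroup.centralizer ((Q.map (MulAut.conj g).toMonoidHom : Subgroup H) : Set H) ↔
      g⁻¹ * x * g ∈ Subgroup.centralizer (Q : Set H) := by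
  rw [Subgroup.mem_centralizer_iff, Subgroup.mem_centralizer_iff]
  constructor
  · intro h q hq
    have := h (g * q * g⁻¹) (conj_mem_map_conj Q g hq)
    calc q * (g⁻¹ * x * g) = g⁻¹ * (g * q * g⁻¹ * x) * g := by group
      _ = g⁻¹ * (x * (g * q * g⁻¹)) * g := by rw [this]
      _ = g⁻¹ * x * g * q := by group
  · intro h y hy
    rw [SetLike.mem_coe, mem_map_conj_iff] at hy
    have := h _ hy
    calc y * x = g * ((g⁻¹ * y * g) * (g⁻¹ * x * g)) * g⁻¹ := by group
      _ = g * ((g⁻¹ * x * g) * (g⁻¹ * y * g)) * g⁻¹ := by rw [this]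
      _ = x * y := by group

theorem mem_normalizer_map_conj_iff (Q : Subgroup H) (g n : H) :
    n ∈ Subgroup.normalizer ((Q.map (MulAut.conj g).toMonoidHom : Subgroup H) : Set H) ↔
      g⁻¹ * n * g ∈ Subgroup.normalizer (Q : Set H) := by
  rw [← map_conj_eq_self_iff, ← map_conj_eq_self_iff, map_conj_map_conj]
  constructor
  · intro h
    have h2 : Q.map (MulAut.conj (g⁻¹ * n * g)).toMonoidHom =
        (Q.map (MulAut.conj (n * g)).toMonoidHom).map (MulAut.conj g⁻¹).toMonoidHom := by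
      rw [map_conj_map_conj, mul_assoc]
    rw [h2, h, map_conj_map_conj, inv_mul_cancel, map_conj_one]
  · intro h
    have h2 : Q.map (MulAut.conj (n * g)).toMonoidHom =
        (Q.map (MulAut.conj (g⁻¹ * n * g)).toMonoidHom).map (MulAut.conj g).toMonoidHom := by
      rw [map_conj_map_conj]; congr 3; group
    rw [h2, h]

theorem map_conj_ne_bot (Q : Subgroup H) (g : H) (h : Q ≠ ⊥) :
    Q.map (MulAut.conj g).toMonoidHom ≠ ⊥ := by
  intro h'
  apply h
  rw [Subgroup.map_eq_bot_iff_of_injective _ (MulAut.conj g).injective] at h'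
  exact h'

theorem map_conj_mono {Q R : Subgroup H} (h : Q ≤ R) (g : H) :
    Q.map (MulAut.conj g).toMonoidHom ≤ R.map (MulAut.conj g).toMonoidHom :=
  Subgroup.map_mono h

theorem map_conj_le_iff (Q R : Subgroup H) (g : H) :
    Q.map (MulAut.conj g).toMonoidHom ≤ R ↔ Q ≤ R.map (MulAut.conj g⁻¹).toMonoidHom := by
  constructor
  · intro h
    have := map_conj_mono h g⁻¹
    rwa [map_conj_map_conj, inv_mul_cancel, map_conj_one] at this
  · intro h
    have := map_conj_mono h g
    rwa [map_conj_map_conj, mul_inv_cancel, map_conj_one] at this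

/-- A conjugate of a large subgroup is large. -/
theorem isLarge_map_conj {Q : Subgroup H} (hL : Cfsg.IsLarge Q) (g : H) :
    Cfsg.IsLarge (Q.map (MulAut.conj g).toMonoidHom) := by
  constructor
  · intro x hx
    rw [mem_centralizer_map_conj_iff] at hx
    rw [mem_map_conj_iff]
    exact hL.1 hx
  · intro U hU hUne n hn
    rw [mem_normalizer_map_conj_iff]
    have hU' : U.map (MulAut.conj g⁻¹).toMonoidHom ≤ Subgroup.centralizer (Q : Set H) := by
      intro x hx
      rw [mem_map_conj_iff, inv_inv] at hx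
      have := (mem_centralizer_map_conj_iff Q g _).mp (hU hx)
      have e : g⁻¹ * (g * x * g⁻¹) * g = x := by group
      rwa [e] at this
    have h1 := hL.2 _ hU' (map_conj_ne_bot U g⁻¹ hUne)
    apply h1
    have h2 : U = (U.map (MulAut.conj g⁻¹).toMonoidHom).map (MulAut.conj g).toMonoidHom := by
      rw [map_conj_map_conj, mul_inv_cancel, map_conj_one]
    rw [h2, mem_normalizer_map_conj_iff] at hn
    exact hn

/-- The normalizer of `S` normalizes `Z(S) = S ⊓ C(S)`. -/
theorem normalizer_le_normalizer_inf_centralizer (S : Subgroup H) :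
    Subgroup.normalizer (S : Set H) ≤
      Subgroup.normalizer ((S ⊓ Subgroup.centralizer (S : Set H) : Subgroup H) : Set H) := by
  have key : ∀ n ∈ Subgroup.normalizer (S : Set H), ∀ z ∈ S ⊓ Subgroup.centralizer (S : Set H),
      n * z * n⁻¹ ∈ S ⊓ Subgroup.centralizer (S : Set H) := by
    intro n hn z hz
    refine Subgroup.mem_inf.mpr ⟨(Subgroup.mem_normalizer_iff.mp hn z).mp hz.1, ?_⟩
    rw [Subgroup.mem_centralizer_iff]
    intro t ht
    have ht' : n⁻¹ * t * n ∈ S := by
      have := (Subgroup.mem_normalizer_iff.mp (Subgroup.inv_mem _ hn) t).mp ht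
      simpa using this
    have := Subgroup.mem_centralizer_iff.mp hz.2 _ ht'
    calc t * (n * z * n⁻¹) = n * ((n⁻¹ * t * n) * z) * n⁻¹ := by group
      _ = n * (z * (n⁻¹ * t * n)) * n⁻¹ := by rw [this]
      _ = n * z * n⁻¹ * t := by group
  intro n hn
  apply mem_normalizer_of_conj_mem
  · exact key n hn
  · intro z hz
    have := key n⁻¹ (Subgroup.inv_mem _ hn) z hz
    simpa using this

end ConjMore

section Fin
variable {H : Type*} [Group H] [Finite H]

theorem map_conj_eq_of_le (Q : Subgroup H) (a : H) (h : Q.map (MulAut.conj a).toMonoidHom ≤ Q) :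
    Q.map (MulAut.conj a).toMonoidHom = Q := by
  apply Subgroup.eq_of_le_of_card_ge h
  rw [Subgroup.card_map_of_injective (MulAut.conj a).injective]

variable {p : ℕ} [Fact p.Prime]

/-- A `p`-group acting on a nontrivial `p`-group has nontrivial fixed points (ambient form). -/
theorem inf_centralizer_ne_bot (A Y : Subgroup H) (hA : IsPGroup p A) (hY : IsPGroup p Y)
    (hAY : A ≤ Subgroup.normalizer (Y : Set H)) (hne : Y ≠ ⊥) :
    Y ⊓ Subgroup.centralizer (A : Set H) ≠ ⊥ := by
  have hp : IsPGroup p ↥(A ⊔ Y) := IsPGroup.to_sup_of_normal_right' hA hY hAY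
  have hnil : Group.IsNilpotent ↥(A ⊔ Y) := hp.isNilpotent
  have hle : A ⊔ Y ≤ Subgroup.normalizer (Y : Set H) := sup_le hAY Subgroup.le_normalizer
  have hn : (Y.subgroupOf (A ⊔ Y)).Normal :=
    (Subgroup.normal_subgroupOf_iff_le_normalizer le_sup_right).mpr hle
  obtain ⟨y, hy1⟩ := (Subgroup.ne_bot_iff_exists_ne_one).mp hne
  have hne' : Y.subgroupOf (A ⊔ Y) ≠ ⊥ := by
    intro h
    have h1 : (⟨(y : H), Subgroup.mem_sup_right y.2⟩ : ↥(A ⊔ Y)) ∈ Y.subgroupOf (A ⊔ Y) := by
      rw [Subgroup.mem_subgroupOf]; exact y.2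
    rw [h, Subgroup.mem_bot] at h1
    apply hy1
    apply Subtype.ext
    have := congrArg Subtype.val h1
    simpa using this
  have h2 := Cfsg.Agent.Lib.Helper2.normal_inf_center_ne_bot (Y.subgroupOf (A ⊔ Y)) hne'
  obtain ⟨z, hz1⟩ := (Subgroup.ne_bot_iff_exists_ne_one).mp h2
  have hzY : ((z : ↥(A ⊔ Y)) : H) ∈ Y := by
    have h3 : (z : ↥(A ⊔ Y)) ∈ Y.subgroupOf (A ⊔ Y) := (Subgroup.mem_inf.mp z.2).1
    rwa [Subgroup.mem_subgroupOf] at h3
  have hzc : ((z : ↥(A ⊔ Y)) : H) ∈ Subgroup.centralizer (A : Set H) := by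
    rw [Subgroup.mem_centralizer_iff]
    intro a ha
    have h3 : (z : ↥(A ⊔ Y)) ∈ Subgroup.center ↥(A ⊔ Y) := (Subgroup.mem_inf.mp z.2).2
    have := Subgroup.mem_center_iff.mp h3 ⟨a, Subgroup.mem_sup_left ha⟩
    exact congrArg Subtype.val this
  intro hbot
  have : ((z : ↥(A ⊔ Y)) : H) ∈ Y ⊓ Subgroup.centralizer (A : Set H) := ⟨hzY, hzc⟩
  rw [hbot, Subgroup.mem_bot] at this
  apply hz1
  apply Subtype.ext
  apply Subtype.ext
  exact this

end Fin


section LargeWC
variable {H : Type*} [Group H] [Finite H] {p : ℕ} [Fact p.Prime]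

/-- Burnside-type argument: if `N(R) ≤ N(Q)` for all `p`-subgroups `R ≥ Q`, then `Q` is a weakly
closed subgroup. -/
theorem weaklyClosed_of_normalizer_le (Q : Subgroup H) (hQp : IsPGroup p Q)
    (h : ∀ R : Subgroup H, IsPGroup p R → Q ≤ R →
      Subgroup.normalizer (R : Set H) ≤ Subgroup.normalizer (Q : Set H)) :
    Cfsg.IsWeaklyClosedSubgroup p Q := by
  obtain ⟨S, hQS⟩ := hQp.exists_le_sylow
  refine ⟨S, hQS, ?_⟩
  intro g hg
  have hSNS : (S : Subgroup H) ≤ Subgroup.normalizer ((S : Subgroup H) : Set H) :=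
    Subgroup.le_normalizer
  have hSNQ : (S : Subgroup H) ≤ Subgroup.normalizer (Q : Set H) :=
    hSNS.trans (h S S.isPGroup' hQS)
  -- the hypothesis for the conjugate
  have hg' : ∀ R : Subgroup H, IsPGroup p R → Q.map (MulAut.conj g).toMonoidHom ≤ R →
      Subgroup.normalizer (R : Set H) ≤
        Subgroup.normalizer ((Q.map (MulAut.conj g).toMonoidHom : Subgroup H) : Set H) := by
    intro R hR hQR n hn
    rw [mem_normalizer_map_conj_iff]
    have h1 : Q ≤ R.map (MulAut.conj g⁻¹).toMonoidHom := (map_conj_le_iff Q R g).mp hQR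
    apply h _ (hR.map _) h1
    rw [mem_normalizer_map_conj_iff, inv_inv]
    have e : g * (g⁻¹ * n * g) * g⁻¹ = n := by group
    rw [e]; exact hn
  set M := Subgroup.normalizer ((Q.map (MulAut.conj g).toMonoidHom : Subgroup H) : Set H) with hM
  have hSM : (S : Subgroup H) ≤ M := hSNS.trans (hg' S S.isPGroup' hg)
  have hSgM : (S : Subgroup H).map (MulAut.conj g).toMonoidHom ≤ M := by
    intro y hy
    rw [mem_map_conj_iff] at hy
    rw [hM, mem_normalizer_map_conj_iff]
    exact hSNQ hy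
  have hPS : ((S.subtype hSM : Sylow p ↥M) : Subgroup ↥M).map M.subtype = (S : Subgroup H) := by
    rw [Sylow.coe_subtype, Subgroup.map_subgroupOf_eq_of_le hSM]
  obtain ⟨x, hxM, hx⟩ := Cfsg.Agent.Lib.Helper24.exists_conj_le_sylow_of_subgroup M
    (S.subtype hSM) _ (S.isPGroup'.map (MulAut.conj g).toMonoidHom) hSgM
  rw [hPS] at hx
  have h2 : (S : Subgroup H).map (MulAut.conj (x * g)).toMonoidHom ≤ S := by
    rw [← map_conj_map_conj]
    rintro _ ⟨y, hy, rfl⟩
    have := hx y hy
    simpa [MulAut.conj_apply] using this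
  have h3 := map_conj_eq_of_le _ _ h2
  rw [map_conj_eq_self_iff] at h3
  have h4 : Q.map (MulAut.conj (x * g)).toMonoidHom = Q :=
    (map_conj_eq_self_iff Q _).mpr (h S S.isPGroup' hQS h3)
  have h5 : (Q.map (MulAut.conj g).toMonoidHom).map (MulAut.conj x).toMonoidHom =
      Q.map (MulAut.conj g).toMonoidHom := (map_conj_eq_self_iff _ _).mpr hxM
  rw [map_conj_map_conj, h4] at h5
  exact h5.symm

/-- For `Q` large and nontrivial, `N(S) ≤ N(Q)` for every `p`-subgroup `S ≥ Q`. -/
theorem normalizer_le_normalizer_of_isLarge {Q : Subgroup H} (hL : Cfsg.IsLarge Q) (hQ1 : Q ≠ ⊥)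
    {S : Subgroup H} (hS : IsPGroup p S) (hQS : Q ≤ S) :
    Subgroup.normalizer (S : Set H) ≤ Subgroup.normalizer (Q : Set H) := by
  have hSne : S ≠ ⊥ := fun h => hQ1 (le_bot_iff.mp (h ▸ hQS))
  have hZne : S ⊓ Subgroup.centralizer (S : Set H) ≠ ⊥ :=
    inf_centralizer_ne_bot S S hS hS Subgroup.le_normalizer hSne
  have hZc : S ⊓ Subgroup.centralizer (S : Set H) ≤ Subgroup.centralizer (Q : Set H) :=
    inf_le_right.trans (Subgroup.centralizer_le hQS)
  exact (normalizer_le_normalizer_inf_centralizer S).trans (hL.2 _ hZc hZne)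

/-- A nontrivial large `p`-subgroup is a weakly closed subgroup. -/
theorem isWeaklyClosedSubgroup_of_isLarge {Q : Subgroup H} (hQp : IsPGroup p Q) (hQ1 : Q ≠ ⊥)
    (hL : Cfsg.IsLarge Q) : Cfsg.IsWeaklyClosedSubgroup p Q :=
  weaklyClosed_of_normalizer_le Q hQp
    (fun _ hR hQR => normalizer_le_normalizer_of_isLarge hL hQ1 hR hQR)

end LargeWC

end Cfsg.Agent.Lib.Helper16
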