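import Cfsg.Prelude.Def_SylowChains
import Cfsg.Agent.Lib.Helper16.Large
import Cfsg.Agent.Lib.Helper23.SylowControl

set_option autoImplicit false
open Cfsg
open scoped commutatorElement Pointwise

namespace Cfsg.Agent.Lib.Helper16

/-! ### Linking Sylow subgroups through a family, ambient form -/

section FLink
variable {G : Type*} [Group G] {p : ℕ}

/-- `B` is reachable from `A` by conjugations inside members of `𝓧` containing both ends of
each step, all new Sylow subgroups containing `D`. -/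
inductive FLink (𝓧 : Set (Subgroup G)) (D : Subgroup G) : Sylow p G → Sylow p G → Prop
  | refl (A : Sylow p G) : FLink 𝓧 D A A
  | step {A B C : Sylow p G} (X : Subgroup G) (x : G) : FLink 𝓧 D A B → X ∈ 𝓧 →
      (B : Subgroup G) ≤ X → (C : Subgroup G) ≤ X → x ∈ X →
      (C : Subgroup G).map (MulAut.conj x⁻¹).toMonoidHom = (B : Subgroup G) →
      D ≤ (C : Subgroup G) → FLink 𝓧 D A C

theorem FLink.trans {𝓧 : Set (Subgroup G)} {D : Subgroup G} {A B C : Sylow p G}
    (h1 : FLink 𝓧 D A B) (h2 : FLink 𝓧 D B C) : FLink 𝓧 D A C := by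
  induction h2 with
  | refl => exact h1
  | step X x _ hX hB hC hx hconj hD ih => exact FLink.step X x ih hX hB hC hx hconj hD

theorem FLink.mono {𝓧₁ 𝓧₂ : Set (Subgroup G)} {D D' : Subgroup G} {A B : Sylow p G}
    (h𝓧 : ∀ X ∈ 𝓧₁, ∃ X' ∈ 𝓧₂, X ≤ X') (hD : D' ≤ D) (h : FLink 𝓧₁ D A B) :
    FLink 𝓧₂ D' A B := by
  induction h with
  | refl => exact FLink.refl _
  | step X x _ hX hB hC hx hconj hDC ih =>
    obtain ⟨X', hX', hXX'⟩ := h𝓧 X hX
    exact FLink.step X' x ih hX' (hB.trans hXX') (hC.trans hXX') (hXX' hx) hconj (hD.trans hDC)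

theorem coe_smul_sylow (a : G) (P : Sylow p G) :
    ((a • P : Sylow p G) : Subgroup G) = (P : Subgroup G).map (MulAut.conj a).toMonoidHom := by
  ext x
  rw [Cfsg.Agent.Lib.Helper24.mem_smul_sylow_iff, mem_map_conj_iff]

theorem FLink.conj {𝓧 : Set (Subgroup G)} {D : Subgroup G} {A B : Sylow p G}
    (h𝓧 : ∀ X ∈ 𝓧, ∀ a : G, X.map (MulAut.conj a).toMonoidHom ∈ 𝓧) (a : G)
    (h : FLink 𝓧 D A B) :
    FLink 𝓧 (D.map (MulAut.conj a).toMonoidHom) (a • A) (a • B) := by
  induction h with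
  | refl => exact FLink.refl _
  | step X x _ hX hB hC hx hconj hDC ih =>
    refine FLink.step (X.map (MulAut.conj a).toMonoidHom) (a * x * a⁻¹) ih (h𝓧 X hX a) ?_ ?_ ?_
      ?_ ?_
    · rw [coe_smul_sylow]; exact map_conj_mono hB a
    · rw [coe_smul_sylow]; exact map_conj_mono hC a
    · exact ⟨x, hx, by simp [MulAut.conj_apply]⟩
    · rw [coe_smul_sylow, coe_smul_sylow, ← hconj, map_conj_map_conj, map_conj_map_conj]
      congr 2
      group
    · rw [coe_smul_sylow]; exact map_conj_mono hDC a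

end FLink

section Fam
variable {G : Type*} [Group G] [Finite G] {p : ℕ} [Fact p.Prime]

/-- Every Sylow subgroup of `↥M` is the restriction of a Sylow subgroup of `G` inside `M`,
if `M` contains a Sylow subgroup of `G`. -/
theorem exists_sylow_subtype_eq (M : Subgroup G) (S : Sylow p G) (hSM : (S : Subgroup G) ≤ M)
    (c : Sylow p ↥M) : ∃ (C : Sylow p G) (h : (C : Subgroup G) ≤ M), c = C.subtype h := by
  obtain ⟨m, hm⟩ := MulAction.exists_smul_eq ↥M (S.subtype hSM) c
  refine ⟨m • S, Sylow.smul_le hSM m, ?_⟩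
  rw [← hm, Sylow.smul_subtype]

omit [Finite G] [Fact p.Prime] in
theorem subgroupOf_inf' (A B M : Subgroup G) :
    (A ⊓ B).subgroupOf M = A.subgroupOf M ⊓ B.subgroupOf M := by
  ext x
  simp [Subgroup.mem_subgroupOf]

omit [Finite G] [Fact p.Prime] in
theorem sylow_subtype_injective (M : Subgroup G) (A B : Sylow p G) (hA : (A : Subgroup G) ≤ M)
    (hB : (B : Subgroup G) ≤ M) (h : A.subtype hA = B.subtype hB) : A = B := by
  apply Sylow.ext
  have h1 := congrArg (fun P : Sylow p ↥M => (P : Subgroup ↥M).map M.subtype) h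
  simp only [Sylow.coe_subtype] at h1
  rwa [Subgroup.map_subgroupOf_eq_of_le hA, Subgroup.map_subgroupOf_eq_of_le hB] at h1

omit [Finite G] [Fact p.Prime] in
theorem normalizer_mem_functorFamily_top (f : Subgroup G → Set (Subgroup G)) (C₀ : Sylow p G)
    (F : Subgroup G) (hF : F ∈ f (C₀ : Subgroup G)) :
    Subgroup.normalizer (F : Set G) ∈ Cfsg.functorFamily p f ⊤ := by
  refine ⟨C₀.subtype le_top, F, ?_, by rw [top_inf_eq]⟩
  rw [Sylow.coe_subtype, Subgroup.map_subgroupOf_eq_of_le le_top]; exact hF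

theorem mem_functorFamily (f : Subgroup G → Set (Subgroup G)) (M : Subgroup G) (S : Sylow p G)
    (hSM : (S : Subgroup G) ≤ M) (X : Subgroup G) (hX : X ∈ Cfsg.functorFamily p f M) :
    ∃ C₀ : Sylow p G, (C₀ : Subgroup G) ≤ M ∧ ∃ F ∈ f (C₀ : Subgroup G),
      X = M ⊓ Subgroup.normalizer (F : Set G) := by
  obtain ⟨P₀, F, hF, rfl⟩ := hX
  obtain ⟨C₀, hC₀, rfl⟩ := exists_sylow_subtype_eq M S hSM P₀
  refine ⟨C₀, hC₀, F, ?_, rfl⟩
  rwa [Sylow.coe_subtype, Subgroup.map_subgroupOf_eq_of_le hC₀] at hF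

theorem functorFamily_top_conj (f : Subgroup G → Set (Subgroup G))
    (hf : Cfsg.IsNormalizerFunctor p f) (X : Subgroup G) (hX : X ∈ Cfsg.functorFamily p f ⊤)
    (a : G) : X.map (MulAut.conj a).toMonoidHom ∈ Cfsg.functorFamily p f ⊤ := by
  obtain ⟨S⟩ : Nonempty (Sylow p G) := inferInstance
  obtain ⟨C₀, _, F, hF, rfl⟩ := mem_functorFamily f ⊤ S le_top X hX
  have h1 : (⊤ ⊓ Subgroup.normalizer (F : Set G)).map (MulAut.conj a).toMonoidHom =
      Subgroup.normalizer ((F.map (MulAut.conj a).toMonoidHom : Subgroup G) : Set G) := by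
    rw [top_inf_eq]
    ext x
    rw [mem_map_conj_iff, mem_normalizer_map_conj_iff]
  rw [h1]
  apply normalizer_mem_functorFamily_top f (a • C₀)
  rw [coe_smul_sylow, (hf (C₀ : Subgroup G) C₀.isPGroup').2 a]
  exact ⟨F, hF, rfl⟩

/-- A Sylow subgroup `C` of `G` meeting `X₀` in a Sylow subgroup of `X₀` lies in `X₀`, if `X₀`
contains some Sylow subgroup of `G`. -/
theorem le_of_not_dvd_relIndex (C₀ C : Sylow p G) (X₀ : Subgroup G)
    (hC₀ : (C₀ : Subgroup G) ≤ X₀) (h : ¬ p ∣ ((C : Subgroup G) ⊓ X₀).relIndex X₀) :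
    (C : Subgroup G) ≤ X₀ := by
  have hQ : IsPGroup p (((C : Subgroup G) ⊓ X₀).subgroupOf X₀) :=
    (C.isPGroup'.to_le inf_le_left).comap_subtype
  have h' : ¬ p ∣ (((C : Subgroup G) ⊓ X₀).subgroupOf X₀).index := h
  obtain ⟨k, hk, hconj⟩ := Cfsg.Agent.Lib.Helper24.exists_conj_le_sylow_of_subgroup X₀
    (hQ.toSylow h') (C₀ : Subgroup G) C₀.isPGroup' hC₀
  have hle : ((k • C₀ : Sylow p G) : Subgroup G) ≤ C := by
    intro x hx
    rw [Cfsg.Agent.Lib.Helper24.mem_smul_sylow_iff] at hx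
    have h1 := hconj _ hx
    rw [IsPGroup.toSylow_coe, Subgroup.subgroupOf_map_subtype] at h1
    have e : k * (k⁻¹ * x * k) * k⁻¹ = x := by group
    rw [e] at h1
    exact h1.1.1
  have heq : (C : Subgroup G) = ((k • C₀ : Sylow p G) : Subgroup G) :=
    (k • C₀).is_maximal' C.isPGroup' hle
  intro x hx
  rw [heq, Cfsg.Agent.Lib.Helper24.mem_smul_sylow_iff] at hx
  have h2 := hC₀ hx
  have e : x = k * (k⁻¹ * x * k) * k⁻¹ := by group
  rw [e]
  exact X₀.mul_mem (X₀.mul_mem hk h2) (X₀.inv_mem hk)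

end Fam

section Bridge
variable {G : Type*} [Group G] [Finite G] {p : ℕ} [Fact p.Prime]

/-- From regularity of `M` (containing a Sylow subgroup of `G`) to links in the family of `⊤`. -/
theorem flink_of_isFunctorRegular (f : Subgroup G → Set (Subgroup G))
    (hf : Cfsg.IsNormalizerFunctor p f) (M : Subgroup G) (S : Sylow p G)
    (hSM : (S : Subgroup G) ≤ M) (hreg : Cfsg.IsFunctorRegular p f M) (A B : Sylow p G)
    (hA : (A : Subgroup G) ≤ M) (hB : (B : Subgroup G) ≤ M) (hne : A ≠ B)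
    (hinf : (A : Subgroup G) ⊓ (B : Subgroup G) ≠ ⊥) :
    FLink (Cfsg.functorFamily p f ⊤) ((A : Subgroup G) ⊓ (B : Subgroup G)) A B := by
  have hne' : A.subtype hA ≠ B.subtype hB :=
    fun h => hne (sylow_subtype_injective M A B hA hB h)
  have hinf' : ((A.subtype hA : Sylow p ↥M) : Subgroup ↥M) ⊓ (B.subtype hB : Sylow p ↥M) ≠ ⊥ := by
    rw [Sylow.coe_subtype, Sylow.coe_subtype, ← subgroupOf_inf']
    intro h
    apply hinf
    rw [eq_bot_iff]
    intro d hd
    have h1 : (⟨d, hA (Subgroup.mem_inf.mp hd).1⟩ : ↥M) ∈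
        ((A : Subgroup G) ⊓ (B : Subgroup G)).subgroupOf M :=
      Subgroup.mem_subgroupOf.mpr hd
    rw [h, Subgroup.mem_bot] at h1
    exact Subgroup.mem_bot.mpr (congrArg Subtype.val h1)
  obtain ⟨n, c, X, x, hc0, hcn, hstep⟩ := hreg (A.subtype hA) (B.subtype hB) hne' hinf'
  have key : ∀ i : Fin (n + 1), ∃ (C : Sylow p G) (h : (C : Subgroup G) ≤ M),
      c i = C.subtype h ∧
      FLink (Cfsg.functorFamily p f ⊤) ((A : Subgroup G) ⊓ (B : Subgroup G)) A C := by
    intro i
    induction i using Fin.induction with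
    | zero => exact ⟨A, hA, hc0, FLink.refl A⟩
    | succ i ih =>
      obtain ⟨C, hC, hcC, hlink⟩ := ih
      obtain ⟨C', hC', hcC'⟩ := exists_sylow_subtype_eq M S hSM (c i.succ)
      obtain ⟨hX1, hX2, hxX, hconj, hD⟩ := hstep i
      rw [Cfsg.Agent.Lib.Helper23.mem_sylowMembers_iff _ _ (c i.castSucc).isPGroup'] at hX1
      rw [Cfsg.Agent.Lib.Helper23.mem_sylowMembers_iff _ _ (c i.succ).isPGroup'] at hX2
      obtain ⟨⟨X₀, hX₀, hX₀eq⟩, hnd1⟩ := hX1
      obtain ⟨_, hnd2⟩ := hX2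
      obtain ⟨C₀, hC₀, F, hF, rfl⟩ := mem_functorFamily f M S hSM X₀ hX₀
      simp only at hX₀eq
      have hX₀M : M ⊓ Subgroup.normalizer (F : Set G) ≤ M := inf_le_left
      have hC₀X : (C₀ : Subgroup G) ≤ M ⊓ Subgroup.normalizer (F : Set G) :=
        le_inf hC₀ (Subgroup.le_normalizer.trans ((hf (C₀ : Subgroup G) C₀.isPGroup').1 F hF).2)
      rw [← hX₀eq, hcC, Sylow.coe_subtype, ← subgroupOf_inf',
        Subgroup.relIndex_subgroupOf hX₀M] at hnd1
      rw [← hX₀eq, hcC', Sylow.coe_subtype, ← subgroupOf_inf',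
        Subgroup.relIndex_subgroupOf hX₀M] at hnd2
      have hCX := le_of_not_dvd_relIndex C₀ C _ hC₀X hnd1
      have hC'X := le_of_not_dvd_relIndex C₀ C' _ hC₀X hnd2
      have hxM : (x i : G) ∈ M ⊓ Subgroup.normalizer (F : Set G) := by
        rw [← hX₀eq] at hxX
        exact Subgroup.mem_subgroupOf.mp hxX
      have hconj' : (C' : Subgroup G).map (MulAut.conj (x i : G)⁻¹).toMonoidHom =
          (C : Subgroup G) := by
        unfold Cfsg.subgroupConjRight at hconj
        rw [hcC, hcC', Sylow.coe_subtype, Sylow.coe_subtype] at hconj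
        ext y
        rw [mem_map_conj_iff]
        constructor
        · intro hy
          have hyM : y ∈ M := by
            have h1 := hC' hy
            have e : y = (x i : G)⁻¹ * (((x i : G)⁻¹)⁻¹ * y * (x i : G)⁻¹) * (x i : G) := by group
            rw [e]
            exact M.mul_mem (M.mul_mem (M.inv_mem (x i).2) h1) (x i).2
          have h2 : (⟨y, hyM⟩ : ↥M) ∈ ((C' : Subgroup G).subgroupOf M).map
              (MulAut.conj (x i)⁻¹).toMonoidHom := by
            rw [mem_map_conj_iff, Subgroup.mem_subgroupOf]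
            exact hy
          rw [hconj, Subgroup.mem_subgroupOf] at h2
          exact h2
        · intro hy
          have hyM : y ∈ M := hC hy
          have h2 : (⟨y, hyM⟩ : ↥M) ∈ (C : Subgroup G).subgroupOf M :=
            Subgroup.mem_subgroupOf.mpr hy
          rw [← hconj, mem_map_conj_iff, Subgroup.mem_subgroupOf] at h2
          exact h2
      have hDC' : (A : Subgroup G) ⊓ (B : Subgroup G) ≤ (C' : Subgroup G) := by
        intro d hd
        have h1 : (⟨d, hA (Subgroup.mem_inf.mp hd).1⟩ : ↥M) ∈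
            ((A.subtype hA : Sylow p ↥M) : Subgroup ↥M) ⊓
            (B.subtype hB : Sylow p ↥M) := by
          rw [Sylow.coe_subtype, Sylow.coe_subtype, ← subgroupOf_inf']
          exact Subgroup.mem_subgroupOf.mpr hd
        have h2 := (Subgroup.mem_inf.mp (hD h1)).1
        rw [hcC', Sylow.coe_subtype, Subgroup.mem_subgroupOf] at h2
        exact h2
      refine ⟨C', hC', hcC', ?_⟩
      exact FLink.step (Subgroup.normalizer (F : Set G)) (x i : G) hlink
        (normalizer_mem_functorFamily_top f C₀ F hF) (hCX.trans inf_le_right)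
        (hC'X.trans inf_le_right) hxM.2 hconj' hDC'
  obtain ⟨C, hC, hcC, hlink⟩ := key (Fin.last n)
  rw [hcn] at hcC
  have := sylow_subtype_injective M B C hB hC hcC
  rw [← this] at hlink
  exact hlink

end Bridge

section Snoc

/-- Non-dependent `snoc` for `Fin`-indexed tuples. -/
def snocFn {α : Type*} {n : ℕ} (c : Fin n → α) (a : α) : Fin (n + 1) → α :=
  fun i => if h : i.val < n then c ⟨i.val, h⟩ else a

theorem snocFn_castSucc {α : Type*} {n : ℕ} (c : Fin n → α) (a : α) (i : Fin n) :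
    snocFn c a i.castSucc = c i := by
  unfold snocFn
  simp

theorem snocFn_last {α : Type*} {n : ℕ} (c : Fin n → α) (a : α) :
    snocFn c a (Fin.last n) = a := by
  unfold snocFn
  simp

end Snoc

section Bridge2
variable {G : Type*} [Group G] [Finite G] {p : ℕ} [Fact p.Prime]

theorem chain_of_flink (f : Subgroup G → Set (Subgroup G)) (D : Subgroup G) (A C : Sylow p G)
    (h : FLink (Cfsg.functorFamily p f ⊤) D A C) :
    ∃ (n : ℕ) (c : Fin (n + 1) → Sylow p ↥(⊤ : Subgroup G))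
      (X : Fin n → Subgroup ↥(⊤ : Subgroup G)) (x : Fin n → ↥(⊤ : Subgroup G)),
      c 0 = A.subtype le_top ∧ c (Fin.last n) = C.subtype le_top ∧
      ∀ i : Fin n,
        X i ∈ Cfsg.sylowMembers p ((fun X : Subgroup G => X.subgroupOf ⊤) ''
          Cfsg.functorFamily p f ⊤) (c i.castSucc : Subgroup ↥(⊤ : Subgroup G)) ∧
        X i ∈ Cfsg.sylowMembers p ((fun X : Subgroup G => X.subgroupOf ⊤) ''
          Cfsg.functorFamily p f ⊤) (c i.succ : Subgroup ↥(⊤ : Subgroup G)) ∧
        x i ∈ X i ∧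
        Cfsg.subgroupConjRight (x i) (c i.succ : Subgroup ↥(⊤ : Subgroup G)) =
          (c i.castSucc : Subgroup ↥(⊤ : Subgroup G)) ∧
        D.subgroupOf ⊤ ≤ (c i.succ : Subgroup ↥(⊤ : Subgroup G)) ⊓ X i := by
  induction h with
  | refl => exact ⟨0, fun _ => A.subtype le_top, fun i => i.elim0, fun i => i.elim0, rfl, rfl,
      fun i => i.elim0⟩
  | @step B C X₀ x₀ _ hX₀ hBX hCX hx₀ hconj hDC ih =>
    obtain ⟨n, c, X, x, hc0, hcn, hstep⟩ := ih
    have hmem : ∀ P : Sylow p G, (P : Subgroup G) ≤ X₀ →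
        X₀.subgroupOf ⊤ ∈ Cfsg.sylowMembers p ((fun X : Subgroup G => X.subgroupOf ⊤) ''
          Cfsg.functorFamily p f ⊤) ((P.subtype le_top : Sylow p ↥(⊤ : Subgroup G)) :
            Subgroup ↥(⊤ : Subgroup G)) := by
      intro P hP
      rw [Cfsg.Agent.Lib.Helper23.mem_sylowMembers_iff _ _ (P.subtype le_top).isPGroup']
      refine ⟨⟨X₀, hX₀, rfl⟩, ?_⟩
      rw [Sylow.coe_subtype, ← subgroupOf_inf', Subgroup.relIndex_subgroupOf le_top,
        inf_eq_left.mpr hP]
      intro hdvd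
      exact P.not_dvd_index (hdvd.trans (Subgroup.relIndex_dvd_index_of_le hP))
    refine ⟨n + 1, snocFn c (C.subtype le_top), snocFn X (X₀.subgroupOf ⊤),
      snocFn x ⟨x₀, Subgroup.mem_top x₀⟩, ?_, ?_, ?_⟩
    · rw [← Fin.castSucc_zero, snocFn_castSucc]; exact hc0
    · exact snocFn_last _ _
    · intro i
      refine Fin.lastCases ?_ ?_ i
      · rw [snocFn_last, snocFn_last, snocFn_castSucc, Fin.succ_last, snocFn_last, hcn]
        refine ⟨hmem B hBX, hmem C hCX, Subgroup.mem_subgroupOf.mpr hx₀, ?_, ?_⟩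
        · unfold Cfsg.subgroupConjRight
          rw [Sylow.coe_subtype, Sylow.coe_subtype]
          ext y
          rw [mem_map_conj_iff, Subgroup.mem_subgroupOf, Subgroup.mem_subgroupOf, ← hconj,
            mem_map_conj_iff]
          rfl
        · rw [Sylow.coe_subtype, ← subgroupOf_inf']
          intro d hd
          rw [Subgroup.mem_subgroupOf] at hd ⊢
          exact Subgroup.mem_inf.mpr ⟨hDC hd, hCX (hDC hd)⟩
      · intro j
        rw [snocFn_castSucc, snocFn_castSucc, snocFn_castSucc, Fin.succ_castSucc,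
          snocFn_castSucc]
        exact hstep j

theorem isFunctorRegular_top_of_flink (f : Subgroup G → Set (Subgroup G))
    (h : ∀ A B : Sylow p G, A ≠ B → (A : Subgroup G) ⊓ (B : Subgroup G) ≠ ⊥ →
      FLink (Cfsg.functorFamily p f ⊤) ((A : Subgroup G) ⊓ (B : Subgroup G)) A B) :
    Cfsg.IsFunctorRegular p f ⊤ := by
  intro S' T' hne hinf
  obtain ⟨S₀⟩ : Nonempty (Sylow p G) := inferInstance
  obtain ⟨A, hA, rfl⟩ := exists_sylow_subtype_eq ⊤ S₀ le_top S'
  obtain ⟨B, hB, rfl⟩ := exists_sylow_subtype_eq ⊤ S₀ le_top T'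
  have hAB : A ≠ B := by
    rintro rfl
    exact hne rfl
  have hcoe : ((A.subtype hA : Sylow p ↥(⊤ : Subgroup G)) : Subgroup ↥(⊤ : Subgroup G)) ⊓
      (B.subtype hB : Sylow p ↥(⊤ : Subgroup G)) =
      ((A : Subgroup G) ⊓ (B : Subgroup G)).subgroupOf ⊤ := by
    rw [Sylow.coe_subtype, Sylow.coe_subtype, ← subgroupOf_inf']
  have hinf0 : (A : Subgroup G) ⊓ (B : Subgroup G) ≠ ⊥ := by
    intro h0
    apply hinf
    rw [hcoe, h0]
    exact Subgroup.bot_subgroupOf _
  obtain ⟨n, c, X, x, hc0, hcn, hstep⟩ := chain_of_flink f _ A B (h A B hAB hinf0)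
  refine ⟨n, c, X, x, hc0, hcn, ?_⟩
  intro i
  rw [hcoe]
  exact hstep i

end Bridge2

end Cfsg.Agent.Lib.Helper16
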