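import Cfsg.Agent.Lib.Helper16.CharP
import Cfsg.Agent.Lib.Helper16.Subnormal
import Cfsg.Agent.Lib.Helper20.Bender
import Cfsg.Agent.Lib.Helper20.FactorialBound

/-!
`p`-subgroups normalized by `F*(K)` when `O_p(K) = 1` (helper16).
-/

set_option autoImplicit false
open Cfsg
open scoped commutatorElement

namespace Cfsg.Agent.Lib.Helper16

/-- If `O_p(K) = 1`, a `p`-subgroup of `K` normalized by `F*(K)` is trivial. -/
theorem eq_bot_of_isPGroup_of_genFitting_le_normalizer {K : Type*} [Group K] [Finite K] {p : ℕ}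
    [Fact p.Prime] (hK : Cfsg.pCore p K = ⊥) (X : Subgroup K) (hX : IsPGroup p X)
    (hN : Cfsg.generalizedFittingSubgroup K ≤ Subgroup.normalizer (X : Set K)) : X = ⊥ := by
  have hFsn : (Cfsg.generalizedFittingSubgroup K).Normal :=
    Cfsg.Agent.Lib.Helper20.genFitting_normal
  have hN1 : X ⊓ Cfsg.generalizedFittingSubgroup K ≤ opDown p (Cfsg.generalizedFittingSubgroup K) := by
    apply le_opDown p inf_le_right
    · refine le_trans ?_ (inf_normalizer_le_normalizer_inf _ _)
      exact le_inf hN Subgroup.le_normalizer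
    · exact hX.to_le inf_le_left
  have hN2 : opDown p (Cfsg.generalizedFittingSubgroup K) ≤ Cfsg.pCore p K := by
    apply le_pCore
    · have h1 := normalizer_le_normalizer_opDown p (Cfsg.generalizedFittingSubgroup K)
      rw [Subgroup.normalizer_eq_top_iff.mpr hFsn] at h1
      exact Subgroup.normalizer_eq_top_iff.mp (top_le_iff.mp h1)
    · exact opDown_isPGroup p _
  have hN3 : X ⊓ Cfsg.generalizedFittingSubgroup K = ⊥ := by
    rw [eq_bot_iff]; exact (hN1.trans hN2).trans (le_of_eq hK)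
  have hXc : X ≤ Subgroup.centralizer (Cfsg.generalizedFittingSubgroup K : Set K) := by
    intro x hx
    rw [Subgroup.mem_centralizer_iff]
    intro f hf
    have h1 : x * f * x⁻¹ * f⁻¹ ∈ X ⊓ Cfsg.generalizedFittingSubgroup K := by
      refine Subgroup.mem_inf.mpr ⟨?_, ?_⟩
      · have h2 : f * x⁻¹ * f⁻¹ ∈ X :=
          (Subgroup.mem_normalizer_iff.mp (hN hf) x⁻¹).mp (X.inv_mem hx)
        have h3 := X.mul_mem hx h2
        have e : x * f * x⁻¹ * f⁻¹ = x * (f * x⁻¹ * f⁻¹) := by group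
        rw [e]; exact h3
      · exact Subgroup.mul_mem _ (hFsn.conj_mem f hf x) (Subgroup.inv_mem _ hf)
    rw [hN3, Subgroup.mem_bot] at h1
    calc f * x = (x * f * x⁻¹ * f⁻¹) * (f * x) := by rw [h1, one_mul]
      _ = x * f := by group
  have hXF : X ≤ Cfsg.generalizedFittingSubgroup K :=
    hXc.trans Cfsg.Agent.Lib.Helper20.centralizer_genFitting_le
  rw [eq_bot_iff, ← hN3]
  exact le_inf le_rfl hXF

/-- Ambient form: let `C ≤ Md` with `C ⊴ Md`, `O_p(Md / C) = 1`, and `F` the preimage of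
`F*(Md / C)`. A subgroup `X ≤ Md` normalized by `F` all of whose elements have `p`-power order
modulo `C` lies in `C`. -/
theorem le_of_normalized_by_genFitting_preimage {G : Type*} [Group G] [Finite G] {p : ℕ}
    [Fact p.Prime] (Md C : Subgroup G) [hn : (C.subgroupOf Md).Normal]
    (hred : Cfsg.pCore p (↥Md ⧸ C.subgroupOf Md) = ⊥) (F : Subgroup G)
    (hF : F = ((Cfsg.generalizedFittingSubgroup (↥Md ⧸ C.subgroupOf Md)).comap
      (QuotientGroup.mk' (C.subgroupOf Md))).map Md.subtype)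
    (X : Subgroup G) (hXMd : X ≤ Md) (hFX : F ≤ Subgroup.normalizer (X : Set G))
    (hXp : ∀ x ∈ X, ∃ k : ℕ, x ^ (p ^ k) ∈ C) : X ≤ C := by
  have hXbp : IsPGroup p ((X.subgroupOf Md).map (QuotientGroup.mk' (C.subgroupOf Md))) := by
    rintro ⟨_, ⟨x, hx, rfl⟩⟩
    obtain ⟨k, hk⟩ := hXp (x : G) hx
    refine ⟨k, ?_⟩
    apply Subtype.ext
    simp only [SubgroupClass.coe_pow, Subgroup.coe_one, QuotientGroup.mk'_apply]
    rw [← QuotientGroup.mk_pow, QuotientGroup.eq_one_iff, Subgroup.mem_subgroupOf]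
    simpa using hk
  have hXbN : Cfsg.generalizedFittingSubgroup (↥Md ⧸ C.subgroupOf Md) ≤
      Subgroup.normalizer (((X.subgroupOf Md).map (QuotientGroup.mk' (C.subgroupOf Md)) :
        Subgroup (↥Md ⧸ C.subgroupOf Md)) : Set (↥Md ⧸ C.subgroupOf Md)) := by
    intro fb hfb
    obtain ⟨f, rfl⟩ := QuotientGroup.mk'_surjective (C.subgroupOf Md) fb
    have hfF : (f : G) ∈ F := by
      rw [hF]
      exact ⟨f, hfb, rfl⟩
    have hfX : f ∈ Subgroup.normalizer ((X.subgroupOf Md : Subgroup ↥Md) : Set ↥Md) := by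
      rw [Subgroup.mem_normalizer_iff]
      intro h
      rw [Subgroup.mem_subgroupOf, Subgroup.mem_subgroupOf]
      have := Subgroup.mem_normalizer_iff.mp (hFX hfF) (h : G)
      simpa using this
    exact Subgroup.le_normalizer_map _ (Subgroup.mem_map_of_mem _ hfX)
  have hbot := eq_bot_of_isPGroup_of_genFitting_le_normalizer hred _ hXbp hXbN
  intro x hx
  have hx' : (⟨x, hXMd hx⟩ : ↥Md) ∈ X.subgroupOf Md := by
    rw [Subgroup.mem_subgroupOf]; exact hx
  have h1 : QuotientGroup.mk' (C.subgroupOf Md) ⟨x, hXMd hx⟩ ∈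
      (X.subgroupOf Md).map (QuotientGroup.mk' (C.subgroupOf Md)) := Subgroup.mem_map_of_mem _ hx'
  rw [hbot, Subgroup.mem_bot, QuotientGroup.mk'_apply, QuotientGroup.eq_one_iff] at h1
  exact h1

end Cfsg.Agent.Lib.Helper16
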