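import Cfsg.Agent.Lib.Helper16.FrakHExist
import Cfsg.Agent.Lib.Helper16.SylowNormal
import Cfsg.Agent.Lib.Helper16.LargestOf

set_option autoImplicit false
open Cfsg
open scoped commutatorElement Pointwise

namespace Cfsg.Agent.Lib.Helper16

section
variable {G : Type*} [Group G] [Finite G] {p : ℕ} [Fact p.Prime]

/-- A nontrivial subgroup of a `p`-group `T` that is normalized by `T` meets `Z(T)` nontrivially
(ambient form). -/
theorem inf_centralizer_ne_bot_of_normal (T A : Subgroup G) (hT : IsPGroup p T) (hAT : A ≤ T)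
    (hTA : T ≤ Subgroup.normalizer (A : Set G)) (hA : A ≠ ⊥) :
    A ⊓ Subgroup.centralizer (T : Set G) ≠ ⊥ := by
  obtain ⟨B, hBA, hBmin⟩ := Finite.exists_le_minimal
    (p := fun B : Subgroup G => B ≠ ⊥ ∧ T ≤ Subgroup.normalizer (B : Set G)) (a := A) ⟨hA, hTA⟩
  have hB1 := hBmin.prop.1
  have hB2 := hBmin.prop.2
  have hBp : IsPGroup p B := hT.to_le (hBA.trans hAT)
  have hlt := commutator_lt_of_isPGroup B T hBp hT hB2 hB1
  have hcomm : ⁅B, T⁆ = ⊥ := by
    by_contra hne
    have hn : T ≤ Subgroup.normalizer ((⁅B, T⁆ : Subgroup G) : Set G) :=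
      le_trans (le_inf hB2 Subgroup.le_normalizer) (inf_normalizer_le_normalizer_commutator B T)
    have := hBmin.le_of_le ⟨hne, hn⟩ hlt.le
    exact hlt.not_ge this
  intro hbot
  apply hB1
  rw [eq_bot_iff, ← hbot]
  refine le_inf hBA ?_
  rwa [Subgroup.commutator_eq_bot_iff_le_centralizer] at hcomm

/-- The intersection of a Sylow `p`-subgroup with a subnormal subgroup `K` is a Sylow
`p`-subgroup of `K`: index form. -/
theorem not_dvd_relIndex_sylow_subnormal (P : Sylow p G) {K : Subgroup G} (hK : K.IsSubnormal) :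
    ¬ p ∣ (P : Subgroup G).relIndex K := by
  induction hK with
  | top => rw [Subgroup.relIndex_top_right]; exact P.not_dvd_index
  | step H K h_le _ hN ih =>
    have hsyl : ¬ p ∣ ((P : Subgroup G).subgroupOf K).index := ih
    let PK : Sylow p ↥K := (P.2.comap_subtype).toSylow hsyl
    have h1 := not_dvd_relIndex_sylow_normal PK (H.subgroupOf K)
    have : ((PK : Subgroup ↥K)) = (P : Subgroup G).subgroupOf K := rfl
    rw [this, Subgroup.relIndex_subgroupOf h_le] at h1
    exact h1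

/-- The intersection of a characteristic `p` subgroup with a subnormal subgroup has
characteristic `p`. -/
theorem isCharPSub_inf_of_isSubnormal (X : Subgroup G) (hX : IsCharPSub p X) {K : Subgroup G}
    (hK : K.IsSubnormal) : IsCharPSub p (X ⊓ K) := by
  induction hK with
  | top => rwa [inf_top_eq]
  | step H K h_le _ hN ih =>
    rw [Subgroup.normal_subgroupOf_iff_le_normalizer h_le] at hN
    apply isCharPSub_of_normal (X ⊓ K) (X ⊓ H) (inf_le_inf_left X h_le) _ ih
    refine le_trans ?_ (inf_normalizer_le_normalizer_inf _ _)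
    exact le_inf (inf_le_left.trans Subgroup.le_normalizer) (inf_le_right.trans hN)

/-- Characteristic `p` transfers to `subgroupOf`. -/
theorem isCharPSub_subgroupOf (P H : Subgroup G) (hPH : P ≤ H) (hP : IsCharPSub p P) :
    IsCharPSub p (P.subgroupOf H) := by
  unfold IsCharPSub
  rw [opDown_subgroupOf P H hPH]
  intro x hx
  rw [Subgroup.mem_subgroupOf]
  apply hP
  refine Subgroup.mem_inf.mpr ⟨Subgroup.mem_subgroupOf.mp hx.1, ?_⟩
  rw [Subgroup.mem_centralizer_iff]
  intro y hy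
  have hyH : y ∈ H := hPH (opDown_le p P hy)
  have := Subgroup.mem_centralizer_iff.mp hx.2 ⟨y, hyH⟩ (Subgroup.mem_subgroupOf.mpr hy)
  exact congrArg Subtype.val this

/-- Key step for parabolic characteristic `p` of subnormal subgroups: if `G` has parabolic
characteristic `p`, `G₁` is subnormal, `T = S ∩ G₁` has `Z(T) ≤ Z(S)`, and `R ≠ 1` is a `p`-subgroup
of `G₁` normalized by `T`, then `N_{G₁}(R)` has characteristic `p`. -/
theorem isCharPSub_local_of_parabolic (hG : Cfsg.IsOfParabolicCharacteristic p G) (S : Sylow p G)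
    (G₁ : Subgroup G) (hsn : G₁.IsSubnormal)
    (hle : ((S : Subgroup G) ⊓ G₁) ⊓
        Subgroup.centralizer (((S : Subgroup G) ⊓ G₁ : Subgroup G) : Set G) ≤
      (S : Subgroup G) ⊓ Subgroup.centralizer ((S : Subgroup G) : Set G))
    (R : Subgroup G) (hRG : R ≤ G₁) (hRp : IsPGroup p R) (hR1 : R ≠ ⊥)
    (hTR : (S : Subgroup G) ⊓ G₁ ≤ Subgroup.normalizer (R : Set G)) :
    IsCharPSub p (G₁ ⊓ Subgroup.normalizer (R : Set G)) := by
  set T := (S : Subgroup G) ⊓ G₁ with hT
  set L := G₁ ⊓ Subgroup.normalizer (R : Set G) with hL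
  set Q := opDown p L with hQ
  have hTp : IsPGroup p T := S.2.to_le inf_le_left
  have hTL : T ≤ L := le_inf inf_le_right hTR
  have hRQ : R ≤ Q := le_opDown p (le_inf hRG Subgroup.le_normalizer) inf_le_right hRp
  have hQ1 : Q ≠ ⊥ := fun h => hR1 (le_bot_iff.mp (h ▸ hRQ))
  have hQL : Q ≤ L := opDown_le p L
  have hLQ : L ≤ Subgroup.normalizer (Q : Set G) := le_normalizer_opDown p L
  have hQp : IsPGroup p Q := opDown_isPGroup p L
  -- Q ≤ T
  have hQT : Q ≤ T := by
    have hnd := not_dvd_relIndex_sylow_subnormal S hsn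
    let T₁ : Sylow p ↥G₁ := (S.2.comap_subtype).toSylow hnd
    have hT₁ : (T₁ : Subgroup ↥G₁) = (S : Subgroup G).subgroupOf G₁ := rfl
    have h1 := opDown_le_sylow T₁ (L.subgroupOf G₁) (by
      rw [hT₁]
      intro x hx
      rw [Subgroup.mem_subgroupOf] at hx ⊢
      exact hTL ⟨hx, x.2⟩)
    rw [opDown_subgroupOf L G₁ inf_le_left, hT₁] at h1
    intro x hx
    have hxG : x ∈ G₁ := (hQL hx).1
    have := h1 (show (⟨x, hxG⟩ : ↥G₁) ∈ Q.subgroupOf G₁ from Subgroup.mem_subgroupOf.mpr hx)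
    exact ⟨Subgroup.mem_subgroupOf.mp this, hxG⟩
  -- Z₀
  set Z₀ := Q ⊓ Subgroup.centralizer (T : Set G) with hZ₀
  have hZ1 : Z₀ ≠ ⊥ := inf_centralizer_ne_bot_of_normal T Q hTp hQT (hTL.trans hLQ) hQ1
  have hZS : Z₀ ≤ (S : Subgroup G) ⊓ Subgroup.centralizer ((S : Subgroup G) : Set G) :=
    fun z hz => hle ⟨hQT hz.1, hz.2⟩
  have hZp : IsPGroup p Z₀ := hQp.to_le inf_le_left
  have hSN : (S : Subgroup G) ≤ Subgroup.normalizer (Z₀ : Set G) := by
    intro s hs
    apply Subgroup.centralizer_le_normalizer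
    rw [Subgroup.mem_centralizer_iff]
    intro z hz
    exact (Subgroup.mem_centralizer_iff.mp (hZS hz).2 s hs).symm
  have hpar : Cfsg.IsParabolic p (Subgroup.normalizer (Z₀ : Set G)) := ⟨S, hSN⟩
  have hK₀ : IsCharPSub p (Subgroup.normalizer (Z₀ : Set G)) :=
    isCharPSub_of_type p _ (hG Z₀ hZp hZ1 hpar)
  have hK₁ : IsCharPSub p (Subgroup.normalizer (Z₀ : Set G) ⊓ G₁) :=
    isCharPSub_inf_of_isSubnormal _ hK₀ hsn
  have hQK₁ : Q ≤ Subgroup.normalizer (Z₀ : Set G) ⊓ G₁ :=
    le_inf ((hQT.trans inf_le_left).trans hSN) (hQL.trans inf_le_left)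
  have hC := isCharPSub_inf_centralizer (Subgroup.normalizer (Z₀ : Set G) ⊓ G₁) Q hK₁ hQp
    (hQK₁.trans Subgroup.le_normalizer)
  have hCeq : Subgroup.normalizer (Z₀ : Set G) ⊓ G₁ ⊓ Subgroup.centralizer (Q : Set G) =
      G₁ ⊓ Subgroup.centralizer (Q : Set G) := by
    apply le_antisymm
    · exact le_inf (inf_le_left.trans inf_le_right) inf_le_right
    · refine le_inf (le_inf ?_ inf_le_left) inf_le_right
      exact inf_le_right.trans ((Subgroup.centralizer_le (show Z₀ ≤ Q from inf_le_left)).trans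
        (Subgroup.centralizer_le_normalizer _))
  rw [hCeq] at hC
  set C := G₁ ⊓ Subgroup.centralizer (Q : Set G) with hCdef
  have hCL : C ≤ L := le_inf inf_le_left
    (inf_le_right.trans ((Subgroup.centralizer_le hRQ).trans (Subgroup.centralizer_le_normalizer _)))
  have hLC : L ≤ Subgroup.normalizer (C : Set G) := by
    refine le_trans ?_ (inf_normalizer_le_normalizer_inf _ _)
    exact le_inf (inf_le_left.trans Subgroup.le_normalizer)
      (hLQ.trans (normalizer_le_normalizer_centralizer Q))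
  have hOC : opDown p C ≤ Q := opDown_le_opDown_of_normal p hCL hLC
  intro x hx
  apply hOC
  apply hC
  exact ⟨⟨hx.1.1, hx.2⟩, Subgroup.centralizer_le hOC hx.2⟩

end

end Cfsg.Agent.Lib.Helper16
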