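import Cfsg.Agent.Lib.Helper16.FrakH2
import Cfsg.Agent.Lib.Helper16.FrakHExist
import Cfsg.Agent.Lib.Helper16.ResidualQuot
import Cfsg.Agent.Lib.Helper16.PClosedQuot
import Cfsg.Agent.Lib.Helper16.PIrredNormal
import Cfsg.Agent.Lib.Helper16.ParabolicChar
import Cfsg.Agent.Lib.Helper16.Large
import Cfsg.Agent.Lib.Helper3.CentralComm

set_option autoImplicit false
open Cfsg
open scoped commutatorElement Pointwise

namespace Cfsg.Agent.Lib.Helper16

/-! ### General lemmas for conjugacy families of `p`-minimal / strongly `p`-irreducible subgroups -/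

section
variable {G : Type*} [Group G]

/-- If `e x e⁻¹ = z x` and `z` commutes with `e`, then `eⁿ x e⁻ⁿ = zⁿ x`. -/
theorem conj_pow_of_commute (e x z : G) (hz : e * x * e⁻¹ = z * x) (hc : Commute z e) (n : ℕ) :
    e ^ n * x * (e ^ n)⁻¹ = z ^ n * x := by
  induction n with
  | zero => simp
  | succ n ih =>
    have h1 : e ^ (n + 1) * x * (e ^ (n + 1))⁻¹ = e * (e ^ n * x * (e ^ n)⁻¹) * e⁻¹ := by
      rw [pow_succ']; group
    rw [h1, ih]
    have h2 : e * (z ^ n * x) * e⁻¹ = (e * z ^ n * e⁻¹) * (e * x * e⁻¹) := by group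
    rw [h2, hz]
    have h3 : e * z ^ n * e⁻¹ = z ^ n := by
      have := (hc.pow_left n).eq
      rw [← this]; group
    rw [h3, pow_succ, mul_assoc]

/-- The subgroup of elements commuting with `x` modulo the normal subgroup `P`. -/
def centMod (P : Subgroup G) [P.Normal] (x : G) : Subgroup G :=
  (Subgroup.centralizer {QuotientGroup.mk' P x}).comap (QuotientGroup.mk' P)

theorem mem_centMod (P : Subgroup G) [P.Normal] (x h : G) : h ∈ centMod P x ↔ ⁅h, x⁆ ∈ P := by
  unfold centMod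
  rw [Subgroup.mem_comap, Subgroup.mem_centralizer_iff]
  constructor
  · intro hh
    have h1 := hh _ (Set.mem_singleton _)
    rw [← QuotientGroup.eq_one_iff, ← QuotientGroup.mk'_apply, map_commutatorElement]
    exact commutatorElement_eq_one_iff_commute.mpr h1.symm
  · intro hh y hy
    rw [Set.mem_singleton_iff] at hy
    subst hy
    rw [← QuotientGroup.eq_one_iff, ← QuotientGroup.mk'_apply, map_commutatorElement] at hh
    exact (commutatorElement_eq_one_iff_commute.mp hh).symm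

theorem mem_centMod' (P : Subgroup G) [P.Normal] (x h : G) : h ∈ centMod P x ↔ ⁅x, h⁆ ∈ P := by
  rw [mem_centMod, ← commutatorElement_inv, Subgroup.inv_mem_iff]

/-- Commutators of joins modulo a normal subgroup. -/
theorem commutator_mem_of_mem_sup (P : Subgroup G) [hP : P.Normal] (A B C D : Subgroup G)
    (h : ∀ a ∈ A, ∀ c ∈ C, ⁅a, c⁆ ∈ P) (hB : B ≤ P) (hD : D ≤ P) :
    ∀ x ∈ A ⊔ B, ∀ y ∈ C ⊔ D, ⁅x, y⁆ ∈ P := by
  have hP1 : ∀ b ∈ P, ∀ y : G, ⁅b, y⁆ ∈ P := by
    intro b hb y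
    rw [commutatorElement_def]
    have : b * y * b⁻¹ * y⁻¹ = b * (y * b⁻¹ * y⁻¹) := by group
    rw [this]
    exact P.mul_mem hb (hP.conj_mem _ (P.inv_mem hb) y)
  have hP2 : ∀ b ∈ P, ∀ y : G, ⁅y, b⁆ ∈ P := by
    intro b hb y
    rw [← commutatorElement_inv, Subgroup.inv_mem_iff]
    exact hP1 b hb y
  -- first: ∀ a ∈ A, ∀ y ∈ C ⊔ D
  have h1 : ∀ a ∈ A, C ⊔ D ≤ centMod P a := by
    intro a ha
    apply sup_le
    · intro c hc
      rw [mem_centMod']
      exact h a ha c hc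
    · intro d hd
      rw [mem_centMod']
      exact hP2 d (hD hd) a
  intro x hx y hy
  have h2 : A ⊔ B ≤ centMod P y := by
    apply sup_le
    · intro a ha
      rw [mem_centMod]
      exact (mem_centMod' P a y).mp (h1 a ha hy)
    · intro b hb
      rw [mem_centMod]
      exact hP1 b (hB hb) y
  exact (mem_centMod P y x).mp (h2 hx)

/-- If `z = ⁅e, x⁆` commutes with `e` modulo the normal subgroup `P` and `e ^ n ∈ P`, then
`z ^ n ∈ P`. -/
theorem commutator_pow_mem_of_central_mod (P : Subgroup G) [hP : P.Normal] (e x : G) (n : ℕ)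
    (he : e ^ n ∈ P) (hc : ⁅⁅e, x⁆, e⁆ ∈ P) : ⁅e, x⁆ ^ n ∈ P := by
  set π := QuotientGroup.mk' P with hπ
  have h1 : π e * π x * (π e)⁻¹ = π ⁅e, x⁆ * π x := by
    rw [← map_inv, ← map_mul, ← map_mul, ← map_mul]
    congr 1
    rw [commutatorElement_def]; group
  have h2 : Commute (π ⁅e, x⁆) (π e) := by
    have : π ⁅⁅e, x⁆, e⁆ = 1 := (QuotientGroup.eq_one_iff _).mpr hc
    rw [map_commutatorElement] at this
    exact commutatorElement_eq_one_iff_commute.mp this
  have h3 := conj_pow_of_commute (π e) (π x) (π ⁅e, x⁆) h1 h2 n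
  have h4 : π e ^ n = 1 := by
    rw [← map_pow]; exact (QuotientGroup.eq_one_iff _).mpr he
  rw [h4, inv_one, mul_one, one_mul] at h3
  have h5 : π ⁅e, x⁆ ^ n = 1 := by
    have := congrArg (· * (π x)⁻¹) h3
    simpa using this.symm
  rw [← map_pow] at h5
  exact (QuotientGroup.eq_one_iff _).mp h5

end

section
variable {G : Type*} [Group G] [Finite G] {p : ℕ} [Fact p.Prime]

omit [Finite G] [Fact p.Prime] in
/-- Conjugating a join. -/
theorem map_conj_sup_le (A B D : Subgroup G) (w : G)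
    (hA : A.map (MulAut.conj w).toMonoidHom ≤ D) (hB : B.map (MulAut.conj w).toMonoidHom ≤ D) :
    (A ⊔ B).map (MulAut.conj w).toMonoidHom ≤ D := by
  rw [Subgroup.map_sup]
  exact sup_le hA hB

omit [Fact p.Prime] in
/-- A `p`-element `z` of `W` that is central modulo a `p`-subgroup `P ⊴ W` lies in `O_p(W)`. -/
theorem mem_opDown_of_central_mod (W P : Subgroup G) (hPW : P ≤ W)
    (hWP : W ≤ Subgroup.normalizer (P : Set G)) (hPp : IsPGroup p P)
    (z : G) (hz : z ∈ W) (k : ℕ) (hzk : z ^ (p ^ k) ∈ P) (hc : ∀ w ∈ W, ⁅w, z⁆ ∈ P) :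
    z ∈ opDown p W := by
  obtain ⟨j, hj⟩ := exists_pow_eq_one_of_mem hPp hzk
  have hzp : IsPGroup p (Subgroup.zpowers z) := by
    apply isPGroup_zpowers_of_pow_eq_one z (k + j)
    rw [pow_add, pow_mul]; exact hj
  have hzW : Subgroup.zpowers z ≤ W := (Subgroup.zpowers_le).mpr hz
  set D := Subgroup.zpowers z ⊔ P with hD
  have hDp : IsPGroup p D := IsPGroup.to_sup_of_normal_right' hzp hPp (hzW.trans hWP)
  have hDW : D ≤ W := sup_le hzW hPW
  have hWD : W ≤ Subgroup.normalizer (D : Set G) := by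
    intro w hw
    rw [← map_conj_eq_self_iff]
    apply map_conj_eq_of_le
    apply map_conj_sup_le
    · rw [MonoidHom.map_zpowers, Subgroup.zpowers_le]
      have : (MulAut.conj w).toMonoidHom z = ⁅w, z⁆ * z := by
        simp [MulAut.conj_apply, commutatorElement_def]
      rw [this]
      exact D.mul_mem (le_sup_right (a := Subgroup.zpowers z) (hc w hw))
        (le_sup_left (b := P) (Subgroup.mem_zpowers z))
    · rw [(map_conj_eq_self_iff P w).mpr (hWP hw)]
      exact le_sup_right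
  exact le_opDown p hDW hWD hDp (le_sup_left (b := P) (Subgroup.mem_zpowers z))

omit [Finite G] [Fact p.Prime] in
/-- The closure of a conjugation-stable set is normalized. -/
theorem le_normalizer_closure_of_conj_mem (E : Subgroup G) (S : Set G)
    (h : ∀ e ∈ E, ∀ s ∈ S, e * s * e⁻¹ ∈ S) :
    E ≤ Subgroup.normalizer ((Subgroup.closure S : Subgroup G) : Set G) := by
  have key : ∀ e ∈ E, ∀ g ∈ Subgroup.closure S, e * g * e⁻¹ ∈ Subgroup.closure S := by
    intro e he g hg
    have h1 : (Subgroup.closure S).map (MulAut.conj e).toMonoidHom ≤ Subgroup.closure S := by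
      rw [MonoidHom.map_closure, Subgroup.closure_le]
      rintro _ ⟨s, hs, rfl⟩
      apply Subgroup.subset_closure
      have := h e he s hs
      simpa [MulAut.conj_apply] using this
    have := h1 (conj_mem_map_conj _ e hg)
    exact this
  intro e he
  apply mem_normalizer_of_conj_mem
  · exact key e he
  · intro g hg
    have := key e⁻¹ (E.inv_mem he) g hg
    simpa using this

omit [Finite G] [Fact p.Prime] in
/-- Ambient form of the second clause of strong `p`-irreducibility. -/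
theorem opUp_le_of_isStronglyPIrreducible (E : Subgroup G)
    (hE : Cfsg.IsStronglyPIrreducible p ↥E) (N : Subgroup G) (hNE : N ≤ E)
    (hEN : E ≤ Subgroup.normalizer (N : Set G)) (hc : ¬ ⁅N, E⁆ ≤ opDown p E) :
    opUp p E ≤ N := by
  have hn : (N.subgroupOf E).Normal := (Subgroup.normal_subgroupOf_iff_le_normalizer hNE).mpr hEN
  have h1 : ¬ ⁅N.subgroupOf E, (⊤ : Subgroup ↥E)⁆ ≤ Cfsg.pCore p ↥E := by
    intro h
    apply hc
    have h2 := Subgroup.map_mono (f := E.subtype) h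
    rw [Subgroup.map_commutator, Subgroup.map_subgroupOf_eq_of_le hNE, ← MonoidHom.range_eq_map,
      Subgroup.range_subtype, map_pCore_eq_opDown] at h2
    exact h2
  have h3 := hE.2 (N.subgroupOf E) hn h1
  have h4 := Subgroup.map_mono (f := E.subtype) h3
  rwa [map_pResidual_eq_opUp, Subgroup.map_subgroupOf_eq_of_le hNE] at h4

/-- A strongly `p`-irreducible subgroup is generated by its `p`-elements. -/
theorem le_closure_pElements_of_isStronglyPIrreducible (E : Subgroup G)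
    (hE : Cfsg.IsStronglyPIrreducible p ↥E) :
    E ≤ Subgroup.closure {e : G | e ∈ E ∧ ∃ k : ℕ, e ^ (p ^ k) = 1} := by
  set S : Set G := {e : G | e ∈ E ∧ ∃ k : ℕ, e ^ (p ^ k) = 1} with hS
  set Y := Subgroup.closure S with hY
  have hYE : Y ≤ E := by
    rw [hY, Subgroup.closure_le]
    intro s hs
    exact hs.1
  have hEY : E ≤ Subgroup.normalizer (Y : Set G) := by
    apply le_normalizer_closure_of_conj_mem
    rintro e he s ⟨hsE, k, hk⟩
    refine ⟨E.mul_mem (E.mul_mem he hsE) (E.inv_mem he), k, ?_⟩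
    rw [conj_pow, hk]; simp
  by_contra hcon
  -- `O^p(E)` is not inside `Y`
  have h1 : ¬ opUp p E ≤ Y := by
    intro h
    apply hcon
    intro x hx
    obtain ⟨Q⟩ : Nonempty (Sylow p ↥E) := inferInstance
    obtain ⟨c, hc, y, hy, rfl⟩ := exists_opUp_mul_sylow p E Q hx
    apply Y.mul_mem (h hc)
    obtain ⟨q, hq, rfl⟩ := hy
    apply Subgroup.subset_closure
    refine ⟨q.2, ?_⟩
    obtain ⟨k, hk⟩ := Q.2 ⟨q, hq⟩
    refine ⟨k, ?_⟩
    have := congrArg (fun z : ↥(Q : Subgroup ↥E) => ((z : ↥E) : G)) hk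
    simpa using this
  have h2 : ⁅Y, E⁆ ≤ opDown p E := by
    by_contra h
    exact h1 (opUp_le_of_isStronglyPIrreducible E hE Y hYE hEY h)
  apply hE.1
  apply isPClosed_of_forall_mem E (opDown p E) (opDown_le p E) (le_normalizer_opDown p E)
    (opDown_isPGroup p E)
  rintro x hx ⟨k, hk⟩
  have := mem_opDown_of_central_mod E (opDown p E) (opDown_le p E) (le_normalizer_opDown p E)
    (opDown_isPGroup p E) x hx k (by rw [hk]; exact Subgroup.one_mem _) ?_
  · exact this
  · intro w hw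
    rw [← commutatorElement_inv, Subgroup.inv_mem_iff]
    exact h2 (Subgroup.commutator_mem_commutator (Subgroup.subset_closure ⟨hx, k, hk⟩) hw)

omit [Finite G] [Fact p.Prime] in
/-- If `E` is generated by its `p`-elements, `⁅e, x⁆ ∈ Z₀` for all `e ∈ E`, `Z₀` is centralized by
`E` modulo the normal subgroup `P` and has no `p`-elements outside `P`, then `x` centralizes `E`
modulo `P`. -/
theorem commutator_mem_of_pElements (P : Subgroup G) [hP : P.Normal] (E Z₀ : Subgroup G) (x : G)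
    (hgen : E ≤ Subgroup.closure {e : G | e ∈ E ∧ ∃ k : ℕ, e ^ (p ^ k) = 1})
    (z1 : ∀ e ∈ E, ⁅e, x⁆ ∈ Z₀) (z2 : ∀ z ∈ Z₀, ∀ e ∈ E, ⁅z, e⁆ ∈ P)
    (z3 : ∀ z ∈ Z₀, ∀ k : ℕ, z ^ (p ^ k) ∈ P → z ∈ P) : ∀ e ∈ E, ⁅e, x⁆ ∈ P := by
  have h1 : Subgroup.closure {e : G | e ∈ E ∧ ∃ k : ℕ, e ^ (p ^ k) = 1} ≤ centMod P x := by
    rw [Subgroup.closure_le]
    rintro e ⟨heE, k, hk⟩
    rw [SetLike.mem_coe, mem_centMod]
    apply z3 _ (z1 e heE) k
    apply commutator_pow_mem_of_central_mod P e x (p ^ k)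
    · rw [hk]; exact P.one_mem
    · exact z2 _ (z1 e heE) e heE
  intro e he
  exact (mem_centMod P x e).mp (h1 (hgen he))

/-- If every member of a family of subnormal subgroups has `O^p` inside the normal subgroup `N₁`,
so does their join. -/
theorem opUp_sSup_le_of_isSubnormal (N₁ : Subgroup G) [hN : N₁.Normal] (𝒳 : Set (Subgroup G))
    (hsn : ∀ X ∈ 𝒳, X.IsSubnormal) (hX : ∀ X ∈ 𝒳, opUp p X ≤ N₁) : opUp p (sSup 𝒳) ≤ N₁ := by
  set π := QuotientGroup.mk' N₁ with hπ
  have hsurj : Function.Surjective π := QuotientGroup.mk'_surjective N₁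
  have h1 : ∀ X ∈ 𝒳, X ≤ (Cfsg.pCore p (G ⧸ N₁)).comap π := by
    intro X hXm
    rw [← Subgroup.map_le_iff_le_comap]
    apply le_pCore_of_isSubnormal_of_isPGroup p ((hsn X hXm).map hsurj)
    rintro ⟨y, x, hx, rfl⟩
    obtain ⟨k, hk⟩ := exists_pow_mem_opUp p X hx
    refine ⟨k, ?_⟩
    apply Subtype.ext
    simp only [SubgroupClass.coe_pow, Subgroup.coe_one]
    rw [← map_pow]
    exact (QuotientGroup.eq_one_iff _).mpr (hX X hXm hk)
  have h2 : sSup 𝒳 ≤ (Cfsg.pCore p (G ⧸ N₁)).comap π := sSup_le h1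
  rw [opUp_le_iff]
  intro g hg hcop
  have h3 : π g ∈ Cfsg.pCore p (G ⧸ N₁) := h2 hg
  obtain ⟨k, hk⟩ := exists_pow_eq_one_of_mem (pCore_isPGroup p (G ⧸ N₁)) h3
  have h4 : π g = 1 := by
    apply eq_one_of_pow_prime_pow_of_coprime (π g) k hk
    exact Nat.Coprime.coprime_dvd_left (orderOf_map_dvd π g) hcop
  exact (QuotientGroup.eq_one_iff _).mp h4

/-- Subgroups of `p`-closed subgroups are `p`-closed. -/
theorem isPClosed_of_le (N₁ N : Subgroup G) (h : N ≤ N₁) (hcl : Cfsg.IsPClosed p ↥N₁) :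
    Cfsg.IsPClosed p ↥N := by
  apply isPClosed_of_forall_mem N (opDown p N₁ ⊓ N) inf_le_right _
    ((opDown_isPGroup p N₁).to_le inf_le_left)
  · rintro x hx ⟨k, hk⟩
    exact ⟨mem_opDown_of_isPClosed N₁ hcl x (h hx) k hk, hx⟩
  · refine le_trans ?_ (inf_normalizer_le_normalizer_inf _ _)
    exact le_inf (h.trans (le_normalizer_opDown p N₁)) Subgroup.le_normalizer

/-- Subgroups of `p`-closed groups are `p`-closed. -/
theorem isPClosed_subgroup (hcl : Cfsg.IsPClosed p G) (E : Subgroup G) : Cfsg.IsPClosed p ↥E := by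
  have h1 : Cfsg.IsPClosed p ↥(⊤ : Subgroup G) := isPClosed_of_equiv Subgroup.topEquiv.symm hcl
  exact isPClosed_of_le ⊤ E le_top h1

omit [Finite G] [Fact p.Prime] in
/-- `O^p` commutes with conjugation. -/
theorem opUp_map_conj (K : Subgroup G) (g : G) :
    opUp p (K.map (MulAut.conj g).toMonoidHom) = (opUp p K).map (MulAut.conj g).toMonoidHom := by
  unfold opUp
  rw [MonoidHom.map_closure]
  congr 1
  ext x
  constructor
  · rintro ⟨⟨y, hy, rfl⟩, hc⟩
    refine ⟨y, ⟨hy, ?_⟩, rfl⟩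
    rwa [orderOf_injective _ (MulAut.conj g).injective] at hc
  · rintro ⟨y, ⟨hy, hc⟩, rfl⟩
    refine ⟨⟨y, hy, rfl⟩, ?_⟩
    rwa [orderOf_injective _ (MulAut.conj g).injective]

/-! ### Unique maximal overgroups, ambient form -/

/-- `A` is the largest proper subgroup of `F` containing `T₀`. -/
def IsUniqueMaxOver (T₀ A F : Subgroup G) : Prop :=
  T₀ ≤ A ∧ A < F ∧ ∀ X : Subgroup G, T₀ ≤ X → X < F → X ≤ A

omit [Finite G] [Fact p.Prime] in
theorem IsUniqueMaxOver.eq {T₀ A A' F : Subgroup G} (h : IsUniqueMaxOver T₀ A F)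
    (h' : IsUniqueMaxOver T₀ A' F) : A = A' :=
  le_antisymm (h'.2.2 A h.1 h.2.1) (h.2.2 A' h'.1 h'.2.1)

omit [Finite G] [Fact p.Prime] in
theorem IsUniqueMaxOver.map_conj {T₀ A F : Subgroup G} (h : IsUniqueMaxOver T₀ A F) (g : G) :
    IsUniqueMaxOver (T₀.map (MulAut.conj g).toMonoidHom) (A.map (MulAut.conj g).toMonoidHom)
      (F.map (MulAut.conj g).toMonoidHom) := by
  refine ⟨map_conj_mono h.1 g, ?_, ?_⟩
  · exact (Subgroup.map_lt_map_iff_of_injective (MulAut.conj g).injective).mpr h.2.1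
  · intro X hTX hXF
    have h1 : T₀ ≤ X.map (MulAut.conj g⁻¹).toMonoidHom := (map_conj_le_iff _ _ _).mp hTX
    have h2 : X.map (MulAut.conj g⁻¹).toMonoidHom < F := by
      have := (Subgroup.map_lt_map_iff_of_injective (f := (MulAut.conj g⁻¹).toMonoidHom)
        (MulAut.conj g⁻¹).injective).mpr hXF
      rwa [map_conj_map_conj, inv_mul_cancel, map_conj_one] at this
    have h3 := h.2.2 _ h1 h2
    have h4 := (map_conj_le_iff _ _ _).mp h3
    rwa [inv_inv] at h4

/-- Ambient consequences of `IsMinimalOver` for a subgroup `Q` of `E`. -/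
theorem isUniqueMaxOver_of_isMinimalOver (E : Subgroup G) (Q : Subgroup ↥E)
    (h : Cfsg.IsMinimalOver Q) :
    (∃ A, IsUniqueMaxOver (Q.map E.subtype) A E) ∧
      ∀ N : Subgroup G, E ≤ Subgroup.normalizer (N : Set G) → Q.map E.subtype ≤ N → E ≤ N := by
  obtain ⟨hnc, M, ⟨hMco, hQM⟩, hMuniq⟩ := h
  constructor
  · refine ⟨M.map E.subtype, Subgroup.map_mono hQM, ?_, ?_⟩
    · apply lt_of_le_of_ne (Subgroup.map_subtype_le M)
      intro heq
      apply hMco.1
      rw [eq_top_iff]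
      intro x _
      have hx : (x : G) ∈ M.map E.subtype := by rw [heq]; exact x.2
      obtain ⟨m, hm, hmx⟩ := hx
      have : m = x := Subtype.ext hmx
      rwa [← this]
    · intro X hQX hXE
      have hne : X.subgroupOf E ≠ ⊤ := by
        intro h
        rw [Subgroup.subgroupOf_eq_top] at h
        exact absurd hXE (not_lt_of_ge h)
      obtain ⟨M₂, hM₂, hXM₂⟩ := (eq_top_or_exists_le_coatom (X.subgroupOf E)).resolve_left hne
      have hQX' : Q ≤ X.subgroupOf E := Subgroup.map_le_iff_le_comap.mp hQX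
      have := hMuniq M₂ ⟨hM₂, hQX'.trans hXM₂⟩
      subst this
      rw [← Subgroup.map_subgroupOf_eq_of_le hXE.le]
      exact Subgroup.map_mono hXM₂
  · intro N hEN hQN
    have hn : (N.subgroupOf E).Normal := Subgroup.normal_subgroupOf_of_le_normalizer hEN
    have hQN' : Q ≤ N.subgroupOf E := Subgroup.map_le_iff_le_comap.mp hQN
    have h1 : Subgroup.normalClosure (Q : Set ↥E) ≤ N.subgroupOf E :=
      Subgroup.normalClosure_le_normal hQN'
    rw [hnc, top_le_iff, Subgroup.subgroupOf_eq_top] at h1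
    exact h1

/-- If `E ⊔ P` is subnormal, with `P` a normal `p`-subgroup, then a Sylow `p`-subgroup `T` meets
`E` in a Sylow `p`-subgroup of `E`. -/
theorem exists_sylow_map_eq_inf (T : Sylow p G) (E P : Subgroup G) [hP : P.Normal]
    (hPp : IsPGroup p P) (hsn : (E ⊔ P).IsSubnormal) :
    ∃ Q : Sylow p ↥E, (Q : Subgroup ↥E).map E.subtype = (T : Subgroup G) ⊓ E := by
  have hPT : P ≤ (T : Subgroup G) := normal_pgroup_le_sylow hP hPp T
  set F := E ⊔ P with hF
  have hQ₀ : IsPGroup p ((T : Subgroup G).subgroupOf E) := T.2.comap_subtype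
  obtain ⟨Q, hQ⟩ := hQ₀.exists_le_sylow
  refine ⟨Q, ?_⟩
  set Q' := (Q : Subgroup ↥E).map E.subtype with hQ'
  have hQ'E : Q' ≤ E := Subgroup.map_subtype_le _
  have hQ'p : IsPGroup p Q' := Q.2.map _
  have hTEQ : (T : Subgroup G) ⊓ E ≤ Q' := by
    intro x hx
    exact ⟨⟨x, hx.2⟩, hQ (Subgroup.mem_subgroupOf.mpr hx.1), rfl⟩
  apply le_antisymm _ hTEQ
  set D := Q' ⊔ P with hD
  have hDp : IsPGroup p D := IsPGroup.to_sup_of_normal_right hQ'p hPp
  have hDF : D ≤ F := sup_le_sup_right hQ'E P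
  have hsyl : ¬ p ∣ ((T : Subgroup G).subgroupOf F).index := not_dvd_relIndex_sylow_subnormal T hsn
  let TF : Sylow p ↥F := (T.2.comap_subtype).toSylow hsyl
  have hTF : (TF : Subgroup ↥F) = (T : Subgroup G).subgroupOf F := rfl
  have hle : (TF : Subgroup ↥F) ≤ D.subgroupOf F := by
    rintro ⟨x, hxF⟩ hxT
    rw [hTF, Subgroup.mem_subgroupOf] at hxT
    rw [Subgroup.mem_subgroupOf]
    simp only at hxT ⊢
    have hxF' := hxF
    rw [hF, Subgroup.mem_sup_of_normal_right] at hxF'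
    obtain ⟨e, he, q, hq, rfl⟩ := hxF'
    have heT : e ∈ (T : Subgroup G) := by
      have : e = e * q * q⁻¹ := by group
      rw [this]
      exact Subgroup.mul_mem _ hxT (Subgroup.inv_mem _ (hPT hq))
    exact D.mul_mem (le_sup_left (b := P) (hTEQ ⟨heT, he⟩)) (le_sup_right (a := Q') hq)
  have heq : D.subgroupOf F = (TF : Subgroup ↥F) := TF.is_maximal' hDp.comap_subtype hle
  intro x hx
  refine ⟨?_, hQ'E hx⟩
  have hxD : x ∈ D := le_sup_left (b := P) hx
  have : (⟨x, hDF hxD⟩ : ↥F) ∈ D.subgroupOf F := Subgroup.mem_subgroupOf.mpr hxD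
  rw [heq, hTF, Subgroup.mem_subgroupOf] at this
  exact this

end

end Cfsg.Agent.Lib.Helper16
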