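import Cfsg.Agent.Lib.Helper16.KFamily
import Cfsg.Prelude.Def_LocalStructure

set_option autoImplicit false
open Cfsg
open scoped commutatorElement Pointwise

namespace Cfsg.Agent.Lib.Helper16

/-! ### Conjugacy families of subgroups generating `O^p(H)` -/

section
variable {H : Type*} [Group H]

/-- A normal subgroup is fixed by conjugation. -/
theorem map_conj_of_normal (N : Subgroup H) [hN : N.Normal] (g : H) :
    N.map (MulAut.conj g).toMonoidHom = N := by
  rw [map_conj_eq_self_iff, Subgroup.normalizer_eq_top]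
  exact Subgroup.mem_top g

/-- Conjugating `E ⊔ P` with `P` normal. -/
theorem map_conj_sup_normal (E P : Subgroup H) [hP : P.Normal] (g : H) :
    (E ⊔ P).map (MulAut.conj g).toMonoidHom = E.map (MulAut.conj g).toMonoidHom ⊔ P := by
  rw [Subgroup.map_sup, map_conj_of_normal P g]

/-- `⁅q, x⁆ ∈ P` for `q` in the normal subgroup `P`. -/
theorem commutator_mem_of_mem_normal_left (P : Subgroup H) [hP : P.Normal] {q : H} (hq : q ∈ P)
    (x : H) : ⁅q, x⁆ ∈ P := by
  rw [commutatorElement_def]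
  have : q * x * q⁻¹ * x⁻¹ = q * (x * q⁻¹ * x⁻¹) := by group
  rw [this]
  exact P.mul_mem hq (hP.conj_mem _ (P.inv_mem hq) x)

/-- `⁅x, q⁆ ∈ P` for `q` in the normal subgroup `P`. -/
theorem commutator_mem_of_mem_normal_right (P : Subgroup H) [hP : P.Normal] {q : H} (hq : q ∈ P)
    (x : H) : ⁅x, q⁆ ∈ P := by
  rw [← commutatorElement_inv, Subgroup.inv_mem_iff]
  exact commutator_mem_of_mem_normal_left P hq x

/-- `⁅e, x⁆ ∈ F` when `x` normalizes `F ∋ e`. -/
theorem commutator_mem_of_mem_normalizer_right (F : Subgroup H) {e x : H} (he : e ∈ F)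
    (hx : x ∈ Subgroup.normalizer (F : Set H)) : ⁅e, x⁆ ∈ F := by
  rw [commutatorElement_def]
  have : e * x * e⁻¹ * x⁻¹ = e * (x * e⁻¹ * x⁻¹) := by group
  rw [this]
  exact F.mul_mem he ((Subgroup.mem_normalizer_iff.mp hx _).mp (F.inv_mem he))

/-- `⁅e, x⁆ ∈ F` when `e` normalizes `F ∋ x`. -/
theorem commutator_mem_of_mem_normalizer_left (F : Subgroup H) {e x : H} (hx : x ∈ F)
    (he : e ∈ Subgroup.normalizer (F : Set H)) : ⁅e, x⁆ ∈ F := by
  rw [commutatorElement_def]
  exact F.mul_mem ((Subgroup.mem_normalizer_iff.mp he _).mp hx) (F.inv_mem hx)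

/-- Transfer of a unique maximal overgroup from `E` to `E ⊔ P`. -/
theorem IsUniqueMaxOver.sup_normal {T E A : Subgroup H} (P : Subgroup H) [hP : P.Normal]
    (hPT : P ≤ T) (h : IsUniqueMaxOver (T ⊓ E) A E) :
    IsUniqueMaxOver (T ⊓ (E ⊔ P)) (A ⊔ P) (E ⊔ P) := by
  have hAE : A ≤ E := h.2.1.le
  refine ⟨?_, ?_, ?_⟩
  · intro x hx
    have hxT : x ∈ T := (Subgroup.mem_inf.mp hx).1
    have hxF : x ∈ E ⊔ P := (Subgroup.mem_inf.mp hx).2
    rw [Subgroup.mem_sup_of_normal_right] at hxF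
    obtain ⟨e, he, q, hq, rfl⟩ := hxF
    have heT : e ∈ T := by
      have : e = e * q * q⁻¹ := by group
      rw [this]
      exact T.mul_mem hxT (T.inv_mem (hPT hq))
    exact (A ⊔ P).mul_mem (le_sup_left (b := P) (h.1 ⟨heT, he⟩)) (le_sup_right (a := A) hq)
  · apply lt_of_le_of_ne (sup_le_sup_right hAE P)
    intro heq
    apply not_le_of_gt h.2.1
    intro e he
    have heF : e ∈ A ⊔ P := by rw [heq]; exact le_sup_left (b := P) he
    rw [Subgroup.mem_sup_of_normal_right] at heF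
    obtain ⟨a, ha, q, hq, rfl⟩ := heF
    have hqE : q ∈ E := by
      have : q = a⁻¹ * (a * q) := by group
      rw [this]
      exact E.mul_mem (E.inv_mem (hAE ha)) he
    exact A.mul_mem ha (h.1 ⟨hPT hq, hqE⟩)
  · intro X hTX hXF
    have hPX : P ≤ X := fun q hq => hTX ⟨hPT hq, le_sup_right (a := E) hq⟩
    have h1 : T ⊓ E ≤ X ⊓ E := fun x hx => ⟨hTX ⟨hx.1, le_sup_left (b := P) hx.2⟩, hx.2⟩
    have h2 : X ⊓ E < E := by
      apply lt_of_le_of_ne inf_le_right
      intro heq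
      have hEX : E ≤ X := by rw [← heq]; exact inf_le_left
      exact absurd hXF (not_lt_of_ge (sup_le hEX hPX))
    have h3 := h.2.2 _ h1 h2
    intro x hx
    have hxF := hXF.le hx
    rw [Subgroup.mem_sup_of_normal_right] at hxF
    obtain ⟨e, he, q, hq, rfl⟩ := hxF
    have heX : e ∈ X := by
      have : e = e * q * q⁻¹ := by group
      rw [this]
      exact X.mul_mem hx (X.inv_mem (hPX hq))
    exact (A ⊔ P).mul_mem (le_sup_left (b := P) (h3 ⟨heX, he⟩)) (le_sup_right (a := A) hq)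

end

section
variable {H : Type*} [Group H] [Finite H] {p : ℕ} [Fact p.Prime]

/-- The hypotheses on the family `𝒦`. -/
structure KFam (p : ℕ) (𝒦 : Set (Subgroup H)) : Prop where
  hne : 𝒦.Nonempty
  hinv : ∀ h : H, ∀ E ∈ 𝒦, E.map (MulAut.conj h).toMonoidHom ∈ 𝒦
  htr : ∀ E ∈ 𝒦, ∀ K ∈ 𝒦, ∃ h : H, K = E.map (MulAut.conj h).toMonoidHom
  hres : Cfsg.pResidual p H ≤ sSup 𝒦
  hnorm : ∀ E ∈ 𝒦, sSup 𝒦 ⊔ Cfsg.pCore p H ≤
    Subgroup.normalizer ((E ⊔ Cfsg.pCore p H : Subgroup H) : Set H)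

variable {𝒦 : Set (Subgroup H)}

omit [Finite H] [Fact p.Prime] in
theorem KFam.sSup_normal (hK : KFam p 𝒦) : (sSup 𝒦).Normal := by
  constructor
  intro n hn g
  have h1 : sSup 𝒦 ≤ (sSup 𝒦).comap (MulAut.conj g).toMonoidHom := by
    apply sSup_le
    intro E hE
    rw [← Subgroup.map_le_iff_le_comap]
    exact le_sSup (hK.hinv g E hE)
  have := h1 hn
  rw [Subgroup.mem_comap] at this
  simpa [MulAut.conj_apply] using this

omit [Finite H] [Fact p.Prime] in
theorem KFam.sup_normal (hK : KFam p 𝒦) : (sSup 𝒦 ⊔ Cfsg.pCore p H).Normal := by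
  have := hK.sSup_normal
  have := pCore_normal p H
  infer_instance

theorem KFam.sup_sylow (hK : KFam p 𝒦) (T : Sylow p H) : sSup 𝒦 ⊔ (T : Subgroup H) = ⊤ := by
  rw [eq_top_iff, ← pResidual_sup_sylow p T]
  exact sup_le_sup_right hK.hres _

omit [Finite H] [Fact p.Prime] in
theorem KFam.le_sup (_hK : KFam p 𝒦) {E : Subgroup H} (hE : E ∈ 𝒦) :
    E ⊔ Cfsg.pCore p H ≤ sSup 𝒦 ⊔ Cfsg.pCore p H :=
  sup_le_sup_right (le_sSup hE) _

omit [Finite H] [Fact p.Prime] in
theorem KFam.isSubnormal (hK : KFam p 𝒦) {E : Subgroup H} (hE : E ∈ 𝒦) :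
    (E ⊔ Cfsg.pCore p H).IsSubnormal := by
  have hn := hK.sup_normal
  apply Subgroup.IsSubnormal.step _ _ (hK.le_sup hE) hn.isSubnormal
  exact (Subgroup.normal_subgroupOf_iff_le_normalizer (hK.le_sup hE)).mpr (hK.hnorm E hE)

theorem KFam.opDown_sup_le (hK : KFam p 𝒦) {E : Subgroup H} (hE : E ∈ 𝒦) :
    opDown p (E ⊔ Cfsg.pCore p H) ≤ Cfsg.pCore p H :=
  opDown_le_pCore_of_isSubnormal p (hK.isSubnormal hE)

theorem KFam.opDown_le_pCore (hK : KFam p 𝒦) {E : Subgroup H} (hE : E ∈ 𝒦) :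
    opDown p E ≤ Cfsg.pCore p H := by
  have := pCore_normal p H
  set P := Cfsg.pCore p H with hP
  have hPp : IsPGroup p P := pCore_isPGroup p H
  set D := opDown p E ⊔ P with hD
  have hDp : IsPGroup p D := IsPGroup.to_sup_of_normal_right (opDown_isPGroup p E) hPp
  have hDF : D ≤ E ⊔ P := sup_le_sup_right (opDown_le p E) P
  have hPN : Subgroup.normalizer (P : Set H) = ⊤ := Subgroup.normalizer_eq_top P
  have hFD : E ⊔ P ≤ Subgroup.normalizer (D : Set H) := by
    apply sup_le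
    · refine le_trans ?_ (inf_normalizer_le_normalizer_sup _ _)
      apply le_inf (le_normalizer_opDown p E)
      rw [hPN]; exact le_top
    · exact le_sup_right.trans Subgroup.le_normalizer
  exact le_sup_left.trans ((le_opDown p hDF hFD hDp).trans (hK.opDown_sup_le hE))

/-- Any two members of `𝒦` become conjugate under a given Sylow `p`-subgroup after joining with
`O_p(H)`. -/
theorem KFam.exists_conj (hK : KFam p 𝒦) (T : Sylow p H) {E K : Subgroup H} (hE : E ∈ 𝒦)
    (hK' : K ∈ 𝒦) : ∃ t ∈ (T : Subgroup H),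
      K ⊔ Cfsg.pCore p H = (E ⊔ Cfsg.pCore p H).map (MulAut.conj t).toMonoidHom := by
  have := pCore_normal p H
  have := hK.sSup_normal
  obtain ⟨h, rfl⟩ := hK.htr E hE K hK'
  have hh : h ∈ (T : Subgroup H) ⊔ sSup 𝒦 := by
    rw [sup_comm, hK.sup_sylow T]; exact Subgroup.mem_top h
  rw [Subgroup.mem_sup_of_normal_right] at hh
  obtain ⟨t, ht, r, hr, rfl⟩ := hh
  refine ⟨t, ht, ?_⟩
  rw [← map_conj_sup_normal, ← map_conj_map_conj]
  congr 1
  rw [map_conj_eq_self_iff]
  exact hK.hnorm E hE (le_sup_left (b := Cfsg.pCore p H) hr)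

/-- **Part 1**: if every member of `𝒦` is `p`-minimal, so is `H`. -/
theorem KFam.isMinimalOver (hK : KFam p 𝒦)
    (h1 : ∀ E ∈ 𝒦, ∀ T : Sylow p ↥E, Cfsg.IsMinimalOver (T : Subgroup ↥E)) (T : Sylow p H) :
    Cfsg.IsMinimalOver (T : Subgroup H) := by
  have hPn := pCore_normal p H
  have hRn := hK.sSup_normal
  have hRPn := hK.sup_normal
  set P := Cfsg.pCore p H with hP
  set R := sSup 𝒦 with hR
  have hPp : IsPGroup p P := pCore_isPGroup p H
  have hPT : P ≤ (T : Subgroup H) := pCore_le_sylow T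
  have hRT : R ⊔ (T : Subgroup H) = ⊤ := hK.sup_sylow T
  -- data for each member
  have hdata : ∀ E ∈ 𝒦, (∃ A, IsUniqueMaxOver ((T : Subgroup H) ⊓ E) A E) ∧
      ∀ N : Subgroup H, E ≤ Subgroup.normalizer (N : Set H) → (T : Subgroup H) ⊓ E ≤ N → E ≤ N := by
    intro E hE
    obtain ⟨Q, hQ⟩ := exists_sylow_map_eq_inf T E P hPp (hK.isSubnormal hE)
    have := isUniqueMaxOver_of_isMinimalOver E (Q : Subgroup ↥E) (h1 E hE Q)
    rwa [hQ] at this
  -- the family of unique maximal overgroups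
  set 𝒮 : Set (Subgroup H) :=
    {A | ∃ E ∈ 𝒦, IsUniqueMaxOver ((T : Subgroup H) ⊓ (E ⊔ P)) A (E ⊔ P)} with h𝒮
  have hSinv : ∀ t ∈ (T : Subgroup H), ∀ A ∈ 𝒮, A.map (MulAut.conj t).toMonoidHom ∈ 𝒮 := by
    rintro t ht A ⟨E, hE, hA⟩
    refine ⟨E.map (MulAut.conj t).toMonoidHom, hK.hinv t E hE, ?_⟩
    have := hA.map_conj t
    rwa [Subgroup.map_inf _ _ _ (MulAut.conj t).injective, map_conj_eq_of_mem _ ht,
      map_conj_sup_normal] at this
  set Nst : Subgroup H := (R ⊔ P) ⊓ ⨅ A ∈ 𝒮, Subgroup.normalizer (A : Set H) with hNst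
  have hmemN : ∀ x, x ∈ Nst ↔ x ∈ R ⊔ P ∧ ∀ A ∈ 𝒮, x ∈ Subgroup.normalizer (A : Set H) := by
    intro x
    rw [hNst, Subgroup.mem_inf]
    simp only [Subgroup.mem_iInf]
  have hTN : ∀ t ∈ (T : Subgroup H), ∀ n ∈ Nst, t * n * t⁻¹ ∈ Nst := by
    intro t ht n hn
    rw [hmemN] at hn ⊢
    refine ⟨hRPn.conj_mem n hn.1 t, ?_⟩
    intro A hA
    have h2 := hn.2 _ (hSinv t⁻¹ (Subgroup.inv_mem _ ht) A hA)
    have h3 : A = (A.map (MulAut.conj t⁻¹).toMonoidHom).map (MulAut.conj t).toMonoidHom := by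
      rw [map_conj_map_conj, mul_inv_cancel, map_conj_one]
    rw [h3, mem_normalizer_map_conj_iff]
    have : t⁻¹ * (t * n * t⁻¹) * t = n := by group
    rw [this]
    exact h2
  set Xs := Nst ⊔ (T : Subgroup H) with hXs
  -- Claim 1
  have claim1 : ∀ X : Subgroup H, (T : Subgroup H) ≤ X → X ≠ ⊤ → X ≤ Xs := by
    intro X hTX hXtop
    have hnoF : ∀ E ∈ 𝒦, ¬ E ⊔ P ≤ X := by
      intro E hE hle
      apply hXtop
      rw [eq_top_iff, ← hRT]
      apply sup_le _ hTX
      apply sSup_le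
      intro K hK'
      obtain ⟨t, ht, heq⟩ := hK.exists_conj T hE hK'
      have h2 : (E ⊔ P).map (MulAut.conj t).toMonoidHom ≤ X := by
        have := map_conj_mono hle t
        rwa [map_conj_eq_of_mem X (hTX ht)] at this
      rw [← heq] at h2
      exact le_sup_left.trans h2
    intro x hx
    have hxtop : x ∈ R ⊔ (T : Subgroup H) := by rw [hRT]; exact Subgroup.mem_top x
    rw [Subgroup.mem_sup_of_normal_left] at hxtop
    obtain ⟨r, hr, t, ht, rfl⟩ := hxtop
    have hrX : r ∈ X := by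
      have : r = r * t * t⁻¹ := by group
      rw [this]
      exact X.mul_mem hx (X.inv_mem (hTX ht))
    refine Xs.mul_mem (le_sup_left (b := (T : Subgroup H)) ?_) (le_sup_right (a := Nst) ht)
    rw [hmemN]
    refine ⟨le_sup_left (b := P) hr, ?_⟩
    rintro A ⟨E, hE, hA⟩
    set F := E ⊔ P with hF
    have hrF : r ∈ Subgroup.normalizer (F : Set H) := hK.hnorm E hE (le_sup_left (b := P) hr)
    have hXF : X ⊓ F < F := by
      apply lt_of_le_of_ne inf_le_right
      intro heq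
      exact hnoF E hE (by rw [← hF, ← heq]; exact inf_le_left)
    have hXFA : X ⊓ F ≤ A := hA.2.2 _ (inf_le_inf_right F hTX) hXF
    have h2 : ((T : Subgroup H) ⊓ F).map (MulAut.conj r).toMonoidHom ≤ A := by
      refine le_trans ?_ hXFA
      apply le_inf
      · have := map_conj_mono (inf_le_left.trans hTX : (T : Subgroup H) ⊓ F ≤ X) r
        rwa [map_conj_eq_of_mem X hrX] at this
      · have := map_conj_mono (inf_le_right : (T : Subgroup H) ⊓ F ≤ F) r
        rwa [(map_conj_eq_self_iff F r).mpr hrF] at this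
    have h3 : (T : Subgroup H) ⊓ F ≤ A.map (MulAut.conj r⁻¹).toMonoidHom :=
      (map_conj_le_iff _ _ _).mp h2
    have h4 : A.map (MulAut.conj r⁻¹).toMonoidHom < F := by
      have := (Subgroup.map_lt_map_iff_of_injective (f := (MulAut.conj r⁻¹).toMonoidHom)
        (MulAut.conj r⁻¹).injective).mpr hA.2.1
      rwa [(map_conj_eq_self_iff F r⁻¹).mpr (Subgroup.inv_mem _ hrF)] at this
    have h5 := hA.2.2 _ h3 h4
    have h6 := map_conj_eq_of_le A r⁻¹ h5
    rw [map_conj_eq_self_iff] at h6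
    have := Subgroup.inv_mem _ h6
    rwa [inv_inv] at this
  -- Claim 2
  have claim2 : Xs ≠ ⊤ := by
    intro htop
    obtain ⟨E, hE⟩ := hK.hne
    obtain ⟨⟨A₀, hA₀⟩, hNC⟩ := hdata E hE
    have hA := hA₀.sup_normal P hPT
    set F := E ⊔ P with hF
    set A := A₀ ⊔ P with hAdef
    have hAS : A ∈ 𝒮 := ⟨E, hE, hA⟩
    have hFA : F ≤ Subgroup.normalizer (A : Set H) := by
      intro f hf
      have hfX : f ∈ Nst ⊔ (T : Subgroup H) := by rw [← hXs, htop]; exact Subgroup.mem_top f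
      obtain ⟨n, hn, t, ht, rfl⟩ := Cfsg.Agent.Lib.Helper3.mem_sup_of_normalizes Nst
        (T : Subgroup H) hTN hfX
      have hn' := (hmemN n).mp hn
      have htRP : t ∈ R ⊔ P := by
        have : t = n⁻¹ * (n * t) := by group
        rw [this]
        exact Subgroup.mul_mem _ (Subgroup.inv_mem _ hn'.1) (hK.le_sup hE hf)
      have htF : t ∈ Subgroup.normalizer (F : Set H) := hK.hnorm E hE htRP
      have htA : t ∈ Subgroup.normalizer (A : Set H) := by
        rw [← map_conj_eq_self_iff]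
        have h2 := hA.map_conj t
        rw [Subgroup.map_inf _ _ _ (MulAut.conj t).injective, map_conj_eq_of_mem _ ht,
          (map_conj_eq_self_iff F t).mpr htF] at h2
        exact h2.eq hA
      exact Subgroup.mul_mem _ (hn'.2 A hAS) htA
    have hEA : E ≤ A := by
      apply hNC A (le_sup_left.trans hFA)
      exact le_trans (inf_le_inf_left _ le_sup_left) hA.1
    have hFA' : F ≤ A := sup_le hEA le_sup_right
    exact absurd hA.2.1 (not_lt_of_ge hFA')
  constructor
  · -- normal closure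
    rw [eq_top_iff, ← hRT]
    apply sup_le _ Subgroup.le_normalClosure
    apply sSup_le
    intro E hE
    apply (hdata E hE).2
    · rw [Subgroup.normalizer_eq_top]; exact le_top
    · exact inf_le_left.trans Subgroup.le_normalClosure
  · obtain ⟨M, hM, hXM⟩ := (eq_top_or_exists_le_coatom Xs).resolve_left claim2
    refine ⟨M, ⟨hM, le_sup_right.trans hXM⟩, ?_⟩
    rintro M' ⟨hM', hTM'⟩
    have h2 : M' ≤ M := (claim1 M' hTM' hM'.1).trans hXM
    exact ((hM'.le_iff_eq hM.1).mp h2).symm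

/-- Strong `p`-irreducibility of `E` passes to `E ⊔ O_p(H)` (ambient form). -/
theorem KFam.opUp_sup_le (hK : KFam p 𝒦) {E : Subgroup H} (hE : E ∈ 𝒦)
    (hirr : Cfsg.IsStronglyPIrreducible p ↥E) (N : Subgroup H) (hPN : Cfsg.pCore p H ≤ N)
    (hNF : N ≤ E ⊔ Cfsg.pCore p H)
    (hFN : E ⊔ Cfsg.pCore p H ≤ Subgroup.normalizer (N : Set H))
    (hc : ¬ ⁅N, E ⊔ Cfsg.pCore p H⁆ ≤ Cfsg.pCore p H) : opUp p (E ⊔ Cfsg.pCore p H) ≤ N := by
  have hPn := pCore_normal p H
  set P := Cfsg.pCore p H with hP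
  have hPp : IsPGroup p P := pCore_isPGroup p H
  set N₀ := N ⊓ E with hN₀
  have hEN₀ : E ≤ Subgroup.normalizer (N₀ : Set H) := by
    refine le_trans ?_ (inf_normalizer_le_normalizer_inf _ _)
    exact le_inf (le_sup_left.trans hFN) Subgroup.le_normalizer
  have hNsup : N ≤ N₀ ⊔ P := by
    intro n hn
    have hnF := hNF hn
    rw [Subgroup.mem_sup_of_normal_right] at hnF
    obtain ⟨e, he, q, hq, rfl⟩ := hnF
    have heN : e ∈ N := by
      have : e = e * q * q⁻¹ := by group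
      rw [this]
      exact N.mul_mem hn (N.inv_mem (hPN hq))
    exact (N₀ ⊔ P).mul_mem (le_sup_left (b := P) ⟨heN, he⟩) (le_sup_right (a := N₀) hq)
  have h1 : ¬ ⁅N₀, E⁆ ≤ opDown p E := by
    intro h
    apply hc
    have h2 : ∀ a ∈ N₀, ∀ c ∈ E, ⁅a, c⁆ ∈ P := fun a ha c hc' =>
      hK.opDown_le_pCore hE (h (Subgroup.commutator_mem_commutator ha hc'))
    have h3 := commutator_mem_of_mem_sup P N₀ P E P h2 le_rfl le_rfl
    rw [Subgroup.commutator_le]
    intro n hn f hf
    exact h3 n (hNsup hn) f hf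
  have h2 : opUp p E ≤ N :=
    (opUp_le_of_isStronglyPIrreducible E hirr N₀ inf_le_right hEN₀ h1).trans inf_le_left
  obtain ⟨Q⟩ : Nonempty (Sylow p ↥E) := inferInstance
  set Q' := (Q : Subgroup ↥E).map E.subtype with hQ'
  set D := Q' ⊔ P with hD
  have hDp : IsPGroup p D := IsPGroup.to_sup_of_normal_right (Q.2.map _) hPp
  have hDF : D ≤ E ⊔ P := sup_le_sup_right (Subgroup.map_subtype_le _) P
  have hle : E ⊔ P ≤ N ⊔ D := by
    apply sup_le
    · intro e he
      obtain ⟨c, hc', y, hy, rfl⟩ := exists_opUp_mul_sylow p E Q he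
      exact (N ⊔ D).mul_mem (le_sup_left (b := D) (h2 hc'))
        (le_sup_right (a := N) (le_sup_left (b := P) hy))
    · exact le_sup_right.trans le_sup_right
  exact (opUp_mono p hle).trans (opUp_sup_le_of_isPGroup p N D hDp (hDF.trans hFN))

/-- `p`-elements of `E ⊔ O_p(H)` that are central modulo `O_p(H)` lie in `O_p(H)`. -/
theorem KFam.mem_pCore_of_central (hK : KFam p 𝒦) {E : Subgroup H} (hE : E ∈ 𝒦) (z : H)
    (hz : z ∈ E ⊔ Cfsg.pCore p H) (k : ℕ) (hzk : z ^ (p ^ k) ∈ Cfsg.pCore p H)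
    (hc : ∀ w ∈ E ⊔ Cfsg.pCore p H, ⁅w, z⁆ ∈ Cfsg.pCore p H) : z ∈ Cfsg.pCore p H := by
  have hPn := pCore_normal p H
  apply hK.opDown_sup_le hE
  apply mem_opDown_of_central_mod (E ⊔ Cfsg.pCore p H) (Cfsg.pCore p H) le_sup_right _
    (pCore_isPGroup p H) z hz k hzk hc
  rw [Subgroup.normalizer_eq_top]; exact le_top

/-- **Part 2, second clause**. -/
theorem KFam.opUp_eq_or_commutator_le (hK : KFam p 𝒦)
    (h2 : ∀ E ∈ 𝒦, Cfsg.IsStronglyPIrreducible p ↥E) {E K : Subgroup H} (hE : E ∈ 𝒦)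
    (hK' : K ∈ 𝒦) :
    opUp p (E ⊔ Cfsg.pCore p H) = opUp p (K ⊔ Cfsg.pCore p H) ∨ ⁅E, K⁆ ≤ Cfsg.pCore p H := by
  have hPn := pCore_normal p H
  set P := Cfsg.pCore p H with hP
  set FE := E ⊔ P with hFE
  set FK := K ⊔ P with hFK
  set I := FE ⊓ FK with hI
  have hPI : P ≤ I := le_inf le_sup_right le_sup_right
  have hRPE := hK.hnorm E hE
  have hRPK := hK.hnorm K hK'
  have hFEI : FE ≤ Subgroup.normalizer (I : Set H) := by
    refine le_trans ?_ (inf_normalizer_le_normalizer_inf _ _)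
    exact le_inf ((hK.le_sup hE).trans hRPE) ((hK.le_sup hE).trans hRPK)
  by_cases c1 : ⁅I, FE⁆ ≤ P
  · right
    rw [Subgroup.commutator_le]
    intro e he k hk
    have hkRP : k ∈ sSup 𝒦 ⊔ P := le_sup_left (b := P) (le_sSup hK' hk)
    apply commutator_mem_of_pElements (p := p) P E I k
      (le_closure_pElements_of_isStronglyPIrreducible E (h2 E hE)) _ _ _ e he
    · intro e' he'
      have he'RP : e' ∈ sSup 𝒦 ⊔ P := le_sup_left (b := P) (le_sSup hE he')
      exact ⟨commutator_mem_of_mem_normalizer_right FE (le_sup_left (b := P) he') (hRPE hkRP),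
        commutator_mem_of_mem_normalizer_left FK (le_sup_left (b := P) hk) (hRPK he'RP)⟩
    · intro z hz e' he'
      exact c1 (Subgroup.commutator_mem_commutator hz (le_sup_left (b := P) he'))
    · intro z hz j hzj
      apply hK.mem_pCore_of_central hE z hz.1 j hzj
      intro w hw
      rw [← commutatorElement_inv, Subgroup.inv_mem_iff]
      exact c1 (Subgroup.commutator_mem_commutator hz hw)
  · left
    have h3 : opUp p FE ≤ I := hK.opUp_sup_le hE (h2 E hE) I hPI inf_le_left hFEI c1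
    have h4 : opUp p FE ≤ opUp p FK := by
      rw [← opUp_opUp p FE]
      exact opUp_mono p (h3.trans inf_le_right)
    obtain ⟨T⟩ : Nonempty (Sylow p H) := inferInstance
    obtain ⟨t, ht, heq⟩ := hK.exists_conj T hE hK'
    apply Subgroup.eq_of_le_of_card_ge h4
    rw [hFK, heq, opUp_map_conj, Subgroup.card_map_of_injective (MulAut.conj t).injective]

/-- **Part 2, first clause**: `H` is `p`-irreducible. -/
theorem KFam.isPIrreducible (hK : KFam p 𝒦)
    (h2 : ∀ E ∈ 𝒦, Cfsg.IsStronglyPIrreducible p ↥E) : Cfsg.IsPIrreducible p H := by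
  have hPn := pCore_normal p H
  have hRn := hK.sSup_normal
  have hRPn := hK.sup_normal
  set P := Cfsg.pCore p H with hP
  set R := sSup 𝒦 with hR
  have hPp : IsPGroup p P := pCore_isPGroup p H
  have hgen := fun E hE => le_closure_pElements_of_isStronglyPIrreducible E (h2 E hE)
  constructor
  · intro hcl
    obtain ⟨E, hE⟩ := hK.hne
    exact (h2 E hE).1 (isPClosed_subgroup hcl E)
  · intro N hN hncl
    apply pResidual_le_of_le_sup N P hPp
    by_contra hcon
    set N₁ := P ⊔ N with hN₁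
    have hN₁n : N₁.Normal := inferInstance
    -- Claim A
    have hA : ∀ E ∈ 𝒦, ¬ opUp p (E ⊔ P) ≤ N₁ := by
      intro E hE hle
      apply hcon
      set 𝒳 : Set (Subgroup H) := {F | ∃ K ∈ 𝒦, F = K ⊔ P} with h𝒳
      have h3 : ∀ X ∈ 𝒳, opUp p X ≤ N₁ := by
        rintro X ⟨K, hK', rfl⟩
        obtain ⟨T⟩ : Nonempty (Sylow p H) := inferInstance
        obtain ⟨t, ht, heq⟩ := hK.exists_conj T hE hK'
        rw [heq, opUp_map_conj, ← map_conj_of_normal N₁ t]
        exact map_conj_mono hle t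
      have h4 : ∀ X ∈ 𝒳, X.IsSubnormal := by
        rintro X ⟨K, hK', rfl⟩
        exact hK.isSubnormal hK'
      have h5 := opUp_sSup_le_of_isSubnormal N₁ 𝒳 h4 h3
      have h6 : R ≤ sSup 𝒳 := by
        apply sSup_le
        intro K hK'
        exact le_sup_left.trans (le_sSup (⟨K, hK', rfl⟩ : K ⊔ P ∈ 𝒳))
      unfold Cfsg.pResidual
      rw [Subgroup.closure_le]
      intro g hg
      apply h5
      exact mem_opUp_of_coprime p (h6 (hK.hres (mem_pResidual_of_coprime p hg))) hg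
    -- Claim B
    have hB : ∀ E ∈ 𝒦, ⁅N₁ ⊓ (E ⊔ P), E ⊔ P⁆ ≤ P := by
      intro E hE
      by_contra hc
      apply hA E hE
      refine le_trans (hK.opUp_sup_le hE (h2 E hE) (N₁ ⊓ (E ⊔ P)) (le_inf le_sup_left le_sup_right)
        inf_le_right ?_ hc) inf_le_left
      refine le_trans ?_ (inf_normalizer_le_normalizer_inf _ _)
      apply le_inf _ Subgroup.le_normalizer
      rw [Subgroup.normalizer_eq_top]; exact le_top
    have hz3 : ∀ E ∈ 𝒦, ∀ z ∈ N₁ ⊓ (E ⊔ P), ∀ k : ℕ, z ^ (p ^ k) ∈ P → z ∈ P := by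
      intro E hE z hz k hzk
      apply hK.mem_pCore_of_central hE z hz.2 k hzk
      intro w hw
      rw [← commutatorElement_inv, Subgroup.inv_mem_iff]
      exact hB E hE (Subgroup.commutator_mem_commutator hz hw)
    -- Step i
    have step1 : ∀ x ∈ N₁ ⊓ (R ⊔ P), ∀ E ∈ 𝒦, ∀ e ∈ E, ⁅e, x⁆ ∈ P := by
      intro x hx E hE
      apply commutator_mem_of_pElements (p := p) P E (N₁ ⊓ (E ⊔ P)) x (hgen E hE)
      · intro e he
        refine ⟨commutator_mem_of_mem_normalizer_left N₁ hx.1 ?_,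
          commutator_mem_of_mem_normalizer_right (E ⊔ P) (le_sup_left (b := P) he)
            (hK.hnorm E hE hx.2)⟩
        rw [Subgroup.normalizer_eq_top]; exact Subgroup.mem_top e
      · intro z hz e he
        exact hB E hE (Subgroup.commutator_mem_commutator hz (le_sup_left (b := P) he))
      · exact hz3 E hE
    have step1' : ∀ x ∈ N₁ ⊓ (R ⊔ P), ∀ w ∈ R ⊔ P, ⁅w, x⁆ ∈ P := by
      intro x hx
      have : R ⊔ P ≤ centMod P x := by
        apply sup_le
        · apply sSup_le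
          intro E hE e he
          exact (mem_centMod P x e).mpr (step1 x hx E hE e he)
        · intro q hq
          exact (mem_centMod P x q).mpr (commutator_mem_of_mem_normal_left P hq x)
      intro w hw
      exact (mem_centMod P x w).mp (this hw)
    -- Step ii
    have step2 : ∀ x ∈ N₁, ∀ E ∈ 𝒦, ∀ e ∈ E, ⁅e, x⁆ ∈ P := by
      intro x hx E hE
      apply commutator_mem_of_pElements (p := p) P E (N₁ ⊓ (R ⊔ P)) x (hgen E hE)
      · intro e he
        have heRP : e ∈ R ⊔ P := le_sup_left (b := P) (le_sSup hE he)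
        refine ⟨commutator_mem_of_mem_normalizer_left N₁ hx ?_,
          commutator_mem_of_mem_normalizer_right (R ⊔ P) heRP ?_⟩
        · rw [Subgroup.normalizer_eq_top]; exact Subgroup.mem_top e
        · rw [Subgroup.normalizer_eq_top]; exact Subgroup.mem_top x
      · intro z hz e he
        rw [← commutatorElement_inv, Subgroup.inv_mem_iff]
        exact step1 z hz E hE e he
      · intro z hz k hzk
        apply opDown_le_pCore_of_isSubnormal p hRPn.isSubnormal
        apply mem_opDown_of_central_mod (R ⊔ P) P le_sup_right _ hPp z hz.2 k hzk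
          (step1' z hz)
        rw [Subgroup.normalizer_eq_top]; exact le_top
    have step2' : ∀ x ∈ N₁, ∀ r ∈ R, ⁅r, x⁆ ∈ P := by
      intro x hx
      have : R ≤ centMod P x := by
        apply sSup_le
        intro E hE e he
        exact (mem_centMod P x e).mpr (step2 x hx E hE e he)
      intro r hr
      exact (mem_centMod P x r).mp (this hr)
    -- Step iii
    have hcl : Cfsg.IsPClosed p ↥N₁ := by
      have hKn : ((N₁ ⊓ R).subgroupOf N₁).Normal := by
        have : (N₁ ⊓ R).Normal := inferInstance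
        infer_instance
      have hDn : (P.subgroupOf N₁).Normal := inferInstance
      apply isPClosed_of_central_mod ((N₁ ⊓ R).subgroupOf N₁) (P.subgroupOf N₁) hPp.comap_subtype
      · intro g
        obtain ⟨k, hk⟩ := exists_pow_mem_pResidual p (g : H)
        refine ⟨k, ?_⟩
        rw [Subgroup.mem_subgroupOf]
        simp only [SubgroupClass.coe_pow]
        exact ⟨N₁.pow_mem g.2 _, hK.hres hk⟩
      · intro k hk w
        rw [Subgroup.mem_subgroupOf] at hk ⊢
        have : ((⁅k, w⁆ : ↥N₁) : H) = ⁅(k : H), (w : H)⁆ := by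
          simp [commutatorElement_def]
        rw [this]
        exact step2' (w : H) w.2 (k : H) hk.2
    exact hncl (isPClosed_of_le N₁ N le_sup_right hcl)

end

end Cfsg.Agent.Lib.Helper16
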