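import Cfsg.Agent.Lib.Helper16.PReducedAmbient
import Cfsg.Agent.Lib.Helper16.Subnormal

set_option autoImplicit false
open Cfsg
open scoped commutatorElement Pointwise

namespace Cfsg.Agent.Lib.Helper16

/-- The elements of order dividing `p` in the centre of a subgroup `Q`, as a subgroup. -/
def omegaCenterSub {L : Type*} [Group L] (p : ℕ) (Q : Subgroup L) : Subgroup L where
  carrier := {w | w ∈ Q ∧ w ∈ Subgroup.centralizer (Q : Set L) ∧ w ^ p = 1}
  mul_mem' := by
    rintro a b ⟨ha, hac, hap⟩ ⟨hb, hbc, hbp⟩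
    refine ⟨Q.mul_mem ha hb, Subgroup.mul_mem _ hac hbc, ?_⟩
    have hc : Commute a b := ((Subgroup.mem_centralizer_iff.mp hbc) a ha)
    rw [hc.mul_pow, hap, hbp, one_mul]
  one_mem' := ⟨Q.one_mem, Subgroup.one_mem _, one_pow p⟩
  inv_mem' := by
    rintro a ⟨ha, hac, hap⟩
    exact ⟨Q.inv_mem ha, Subgroup.inv_mem _ hac, by rw [inv_pow, hap, inv_one]⟩

theorem mem_omegaCenterSub {L : Type*} [Group L] (p : ℕ) (Q : Subgroup L) (w : L) :
    w ∈ omegaCenterSub p Q ↔ w ∈ Q ∧ w ∈ Subgroup.centralizer (Q : Set L) ∧ w ^ p = 1 := Iff.rfl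

/-- `Ω₁(Z(Q))` in the sense of `Cfsg.omegaOne` is the subgroup `omegaCenterSub p Q`. -/
theorem omegaOne_center_eq {L : Type*} [Group L] (p : ℕ) (Q : Subgroup L) :
    Cfsg.omegaOne p (Q ⊓ Subgroup.centralizer (Q : Set L)) = omegaCenterSub p Q := by
  unfold Cfsg.omegaOne
  apply le_antisymm
  · rw [Subgroup.closure_le]
    rintro w ⟨⟨h1, h2⟩, h3⟩
    exact ⟨h1, h2, h3⟩
  · rintro w ⟨h1, h2, h3⟩
    exact Subgroup.subset_closure ⟨⟨h1, h2⟩, h3⟩

theorem omegaCenterSub_le {L : Type*} [Group L] (p : ℕ) (Q : Subgroup L) :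
    omegaCenterSub p Q ≤ Q := fun _ hw => hw.1

theorem omegaCenterSub_isElementaryAbelian {L : Type*} [Group L] (p : ℕ) (Q : Subgroup L) :
    Cfsg.IsElementaryAbelian p (omegaCenterSub p Q) := by
  refine ⟨?_, fun a ha => ha.2.2⟩
  apply isMulCommutative_of_le_centralizer
  intro a ha
  rw [Subgroup.mem_centralizer_iff]
  intro b hb
  exact (Subgroup.mem_centralizer_iff.mp ha.2.1) b hb.1

/-- Conjugation by an element normalizing `Q` preserves `Ω₁(Z(Q))`. -/
theorem normalizer_le_normalizer_omegaCenterSub {L : Type*} [Group L] (p : ℕ) (Q : Subgroup L) :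
    Subgroup.normalizer (Q : Set L) ≤
      Subgroup.normalizer ((omegaCenterSub p Q : Subgroup L) : Set L) := by
  have key : ∀ x ∈ Subgroup.normalizer (Q : Set L), ∀ w ∈ omegaCenterSub p Q,
      x * w * x⁻¹ ∈ omegaCenterSub p Q := by
    rintro x hx w ⟨h1, h2, h3⟩
    refine ⟨(Subgroup.mem_normalizer_iff.mp hx w).mp h1, ?_, by rw [conj_pow, h3]; group⟩
    rw [Subgroup.mem_centralizer_iff]
    intro q hq
    have hq' : x⁻¹ * q * x ∈ Q := by
      have := (Subgroup.mem_normalizer_iff.mp (Subgroup.inv_mem _ hx) q).mp hq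
      simpa using this
    have := (Subgroup.mem_centralizer_iff.mp h2) _ hq'
    calc q * (x * w * x⁻¹) = x * ((x⁻¹ * q * x) * w) * x⁻¹ := by group
      _ = x * (w * (x⁻¹ * q * x)) * x⁻¹ := by rw [this]
      _ = x * w * x⁻¹ * q := by group
  intro x hx
  apply mem_normalizer_of_conj_mem
  · exact key x hx
  · intro g hg
    have := key x⁻¹ (Subgroup.inv_mem _ hx) g hg
    simpa using this

/-- Structure of a group `L` of characteristic `p` relative to its largest `p`-reduced normal
subgroup `Y`: with `T_L = C_T(Y)` and `L_T = N_L(T_L)` we have `L = L_T C_L(Y)`,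
`O_p(L_T) = T_L` and `Y = Ω₁(Z(T_L))`. -/
theorem largest_pReduced_structure {L : Type*} [Group L] [Finite L] {p : ℕ} [Fact p.Prime]
    (hchar : Subgroup.centralizer (Cfsg.pCore p L : Set L) ≤ Cfsg.pCore p L) (T : Sylow p L)
    (Y : Subgroup L)
    (hY : (Cfsg.IsPReducedNormal p Y ∧ ∀ V : Subgroup L, Cfsg.IsPReducedNormal p V → V ≤ Y))
    (TL : Subgroup L) (hTL : TL = (T : Subgroup L) ⊓ Subgroup.centralizer (Y : Set L)) :
    Subgroup.normalizer (TL : Set L) ⊔ Subgroup.centralizer (Y : Set L) = ⊤ ∧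
    opDown p (Subgroup.normalizer (TL : Set L)) = TL ∧
    Y = omegaCenterSub p TL := by
  obtain ⟨hYn, hYE, hYN⟩ := (isPReducedNormal_iff p Y).mp hY.1
  set C := Subgroup.centralizer (Y : Set L) with hC
  have hCn : C.Normal := by rw [hC]; infer_instance
  set R := Subgroup.normalizer (TL : Set L) with hR
  have hTLp : IsPGroup p TL := by rw [hTL]; exact T.2.to_le inf_le_left
  -- (a) Frattini
  have hfrat : R ⊔ C = ⊤ := by
    obtain ⟨P, hP⟩ := exists_sylow_subgroupOf_normal T C
    have := Sylow.normalizer_sup_eq_top P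
    have hmap : (P : Subgroup ↥C).map C.subtype = TL := by
      rw [hP, Subgroup.subgroupOf_map_subtype, hTL]
    rw [hmap] at this
    exact this
  -- T ≤ R
  have hTR : (T : Subgroup L) ≤ R := by
    intro t ht
    have key : ∀ t ∈ (T : Subgroup L), ∀ g ∈ TL, t * g * t⁻¹ ∈ TL := by
      intro t ht g hg
      rw [hTL] at hg ⊢
      exact ⟨Subgroup.mul_mem _ (Subgroup.mul_mem _ ht hg.1) (Subgroup.inv_mem _ ht),
        hCn.conj_mem g hg.2 t⟩
    apply mem_normalizer_of_conj_mem
    · exact key t ht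
    · intro g hg
      have := key t⁻¹ (Subgroup.inv_mem _ ht) g hg
      simpa using this
  have hTLR : TL ≤ R := Subgroup.le_normalizer
  have hYT : Y ≤ (T : Subgroup L) := (isPReducedNormal_le_pCore hY.1).trans (pCore_le_sylow T)
  have hYTL : Y ≤ TL := by
    rw [hTL]
    exact le_inf hYT (le_centralizer_of_isMulCommutative hYE.1)
  have hTLC : TL ≤ C := by rw [hTL]; exact inf_le_right
  -- Y ≤ Ω₁Z(TL)
  have hYW : Y ≤ omegaCenterSub p TL := by
    intro y hy
    refine ⟨hYTL hy, ?_, hYE.2 y hy⟩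
    rw [Subgroup.mem_centralizer_iff]
    intro t ht
    exact ((Subgroup.mem_centralizer_iff.mp (hTLC ht)) y hy).symm
  -- a normal subgroup N ⊔ C with N a p-group mod C lies in C
  have hred : ∀ N : Subgroup L, R ≤ Subgroup.normalizer (N : Set L) →
      (∀ x ∈ N, ∃ k : ℕ, x ^ (p ^ k) ∈ C) → N ≤ C := by
    intro N hRN hp
    have hnorm : (N ⊔ C).Normal := by
      have h1 : R ⊔ C ≤ Subgroup.normalizer ((N ⊔ C : Subgroup L) : Set L) := by
        apply sup_le
        · intro r hr
          have key : ∀ r ∈ Subgroup.normalizer (N : Set L), ∀ g ∈ N ⊔ C, r * g * r⁻¹ ∈ N ⊔ C := by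
            intro r hr g hg
            have hmap : (N ⊔ C).map (MulAut.conj r).toMonoidHom ≤ N ⊔ C := by
              rw [Subgroup.map_sup]
              apply sup_le
              · rintro _ ⟨n, hn, rfl⟩
                exact le_sup_left (a := N) ((Subgroup.mem_normalizer_iff.mp hr n).mp hn)
              · rintro _ ⟨c, hc, rfl⟩
                exact le_sup_right (a := N) (hCn.conj_mem c hc r)
            apply hmap
            exact ⟨g, hg, by simp [MulAut.conj_apply]⟩
          apply mem_normalizer_of_conj_mem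
          · exact key r (hRN hr)
          · intro g hg
            have := key r⁻¹ (Subgroup.inv_mem _ (hRN hr)) g hg
            simpa using this
        · exact le_sup_right.trans Subgroup.le_normalizer
      rw [hfrat, top_le_iff] at h1
      exact Subgroup.normalizer_eq_top_iff.mp h1
    have := hYN (N ⊔ C) hnorm le_sup_right ?_
    · exact le_sup_left.trans this
    · intro x hx
      rw [Subgroup.mem_sup_of_normal_right] at hx
      obtain ⟨n, hn, c, hc, rfl⟩ := hx
      obtain ⟨k, hk⟩ := hp n hn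
      refine ⟨k, ?_⟩
      rw [← QuotientGroup.eq_one_iff, QuotientGroup.mk_pow, QuotientGroup.mk_mul,
        (QuotientGroup.eq_one_iff c).mpr hc, mul_one, ← QuotientGroup.mk_pow,
        QuotientGroup.eq_one_iff]
      exact hk
  -- (b) O_p(R) = TL
  have hb : opDown p R = TL := by
    apply le_antisymm
    · have hQT : opDown p R ≤ (T : Subgroup L) := by
        rw [← map_pCore_eq_opDown]
        have h1 : (Cfsg.pCore p ↥R) ≤ ((T.subtype hTR : Sylow p ↥R) : Subgroup ↥R) :=
          pCore_le_sylow _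
        have h2 := Subgroup.map_mono (f := R.subtype) h1
        rwa [Sylow.coe_subtype, Subgroup.map_subgroupOf_eq_of_le hTR] at h2
      have hQC : opDown p R ≤ C := by
        apply hred _ (le_normalizer_opDown p R)
        intro x hx
        obtain ⟨k, hk⟩ := exists_pow_eq_one_of_mem (opDown_isPGroup p R) hx
        exact ⟨k, by rw [hk]; exact C.one_mem⟩
      rw [hTL]
      exact le_inf hQT hQC
    · exact le_opDown p hTLR le_rfl hTLp
  refine ⟨hfrat, hb, ?_⟩
  -- (c)
  apply le_antisymm hYW
  set W := omegaCenterSub p TL with hW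
  have hWR : W ≤ R := (omegaCenterSub_le p TL).trans hTLR
  have hRW : R ≤ Subgroup.normalizer (W : Set L) := normalizer_le_normalizer_omegaCenterSub p TL
  have hCW : Subgroup.centralizer (W : Set L) ≤ C := Subgroup.centralizer_le hYW
  have hWred : Cfsg.IsPReducedNormal p (W.subgroupOf R) := by
    rw [isPReducedNormal_subgroupOf_iff p R W hWR]
    refine ⟨hRW, omegaCenterSub_isElementaryAbelian p TL, ?_⟩
    intro N hNR hRN hCN hp
    have hNC : N ≤ C := by
      apply hred N hRN
      intro x hx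
      obtain ⟨k, hk⟩ := hp x hx
      exact ⟨k, hCW hk⟩
    -- N = (N ∩ T) C_R(W)
    have hCWn : ((Subgroup.centralizer (W : Set L)).subgroupOf R).Normal := by
      have h1 : (W.subgroupOf R).Normal :=
        (Subgroup.normal_subgroupOf_iff_le_normalizer hWR).mpr hRW
      rw [← centralizer_subgroupOf_eq R W hWR]
      infer_instance
    have hNn : (N.subgroupOf R).Normal :=
      (Subgroup.normal_subgroupOf_iff_le_normalizer hNR).mpr hRN
    have hdec := exists_sylow_mul_of_pgroup_quot (T.subtype hTR)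
      ((Subgroup.centralizer (W : Set L)).subgroupOf R) (N.subgroupOf R) hNn (by
        intro x hx
        obtain ⟨k, hk⟩ := hp (x : L) hx
        exact ⟨k, by simpa [Subgroup.mem_subgroupOf] using hk⟩)
    intro d hd
    obtain ⟨t, ht, c, hc, hdtc⟩ := hdec ⟨d, hNR hd⟩ hd
    have hd' : d = (t : L) * (c : L) := by
      have := congrArg Subtype.val hdtc
      simpa using this
    have htT : (t : L) ∈ (T : Subgroup L) := by
      have : t ∈ (T : Subgroup L).subgroupOf R := by
        rw [← Sylow.coe_subtype T hTR]; exact ht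
      exact this
    have hcC : (c : L) ∈ Subgroup.centralizer (W : Set L) := hc
    have hcN : (c : L) ∈ N := hCN ⟨c.2, hcC⟩
    have htN : (t : L) ∈ N := by
      have : (t : L) = d * (c : L)⁻¹ := by rw [hd']; group
      rw [this]
      exact N.mul_mem hd (N.inv_mem hcN)
    have htTL : (t : L) ∈ TL := by
      rw [hTL]; exact ⟨htT, hNC htN⟩
    have htW : (t : L) ∈ Subgroup.centralizer (W : Set L) := by
      rw [Subgroup.mem_centralizer_iff]
      intro w hw
      exact ((Subgroup.mem_centralizer_iff.mp hw.2.1) (t : L) htTL).symm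
    rw [hd']
    exact Subgroup.mul_mem _ htW hcC
  have hcl := isPReducedNormal_normalClosure hchar T R hTR (W.subgroupOf R) hWred
  have hle := hY.2 _ hcl
  intro w hw
  apply hle
  apply Subgroup.le_normalClosure
  rw [Subgroup.map_subgroupOf_eq_of_le hWR]
  exact hw

end Cfsg.Agent.Lib.Helper16
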