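import Cfsg.Agent.Lib.Helper16.SylowAveraging
import Cfsg.Agent.Lib.Helper16.PReducedStructure
import Cfsg.Agent.Lib.Helper16.LargestPReduced
import Cfsg.Agent.Lib.Helper16.FrakHExist

set_option autoImplicit false
open Cfsg
open scoped commutatorElement Pointwise

namespace Cfsg.Agent.Lib.Helper16

section
variable {G : Type*} [Group G] [Finite G] {p : ℕ} [Fact p.Prime]

/-- A `p`-subgroup `D` of `L` containing a subgroup `T₀` of index prime to `p` in `L` equals
`T₀`. -/
theorem le_of_isPGroup_of_not_dvd_relIndex (T₀ D L : Subgroup G) (hT₀D : T₀ ≤ D) (hDL : D ≤ L)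
    (hD : IsPGroup p D) (hidx : ¬ p ∣ T₀.relIndex L) : D ≤ T₀ := by
  have hp : p.Prime := Fact.out
  obtain ⟨k, hk⟩ := (hD : IsPGroup p ↥D).index (T₀.subgroupOf D)
  have h1 : T₀.relIndex D = p ^ k := hk
  have h2 : T₀.relIndex D ∣ T₀.relIndex L :=
    Dvd.intro _ (Subgroup.relIndex_mul_relIndex T₀ D L hT₀D hDL)
  rcases Nat.eq_zero_or_pos k with h0 | hpos
  · rw [h0, pow_zero] at h1
    exact Subgroup.relIndex_eq_one.mp h1
  · exfalso
    apply hidx
    refine dvd_trans ?_ h2
    rw [h1]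
    exact dvd_pow_self p hpos.ne'

/-- **Kieler's Lemma**, relative normal case. -/
theorem kieler_rel (K L T : Subgroup G) (hT : IsPGroup p T) (hTK : T ≤ K)
    (hidx : ¬ p ∣ T.relIndex K) (hLK : L ≤ K) (hKL : K ≤ Subgroup.normalizer (L : Set G))
    (hLchar : IsCharPSub p L) (hidxL : ¬ p ∣ (T ⊓ L).relIndex L) :
    L ⊓ Subgroup.centralizer ((omegaCenterSub p T : Subgroup G) : Set G) =
      L ⊓ Subgroup.centralizer ((omegaCenterSub p (T ⊓ L) : Subgroup G) : Set G) := by
  have hp : p.Prime := Fact.out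
  set T₀ := T ⊓ L with hT₀
  set Z := omegaCenterSub p T with hZ
  set Z₀ := omegaCenterSub p T₀ with hZ₀
  set QL := opDown p L with hQL
  set V := omegaCenterSub p QL with hVdef
  have hT₀p : IsPGroup p T₀ := hT.to_le inf_le_left
  have hQLp : IsPGroup p QL := opDown_isPGroup p L
  have hLQL : L ≤ Subgroup.normalizer (QL : Set G) := le_normalizer_opDown p L
  -- (s1)
  have hQLT₀ : QL ≤ T₀ := by
    have hDp : IsPGroup p ↥(T₀ ⊔ QL) :=
      IsPGroup.to_sup_of_normal_right' hT₀p hQLp (inf_le_right.trans hLQL)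
    have hDL : T₀ ⊔ QL ≤ L := sup_le inf_le_right (opDown_le p L)
    exact le_sup_right.trans
      (le_of_isPGroup_of_not_dvd_relIndex T₀ (T₀ ⊔ QL) L le_sup_left hDL hDp hidxL)
  have hV : Cfsg.IsElementaryAbelian p V := omegaCenterSub_isElementaryAbelian p QL
  have hVQL : V ≤ QL := omegaCenterSub_le p QL
  have hVT₀ : V ≤ T₀ := hVQL.trans hQLT₀
  have hKV : K ≤ Subgroup.normalizer (V : Set G) :=
    hKL.trans ((normalizer_le_normalizer_opDown p L).trans
      (normalizer_le_normalizer_omegaCenterSub p QL))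
  -- (s3)
  have hZ₀V : Z₀ ≤ V := by
    rintro y ⟨hy1, hy2, hy3⟩
    have hyc : y ∈ Subgroup.centralizer (QL : Set G) := Subgroup.centralizer_le hQLT₀ hy2
    have hyQ : y ∈ QL := hLchar ⟨hy1.2, hyc⟩
    exact ⟨hyQ, hyc, hy3⟩
  -- (s4)
  have hs4 : ∀ z ∈ Z, ∀ g ∈ L, ⁅g, z⁆ ∈ V := by
    rintro z ⟨hz1, hz2, hz3⟩ g hg
    have hzL : z ∈ Subgroup.normalizer (L : Set G) := hKL (hTK hz1)
    have hcL : ⁅g, z⁆ ∈ L := by
      rw [commutatorElement_def]
      have : g * z * g⁻¹ * z⁻¹ = g * (z * g⁻¹ * z⁻¹) := by group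
      rw [this]
      exact L.mul_mem hg ((Subgroup.mem_normalizer_iff.mp hzL _).mp (L.inv_mem hg))
    have hzQ : ∀ q ∈ QL, z * q = q * z := fun q hq =>
      (Subgroup.mem_centralizer_iff.mp hz2 q (hQLT₀ hq).1).symm
    have hcc : ⁅g, z⁆ ∈ Subgroup.centralizer (QL : Set G) := by
      rw [Subgroup.mem_centralizer_iff]
      intro q hq
      set q' := g⁻¹ * q * g with hq'
      have hq'Q : q' ∈ QL := by
        have := (Subgroup.mem_normalizer_iff.mp (Subgroup.inv_mem _ (hLQL hg)) q).mp hq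
        simpa [hq'] using this
      have e1 : z⁻¹ * q = q * z⁻¹ := by
        have := hzQ q hq
        calc z⁻¹ * q = z⁻¹ * (q * z) * z⁻¹ := by group
          _ = z⁻¹ * (z * q) * z⁻¹ := by rw [this]
          _ = q * z⁻¹ := by group
      have e2 : g⁻¹ * q = q' * g⁻¹ := by rw [hq']; group
      have e3 : z * q' = q' * z := hzQ q' hq'Q
      have e4 : g * q' = q * g := by rw [hq']; group
      symm
      calc ⁅g, z⁆ * q = g * z * g⁻¹ * (z⁻¹ * q) := by rw [commutatorElement_def]; group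
        _ = g * z * (g⁻¹ * q) * z⁻¹ := by rw [e1]; group
        _ = g * (z * q') * g⁻¹ * z⁻¹ := by rw [e2]; group
        _ = (g * q') * z * g⁻¹ * z⁻¹ := by rw [e3]; group
        _ = q * ⁅g, z⁆ := by rw [e4, commutatorElement_def]; group
    have hcQ : ⁅g, z⁆ ∈ QL := hLchar ⟨hcL, hcc⟩
    refine ⟨hcQ, hcc, ?_⟩
    have hcz : Commute ⁅g, z⁆ z :=
      (Subgroup.mem_centralizer_iff.mp hz2 _ (hQLT₀ hcQ).1)
    have h1 : g * z * g⁻¹ = ⁅g, z⁆ * z := by rw [commutatorElement_def]; group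
    have h2 : (g * z * g⁻¹) ^ p = 1 := by rw [conj_pow, hz3]; group
    rw [h1, hcz.mul_pow, hz3, mul_one] at h2
    exact h2
  have hTL : T ≤ Subgroup.normalizer (L : Set G) := hTK.trans hKL
  have hLT_K : L ⊔ T ≤ K := sup_le hLK hTK
  have hdvd : ∀ K' : Subgroup G, T ≤ K' → K' ≤ K → ¬ p ∣ T.relIndex K' := by
    intro K' h1 h2 h3
    exact hidx (dvd_trans h3 (Dvd.intro _ (Subgroup.relIndex_mul_relIndex T K' K h1 h2)))
  have hTZ : T ≤ Subgroup.centralizer ((Z : Subgroup G) : Set G) := by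
    intro t ht
    rw [Subgroup.mem_centralizer_iff]
    intro z hz
    exact (Subgroup.mem_centralizer_iff.mp hz.2.1 t ht).symm
  apply le_antisymm
  · -- `C_L(Z) ≤ C_L(Z₀)` by the trace argument
    set C := L ⊓ Subgroup.centralizer ((Z : Subgroup G) : Set G) with hC
    have hCK : C ≤ K := inf_le_left.trans hLK
    have hTC : T ≤ Subgroup.normalizer (C : Set G) := by
      refine le_trans ?_ (inf_normalizer_le_normalizer_inf _ _)
      apply le_inf hTL
      exact (Subgroup.le_normalizer.trans (normalizer_le_normalizer_omegaCenterSub p T)).trans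
        (normalizer_le_normalizer_centralizer Z)
    have hCT_K : C ⊔ T ≤ K := sup_le hCK hTK
    have hyp : ∀ v ∈ V, v ∈ Subgroup.centralizer (T : Set G) →
        v ∈ Subgroup.centralizer (C : Set G) := by
      intro v hv hvT
      have hvZ : v ∈ Z := ⟨(hVT₀ hv).1, hvT, hV.2 v hv⟩
      rw [Subgroup.mem_centralizer_iff]
      intro c hc
      exact (Subgroup.mem_centralizer_iff.mp hc.2 v hvZ).symm
    have key := centralizes_of_trace (C ⊔ T) C T V le_sup_right le_sup_left le_rfl hTC hT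
      (hdvd _ le_sup_right hCT_K) (hCT_K.trans hKV) hV (hVT₀.trans inf_le_left) hyp
    intro x hx
    refine Subgroup.mem_inf.mpr ⟨(Subgroup.mem_inf.mp hx).1, ?_⟩
    rw [Subgroup.mem_centralizer_iff]
    intro y hy
    have hyc : y ∈ Subgroup.centralizer ((T ⊓ C : Subgroup G) : Set G) :=
      Subgroup.centralizer_le (inf_le_inf_left T inf_le_left) hy.2.1
    have := key y (hZ₀V hy) hyc
    exact (Subgroup.mem_centralizer_iff.mp this x hx).symm
  · -- `C_L(Z₀) ≤ C_L(Z)` by cocycle averaging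
    intro x hx'
    have hx := Subgroup.mem_inf.mp hx'
    refine Subgroup.mem_inf.mpr ⟨hx.1, ?_⟩
    rw [Subgroup.mem_centralizer_iff]
    intro z hz
    have hzT : z ∈ Subgroup.centralizer (T : Set G) := hz.2.1
    have hzV : ∀ g ∈ L ⊔ T, ⁅g, z⁆ ∈ V := by
      intro g hg
      obtain ⟨l, hl, t, ht, rfl⟩ := Cfsg.Agent.Lib.Helper3.mem_sup_of_normalizes L T
        (fun t ht c hc => (Subgroup.mem_normalizer_iff.mp (hTL ht) c).mp hc) hg
      have h1 : t * z = z * t := Subgroup.mem_centralizer_iff.mp hzT t ht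
      have h2 : ⁅l * t, z⁆ = ⁅l, z⁆ := by
        rw [commutatorElement_def, commutatorElement_def]
        calc l * t * z * (l * t)⁻¹ * z⁻¹ = l * (t * z) * t⁻¹ * l⁻¹ * z⁻¹ := by group
          _ = l * z * l⁻¹ * z⁻¹ := by rw [h1]; group
      rw [h2]
      exact hs4 z hz l hl
    obtain ⟨u, huV, huT, hu⟩ := exists_commutator_eq_of_centralizes_sylow (L ⊔ T) T V le_sup_right
      (hdvd _ le_sup_right hLT_K) (hLT_K.trans hKV) hV z hzT hzV
    have huZ₀ : u ∈ Z₀ :=
      ⟨hVT₀ huV, Subgroup.centralizer_le inf_le_left huT, hV.2 u huV⟩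
    have h1 : ⁅x, u⁆ = 1 := by
      rw [commutatorElement_eq_one_iff_mul_comm]
      exact (Subgroup.mem_centralizer_iff.mp hx.2 u huZ₀).symm
    have h2 := hu x (le_sup_left (b := T) hx.1)
    rw [h1, commutatorElement_eq_one_iff_mul_comm] at h2
    exact h2.symm

/-- **Kieler's Lemma**: for a finite group `H` of characteristic `p`, `T` a Sylow `p`-subgroup
and `L` subnormal in `H`, `C_L(Ω₁Z(T)) = C_L(Ω₁Z(T ∩ L))`. -/
theorem kieler_subnormal (hH : Subgroup.centralizer (Cfsg.pCore p G : Set G) ≤ Cfsg.pCore p G)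
    (T : Sylow p G) (L : Subgroup G) (hL : L.IsSubnormal) :
    L ⊓ Subgroup.centralizer ((omegaCenterSub p (T : Subgroup G) : Subgroup G) : Set G) =
      L ⊓ Subgroup.centralizer ((omegaCenterSub p ((T : Subgroup G) ⊓ L) : Subgroup G) : Set G) := by
  have htop : IsCharPSub p (⊤ : Subgroup G) := by
    unfold IsCharPSub
    rw [opDown_top]
    exact inf_le_right.trans hH
  have hchar : ∀ {M : Subgroup G}, M.IsSubnormal → IsCharPSub p M := by
    intro M hM
    have := isCharPSub_inf_of_isSubnormal ⊤ htop hM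
    rwa [top_inf_eq] at this
  induction hL with
  | top => rw [inf_top_eq]
  | step L K h_le hK hN ih =>
    have hLsn : L.IsSubnormal := Subgroup.IsSubnormal.step L K h_le hK hN
    have hKL : K ≤ Subgroup.normalizer (L : Set G) :=
      (Subgroup.normal_subgroupOf_iff_le_normalizer h_le).mp hN
    have hidxK : ¬ p ∣ ((T : Subgroup G) ⊓ K).relIndex K := by
      rw [Subgroup.inf_relIndex_right]
      exact not_dvd_relIndex_sylow_subnormal T hK
    have hTKL : ((T : Subgroup G) ⊓ K) ⊓ L = (T : Subgroup G) ⊓ L := by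
      rw [inf_assoc, inf_eq_right.mpr h_le]
    have hidxL : ¬ p ∣ (((T : Subgroup G) ⊓ K) ⊓ L).relIndex L := by
      rw [hTKL, Subgroup.inf_relIndex_right]
      exact not_dvd_relIndex_sylow_subnormal T hLsn
    have key := kieler_rel K L ((T : Subgroup G) ⊓ K) (T.2.to_le inf_le_left) inf_le_right hidxK
      h_le hKL (hchar hLsn) hidxL
    rw [hTKL] at key
    rw [← key]
    have h1 : L ⊓ Subgroup.centralizer
        ((omegaCenterSub p (T : Subgroup G) : Subgroup G) : Set G) =
        L ⊓ (K ⊓ Subgroup.centralizer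
          ((omegaCenterSub p (T : Subgroup G) : Subgroup G) : Set G)) := by
      rw [← inf_assoc, inf_eq_left.mpr h_le]
    rw [h1, ih, ← inf_assoc, inf_eq_left.mpr h_le]

end

end Cfsg.Agent.Lib.Helper16
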