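import Mathlib

/-!
Generic lemmas for S4234 (helper16): groups in which every non-normal subgroup has a maximal
normalizer (`Good`); transfer along isomorphisms, coprime products with abelian groups, and
central extensions by a group of order two containing all involutions.  Sylow helpers.
-/

set_option autoImplicit false

namespace Cfsg.Agent.Lib.Helper16.L13

/-- every non-normal subgroup has a maximal normalizer -/
def Good (G : Type*) [Group G] : Prop :=
  ∀ H : Subgroup G, ¬ H.Normal → IsCoatom (Subgroup.normalizer (H : Set G))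

theorem good_of_equiv {G G' : Type*} [Group G] [Group G'] (e : G ≃* G') (h : Good G') :
    Good G := by
  intro H hH
  have hH' : ¬ (H.map e.toMonoidHom).Normal := by
    intro hn
    apply hH
    have h1 : H = (H.map e.toMonoidHom).comap e.toMonoidHom :=
      (Subgroup.comap_map_eq_self_of_injective e.injective H).symm
    rw [h1]
    have := hn
    infer_instance
  have hc := h _ hH'
  rw [← Subgroup.map_equiv_normalizer_eq] at hc
  have h2 := OrderIso.isCoatom_iff e.mapSubgroup (Subgroup.normalizer (H : Set G))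
  rw [MulEquiv.coe_mapSubgroup] at h2
  exact h2.mp hc

theorem fst_snd_mem {K S : Type*} [Group K] [Group S]
    (hc : (Nat.card K).Coprime (Nat.card S)) (H : Subgroup (K × S)) {k : K} {s : S}
    (h : (k, s) ∈ H) : (k, (1 : S)) ∈ H ∧ ((1 : K), s) ∈ H := by
  obtain ⟨N, hN1, hN2⟩ := Nat.chineseRemainder hc 1 0
  have hN1' : N % Nat.card K = 1 % Nat.card K := hN1
  have hN2' : N % Nat.card S = 0 % Nat.card S := hN2
  have e1 : k ^ N = k := by
    rw [← pow_mod_natCard, hN1', pow_mod_natCard, pow_one]
  have e2 : s ^ N = 1 := by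
    rw [← pow_mod_natCard, hN2', pow_mod_natCard, pow_zero]
  have hp : (k, s) ^ N = (k, 1) := by rw [Prod.pow_mk, e1, e2]
  have h1 : (k, (1 : S)) ∈ H := hp ▸ H.pow_mem h N
  refine ⟨h1, ?_⟩
  have h2 : ((1 : K), s) = (k, 1)⁻¹ * (k, s) := by simp
  rw [h2]
  exact H.mul_mem (H.inv_mem h1) h

theorem normalizer_prod_eq {K S : Type*} [Group K] [CommGroup S]
    (hc : (Nat.card K).Coprime (Nat.card S)) (H : Subgroup (K × S)) :
    Subgroup.normalizer (H : Set (K × S)) =
      (Subgroup.normalizer ((H.map (MonoidHom.fst K S) : Subgroup K) : Set K)).prod ⊤ := by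
  have hmem : ∀ k : K, k ∈ H.map (MonoidHom.fst K S) ↔ (k, (1 : S)) ∈ H := by
    intro k
    constructor
    · rintro ⟨⟨k', s'⟩, hks, rfl⟩
      exact (fst_snd_mem hc H hks).1
    · intro hk
      exact ⟨(k, 1), hk, rfl⟩
  have hsplit : ∀ (k : K) (s : S), (k, s) ∈ H ↔ (k, (1 : S)) ∈ H ∧ ((1 : K), s) ∈ H := by
    intro k s
    constructor
    · exact fst_snd_mem hc H
    · rintro ⟨h1, h2⟩
      have : (k, s) = (k, 1) * (1, s) := by simp
      rw [this]; exact H.mul_mem h1 h2
  ext ⟨g, t⟩
  rw [Subgroup.mem_prod]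
  simp only [Subgroup.mem_top, and_true]
  constructor
  · intro hg
    rw [Subgroup.mem_normalizer_iff]
    intro k
    rw [hmem, hmem]
    have h1 := (Subgroup.mem_normalizer_iff.mp hg) (k, 1)
    have e : (g, t) * (k, (1 : S)) * (g, t)⁻¹ = (g * k * g⁻¹, 1) := by simp
    rw [e] at h1
    exact h1
  · intro hg
    rw [Subgroup.mem_normalizer_iff]
    rintro ⟨k, s⟩
    have h1 := (Subgroup.mem_normalizer_iff.mp hg) k
    rw [hmem, hmem] at h1
    have e : (g, t) * (k, s) * (g, t)⁻¹ = (g * k * g⁻¹, s) := by simp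
    rw [e, hsplit k s, hsplit (g * k * g⁻¹) s, h1]

theorem isCoatom_prod_top {K S : Type*} [Group K] [Group S] (N : Subgroup K)
    (hN : IsCoatom N) : IsCoatom (N.prod (⊤ : Subgroup S)) := by
  refine ⟨?_, ?_⟩
  · intro h
    apply hN.1
    rw [eq_top_iff]
    intro k _
    have : (k, (1 : S)) ∈ N.prod (⊤ : Subgroup S) := by rw [h]; exact Subgroup.mem_top _
    exact (Subgroup.mem_prod.mp this).1
  · intro L hL
    have hle : N ≤ L.comap (MonoidHom.inl K S) := by
      intro k hk
      rw [Subgroup.mem_comap]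
      apply hL.le
      rw [Subgroup.mem_prod]
      exact ⟨hk, Subgroup.mem_top _⟩
    have hsnd : ∀ s : S, ((1 : K), s) ∈ L := by
      intro s
      apply hL.le
      rw [Subgroup.mem_prod]
      exact ⟨N.one_mem, Subgroup.mem_top _⟩
    have hne : N ≠ L.comap (MonoidHom.inl K S) := by
      intro he
      have hLN : L ≤ N.prod (⊤ : Subgroup S) := by
        rintro ⟨k, s⟩ hks
        rw [Subgroup.mem_prod]
        refine ⟨?_, Subgroup.mem_top _⟩
        show k ∈ N
        rw [he, Subgroup.mem_comap]
        have h1 : (k, (1 : S)) = (k, s) * (1, s)⁻¹ := by simp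
        show (k, (1 : S)) ∈ L
        rw [h1]
        exact L.mul_mem hks (L.inv_mem (hsnd s))
      exact lt_irrefl _ (lt_of_lt_of_le hL hLN)
    have htop := hN.2 _ (lt_of_le_of_ne hle hne)
    rw [eq_top_iff]
    rintro ⟨k, s⟩ _
    have hk : (k, (1 : S)) ∈ L := by
      have h1 : k ∈ L.comap (MonoidHom.inl K S) := by rw [htop]; exact Subgroup.mem_top _
      exact h1
    have h2 : (k, s) = (k, 1) * (1, s) := by simp
    rw [h2]
    exact L.mul_mem hk (hsnd s)

theorem good_prod {K S : Type*} [Group K] [CommGroup S]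
    (hc : (Nat.card K).Coprime (Nat.card S)) (hK : Good K) : Good (K × S) := by
  intro H hH
  rw [normalizer_prod_eq hc H]
  apply isCoatom_prod_top
  apply hK
  intro hn
  apply hH
  rw [← Subgroup.normalizer_eq_top_iff, normalizer_prod_eq hc H,
    Subgroup.normalizer_eq_top_iff.mpr hn]
  exact Subgroup.top_prod_top

theorem isCoatom_comap {Gt G : Type*} [Group Gt] [Group G] (π : Gt →* G)
    (hsurj : Function.Surjective π) (N : Subgroup G) (hN : IsCoatom N) :
    IsCoatom (N.comap π) := by
  refine ⟨?_, ?_⟩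
  · intro h
    apply hN.1
    rw [eq_top_iff]
    intro y _
    obtain ⟨g, rfl⟩ := hsurj y
    have h1 : g ∈ N.comap π := by rw [h]; exact Subgroup.mem_top _
    exact h1
  · intro L hL
    have hker : π.ker ≤ L := by
      intro g hg
      apply hL.le
      rw [Subgroup.mem_comap, MonoidHom.mem_ker.mp hg]
      exact N.one_mem
    have hle : N ≤ L.map π := by
      intro y hy
      obtain ⟨g, rfl⟩ := hsurj y
      exact Subgroup.mem_map_of_mem π (hL.le hy)
    have hne : N ≠ L.map π := by
      intro he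
      have hLN : L ≤ N.comap π := by
        intro g hg
        rw [Subgroup.mem_comap, he]
        exact Subgroup.mem_map_of_mem π hg
      exact lt_irrefl _ (lt_of_lt_of_le hL hLN)
    have htop := hN.2 _ (lt_of_le_of_ne hle hne)
    have h1 : L = (L.map π).comap π := (Subgroup.comap_map_eq_self hker).symm
    rw [h1, htop, Subgroup.comap_top]

/-- central extensions by a group of order two that contains all involutions -/
theorem good_of_central {Gt G : Type*} [Group Gt] [Group G] [Finite Gt] (π : Gt →* G)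
    (hsurj : Function.Surjective π) (hcen : π.ker ≤ Subgroup.center Gt)
    (hcard : Nat.card π.ker = 2) (hinv : ∀ x : Gt, x ^ 2 = 1 → x ∈ π.ker)
    (hG : Good G) : Good Gt := by
  intro Ht hHt
  have key : ∀ g : Gt, π g ∈ Subgroup.normalizer ((Ht.map π : Subgroup G) : Set G) →
      ∀ x ∈ Ht, g * x * g⁻¹ ∈ Ht := by
    intro g hg x hx
    have h1 : π (g * x * g⁻¹) ∈ Ht.map π := by
      rw [map_mul, map_mul, map_inv]
      exact (Subgroup.mem_normalizer_iff.mp hg (π x)).mp (Subgroup.mem_map_of_mem π hx)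
    obtain ⟨y, hy, hyx⟩ := Subgroup.mem_map.mp h1
    have hz : y⁻¹ * (g * x * g⁻¹) ∈ π.ker := by
      rw [MonoidHom.mem_ker, map_mul, map_inv, hyx, inv_mul_cancel]
    by_cases hker : π.ker ≤ Ht
    · have h2 : g * x * g⁻¹ = y * (y⁻¹ * (g * x * g⁻¹)) := by group
      rw [h2]
      exact Ht.mul_mem hy (hker hz)
    · have hodd : ¬ 2 ∣ Nat.card Ht := by
        intro h2
        have : Fact (Nat.Prime 2) := ⟨Nat.prime_two⟩
        obtain ⟨t, ht⟩ := exists_prime_orderOf_dvd_card' (G := Ht) 2 h2
        have hot : orderOf (t : Gt) = 2 := by rw [Subgroup.orderOf_coe, ht]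
        have ht2 : (t : Gt) ^ 2 = 1 := by rw [← hot]; exact pow_orderOf_eq_one _
        have htk : (t : Gt) ∈ π.ker := hinv _ ht2
        have hzp : Subgroup.zpowers (t : Gt) = π.ker := by
          apply Subgroup.eq_of_le_of_card_ge (Subgroup.zpowers_le.mpr htk)
          rw [Nat.card_zpowers, hot, hcard]
        apply hker
        rw [← hzp, Subgroup.zpowers_le]
        exact t.2
      obtain ⟨n, hn⟩ : ∃ n, n = Nat.card Ht := ⟨_, rfl⟩
      rw [← hn] at hodd
      have hxn : x ^ n = 1 := by
        have h3 := pow_card_eq_one' (G := Ht) (x := ⟨x, hx⟩)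
        rw [← hn] at h3
        simpa using congrArg Subtype.val h3
      have hyn : y ^ n = 1 := by
        have h3 := pow_card_eq_one' (G := Ht) (x := ⟨y, hy⟩)
        rw [← hn] at h3
        simpa using congrArg Subtype.val h3
      have hwn : (g * x * g⁻¹) ^ n = 1 := by
        rw [conj_pow, hxn]; group
      obtain ⟨z, hzdef⟩ : ∃ z, z = y⁻¹ * (g * x * g⁻¹) := ⟨_, rfl⟩
      rw [← hzdef] at hz
      have hzc : z ∈ Subgroup.center Gt := hcen hz
      have hz2 : z ^ 2 = 1 := by
        have h3 := pow_card_eq_one' (G := π.ker) (x := ⟨z, hz⟩)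
        rw [hcard] at h3
        simpa using congrArg Subtype.val h3
      have hwyz : g * x * g⁻¹ = y * z := by rw [hzdef]; group
      have hcomm : Commute y z := Subgroup.mem_center_iff.mp hzc y
      have hzn : z ^ n = 1 := by
        have h3 : (y * z) ^ n = y ^ n * z ^ n := hcomm.mul_pow n
        rw [← hwyz, hwn, hyn, one_mul] at h3
        exact h3.symm
      have hz1 : z = 1 := by
        obtain ⟨j, hj⟩ : ∃ j, n = 2 * j + 1 := ⟨n / 2, by omega⟩
        rw [hj, pow_succ, pow_mul, hz2, one_pow, one_mul] at hzn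
        exact hzn
      rw [hwyz, hz1, mul_one]; exact hy
  have hNeq : Subgroup.normalizer (Ht : Set Gt) =
      (Subgroup.normalizer ((Ht.map π : Subgroup G) : Set G)).comap π := by
    apply le_antisymm
    · intro g hg
      rw [Subgroup.mem_comap]
      exact Subgroup.le_normalizer_map π (Subgroup.mem_map_of_mem π hg)
    · intro g hg
      rw [Subgroup.mem_comap] at hg
      rw [Subgroup.mem_normalizer_iff]
      intro x
      constructor
      · exact key g hg x
      · intro hx
        have hg' : π g⁻¹ ∈ Subgroup.normalizer ((Ht.map π : Subgroup G) : Set G) := by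
          rw [map_inv]; exact Subgroup.inv_mem _ hg
        have h3 := key g⁻¹ hg' _ hx
        rw [inv_inv] at h3
        have e : g⁻¹ * (g * x * g⁻¹) * g = x := by group
        rw [e] at h3; exact h3
  rw [hNeq]
  have hHn : ¬ (Ht.map π).Normal := by
    intro hn
    apply hHt
    rw [← Subgroup.normalizer_eq_top_iff, hNeq, Subgroup.normalizer_eq_top_iff.mpr hn,
      Subgroup.comap_top]
  exact isCoatom_comap π hsurj _ (hG _ hHn)

/-! ### Sylow helpers -/

theorem exists_sylow_coe_eq {G : Type*} [Group G] [Finite G] (p : ℕ) [Fact p.Prime] (n : ℕ)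
    (H : Subgroup G) (hH : Nat.card H = p ^ n) (hnd : ¬ p ^ (n + 1) ∣ Nat.card G) :
    ∃ P : Sylow p G, (P : Subgroup G) = H := by
  obtain ⟨P, hP⟩ := (IsPGroup.of_card hH).exists_le_sylow
  refine ⟨P, ?_⟩
  obtain ⟨k, hk⟩ := IsPGroup.iff_card.mp P.isPGroup'
  have hp : p.Prime := Fact.out
  have hkn : k ≤ n := by
    by_contra hlt
    rw [not_le] at hlt
    apply hnd
    have h1 : p ^ (n + 1) ∣ p ^ k := pow_dvd_pow p hlt
    rw [← hk] at h1
    exact h1.trans (Subgroup.card_subgroup_dvd_card _)
  have hle : Nat.card (P : Subgroup G) ≤ Nat.card H := by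
    rw [hH]
    exact hk.le.trans (Nat.pow_le_pow_right hp.pos hkn)
  exact (Subgroup.eq_of_le_of_card_ge hP hle).symm

theorem card_normalizer_eq_of_sylow {G : Type*} [Group G] [Finite G] (p : ℕ) [Fact p.Prime]
    (P Q : Sylow p G) :
    Nat.card (Subgroup.normalizer ((P : Subgroup G) : Set G)) =
      Nat.card (Subgroup.normalizer ((Q : Subgroup G) : Set G)) := by
  have h1 : Nat.card (Sylow p G) = (Subgroup.normalizer ((P : Subgroup G) : Set G)).index :=
    Sylow.card_eq_index_normalizer P
  have h2 : Nat.card (Sylow p G) = (Subgroup.normalizer ((Q : Subgroup G) : Set G)).index :=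
    Sylow.card_eq_index_normalizer Q
  have h3 := (Subgroup.normalizer ((P : Subgroup G) : Set G)).card_mul_index
  have h4 := (Subgroup.normalizer ((Q : Subgroup G) : Set G)).card_mul_index
  rw [← h1] at h3
  rw [← h2, ← h3] at h4
  have hpos : 0 < Nat.card (Sylow p G) := Nat.card_pos
  exact (Nat.eq_of_mul_eq_mul_right hpos h4).symm

theorem card_normalizer_eq_of_card {G : Type*} [Group G] [Finite G] (p : ℕ) [Fact p.Prime]
    (n : ℕ) (H C : Subgroup G) (hH : Nat.card H = p ^ n) (hC : Nat.card C = p ^ n)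
    (hnd : ¬ p ^ (n + 1) ∣ Nat.card G) :
    Nat.card (Subgroup.normalizer (H : Set G)) = Nat.card (Subgroup.normalizer (C : Set G)) := by
  obtain ⟨P, rfl⟩ := exists_sylow_coe_eq p n H hH hnd
  obtain ⟨Q, rfl⟩ := exists_sylow_coe_eq p n C hC hnd
  exact card_normalizer_eq_of_sylow p P Q

/-- an embedded group normalizes the image of each of its normal subgroups -/
theorem card_dvd_normalizer_map {G Y : Type*} [Group G] [Group Y] [Finite G] (f : Y →* G)
    (hf : Function.Injective f) (C₀ : Subgroup Y) [hC : C₀.Normal] :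
    Nat.card Y ∣ Nat.card (Subgroup.normalizer ((C₀.map f : Subgroup G) : Set G)) := by
  have h1 : f.range ≤ Subgroup.normalizer ((C₀.map f : Subgroup G) : Set G) := by
    have h := Subgroup.le_normalizer_map (H := C₀) f
    rw [Subgroup.normalizer_eq_top_iff.mpr hC, ← MonoidHom.range_eq_map] at h
    exact h
  have h2 : Nat.card f.range = Nat.card Y :=
    (Nat.card_congr (MonoidHom.ofInjective hf).toEquiv).symm
  rw [← h2]
  exact Subgroup.card_dvd_of_le h1

theorem normal_zpowers {Y : Type*} [Group Y] (x : Y)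
    (h : ∀ g : Y, g * x * g⁻¹ = x ∨ g * x * g⁻¹ = x⁻¹) : (Subgroup.zpowers x).Normal := by
  constructor
  intro n hn g
  obtain ⟨k, rfl⟩ := Subgroup.mem_zpowers_iff.mp hn
  rw [← conj_zpow]
  apply Subgroup.zpow_mem
  rcases h g with h1 | h1 <;> rw [h1]
  · exact Subgroup.mem_zpowers x
  · exact Subgroup.inv_mem _ (Subgroup.mem_zpowers x)

theorem dihedral_conj_r (n : ℕ) (j : ZMod n) (g : DihedralGroup n) :
    g * DihedralGroup.r j * g⁻¹ = DihedralGroup.r j ∨
      g * DihedralGroup.r j * g⁻¹ = (DihedralGroup.r j)⁻¹ := by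
  cases g with
  | r i =>
    left
    rw [DihedralGroup.inv_r, DihedralGroup.r_mul_r, DihedralGroup.r_mul_r]
    congr 1; ring
  | sr i =>
    right
    rw [DihedralGroup.inv_sr, DihedralGroup.sr_mul_r, DihedralGroup.sr_mul_sr,
      DihedralGroup.inv_r]
    congr 1; ring

end Cfsg.Agent.Lib.Helper16.L13
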