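import Mathlib
import Cfsg.Agent.S0799
import Cfsg.Agent.S0802
import Cfsg.Agent.S0807
import Cfsg.Agent.S2475
import Cfsg.Agent.Lib.Helper12.DkU
import Cfsg.Agent.Lib.Helper1.DkOrders
import Cfsg.Agent.Lib.Helper16.DkMax
import Cfsg.Agent.Lib.Helper16.DkMax2
import Cfsg.Agent.Lib.Helper16.L13a

/-!
`PSL₂(13)` and `SL₂(13)`: every non-normal subgroup has a maximal normalizer (helper16, for S4234).
Subgroup orders come from Dickson's theorem (S0799); normalizer orders from Sylow's theorems and
the existence of `D₆`, `D₇`, `A₄`.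
-/

set_option autoImplicit false
set_option maxHeartbeats 1000000

namespace Cfsg.Agent.Lib.Helper16.L13

open Cfsg.Agent.Lib.Helper16.DkMax

local notation "SL2" => Matrix.SpecialLinearGroup (Fin 2)
local notation "PSL2" => Matrix.ProjectiveSpecialLinearGroup (Fin 2)
local notation "PGL2" => Matrix.ProjGenLinGroup (Fin 2)

variable {F : Type*} [Field F] [Fintype F]

/-- the possible orders of subgroups of `PSL₂(13)` -/
def InO (n : ℕ) : Prop :=
  n = 1 ∨ n = 2 ∨ n = 3 ∨ n = 4 ∨ n = 6 ∨ n = 7 ∨ n = 12 ∨ n = 13 ∨ n = 14 ∨ n = 26 ∨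
    n = 39 ∨ n = 78 ∨ n = 1092

theorem odd13 (hF : Fintype.card F = 13) : Odd (Fintype.card F) := by
  rw [hF]; exact ⟨6, by norm_num⟩

theorem card_G (hF : Fintype.card F = 13) : Nat.card (PSL2 F) = 1092 := by
  have h := two_mul_card_PSL2 (K := F) (odd13 hF)
  rw [hF] at h
  norm_num at h
  omega

theorem e6 (hF : Fintype.card F = 13) :
    (Fintype.card F - 1) / Nat.gcd 2 (Fintype.card F - 1) = 6 := by
  rw [hF]; norm_num

theorem e7 (hF : Fintype.card F = 13) :
    (Fintype.card F + 1) / Nat.gcd 2 (Fintype.card F - 1) = 7 := by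
  rw [hF]; norm_num

section

variable [Fact (Nat.Prime 13)] [CharP F 13]

theorem index_normalizer_sylow (hF : Fintype.card F = 13) (P : Sylow 13 (PSL2 F)) :
    14 ∣ (Subgroup.normalizer ((P : Subgroup (PSL2 F)) : Set (PSL2 F))).index := by
  have h1 : Nat.card (Sylow 13 (PSL2 F)) =
      (Subgroup.normalizer ((P : Subgroup (PSL2 F)) : Set (PSL2 F))).index :=
    Sylow.card_eq_index_normalizer P
  have h2 : Nat.card (Sylow 13 (PSL2 F)) =
      (Subgroup.normalizer (((Cfsg.Agent.Lib.Helper1.DkOrders.sylUppP (F := F) 13 :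
        Sylow 13 (PSL2 F)) : Subgroup (PSL2 F)) : Set (PSL2 F))).index :=
    Sylow.card_eq_index_normalizer (Cfsg.Agent.Lib.Helper1.DkOrders.sylUppP (F := F) 13)
  rw [← h1, h2, Cfsg.Agent.Lib.Helper1.DkOrders.coe_sylUppP]
  have h3 := Subgroup.index_dvd_of_le
    (Cfsg.Agent.Lib.Helper1.DkOrders.normalizer_UppP_le (F := F))
  rw [Cfsg.Agent.Lib.Helper1.DkOrders.index_BorP, hF] at h3
  exact h3

theorem card_normalizer_sylow_dvd (hF : Fintype.card F = 13) (P : Sylow 13 (PSL2 F)) :
    Nat.card (Subgroup.normalizer ((P : Subgroup (PSL2 F)) : Set (PSL2 F))) ∣ 78 := by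
  obtain ⟨c, hc⟩ := index_normalizer_sylow hF P
  have hNc := (Subgroup.normalizer ((P : Subgroup (PSL2 F)) : Set (PSL2 F))).card_mul_index
  rw [hc, card_G hF] at hNc
  refine ⟨c, ?_⟩
  apply Nat.eq_of_mul_eq_mul_left (show 0 < 14 by norm_num)
  have h1 : 14 * (Nat.card (Subgroup.normalizer ((P : Subgroup (PSL2 F)) : Set (PSL2 F))) * c) =
      1092 := by rw [← hNc]; ring
  rw [h1]

/-- the orders of the subgroups of `PSL₂(13)` -/
theorem card_mem (hF : Fintype.card F = 13) (H : Subgroup (PSL2 F)) : InO (Nat.card H) := by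
  have hG := card_G hF
  have hodd := odd13 hF
  have hdvd : Nat.card H ∣ 1092 := by
    rw [← hG]; exact Subgroup.card_subgroup_dvd_card H
  rcases Cfsg.Agent.S0799.result hF 13 H with
    ⟨k, hk, hH⟩ | ⟨P, K, hK, ⟨e⟩⟩ | ⟨⟨e⟩⟩ | ⟨⟨e⟩⟩ | ⟨⟨e⟩⟩ | ⟨K, _, _, m, hKm, hiso⟩
  · -- cyclic or dihedral
    have e1 : (13 + 1) / Nat.gcd 2 (13 - 1) = 7 := by norm_num
    have e2 : (13 - 1) / Nat.gcd 2 (13 - 1) = 6 := by norm_num
    rw [e1, e2] at hk
    have hk0 : 1 ≤ k := by
      rcases hk with h | h <;> exact Nat.pos_of_dvd_of_pos h (by norm_num)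
    have hk7 : k ≤ 7 := by
      rcases hk with h | h
      · exact Nat.le_of_dvd (by norm_num) h
      · exact le_trans (Nat.le_of_dvd (by norm_num) h) (by norm_num)
    have hcard : Nat.card H = k ∨ Nat.card H = 2 * k := by
      rcases hH with ⟨-, h⟩ | ⟨⟨e⟩⟩
      · left; exact h
      · right; rw [Nat.card_congr e.toEquiv, DihedralGroup.nat_card]
    unfold InO
    interval_cases k <;> omega
  · -- inside a Sylow normalizer
    have hcK : Nat.card H = Nat.card K := Nat.card_congr e.toEquiv
    have hKN : Nat.card K ∣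
        Nat.card (Subgroup.normalizer ((P : Subgroup (PSL2 F)) : Set (PSL2 F))) :=
      Subgroup.card_dvd_of_le hK
    have h78 : Nat.card H ∣ 78 := by
      rw [hcK]; exact hKN.trans (card_normalizer_sylow_dvd hF P)
    have hmem : Nat.card H ∈ Nat.divisors 78 := Nat.mem_divisors.mpr ⟨h78, by norm_num⟩
    have hdiv : Nat.divisors 78 = {1, 2, 3, 6, 13, 26, 39, 78} := by decide
    rw [hdiv] at hmem
    simp only [Finset.mem_insert, Finset.mem_singleton] at hmem
    unfold InO
    omega
  · unfold InO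
    rw [Nat.card_congr e.toEquiv, card_A4]; omega
  · exfalso
    have h24 : 24 ∣ 1092 := by
      rw [← card_S4, ← Nat.card_congr e.toEquiv]; exact hdvd
    omega
  · exfalso
    have h60 : 60 ∣ 1092 := by
      rw [← card_A5, ← Nat.card_congr e.toEquiv]; exact hdvd
    omega
  · have hK13 : Fintype.card K = 13 :=
      ((Nat.Prime.pow_eq_iff (by norm_num : Nat.Prime 13)).mp hKm).1
    rcases hiso with ⟨⟨e⟩⟩ | ⟨⟨e⟩⟩
    · have htop := eq_top_of_iso_PSL2 hodd (hK13.trans hF.symm) H e
      rw [htop, Subgroup.card_top, hG]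
      unfold InO; omega
    · exact (false_of_iso_PGL2 hodd (hK13.trans hF.symm) H e).elim

theorem isCoatom_of_card (hF : Fintype.card F = 13) (M : Subgroup (PSL2 F))
    (hM : Nat.card M = 12 ∨ Nat.card M = 14 ∨ Nat.card M = 78) : IsCoatom M := by
  have hG := card_G hF
  refine ⟨?_, ?_⟩
  · intro h
    rw [h, Subgroup.card_top, hG] at hM
    omega
  · intro L hL
    obtain ⟨h3, h4⟩ := card_lt_of_lt hL
    have h2 := card_mem hF L
    unfold InO at h2
    rw [← Subgroup.card_eq_iff_eq_top, hG]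
    rcases hM with h | h | h <;> rw [h] at h3 h4 <;> omega

theorem not_normal_of_card (hF : Fintype.card F = 13) (C : Subgroup (PSL2 F))
    (h1 : Nat.card C ≠ 1) (h2 : Nat.card C ≠ 1092) : ¬ C.Normal := by
  have : IsSimpleGroup (PSL2 F) :=
    Matrix.ProjectiveSpecialLinearGroup.rank_two_simple
      (by rw [Nat.card_eq_fintype_card, hF]; norm_num)
  intro hn
  rcases hn.eq_bot_or_eq_top with h | h
  · rw [h, Subgroup.card_bot] at h1; exact h1 rfl
  · rw [h, Subgroup.card_top, card_G hF] at h2; exact h2 rfl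

theorem card_normalizer_ne (hF : Fintype.card F = 13) (C : Subgroup (PSL2 F))
    (h1 : Nat.card C ≠ 1) (h2 : Nat.card C ≠ 1092) :
    Nat.card (Subgroup.normalizer (C : Set (PSL2 F))) ≠ 1092 := by
  intro h4
  have h5 : Subgroup.normalizer (C : Set (PSL2 F)) = ⊤ := by
    rw [← Subgroup.card_eq_iff_eq_top, card_G hF]; exact h4
  exact not_normal_of_card hF C h1 h2 (Subgroup.normalizer_eq_top_iff.mp h5)

/-- subgroups of order `3` -/
theorem n3 (hF : Fintype.card F = 13) (H : Subgroup (PSL2 F)) (h : Nat.card H = 3) :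
    12 ∣ Nat.card (Subgroup.normalizer (H : Set (PSL2 F))) := by
  have hG := card_G hF
  obtain ⟨D, ⟨e⟩⟩ := Cfsg.Agent.Lib.Helper12.DkU.exists_dihedral_minus (F := F)
    (by rw [hF]; norm_num)
  rw [e6 hF] at e
  obtain ⟨f, hf⟩ : ∃ f : DihedralGroup 6 →* PSL2 F, Function.Injective f :=
    ⟨D.subtype.comp e.symm.toMonoidHom, D.subtype_injective.comp e.symm.injective⟩
  have : Fact (Nat.Prime 3) := ⟨by norm_num⟩
  have hn : (Subgroup.zpowers (DihedralGroup.r (2 : ZMod 6))).Normal :=
    normal_zpowers _ (dihedral_conj_r 6 2)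
  have hC : Nat.card ((Subgroup.zpowers (DihedralGroup.r (2 : ZMod 6))).map f) = 3 := by
    rw [Subgroup.card_map_of_injective hf, Nat.card_zpowers]
    exact orderOf_eq_prime (by decide) (by decide)
  have hd := card_dvd_normalizer_map f hf (Subgroup.zpowers (DihedralGroup.r (2 : ZMod 6)))
  rw [DihedralGroup.nat_card] at hd
  rw [card_normalizer_eq_of_card 3 1 H _ (by rw [h]; norm_num) (by rw [hC]; norm_num)
    (by rw [hG]; norm_num)]
  exact hd

/-- subgroups of order `7` -/
theorem n7 (hF : Fintype.card F = 13) (H : Subgroup (PSL2 F)) (h : Nat.card H = 7) :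
    14 ∣ Nat.card (Subgroup.normalizer (H : Set (PSL2 F))) := by
  have hG := card_G hF
  obtain ⟨D, ⟨e⟩⟩ := Cfsg.Agent.Lib.Helper12.DkU.exists_dihedral_plus (F := F)
  rw [e7 hF] at e
  obtain ⟨f, hf⟩ : ∃ f : DihedralGroup 7 →* PSL2 F, Function.Injective f :=
    ⟨D.subtype.comp e.symm.toMonoidHom, D.subtype_injective.comp e.symm.injective⟩
  have : Fact (Nat.Prime 7) := ⟨by norm_num⟩
  have hn : (Subgroup.zpowers (DihedralGroup.r (1 : ZMod 7))).Normal :=
    normal_zpowers _ (dihedral_conj_r 7 1)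
  have hC : Nat.card ((Subgroup.zpowers (DihedralGroup.r (1 : ZMod 7))).map f) = 7 := by
    rw [Subgroup.card_map_of_injective hf, Nat.card_zpowers]
    exact DihedralGroup.orderOf_r_one
  have hd := card_dvd_normalizer_map f hf (Subgroup.zpowers (DihedralGroup.r (1 : ZMod 7)))
  rw [DihedralGroup.nat_card] at hd
  rw [card_normalizer_eq_of_card 7 1 H _ (by rw [h]; norm_num) (by rw [hC]; norm_num)
    (by rw [hG]; norm_num)]
  exact hd

/-- subgroups of order `4` -/
theorem n4 (hF : Fintype.card F = 13) (H : Subgroup (PSL2 F)) (h : Nat.card H = 4) :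
    12 ∣ Nat.card (Subgroup.normalizer (H : Set (PSL2 F))) := by
  have hG := card_G hF
  obtain ⟨X, ⟨e⟩⟩ := (Cfsg.Agent.S0802.result (F := F) 13 1 (by rw [hF]; norm_num)).mpr
    (by rintro ⟨h, -⟩; omega)
  obtain ⟨f, hf⟩ : ∃ f : alternatingGroup (Fin 4) →* PSL2 F, Function.Injective f :=
    ⟨X.subtype.comp e.symm.toMonoidHom, X.subtype_injective.comp e.symm.injective⟩
  have h4 : Nat.card (Fin 4) = 4 := by simp
  have hn : (alternatingGroup.kleinFour (Fin 4)).Normal := alternatingGroup.normal_kleinFour h4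
  have hC : Nat.card ((alternatingGroup.kleinFour (Fin 4)).map f) = 4 := by
    rw [Subgroup.card_map_of_injective hf]
    exact alternatingGroup.kleinFour_card_of_card_eq_four h4
  have hd := card_dvd_normalizer_map f hf (alternatingGroup.kleinFour (Fin 4))
  rw [card_A4] at hd
  rw [card_normalizer_eq_of_card 2 2 H _ (by rw [h]; norm_num) (by rw [hC]; norm_num)
    (by rw [hG]; norm_num)]
  exact hd

/-- subgroups of order `2` -/
theorem n2 (hF : Fintype.card F = 13) (H : Subgroup (PSL2 F)) (h : Nat.card H = 2) :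
    12 ∣ Nat.card (Subgroup.normalizer (H : Set (PSL2 F))) := by
  have hG := card_G hF
  have h2F : (2 : F) ≠ 0 := two_ne_zero_of_odd_card (odd13 hF)
  have : Fact (Nat.Prime 2) := ⟨Nat.prime_two⟩
  obtain ⟨t, ht⟩ := exists_prime_orderOf_dvd_card' (G := H) 2 (by rw [h])
  have hot : orderOf (t : PSL2 F) = 2 := by rw [Subgroup.orderOf_coe, ht]
  have hzp : Subgroup.zpowers (t : PSL2 F) = H := by
    apply Subgroup.eq_of_le_of_card_ge (Subgroup.zpowers_le.mpr t.2)
    rw [Nat.card_zpowers, hot, h]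
  have hCN : Subgroup.centralizer ({(t : PSL2 F)} : Set (PSL2 F)) ≤
      Subgroup.normalizer (H : Set (PSL2 F)) := by
    have h1 : Subgroup.centralizer ({(t : PSL2 F)} : Set (PSL2 F)) ≤
        Subgroup.centralizer
          ((Subgroup.zpowers (t : PSL2 F) : Subgroup (PSL2 F)) : Set (PSL2 F)) := by
      rw [Subgroup.le_centralizer_iff, Subgroup.zpowers_le]
      intro g hg
      exact (hg (t : PSL2 F) rfl).symm
    have h2 := h1.trans (Subgroup.centralizer_le_normalizer _)
    rw [hzp] at h2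
    exact h2
  obtain ⟨D, ⟨e⟩⟩ := Cfsg.Agent.Lib.Helper12.DkU.exists_dihedral_minus (F := F)
    (by rw [hF]; norm_num)
  rw [e6 hF] at e
  obtain ⟨f, hf⟩ : ∃ f : DihedralGroup 6 →* PSL2 F, Function.Injective f :=
    ⟨D.subtype.comp e.symm.toMonoidHom, D.subtype_injective.comp e.symm.injective⟩
  have hot0 : orderOf (f (DihedralGroup.r (3 : ZMod 6))) = 2 := by
    rw [orderOf_injective f hf]
    exact orderOf_eq_prime (by decide) (by decide)
  have hrange : f.range ≤
      Subgroup.centralizer ({f (DihedralGroup.r (3 : ZMod 6))} : Set (PSL2 F)) := by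
    rintro _ ⟨y, rfl⟩
    rw [Subgroup.mem_centralizer_singleton_iff, ← map_mul, ← map_mul]
    congr 1
    revert y
    decide
  have h12 : 12 ∣ Nat.card
      (Subgroup.centralizer ({f (DihedralGroup.r (3 : ZMod 6))} : Set (PSL2 F))) := by
    have h3 : Nat.card f.range = 12 := by
      rw [← Nat.card_congr (MonoidHom.ofInjective hf).toEquiv, DihedralGroup.nat_card]
    rw [← h3]; exact Subgroup.card_dvd_of_le hrange
  have hc1 := Cfsg.Agent.S0807.card_involutions h2F (t : PSL2 F) hot
  have hc2 := Cfsg.Agent.S0807.card_involutions h2F _ hot0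
  have hpos : 0 < Nat.card {b : PSL2 F // orderOf b = 2} := by
    rcases Nat.eq_zero_or_pos (Nat.card {b : PSL2 F // orderOf b = 2}) with h0 | h0
    · rw [h0, zero_mul, hG] at hc1; omega
    · exact h0
  have hceq : Nat.card (Subgroup.centralizer ({(t : PSL2 F)} : Set (PSL2 F))) =
      Nat.card (Subgroup.centralizer ({f (DihedralGroup.r (3 : ZMod 6))} : Set (PSL2 F))) :=
    Nat.eq_of_mul_eq_mul_left hpos (hc1.trans hc2.symm)
  rw [← hceq] at h12
  exact h12.trans (Subgroup.card_dvd_of_le hCN)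

/-- subgroups of order `13` -/
theorem n13 (hF : Fintype.card F = 13) (H : Subgroup (PSL2 F)) (h : Nat.card H = 13) :
    Nat.card (Subgroup.normalizer (H : Set (PSL2 F))) = 78 := by
  have hG := card_G hF
  obtain ⟨P, rfl⟩ := exists_sylow_coe_eq 13 1 H (by rw [h]; norm_num) (by rw [hG]; norm_num)
  obtain ⟨c, hc⟩ := index_normalizer_sylow hF P
  have h1 : Nat.card (Sylow 13 (PSL2 F)) =
      (Subgroup.normalizer ((P : Subgroup (PSL2 F)) : Set (PSL2 F))).index :=
    Sylow.card_eq_index_normalizer P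
  have h2 : Nat.card (Sylow 13 (PSL2 F)) % 13 = 1 % 13 := card_sylow_modEq_one 13 (PSL2 F)
  have h3 := (Subgroup.normalizer ((P : Subgroup (PSL2 F)) : Set (PSL2 F))).card_mul_index
  have h13 : 13 ∣ Nat.card (Subgroup.normalizer ((P : Subgroup (PSL2 F)) : Set (PSL2 F))) := by
    have h4 := Subgroup.card_dvd_of_le
      (Subgroup.le_normalizer (H := (P : Subgroup (PSL2 F))))
    rw [h] at h4
    exact h4
  rw [h1, hc] at h2
  rw [hG, hc] at h3
  obtain ⟨n', hn'⟩ := h13
  rw [hn'] at h3 ⊢
  have h6 : n' * c = 6 := by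
    apply Nat.eq_of_mul_eq_mul_left (show 0 < 182 by norm_num)
    calc 182 * (n' * c) = 13 * n' * (14 * c) := by ring
      _ = 1092 := h3
      _ = 182 * 6 := by norm_num
  have hc6 : c ≤ 6 := Nat.le_of_dvd (by norm_num) (Dvd.intro_left n' h6)
  interval_cases c <;> omega

/-- subgroups of order `3`: exact normalizer order -/
theorem cn3 (hF : Fintype.card F = 13) (C : Subgroup (PSL2 F)) (h : Nat.card C = 3) :
    Nat.card (Subgroup.normalizer (C : Set (PSL2 F))) = 12 := by
  have h1 := n3 hF C h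
  have h2 := card_mem hF (Subgroup.normalizer (C : Set (PSL2 F)))
  have h3 := card_normalizer_ne hF C (by omega) (by omega)
  unfold InO at h2
  omega

/-- a normal subgroup `C'` of `H`, transported to the ambient group, is normalized by `H` -/
theorem le_normalizer_map_subtype {G : Type*} [Group G] (H : Subgroup G) (C' : Subgroup H)
    [hC : C'.Normal] : H ≤ Subgroup.normalizer ((C'.map H.subtype : Subgroup G) : Set G) := by
  have h := Subgroup.le_normalizer_map (H := C') H.subtype
  rw [Subgroup.normalizer_eq_top_iff.mpr hC, ← MonoidHom.range_eq_map, Subgroup.range_subtype]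
    at h
  exact h

/-- subgroups of order `6` -/
theorem n6 (hF : Fintype.card F = 13) (H : Subgroup (PSL2 F)) (h : Nat.card H = 6) :
    12 ∣ Nat.card (Subgroup.normalizer (H : Set (PSL2 F))) := by
  have : Fact (Nat.Prime 3) := ⟨by norm_num⟩
  obtain ⟨C', hC'⟩ := Sylow.exists_subgroup_card_pow_prime (G := H) 3 (n := 1)
    (by rw [h]; norm_num)
  have hidx : C'.index = 2 := by
    have h1 := C'.card_mul_index
    rw [hC', h] at h1; omega
  have hn : C'.Normal := Subgroup.normal_of_index_eq_two hidx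
  have hCcard : Nat.card (C'.map H.subtype) = 3 := by
    rw [Subgroup.card_map_of_injective H.subtype_injective, hC']; norm_num
  have hHN := le_normalizer_map_subtype H C'
  have h12 := cn3 hF _ hCcard
  have hrel : (H.subgroupOf (Subgroup.normalizer
      ((C'.map H.subtype : Subgroup (PSL2 F)) : Set (PSL2 F)))).index = 2 := by
    have h1 := (H.subgroupOf (Subgroup.normalizer
      ((C'.map H.subtype : Subgroup (PSL2 F)) : Set (PSL2 F)))).card_mul_index
    rw [Nat.card_congr (Subgroup.subgroupOfEquivOfLe hHN).toEquiv, h, h12] at h1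
    omega
  have hnorm := Subgroup.normal_of_index_eq_two hrel
  have hle := (Subgroup.normal_subgroupOf_iff_le_normalizer hHN).mp hnorm
  rw [← h12]; exact Subgroup.card_dvd_of_le hle

/-- subgroups of order `26` or `39` -/
theorem n26 (hF : Fintype.card F = 13) (H : Subgroup (PSL2 F))
    (h : Nat.card H = 26 ∨ Nat.card H = 39) :
    78 ∣ Nat.card (Subgroup.normalizer (H : Set (PSL2 F))) := by
  have hG := card_G hF
  obtain ⟨P', hP'⟩ := Sylow.exists_subgroup_card_pow_prime (G := H) 13 (n := 1)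
    (by rcases h with h | h <;> rw [h] <;> norm_num)
  have hidx : P'.index = (Nat.card H).minFac := by
    have h1 := P'.card_mul_index
    rcases h with h | h
    · rw [hP', h] at h1
      have h2 : P'.index = 2 := by omega
      rw [h2, h]; norm_num
    · rw [hP', h] at h1
      have h2 : P'.index = 3 := by omega
      rw [h2, h]; norm_num
  have hn : P'.Normal := Subgroup.normal_of_index_eq_minFac_card hidx
  have hPcard : Nat.card (P'.map H.subtype) = 13 := by
    rw [Subgroup.card_map_of_injective H.subtype_injective, hP']; norm_num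
  have hHN := le_normalizer_map_subtype H P'
  have h78 := n13 hF _ hPcard
  obtain ⟨Ps, hPs⟩ := exists_sylow_coe_eq 13 1 (P'.map H.subtype)
    (by rw [hPcard]; norm_num) (by rw [hG]; norm_num)
  have hPH : P'.map H.subtype ≤ H := Subgroup.map_subtype_le P'
  have key : ∀ x ∈ Subgroup.normalizer
      ((P'.map H.subtype : Subgroup (PSL2 F)) : Set (PSL2 F)), ∀ y ∈ H, x * y * x⁻¹ ∈ H := by
    intro x hx y hy
    have hx' : x ∈ Subgroup.normalizer ((Ps : Subgroup (PSL2 F)) : Set (PSL2 F)) := by
      rw [hPs]; exact hx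
    have hy' : y ∈ Subgroup.normalizer ((Ps : Subgroup (PSL2 F)) : Set (PSL2 F)) := by
      rw [hPs]; exact hHN hy
    have hc := comm_mem_of_mem_normalizer 13 Ps x y hx' hy'
    rw [hPs] at hc
    have h1 : x * y * x⁻¹ = (x * y * x⁻¹ * y⁻¹) * y := by group
    rw [h1]
    exact H.mul_mem (hPH hc) hy
  have hle : Subgroup.normalizer ((P'.map H.subtype : Subgroup (PSL2 F)) : Set (PSL2 F)) ≤
      Subgroup.normalizer (H : Set (PSL2 F)) := by
    intro x hx
    rw [Subgroup.mem_normalizer_iff]
    intro y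
    constructor
    · exact key x hx y
    · intro hy
      have h1 := key x⁻¹ (Subgroup.inv_mem _ hx) _ hy
      rw [inv_inv] at h1
      have e : x⁻¹ * (x * y * x⁻¹) * x = y := by group
      rw [e] at h1; exact h1
  rw [← h78]; exact Subgroup.card_dvd_of_le hle

theorem card_normalizer (hF : Fintype.card F = 13) (H : Subgroup (PSL2 F)) (hH : ¬ H.Normal) :
    Nat.card (Subgroup.normalizer (H : Set (PSL2 F))) = 12 ∨
      Nat.card (Subgroup.normalizer (H : Set (PSL2 F))) = 14 ∨
      Nat.card (Subgroup.normalizer (H : Set (PSL2 F))) = 78 := by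
  have hG := card_G hF
  have hNmem := card_mem hF (Subgroup.normalizer (H : Set (PSL2 F)))
  have hHmem := card_mem hF H
  have hdvd : Nat.card H ∣ Nat.card (Subgroup.normalizer (H : Set (PSL2 F))) :=
    Subgroup.card_dvd_of_le Subgroup.le_normalizer
  have hN : Nat.card (Subgroup.normalizer (H : Set (PSL2 F))) ≠ 1092 := by
    intro h
    apply hH
    rw [← Subgroup.normalizer_eq_top_iff, ← Subgroup.card_eq_iff_eq_top, hG]; exact h
  have hH1 : Nat.card H ≠ 1 := by
    intro h
    apply hH
    rw [Subgroup.eq_bot_of_card_eq H h]; infer_instance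
  unfold InO at hNmem hHmem
  rcases hHmem with h | h | h | h | h | h | h | h | h | h | h | h | h
  · exact absurd h hH1
  · have h1 := n2 hF H h; omega
  · have h1 := n3 hF H h; omega
  · have h1 := n4 hF H h; omega
  · have h1 := n6 hF H h; omega
  · have h1 := n7 hF H h; omega
  · rw [h] at hdvd; omega
  · right; right; exact n13 hF H h
  · rw [h] at hdvd; omega
  · have h1 := n26 hF H (Or.inl h); omega
  · have h1 := n26 hF H (Or.inr h); omega
  · rw [h] at hdvd; omega
  · exfalso
    apply hH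
    have h1 : H = ⊤ := by rw [← Subgroup.card_eq_iff_eq_top, hG]; exact h
    rw [h1]; infer_instance

theorem good_PSL2_13 (hF : Fintype.card F = 13) : Good (PSL2 F) := by
  intro H hH
  exact isCoatom_of_card hF _ (card_normalizer hF H hH)

theorem good_SL2_13 (hF : Fintype.card F = 13) : Good (SL2 F) := by
  have h2 : (2 : F) ≠ 0 := two_ne_zero_of_odd_card (odd13 hF)
  refine good_of_central (QuotientGroup.mk' (Subgroup.center (SL2 F)))
    (QuotientGroup.mk'_surjective _) ?_ ?_ ?_ (good_PSL2_13 hF)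
  · rw [QuotientGroup.ker_mk']
  · rw [QuotientGroup.ker_mk']; exact Cfsg.Agent.S0807.card_center h2
  · intro x hx
    rw [QuotientGroup.ker_mk']
    exact Cfsg.Agent.S2475.mem_center_of_sq_eq_one h2 x (by rw [← sq]; exact hx)

end

end Cfsg.Agent.Lib.Helper16.L13
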