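import Cfsg.Agent.Lib.Helper16.PReducedSubnormal
import Cfsg.Agent.Lib.Helper16.ThompsonAxB2
import Cfsg.Agent.Lib.Helper16.ResidualQuot
import Cfsg.Agent.Lib.Helper16.CharP

set_option autoImplicit false
open Cfsg
open scoped commutatorElement Pointwise

namespace Cfsg.Agent.Lib.Helper16

section
variable {H : Type*} [Group H]

/-- Some `p`-power power of an element of a finite group is a `p'`-element. -/
theorem exists_pow_coprime [Finite H] (p : ℕ) [Fact p.Prime] (g : H) :
    ∃ k : ℕ, (orderOf (g ^ (p ^ k))).Coprime p := by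
  obtain ⟨k, m, hm, hkm⟩ := Nat.exists_eq_pow_mul_and_not_dvd (orderOf_pos g).ne' p
    (Fact.out : p.Prime).ne_one
  refine ⟨k, ?_⟩
  have hxord : orderOf (g ^ (p ^ k)) = m := by
    rw [orderOf_pow' g (pow_ne_zero k (Fact.out : p.Prime).ne_zero), hkm,
      Nat.gcd_eq_right (Dvd.intro _ rfl)]
    exact Nat.mul_div_cancel_left m (pow_pos (Fact.out : p.Prime).pos k)
  rw [hxord]
  exact ((Nat.Prime.coprime_iff_not_dvd (Fact.out : p.Prime)).mpr hm).symm

theorem isElementaryAbelian_of_le {p : ℕ} {V W : Subgroup H} (h : W ≤ V)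
    (hV : Cfsg.IsElementaryAbelian p V) : Cfsg.IsElementaryAbelian p W := by
  refine ⟨?_, fun a ha => hV.2 a (h ha)⟩
  apply isMulCommutative_of_le_centralizer
  exact h.trans ((le_centralizer_of_isMulCommutative hV.1).trans (Subgroup.centralizer_le h))

theorem isElementaryAbelian_map_conj {p : ℕ} {W : Subgroup H}
    (hW : Cfsg.IsElementaryAbelian p W) (g : H) :
    Cfsg.IsElementaryAbelian p (W.map (MulAut.conj g).toMonoidHom) := by
  refine ⟨?_, ?_⟩
  · apply isMulCommutative_of_le_centralizer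
    intro x hx
    rw [mem_centralizer_map_conj_iff]
    rw [mem_map_conj_iff] at hx
    exact le_centralizer_of_isMulCommutative hW.1 hx
  · rintro _ ⟨w, hw, rfl⟩
    rw [← map_pow, hW.2 w hw, map_one]

/-- A subgroup `N` of `L`, subnormal in `L`, that is a `p`-group modulo `C(W)` centralizes the
`p`-reduced normal subgroup `W` of `L` (ambient form). -/
theorem le_centralizer_of_subnormal_in [Finite H] {p : ℕ} [Fact p.Prime] (L W N : Subgroup H)
    (hWL : W ≤ L) (hW : Cfsg.IsPReducedNormal p (W.subgroupOf L))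
    (hN : (N.subgroupOf L).IsSubnormal) (hNL : N ≤ L)
    (hp : ∀ x ∈ N, ∃ k : ℕ, x ^ (p ^ k) ∈ Subgroup.centralizer (W : Set H)) :
    N ≤ Subgroup.centralizer (W : Set H) := by
  have := le_centralizer_of_isSubnormal hW hN ?_
  · rw [centralizer_subgroupOf_eq L W hWL] at this
    intro x hx
    exact this (show (⟨x, hNL hx⟩ : ↥L) ∈ N.subgroupOf L from hx)
  · intro x hx
    obtain ⟨k, hk⟩ := hp (x : H) hx
    refine ⟨k, ?_⟩
    rw [centralizer_subgroupOf_eq L W hWL, Subgroup.mem_subgroupOf]
    simpa using hk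

theorem le_centralizer_of_normal_in [Finite H] {p : ℕ} [Fact p.Prime] (L W N : Subgroup H)
    (hWL : W ≤ L) (hW : Cfsg.IsPReducedNormal p (W.subgroupOf L))
    (hNL : N ≤ L) (hLN : L ≤ Subgroup.normalizer (N : Set H))
    (hp : ∀ x ∈ N, ∃ k : ℕ, x ^ (p ^ k) ∈ Subgroup.centralizer (W : Set H)) :
    N ≤ Subgroup.centralizer (W : Set H) :=
  le_centralizer_of_subnormal_in L W N hWL hW
    ((Subgroup.normal_subgroupOf_iff_le_normalizer hNL).mpr hLN).isSubnormal hNL hp

/-- **Lemma A**: a normal subgroup `N` of the subnormal subgroup `L` that is a `p`-group modulo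
`C(Y_H ∩ L)` centralizes `Y_H`. -/
theorem le_centralizer_largestPReduced_of_inf [Finite H] {p : ℕ} [Fact p.Prime]
    (L N : Subgroup H) (hL : L.IsSubnormal) (hNL : N ≤ L)
    (hLN : L ≤ Subgroup.normalizer (N : Set H))
    (hp : ∀ x ∈ N, ∃ k : ℕ, x ^ (p ^ k) ∈
      Subgroup.centralizer ((Cfsg.largestPReduced p H ⊓ L : Subgroup H) : Set H)) :
    N ≤ Subgroup.centralizer (Cfsg.largestPReduced p H : Set H) := by
  set YH := Cfsg.largestPReduced p H with hYH
  have hY : Cfsg.IsPReducedNormal p YH := largestPReduced_isPReducedNormal p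
  have hYn : YH.Normal := hY.1
  have hNsub : N.IsSubnormal :=
    Subgroup.IsSubnormal.trans hNL
      ((Subgroup.normal_subgroupOf_iff_le_normalizer hNL).mpr hLN).isSubnormal hL
  set R := opUp p N with hR
  have hRN : R ≤ N := opUp_le p N
  have hRV : R ≤ Subgroup.centralizer ((YH ⊓ L : Subgroup H) : Set H) := by
    rw [hR, opUp_le_iff]
    intro x hx hcop
    obtain ⟨k, hk⟩ := hp x hx
    exact mem_of_pow_mem_of_coprime _ x k hcop hk
  have hYR : YH ≤ Subgroup.normalizer (R : Set H) :=
    (isPReducedNormal_le_pCore hY).trans (pCore_le_normalizer_opUp p hNsub)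
  have hRY : R ≤ Subgroup.normalizer (YH : Set H) := by
    rw [Subgroup.normalizer_eq_top]; exact le_top
  have h1 : ⁅YH, R⁆ ≤ YH ⊓ L := by
    apply le_inf
    · exact commutator_le_of_le_normalizer' YH R hRY
    · rw [Subgroup.commutator_comm]
      exact (commutator_le_of_le_normalizer' R YH hYR).trans (hRN.trans hNL)
  have h2 : ⁅⁅YH, R⁆, R⁆ = ⊥ := by
    rw [Subgroup.commutator_eq_bot_iff_le_centralizer]
    exact h1.trans (Subgroup.le_centralizer_iff.mp hRV)
  have h3 : ⁅YH, R⁆ = ⊥ :=
    commutator_eq_bot_of_commutator_commutator_eq_bot YH R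
      (isElementaryAbelian_isPGroup hY.2.1) hRY (opUp_opUp p N) h2
  have hRC : R ≤ Subgroup.centralizer (YH : Set H) := by
    rw [Subgroup.commutator_comm, Subgroup.commutator_eq_bot_iff_le_centralizer] at h3
    exact h3
  apply le_centralizer_of_isSubnormal hY hNsub
  intro x hx
  obtain ⟨k, hk⟩ := exists_pow_mem_opUp p N hx
  exact ⟨k, hRC hk⟩


theorem le_normalizer_largestPReduced_inf [Finite H] {p : ℕ} [Fact p.Prime] (L : Subgroup H) :
    L ≤ Subgroup.normalizer ((Cfsg.largestPReduced p H ⊓ L : Subgroup H) : Set H) := by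
  have hYn : (Cfsg.largestPReduced p H).Normal := (largestPReduced_isPReducedNormal p).1
  refine le_trans ?_ (inf_normalizer_le_normalizer_inf _ L)
  apply le_inf _ Subgroup.le_normalizer
  rw [Subgroup.normalizer_eq_top]; exact le_top

/-- Part (4): `C_L(Y_H) = C_L(Y_H ∩ L)` for subnormal `L`. -/
theorem inf_centralizer_largestPReduced_eq [Finite H] {p : ℕ} [Fact p.Prime] (L : Subgroup H)
    (hL : L.IsSubnormal) :
    L ⊓ Subgroup.centralizer (Cfsg.largestPReduced p H : Set H) =
      L ⊓ Subgroup.centralizer ((Cfsg.largestPReduced p H ⊓ L : Subgroup H) : Set H) := by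
  apply le_antisymm
  · exact inf_le_inf_left _ (Subgroup.centralizer_le inf_le_left)
  · apply le_inf inf_le_left
    apply le_centralizer_largestPReduced_of_inf L _ hL inf_le_left
    · refine le_trans ?_ (inf_normalizer_le_normalizer_inf L _)
      apply le_inf Subgroup.le_normalizer
      exact (le_normalizer_largestPReduced_inf L).trans (normalizer_le_normalizer_centralizer _)
    · intro x hx
      exact ⟨0, by simpa using hx.2⟩

/-- Part (2): `Y_H ∩ L` is a `p`-reduced normal subgroup of the subnormal subgroup `L`. -/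
theorem largestPReduced_inf_isPReducedNormal [Finite H] {p : ℕ} [Fact p.Prime] (L : Subgroup H)
    (hL : L.IsSubnormal) :
    Cfsg.IsPReducedNormal p ((Cfsg.largestPReduced p H ⊓ L).subgroupOf L) := by
  have hY : Cfsg.IsPReducedNormal p (Cfsg.largestPReduced p H) :=
    largestPReduced_isPReducedNormal p
  rw [isPReducedNormal_subgroupOf_iff p L _ inf_le_right]
  refine ⟨le_normalizer_largestPReduced_inf L, isElementaryAbelian_of_le inf_le_left hY.2.1, ?_⟩
  intro N hNL hLN _ hp
  exact (le_centralizer_largestPReduced_of_inf L N hL hNL hLN hp).trans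
    (Subgroup.centralizer_le inf_le_left)

/-- Part (1): `Y_H ∩ L = Y_H ∩ Y_L`. -/
theorem largestPReduced_inf_eq [Finite H] {p : ℕ} [Fact p.Prime] (L : Subgroup H)
    (hL : L.IsSubnormal) :
    Cfsg.largestPReduced p H ⊓ L = Cfsg.largestPReduced p H ⊓ Cfsg.largestPReducedOf p L := by
  apply le_antisymm
  · apply le_inf inf_le_left
    exact le_largestPReducedOf p L _ inf_le_right (largestPReduced_inf_isPReducedNormal L hL)
  · exact inf_le_inf_left _ (largestPReducedOf_le p L)


theorem conj_mem_of_mem_normalizer {L : Subgroup H} {g x : H}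
    (hg : g ∈ Subgroup.normalizer (L : Set H)) (hx : x ∈ L) : g * x * g⁻¹ ∈ L :=
  (Subgroup.mem_normalizer_iff.mp hg x).mp hx

theorem conj_inv_mem_of_mem_normalizer {L : Subgroup H} {g x : H}
    (hg : g ∈ Subgroup.normalizer (L : Set H)) (hx : x ∈ L) : g⁻¹ * x * g ∈ L := by
  have := (Subgroup.mem_normalizer_iff.mp (Subgroup.inv_mem _ hg) x).mp hx
  simpa using this

/-- Conjugation by an element normalizing `L` preserves `p`-reduced normal subgroups of `L`. -/
theorem isPReducedNormal_subgroupOf_map_conj {p : ℕ} (L W : Subgroup H) (hWL : W ≤ L) (g : H)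
    (hg : g ∈ Subgroup.normalizer (L : Set H))
    (hW : Cfsg.IsPReducedNormal p (W.subgroupOf L)) :
    Cfsg.IsPReducedNormal p ((W.map (MulAut.conj g).toMonoidHom).subgroupOf L) := by
  have hWgL : W.map (MulAut.conj g).toMonoidHom ≤ L :=
    (map_conj_mono hWL g).trans_eq ((map_conj_eq_self_iff L g).mpr hg)
  rw [isPReducedNormal_subgroupOf_iff p L _ hWL] at hW
  obtain ⟨h1, h2, h3⟩ := hW
  rw [isPReducedNormal_subgroupOf_iff p L _ hWgL]
  refine ⟨?_, isElementaryAbelian_map_conj h2 g, ?_⟩
  · intro x hx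
    rw [mem_normalizer_map_conj_iff]
    exact h1 (conj_inv_mem_of_mem_normalizer hg hx)
  · intro N hNL hLN hCN hp
    have key := h3 (N.map (MulAut.conj g⁻¹).toMonoidHom) ?_ ?_ ?_ ?_
    · intro x hx
      rw [mem_centralizer_map_conj_iff]
      apply key
      rw [mem_map_conj_iff]
      have : g⁻¹⁻¹ * (g⁻¹ * x * g) * g⁻¹ = x := by group
      rw [this]; exact hx
    · exact (map_conj_mono hNL g⁻¹).trans_eq
        ((map_conj_eq_self_iff L g⁻¹).mpr (Subgroup.inv_mem _ hg))
    · intro x hx
      rw [mem_normalizer_map_conj_iff]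
      apply hLN
      have := conj_mem_of_mem_normalizer hg hx
      simpa using this
    · intro x hx
      obtain ⟨hxL, hxC⟩ := Subgroup.mem_inf.mp hx
      rw [mem_map_conj_iff]
      apply hCN
      refine Subgroup.mem_inf.mpr ⟨by simpa using conj_mem_of_mem_normalizer hg hxL, ?_⟩
      rw [mem_centralizer_map_conj_iff]
      have : g⁻¹ * (g⁻¹⁻¹ * x * g⁻¹) * g = x := by group
      rw [this]; exact hxC
    · intro x hx
      rw [mem_map_conj_iff] at hx
      obtain ⟨k, hk⟩ := hp _ hx
      refine ⟨k, ?_⟩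
      rw [mem_centralizer_map_conj_iff] at hk
      have : g⁻¹ * (g⁻¹⁻¹ * x * g⁻¹) ^ (p ^ k) * g = x ^ (p ^ k) := by
        rw [inv_inv, conj_pow]; group
      rwa [this] at hk

/-- `N_H(L)` normalizes `Y_L`. -/
theorem normalizer_le_normalizer_largestPReducedOf [Finite H] (p : ℕ) [Fact p.Prime]
    (L : Subgroup H) :
    Subgroup.normalizer (L : Set H) ≤
      Subgroup.normalizer ((Cfsg.largestPReducedOf p L : Subgroup H) : Set H) := by
  intro g hg
  have key : ∀ g ∈ Subgroup.normalizer (L : Set H),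
      (Cfsg.largestPReducedOf p L).map (MulAut.conj g).toMonoidHom ≤
        Cfsg.largestPReducedOf p L := by
    intro g hg
    have hWgL : (Cfsg.largestPReducedOf p L).map (MulAut.conj g).toMonoidHom ≤ L :=
      (map_conj_mono (largestPReducedOf_le p L) g).trans_eq ((map_conj_eq_self_iff L g).mpr hg)
    exact le_largestPReducedOf p L _ hWgL
      (isPReducedNormal_subgroupOf_map_conj L _ (largestPReducedOf_le p L) g hg
        (largestPReducedOf_isPReducedNormal p L))
  exact mem_normalizer_of_map_conj_le _ g (key g hg) (key g⁻¹ (Subgroup.inv_mem _ hg))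

/-- `Y_⊤ ≤ Y_H`. -/
theorem largestPReducedOf_top_le [Finite H] (p : ℕ) [Fact p.Prime] :
    Cfsg.largestPReducedOf p (⊤ : Subgroup H) ≤ Cfsg.largestPReduced p H := by
  apply le_largestPReduced
  have h := largestPReducedOf_isPReducedNormal p (⊤ : Subgroup H)
  rw [isPReducedNormal_subgroupOf_iff p ⊤ _ le_top] at h
  obtain ⟨h1, h2, h3⟩ := h
  rw [isPReducedNormal_iff]
  refine ⟨Subgroup.normalizer_eq_top_iff.mp (top_le_iff.mp h1), h2, ?_⟩
  intro N hN hCN hp
  exact h3 N le_top (by rw [Subgroup.normalizer_eq_top]) (inf_le_right.trans hCN) hp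

/-- Normal case: if `L ⊴ K` then `C_L(Y_K) ≤ C(Y_L)`. -/
theorem inf_centralizer_le_of_normal [Finite H] {p : ℕ} [Fact p.Prime] (K L : Subgroup H)
    (hLK : L ≤ K) (hKL : K ≤ Subgroup.normalizer (L : Set H)) :
    L ⊓ Subgroup.centralizer ((Cfsg.largestPReducedOf p K : Subgroup H) : Set H) ≤
      Subgroup.centralizer ((Cfsg.largestPReducedOf p L : Subgroup H) : Set H) := by
  set W := Cfsg.largestPReducedOf p L with hW
  have hWL : W ≤ L := largestPReducedOf_le p L
  have hWred : Cfsg.IsPReducedNormal p (W.subgroupOf L) := largestPReducedOf_isPReducedNormal p L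
  have hWE : Cfsg.IsElementaryAbelian p W := largestPReducedOf_isElementaryAbelian p L
  have hKW : K ≤ Subgroup.normalizer (W : Set H) :=
    hKL.trans (normalizer_le_normalizer_largestPReducedOf p L)
  obtain ⟨U, _, hU⟩ := Finite.exists_le_minimal
    (p := fun U : Subgroup H => U ≤ W ∧ K ≤ Subgroup.normalizer (U : Set H) ∧
      L ⊓ Subgroup.centralizer (U : Set H) ≤ Subgroup.centralizer (W : Set H))
    (a := W) ⟨le_rfl, hKW, inf_le_right⟩
  obtain ⟨hUW, hKU, hUC⟩ := hU.prop
  have hUK : U ≤ K := hUW.trans (hWL.trans hLK)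
  have hUE := isElementaryAbelian_of_le hUW hWE
  have hUp : IsPGroup p U := isElementaryAbelian_isPGroup hUE
  suffices hred : Cfsg.IsPReducedNormal p (U.subgroupOf K) by
    have hUY := le_largestPReducedOf p K U hUK hred
    exact (inf_le_inf_left _ (Subgroup.centralizer_le hUY)).trans hUC
  rw [isPReducedNormal_subgroupOf_iff p K U hUK]
  refine ⟨hKU, hUE, ?_⟩
  intro N₁ hN₁K hKN₁ hCN₁ hp
  set U₁ := U ⊓ Subgroup.centralizer (N₁ : Set H) with hU₁
  have hKU₁ : K ≤ Subgroup.normalizer (U₁ : Set H) := by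
    refine le_trans ?_ (inf_normalizer_le_normalizer_inf _ _)
    exact le_inf hKU (hKN₁.trans (normalizer_le_normalizer_centralizer _))
  have hNL : N₁ ⊓ L ≤ Subgroup.centralizer (W : Set H) := by
    apply le_centralizer_of_normal_in L W _ hWL hWred inf_le_right
    · refine le_trans ?_ (inf_normalizer_le_normalizer_inf _ _)
      exact le_inf (hLK.trans hKN₁) Subgroup.le_normalizer
    · intro x hx
      obtain ⟨hx1, hx2⟩ := Subgroup.mem_inf.mp hx
      obtain ⟨k, hk⟩ := hp x hx1
      exact ⟨k, hUC (Subgroup.mem_inf.mpr ⟨L.pow_mem hx2 _, hk⟩)⟩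
  have hcomm : ⁅N₁, L⁆ ≤ Subgroup.centralizer (U : Set H) := by
    have h1 : ⁅N₁, L⁆ ≤ N₁ := commutator_le_of_le_normalizer' N₁ L (hLK.trans hKN₁)
    have h2 : ⁅N₁, L⁆ ≤ L := by
      rw [Subgroup.commutator_comm]
      exact commutator_le_of_le_normalizer' L N₁ (hN₁K.trans hKL)
    exact (le_inf h1 h2).trans (hNL.trans (Subgroup.centralizer_le hUW))
  obtain ⟨P⟩ : Nonempty (Sylow p ↥N₁) := inferInstance
  set B := (P : Subgroup ↥N₁).map N₁.subtype with hB
  have hBp : IsPGroup p B := P.2.map _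
  have hBN₁ : B ≤ N₁ := Subgroup.map_subtype_le _
  have hRU : opUp p N₁ ≤ Subgroup.centralizer (U : Set H) := by
    rw [opUp_le_iff]
    intro x hx hcop
    obtain ⟨k, hk⟩ := hp x hx
    exact mem_of_pow_mem_of_coprime _ x k hcop hk
  have hUB : U ⊓ Subgroup.centralizer (B : Set H) ≤ U₁ := by
    intro u hu
    obtain ⟨hu1, hu2⟩ := Subgroup.mem_inf.mp hu
    refine Subgroup.mem_inf.mpr ⟨hu1, ?_⟩
    rw [Subgroup.mem_centralizer_iff]
    intro n hn
    obtain ⟨c, hc, y, hy, rfl⟩ := exists_opUp_mul_sylow p N₁ P hn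
    have e1 : c * u = u * c := (Subgroup.mem_centralizer_iff.mp (hRU hc) u hu1).symm
    have e2 : y * u = u * y := Subgroup.mem_centralizer_iff.mp hu2 y hy
    rw [mul_assoc, e2, ← mul_assoc, e1, mul_assoc]
  have hX : L ⊓ Subgroup.centralizer (U₁ : Set H) ≤ Subgroup.centralizer (W : Set H) := by
    apply le_centralizer_of_normal_in L W _ hWL hWred inf_le_left
    · refine le_trans ?_ (inf_normalizer_le_normalizer_inf _ _)
      exact le_inf Subgroup.le_normalizer
        ((hLK.trans hKU₁).trans (normalizer_le_normalizer_centralizer _))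
    · intro x hx
      obtain ⟨hxL, hxC⟩ := Subgroup.mem_inf.mp hx
      obtain ⟨k, hk⟩ := exists_pow_coprime p x
      refine ⟨k, ?_⟩
      have hyL : x ^ (p ^ k) ∈ L := L.pow_mem hxL _
      have hyC : x ^ (p ^ k) ∈ Subgroup.centralizer (U₁ : Set H) := Subgroup.pow_mem _ hxC _
      apply hUC
      refine Subgroup.mem_inf.mpr ⟨hyL, ?_⟩
      apply thompson_AxB_weak B U (x ^ (p ^ k)) hBp hUp hk
      · exact (Subgroup.commutator_mono hBN₁ (Subgroup.zpowers_le.mpr hyL)).trans hcomm
      · exact hBN₁.trans (hN₁K.trans hKU)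
      · exact hKU (hLK hyL)
      · exact Subgroup.centralizer_le hUB hyC
  have hUU₁ : U ≤ U₁ := hU.le_of_le ⟨inf_le_left.trans hUW, hKU₁, hX⟩ inf_le_left
  exact Subgroup.le_centralizer_iff.mp (hUU₁.trans inf_le_right)

/-- The hard inclusion of part (3): `C_L(Y_H) ≤ C(Y_L)` for subnormal `L`. -/
theorem inf_centralizer_largestPReduced_le [Finite H] {p : ℕ} [Fact p.Prime] (L : Subgroup H)
    (hL : L.IsSubnormal) :
    L ⊓ Subgroup.centralizer (Cfsg.largestPReduced p H : Set H) ≤
      Subgroup.centralizer ((Cfsg.largestPReducedOf p L : Subgroup H) : Set H) := by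
  induction hL with
  | top => exact inf_le_right.trans (Subgroup.centralizer_le (largestPReducedOf_top_le p))
  | step A K hAK hK hN ih =>
    have hKA : K ≤ Subgroup.normalizer (A : Set H) :=
      (Subgroup.normal_subgroupOf_iff_le_normalizer hAK).mp hN
    refine le_trans ?_ (inf_centralizer_le_of_normal K A hAK hKA)
    apply le_inf inf_le_left
    exact (inf_le_inf_right _ hAK).trans ih

end

end Cfsg.Agent.Lib.Helper16
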