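import Cfsg.Agent.Lib.Helper16.ParabolicChar

set_option autoImplicit false
open Cfsg
open scoped commutatorElement Pointwise

namespace Cfsg.Agent.Lib.Helper16

section
variable {G : Type*} [Group G] [Finite G] {p : ℕ} [Fact p.Prime]

/-- If `T = S ∩ G₁ ≤ L ≤ G₁` with `G₁` subnormal, then `O_p(L) ≤ T`. -/
theorem opDown_le_sylow_inf_of_isSubnormal (S : Sylow p G) (G₁ : Subgroup G) (hsn : G₁.IsSubnormal)
    (L : Subgroup G) (hLG : L ≤ G₁) (hTL : (S : Subgroup G) ⊓ G₁ ≤ L) :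
    opDown p L ≤ (S : Subgroup G) ⊓ G₁ := by
  have hnd := not_dvd_relIndex_sylow_subnormal S hsn
  let T₁ : Sylow p ↥G₁ := (S.2.comap_subtype).toSylow hnd
  have hT₁ : (T₁ : Subgroup ↥G₁) = (S : Subgroup G).subgroupOf G₁ := rfl
  have h1 := opDown_le_sylow T₁ (L.subgroupOf G₁) (by
    rw [hT₁]
    intro x hx
    rw [Subgroup.mem_subgroupOf] at hx ⊢
    exact hTL ⟨hx, x.2⟩)
  rw [opDown_subgroupOf L G₁ hLG, hT₁] at h1
  intro x hx
  have hxG : x ∈ G₁ := hLG (opDown_le p L hx)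
  have := h1 (show (⟨x, hxG⟩ : ↥G₁) ∈ (opDown p L).subgroupOf G₁ from
    Subgroup.mem_subgroupOf.mpr hx)
  exact ⟨Subgroup.mem_subgroupOf.mp this, hxG⟩

/-- Abstract key step: if `G` has parabolic characteristic `p`, `G₁` is subnormal, `R ≤ G₁` is
normalized by `T = S ∩ G₁`, and there is a nontrivial subgroup `Z₀ ≤ O_p(N_{G₁}(R))` normalized by
the Sylow `p`-subgroup `S` of `G`, then `N_{G₁}(R)` has characteristic `p`. -/
theorem isCharPSub_local_of_parabolic_aux (hG : Cfsg.IsOfParabolicCharacteristic p G)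
    (S : Sylow p G) (G₁ : Subgroup G) (hsn : G₁.IsSubnormal)
    (R : Subgroup G) (hRG : R ≤ G₁) (hRp : IsPGroup p R)
    (hTR : (S : Subgroup G) ⊓ G₁ ≤ Subgroup.normalizer (R : Set G))
    (Z₀ : Subgroup G) (hZQ : Z₀ ≤ opDown p (G₁ ⊓ Subgroup.normalizer (R : Set G))) (hZ1 : Z₀ ≠ ⊥)
    (hSN : (S : Subgroup G) ≤ Subgroup.normalizer (Z₀ : Set G)) :
    IsCharPSub p (G₁ ⊓ Subgroup.normalizer (R : Set G)) := by
  set T := (S : Subgroup G) ⊓ G₁ with hT
  set L := G₁ ⊓ Subgroup.normalizer (R : Set G) with hL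
  set Q := opDown p L with hQ
  have hTL : T ≤ L := le_inf inf_le_right hTR
  have hRQ : R ≤ Q := le_opDown p (le_inf hRG Subgroup.le_normalizer) inf_le_right hRp
  have hQL : Q ≤ L := opDown_le p L
  have hLQ : L ≤ Subgroup.normalizer (Q : Set G) := le_normalizer_opDown p L
  have hQp : IsPGroup p Q := opDown_isPGroup p L
  have hQT : Q ≤ T := opDown_le_sylow_inf_of_isSubnormal S G₁ hsn L inf_le_left hTL
  have hZp : IsPGroup p Z₀ := hQp.to_le hZQ
  have hpar : Cfsg.IsParabolic p (Subgroup.normalizer (Z₀ : Set G)) := ⟨S, hSN⟩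
  have hK₀ : IsCharPSub p (Subgroup.normalizer (Z₀ : Set G)) :=
    isCharPSub_of_type p _ (hG Z₀ hZp hZ1 hpar)
  have hK₁ : IsCharPSub p (Subgroup.normalizer (Z₀ : Set G) ⊓ G₁) :=
    isCharPSub_inf_of_isSubnormal _ hK₀ hsn
  have hQK₁ : Q ≤ Subgroup.normalizer (Z₀ : Set G) ⊓ G₁ :=
    le_inf ((hQT.trans inf_le_left).trans hSN) (hQL.trans inf_le_left)
  have hC := isCharPSub_inf_centralizer (Subgroup.normalizer (Z₀ : Set G) ⊓ G₁) Q hK₁ hQp
    (hQK₁.trans Subgroup.le_normalizer)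
  have hCeq : Subgroup.normalizer (Z₀ : Set G) ⊓ G₁ ⊓ Subgroup.centralizer (Q : Set G) =
      G₁ ⊓ Subgroup.centralizer (Q : Set G) := by
    apply le_antisymm
    · exact le_inf (inf_le_left.trans inf_le_right) inf_le_right
    · refine le_inf (le_inf ?_ inf_le_left) inf_le_right
      exact inf_le_right.trans ((Subgroup.centralizer_le hZQ).trans
        (Subgroup.centralizer_le_normalizer _))
  rw [hCeq] at hC
  set C := G₁ ⊓ Subgroup.centralizer (Q : Set G) with hCdef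
  have hCL : C ≤ L := le_inf inf_le_left
    (inf_le_right.trans ((Subgroup.centralizer_le hRQ).trans
      (Subgroup.centralizer_le_normalizer _)))
  have hLC : L ≤ Subgroup.normalizer (C : Set G) := by
    refine le_trans ?_ (inf_normalizer_le_normalizer_inf _ _)
    exact le_inf (inf_le_left.trans Subgroup.le_normalizer)
      (hLQ.trans (normalizer_le_normalizer_centralizer Q))
  have hOC : opDown p C ≤ Q := opDown_le_opDown_of_normal p hCL hLC
  intro x hx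
  apply hOC
  apply hC
  exact ⟨⟨hx.1.1, hx.2⟩, Subgroup.centralizer_le hOC hx.2⟩

/-- Parabolic characteristic `p` passes to a subnormal subgroup `G₁` provided every nontrivial
normal subgroup `A` of `T = S ∩ G₁` contains a nontrivial subgroup normalized by `S`. -/
theorem isOfParabolicCharacteristic_of_isSubnormal (hG : Cfsg.IsOfParabolicCharacteristic p G)
    (S : Sylow p G) (G₁ : Subgroup G) (hsn : G₁.IsSubnormal)
    (hkey : ∀ A : Subgroup G, A ≤ (S : Subgroup G) ⊓ G₁ → A ≠ ⊥ →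
      (S : Subgroup G) ⊓ G₁ ≤ Subgroup.normalizer (A : Set G) →
      ∃ Z₀ : Subgroup G, Z₀ ≤ A ∧ Z₀ ≠ ⊥ ∧ (S : Subgroup G) ≤ Subgroup.normalizer (Z₀ : Set G)) :
    Cfsg.IsOfParabolicCharacteristic p ↥G₁ := by
  intro R hRp hR1 hpar
  apply type_of_isCharPSub p (Subgroup.normalizer (R : Set ↥G₁))
  obtain ⟨T', hT'⟩ := hpar
  have hnd := not_dvd_relIndex_sylow_subnormal S hsn
  let T₁ : Sylow p ↥G₁ := (S.2.comap_subtype).toSylow hnd
  have hT₁ : (T₁ : Subgroup ↥G₁) = (S : Subgroup G).subgroupOf G₁ := rfl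
  obtain ⟨g, hg⟩ := MulAction.exists_smul_eq ↥G₁ T' T₁
  set R₂ : Subgroup ↥G₁ := R.map (MulAut.conj g).toMonoidHom with hR₂
  have hR₂p : IsPGroup p R₂ := hRp.map _
  have hR₂1 : R₂ ≠ ⊥ := by
    intro h
    apply hR1
    rw [hR₂, Subgroup.map_eq_bot_iff_of_injective _ (MulAut.conj g).injective] at h
    exact h
  have hT₁R₂ : (T₁ : Subgroup ↥G₁) ≤ Subgroup.normalizer (R₂ : Set ↥G₁) := by
    rw [← hg]
    intro x hx
    rw [Sylow.coe_subgroup_smul, Subgroup.mem_pointwise_smul_iff_inv_smul_mem] at hx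
    rw [hR₂, mem_normalizer_map_conj_iff]
    have := hT' hx
    simpa [MulAut.smul_def] using this
  set R₂' : Subgroup G := R₂.map G₁.subtype with hR₂'
  have hR₂'G : R₂' ≤ G₁ := Subgroup.map_subtype_le R₂
  have hR₂'p : IsPGroup p R₂' := hR₂p.map _
  have hR₂'1 : R₂' ≠ ⊥ := by
    intro h
    apply hR₂1
    rw [hR₂', Subgroup.map_eq_bot_iff_of_injective _ G₁.subtype_injective] at h
    exact h
  have hTR : (S : Subgroup G) ⊓ G₁ ≤ Subgroup.normalizer (R₂' : Set G) := by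
    intro x hx
    have hxn : (⟨x, hx.2⟩ : ↥G₁) ∈ Subgroup.normalizer (R₂ : Set ↥G₁) := by
      apply hT₁R₂
      rw [hT₁, Subgroup.mem_subgroupOf]
      exact hx.1
    apply mem_normalizer_of_conj_mem
    · rintro _ ⟨y, hy, rfl⟩
      exact ⟨⟨x, hx.2⟩ * y * ⟨x, hx.2⟩⁻¹, conj_mem_of_mem_normalizer hxn hy, rfl⟩
    · rintro _ ⟨y, hy, rfl⟩
      exact ⟨⟨x, hx.2⟩⁻¹ * y * ⟨x, hx.2⟩, conj_inv_mem_of_mem_normalizer hxn hy, rfl⟩
  -- apply the key hypothesis to `A = O_p(N_{G₁}(R₂'))`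
  set L := G₁ ⊓ Subgroup.normalizer (R₂' : Set G) with hL
  have hTL : (S : Subgroup G) ⊓ G₁ ≤ L := le_inf inf_le_right hTR
  have hRQ : R₂' ≤ opDown p L :=
    le_opDown p (le_inf hR₂'G Subgroup.le_normalizer) inf_le_right hR₂'p
  have hQ1 : opDown p L ≠ ⊥ := fun h => hR₂'1 (le_bot_iff.mp (h ▸ hRQ))
  have hQT := opDown_le_sylow_inf_of_isSubnormal S G₁ hsn L inf_le_left hTL
  obtain ⟨Z₀, hZQ, hZ1, hSN⟩ := hkey (opDown p L) hQT hQ1 (hTL.trans (le_normalizer_opDown p L))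
  have main := isCharPSub_local_of_parabolic_aux hG S G₁ hsn R₂' hR₂'G hR₂'p hTR Z₀ hZQ hZ1 hSN
  have h2 := isCharPSub_subgroupOf _ G₁ inf_le_left main
  have e1 : (G₁ ⊓ Subgroup.normalizer (R₂' : Set G)).subgroupOf G₁ =
      Subgroup.normalizer (R₂ : Set ↥G₁) := by
    rw [Subgroup.inf_subgroupOf_left, Subgroup.subgroupOf_normalizer_eq hR₂'G]
    congr 2
    exact Subgroup.comap_map_eq_self_of_injective G₁.subtype_injective R₂
  rw [e1] at h2
  have h3 := isCharPSub_map_conj _ g⁻¹ h2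
  have e2 : (Subgroup.normalizer (R₂ : Set ↥G₁)).map (MulAut.conj g⁻¹).toMonoidHom =
      Subgroup.normalizer (R : Set ↥G₁) := by
    rw [Subgroup.map_equiv_normalizer_eq, hR₂, map_conj_map_conj, inv_mul_cancel, map_conj_one]
  rwa [e2] at h3

end

end Cfsg.Agent.Lib.Helper16
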