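import Cfsg.Agent.Lib.Helper16.Subnormal
import Cfsg.Agent.Lib.Helper16.SubnormalPGroup
import Cfsg.Agent.Lib.Helper16.SubnormalResidual
import Cfsg.Agent.Lib.Helper20.Quasisimple
import Cfsg.Agent.Lib.Helper20.Components
import Cfsg.Agent.Lib.Helper20.LayerQuotient

/-!
Quasisimple normal sections with `O_p = 1` (helper16): tools for the large-subgroup lemma.
-/

set_option autoImplicit false
open Cfsg
open scoped commutatorElement

namespace Cfsg.Agent.Lib.Helper16

/-- Let `K ⊴ X` be quasisimple with `X / K` a `p`-group and `O_p(X) = 1`. Then `[K, P] = K` for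
every nontrivial `p`-subgroup `P` of `X`. -/
theorem commutator_eq_of_quasisimple_normal {X : Type*} [Group X] [Finite X] {p : ℕ}
    [Fact p.Prime] (K : Subgroup X) [hKn : K.Normal] (hK : Cfsg.IsQuasisimple ↥K)
    (hpq : ∀ x : X, ∃ k : ℕ, x ^ (p ^ k) ∈ K) (hcore : Cfsg.pCore p X = ⊥)
    (P : Subgroup X) (hP : IsPGroup p P) (hP1 : P ≠ ⊥) : ⁅K, P⁆ = K := by
  have hle : ⁅K, P⁆ ≤ K := Subgroup.commutator_le_left K P
  have hKN : K ≤ Subgroup.normalizer ((⁅K, P⁆ : Subgroup X) : Set X) :=
    le_normalizer_commutator_left K P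
  have hn : ((⁅K, P⁆).subgroupOf K).Normal :=
    (Subgroup.normal_subgroupOf_iff_le_normalizer hle).mpr hKN
  rcases Cfsg.Agent.Lib.Helper20.quasisimple_normal_top_or_le_center hK _ hn with h | h
  · rw [Subgroup.subgroupOf_eq_top] at h
    exact le_antisymm hle h
  · exfalso
    have h1 : ⁅⁅K, P⁆, K⁆ = ⊥ := by
      rw [Subgroup.commutator_eq_bot_iff_le_centralizer]
      intro n hn'
      rw [Subgroup.mem_centralizer_iff]
      intro k hk
      have hc := h (show (⟨n, hle hn'⟩ : ↥K) ∈ (⁅K, P⁆).subgroupOf K from hn')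
      have h2 := (Subgroup.mem_center_iff.mp hc) ⟨k, hk⟩
      have h3 := congrArg Subtype.val h2
      simpa using h3
    have h2 : ⁅⁅P, K⁆, K⁆ = ⊥ := by rw [Subgroup.commutator_comm P K]; exact h1
    have h3 := Subgroup.commutator_commutator_eq_bot_of_rotate h1 h2
    have hKK : ⁅K, K⁆ = K := Subgroup.isPerfect_iff.mp hK.1
    rw [hKK, Subgroup.commutator_eq_bot_iff_le_centralizer] at h3
    -- `P` is subnormal
    have hB : (K ⊔ P).IsSubnormal :=
      isSubnormal_of_le_of_pgroup_quot (p := p) K (K ⊔ P) le_sup_left hpq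
    have hBN : K ⊔ P ≤ Subgroup.normalizer (P : Set X) :=
      sup_le (h3.trans (Subgroup.centralizer_le_normalizer _)) Subgroup.le_normalizer
    have hn' : (P.subgroupOf (K ⊔ P)).Normal :=
      (Subgroup.normal_subgroupOf_iff_le_normalizer le_sup_right).mpr hBN
    have hPsn : P.IsSubnormal := Subgroup.IsSubnormal.step P (K ⊔ P) le_sup_right hB hn'
    have h4 : P ≤ opDown p P := le_opDown p le_rfl Subgroup.le_normalizer hP
    have h5 := h4.trans (opDown_le_pCore_of_isSubnormal p hPsn)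
    rw [hcore, le_bot_iff] at h5
    exact hP1 h5

/-- A normal subgroup `N` of a quasisimple group `K` with `K / N` a `p`-group is `K`. -/
theorem eq_of_quasisimple_pquot {X : Type*} [Group X] [Finite X] {p : ℕ} [Fact p.Prime]
    (K N : Subgroup X) (hK : Cfsg.IsQuasisimple ↥K) (hNK : N ≤ K)
    (hKN : K ≤ Subgroup.normalizer (N : Set X))
    (hpq : ∀ x ∈ K, ∃ k : ℕ, x ^ (p ^ k) ∈ N) : N = K := by
  have hn : (N.subgroupOf K).Normal := (Subgroup.normal_subgroupOf_iff_le_normalizer hNK).mpr hKN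
  rcases Cfsg.Agent.Lib.Helper20.quasisimple_normal_top_or_le_center hK _ hn with h | h
  · rw [Subgroup.subgroupOf_eq_top] at h
    exact le_antisymm hNK h
  · exfalso
    have hp : IsPGroup p (↥K ⧸ Subgroup.center ↥K) := by
      intro q
      obtain ⟨x, rfl⟩ := QuotientGroup.mk_surjective q
      obtain ⟨k, hk⟩ := hpq x.1 x.2
      refine ⟨k, ?_⟩
      rw [← QuotientGroup.mk_pow, QuotientGroup.eq_one_iff]
      apply h
      rw [Subgroup.mem_subgroupOf]
      simpa using hk
    have hnil : Group.IsNilpotent (↥K ⧸ Subgroup.center ↥K) := hp.isNilpotent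
    have hsolvq : Group.IsSolvable (↥K ⧸ Subgroup.center ↥K) := inferInstance
    have hsolvz : Group.IsSolvable ↥(Subgroup.center ↥K) :=
      Group.isSolvable_of_comm (fun a b => by
        apply Subtype.ext
        have := (Subgroup.mem_center_iff.mp a.2) (b : ↥K)
        simpa using this.symm)
    have hsolv : Group.IsSolvable ↥K :=
      Group.isSolvable_of_ker_le_range (Subgroup.center ↥K).subtype
        (QuotientGroup.mk' (Subgroup.center ↥K))
        (by intro x hx; rw [QuotientGroup.ker_mk'] at hx; exact ⟨⟨x, hx⟩, rfl⟩)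
    exact Cfsg.Agent.Lib.Helper20.isQuasisimple_not_isSolvable hK hsolv

/-- A perfect central extension of a quasisimple group is quasisimple. -/
theorem isQuasisimple_of_quotient_central {Y : Type*} [Group Y] (hperf : Group.IsPerfect Y)
    (N : Subgroup Y) [N.Normal] (hN : N ≤ Subgroup.center Y)
    (hq : Cfsg.IsQuasisimple (Y ⧸ N)) : Cfsg.IsQuasisimple Y := by
  refine ⟨hperf, ?_⟩
  have hs := hq.2
  have hker := Cfsg.Agent.Lib.Helper20.ker_to_central_quotient_eq_center hperf N hN
  have hρ : Function.Surjective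
      ((QuotientGroup.mk' (Subgroup.center (Y ⧸ N))).comp (QuotientGroup.mk' N)) :=
    (QuotientGroup.mk'_surjective _).comp (QuotientGroup.mk'_surjective _)
  exact ((QuotientGroup.quotientMulEquivOfEq hker.symm).trans
    (QuotientGroup.quotientKerEquivOfSurjective _ hρ)).isSimpleGroup

section Bridge
variable {G : Type*} [Group G]

theorem commutator_le_of_le (E X Z : Subgroup G) (hX : X ≤ E) (hZ : Z ≤ E) : ⁅X, Z⁆ ≤ E := by
  rw [Subgroup.commutator_le]
  intro a ha b hb
  rw [commutatorElement_def]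
  exact E.mul_mem (E.mul_mem (E.mul_mem (hX ha) (hZ hb)) (E.inv_mem (hX ha))) (E.inv_mem (hZ hb))

theorem subgroupOf_commutator (E X Z : Subgroup G) (hX : X ≤ E) (hZ : Z ≤ E) :
    (⁅X, Z⁆).subgroupOf E = ⁅X.subgroupOf E, Z.subgroupOf E⁆ := by
  apply Subgroup.map_injective E.subtype_injective
  rw [Subgroup.map_commutator, Subgroup.map_subgroupOf_eq_of_le (commutator_le_of_le E X Z hX hZ),
    Subgroup.map_subgroupOf_eq_of_le hX, Subgroup.map_subgroupOf_eq_of_le hZ]

/-- Equal images in `E / C_E` give equal joins with `C_E`. -/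
theorem sup_eq_of_map_mk_eq (E C X Z : Subgroup G) [hn : (C.subgroupOf E).Normal] (hX : X ≤ E)
    (hZ : Z ≤ E)
    (h : (X.subgroupOf E).map (QuotientGroup.mk' (C.subgroupOf E)) =
      (Z.subgroupOf E).map (QuotientGroup.mk' (C.subgroupOf E))) :
    X ⊔ (E ⊓ C) = Z ⊔ (E ⊓ C) := by
  have h1 := congrArg (Subgroup.comap (QuotientGroup.mk' (C.subgroupOf E))) h
  rw [Subgroup.comap_map_eq, Subgroup.comap_map_eq, QuotientGroup.ker_mk'] at h1
  have h2 := congrArg (Subgroup.map E.subtype) h1
  rw [Subgroup.map_sup, Subgroup.map_sup, Subgroup.map_subgroupOf_eq_of_le hX,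
    Subgroup.map_subgroupOf_eq_of_le hZ, Subgroup.subgroupOf_map_subtype, inf_comm] at h2
  exact h2

/-- The image of a commutator in `E / C_E`. -/
theorem map_mk_commutator (E C X Z : Subgroup G) [hn : (C.subgroupOf E).Normal] (hX : X ≤ E)
    (hZ : Z ≤ E) :
    ((⁅X, Z⁆).subgroupOf E).map (QuotientGroup.mk' (C.subgroupOf E)) =
      ⁅(X.subgroupOf E).map (QuotientGroup.mk' (C.subgroupOf E)),
        (Z.subgroupOf E).map (QuotientGroup.mk' (C.subgroupOf E))⁆ := by
  rw [subgroupOf_commutator E X Z hX hZ, Subgroup.map_commutator]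

theorem map_mk_ne_bot (E C X : Subgroup G) [hn : (C.subgroupOf E).Normal] (hX : X ≤ E)
    (hXC : ¬ X ≤ C) : (X.subgroupOf E).map (QuotientGroup.mk' (C.subgroupOf E)) ≠ ⊥ := by
  intro h
  rw [Subgroup.map_eq_bot_iff, QuotientGroup.ker_mk'] at h
  apply hXC
  intro x hx
  exact h (show (⟨x, hX hx⟩ : ↥E) ∈ X.subgroupOf E from hx)

theorem map_mk_normal (E C X : Subgroup G) [hn : (C.subgroupOf E).Normal] (hX : X ≤ E)
    (hEX : E ≤ Subgroup.normalizer (X : Set G)) :
    ((X.subgroupOf E).map (QuotientGroup.mk' (C.subgroupOf E))).Normal := by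
  have h1 : (X.subgroupOf E).Normal := (Subgroup.normal_subgroupOf_iff_le_normalizer hX).mpr hEX
  exact Subgroup.Normal.map h1 _ (QuotientGroup.mk'_surjective _)

theorem map_mk_mono (E C : Subgroup G) [hn : (C.subgroupOf E).Normal] {X Z : Subgroup G}
    (h : X ≤ Z) : (X.subgroupOf E).map (QuotientGroup.mk' (C.subgroupOf E)) ≤
      (Z.subgroupOf E).map (QuotientGroup.mk' (C.subgroupOf E)) :=
  Subgroup.map_mono (fun _ hx => h hx)

/-- If the image of `X ≤ E` in `E / C_E` is trivial then `X ≤ C`. -/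
theorem le_of_map_mk_eq_bot (E C X : Subgroup G) [hn : (C.subgroupOf E).Normal] (hX : X ≤ E)
    (h : (X.subgroupOf E).map (QuotientGroup.mk' (C.subgroupOf E)) = ⊥) : X ≤ C := by
  by_contra hXC
  exact map_mk_ne_bot E C X hX hXC h

end Bridge

end Cfsg.Agent.Lib.Helper16
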