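import Mathlib
import Cfsg.Agent.S0682
import Cfsg.Agent.Lib.Helper16.Sharp3

set_option autoImplicit false
set_option maxHeartbeats 1000000

open Cfsg

/-!
Sharply triply transitive groups of degree `p ^ f + 1`, `p` odd, `f` odd, are `PGL(2, p ^ f)`.
The inversion `t` induces an involutory automorphism of the multiplicative group of the
near-field of the point stabiliser; a normal `2`-complement argument shows that it is
inversion, so the near-field is a field.
-/

namespace Cfsg.Agent.Lib.Helper16.Sharp3Odd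

open Cfsg.Agent.S0728 (exists_map3 eq_one_of_fix3 eq_of_agree3)
open Cfsg.Agent.Lib.Helper16.Sharp3

/-! ### fixed-point-free involutory automorphisms -/

theorem inv_of_fpf {M : Type*} [Group M] [Finite M] (φ : M → M)
    (hmul : ∀ x y, φ (x * y) = φ x * φ y) (hinv : ∀ x, φ (φ x) = x)
    (hfix : ∀ x, φ x = x → x = 1) : ∀ x, φ x = x⁻¹ := by
  have h1 : φ 1 = 1 := by
    have h := hmul 1 1
    rw [mul_one] at h
    exact mul_left_cancel (a := φ 1) (by rw [mul_one]; exact h.symm)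
  have hinvm : ∀ x, φ x⁻¹ = (φ x)⁻¹ := by
    intro x
    apply eq_inv_of_mul_eq_one_left
    rw [← hmul, inv_mul_cancel, h1]
  have hinj : Function.Injective (fun x => x⁻¹ * φ x) := by
    intro x y hxy
    have hxy' : x⁻¹ * φ x = y⁻¹ * φ y := hxy
    have h2 : φ (y * x⁻¹) = y * x⁻¹ := by
      rw [hmul, hinvm]
      have h3 : φ y = y * (x⁻¹ * φ x) := by rw [hxy', mul_inv_cancel_left]
      rw [h3]
      group
    have h4 := hfix _ h2
    exact (mul_inv_eq_one.mp h4).symm
  have hsurj : Function.Surjective (fun x => x⁻¹ * φ x) :=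
    Finite.injective_iff_surjective.mp hinj
  intro x
  obtain ⟨y, hy⟩ := hsurj x
  have hy' : y⁻¹ * φ y = x := hy
  rw [← hy', hmul, hinvm, hinv, mul_inv_rev, inv_inv]

theorem neg_of_fpf {A : Type*} [AddGroup A] [Finite A] (φ : A → A)
    (hadd : ∀ x y, φ (x + y) = φ x + φ y) (hinv : ∀ x, φ (φ x) = x)
    (hfix : ∀ x, φ x = x → x = 0) : ∀ x, φ x = -x := by
  have h1 : φ 0 = 0 := by
    have h := hadd 0 0
    rw [add_zero] at h
    exact add_left_cancel (a := φ 0) (by rw [add_zero]; exact h.symm)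
  have hinvm : ∀ x, φ (-x) = -(φ x) := by
    intro x
    apply eq_neg_of_add_eq_zero_left
    rw [← hadd, neg_add_cancel, h1]
  have hinj : Function.Injective (fun x => -x + φ x) := by
    intro x y hxy
    have hxy' : -x + φ x = -y + φ y := hxy
    have h2 : φ (y + -x) = y + -x := by
      rw [hadd, hinvm]
      have h3 : φ y = y + (-x + φ x) := by rw [hxy', add_neg_cancel_left]
      rw [h3]
      simp only [add_assoc, add_neg_cancel, add_zero]
    have h4 := hfix _ h2
    exact (add_neg_eq_zero.mp h4).symm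
  have hsurj : Function.Surjective (fun x => -x + φ x) :=
    Finite.injective_iff_surjective.mp hinj
  intro x
  obtain ⟨y, hy⟩ := hsurj x
  have hy' : -y + φ y = x := hy
  rw [← hy', hadd, hinvm, hinv, neg_add_rev, neg_neg]

/-! ### the group-theoretic core -/

theorem sigma_inverts {G : Type*} [Group G] [Finite G] (sg : G →* G)
    (hsg : ∀ x, sg (sg x) = x) (ε : G) (hε1 : ε ≠ 1) (hε2 : ε * ε = 1)
    (hfix : ∀ x, sg x = x → x = 1 ∨ x = ε)
    (a : G) (k r : ℕ) (hak : orderOf a = 2 ^ k) (hcard : Nat.card G = 2 ^ k * r) (hr : Odd r)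
    (hsa : sg a = a⁻¹)
    (hD : ∀ b : G, a * b * a⁻¹ = b⁻¹ → b * b ≠ 1 → ∃ v : G, v * a * v⁻¹ = ε * a) :
    ∀ x, sg x = x⁻¹ := by
  classical
  haveI : Fact (Nat.Prime 2) := ⟨Nat.prime_two⟩
  have hsginj : Function.Injective sg := fun x y h => by rw [← hsg x, ← hsg y, h]
  have hε_ord : orderOf ε = 2 := orderOf_eq_prime (by rw [pow_two]; exact hε2) hε1
  have h2dvd : 2 ∣ Nat.card G := by
    have h := orderOf_dvd_natCard ε
    rwa [hε_ord] at h
  have hmin : (Nat.card G).minFac = 2 := (Nat.minFac_eq_two_iff _).mpr h2dvd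
  have hcop2 : Nat.Coprime 2 r :=
    (Nat.Prime.coprime_iff_not_dvd Nat.prime_two).mpr hr.not_two_dvd_nat
  have hcopk : Nat.Coprime (2 ^ k) r := Nat.Coprime.pow_left k hcop2
  obtain ⟨P, hPQ⟩ : ∃ P : Sylow 2 G, (P : Subgroup G) = Subgroup.zpowers a := by
    have hQ : IsPGroup 2 (Subgroup.zpowers a) := by
      apply IsPGroup.of_card (n := k)
      rw [Nat.card_zpowers, hak]
    obtain ⟨P, hP⟩ := hQ.exists_le_sylow
    refine ⟨P, ?_⟩
    symm
    apply Subgroup.eq_of_le_of_card_ge hP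
    obtain ⟨j, hj⟩ := IsPGroup.iff_card.mp P.isPGroup'
    have hdvd : 2 ^ j ∣ 2 ^ k * r := by
      rw [← hcard, ← hj]
      exact Subgroup.card_subgroup_dvd_card _
    have h3 : 2 ^ j ∣ 2 ^ k := (Nat.Coprime.pow_left j hcop2).dvd_of_dvd_mul_right hdvd
    rw [Nat.card_zpowers, hak, hj]
    exact Nat.le_of_dvd (by positivity) h3
  have hcyc : IsCyclic (P : Subgroup G) := by
    rw [hPQ]
    infer_instance
  have hPcard : Nat.card (P : Subgroup G) = 2 ^ k := by rw [hPQ, Nat.card_zpowers, hak]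
  have hNC := hcyc.normalizer_le_centralizer hmin
  obtain ⟨T, hT⟩ : ∃ T : G →* (P : Subgroup G), T = MonoidHom.transferSylow P hNC := ⟨_, rfl⟩
  have hcompl : T.ker.IsComplement' (P : Subgroup G) := by
    rw [hT]
    exact hcyc.isComplement' hmin
  have hMcard : Nat.card T.ker = r := by
    have h := hcompl.card_mul_card
    rw [hPcard, hcard] at h
    have h' : Nat.card T.ker * 2 ^ k = r * 2 ^ k := by rw [h, mul_comm]
    exact Nat.eq_of_mul_eq_mul_right (by positivity) h'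
  have hPcomm : ∀ u w : (P : Subgroup G), u * w = w * u := by
    intro u w
    apply Subtype.ext
    have hw := hNC (Subgroup.le_normalizer w.2)
    exact Subgroup.mem_centralizer_iff.mp hw u u.2
  have hTconj : ∀ x y : G, T (x * y * x⁻¹) = T y := by
    intro x y
    rw [map_mul, map_mul, map_inv, hPcomm (T x) (T y), mul_inv_cancel_right]
  have hker_ord : ∀ g : G, g ∈ T.ker → orderOf g ∣ r := by
    intro g hg
    have h := orderOf_dvd_natCard (⟨g, hg⟩ : T.ker)
    rwa [Subgroup.orderOf_mk, hMcard] at h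
  have hεker : ε ∉ T.ker := by
    intro h
    have h' := hker_ord ε h
    rw [hε_ord] at h'
    exact hr.not_two_dvd_nat h'
  have hker_of_odd : ∀ g : G, orderOf g ∣ r → g ∈ T.ker := by
    intro g hg
    rw [MonoidHom.mem_ker]
    have h1 : orderOf (T g) ∣ r := (orderOf_map_dvd T g).trans hg
    have h2 : orderOf (T g) ∣ 2 ^ k := by
      have := orderOf_dvd_natCard (T g)
      rwa [hPcard] at this
    have h3 : orderOf (T g) = 1 := Nat.eq_one_of_dvd_coprimes hcopk h2 h1
    exact orderOf_eq_one_iff.mp h3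
  have hker_sg : ∀ m : G, m ∈ T.ker → sg m ∈ T.ker := by
    intro m hm
    apply hker_of_odd
    rw [orderOf_injective sg hsginj m]
    exact hker_ord m hm
  have hεfix : ∀ m : G, m ∈ T.ker → sg m = m → m = 1 := by
    intro m hm h
    rcases hfix m h with h1 | h1
    · exact h1
    · exact absurd (h1 ▸ hm) hεker
  have hMinv : ∀ m : G, m ∈ T.ker → sg m = m⁻¹ := by
    intro m hm
    have key := inv_of_fpf (M := T.ker) (fun m => ⟨sg (m : G), hker_sg (m : G) m.2⟩)
      (fun x y => Subtype.ext (map_mul sg (x : G) (y : G))) (fun x => Subtype.ext (hsg (x : G)))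
      (fun x hx => Subtype.ext (hεfix (x : G) x.2 (congrArg Subtype.val hx))) ⟨m, hm⟩
    exact congrArg Subtype.val key
  have hC : ∀ m : G, m ∈ T.ker → a * m * a⁻¹ = a⁻¹ * m * a := by
    intro m hm
    have hn : a⁻¹ * m⁻¹ * a ∈ T.ker := by
      have h := hTconj a⁻¹ m⁻¹
      rw [inv_inv] at h
      rw [MonoidHom.mem_ker, h, map_inv, MonoidHom.mem_ker.mp hm, inv_one]
    have h1 := hMinv _ hn
    rw [map_mul, map_mul, map_inv, map_inv, hsa, hMinv m hm, inv_inv, inv_inv] at h1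
    rw [h1]
    group
  have hcent : ∀ m : G, m ∈ T.ker → a * m = m * a := by
    intro m hm
    by_contra hne
    have hcmem : a * m * a⁻¹ ∈ T.ker := by
      rw [MonoidHom.mem_ker, hTconj, MonoidHom.mem_ker.mp hm]
    have hbmem : m⁻¹ * (a * m * a⁻¹) ∈ T.ker := T.ker.mul_mem (T.ker.inv_mem hm) hcmem
    have hc : a * (a * m * a⁻¹) * a⁻¹ = m := by
      rw [hC _ hcmem]
      group
    have hb : a * (m⁻¹ * (a * m * a⁻¹)) * a⁻¹ = (m⁻¹ * (a * m * a⁻¹))⁻¹ := by
      calc a * (m⁻¹ * (a * m * a⁻¹)) * a⁻¹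
          = (a * m * a⁻¹)⁻¹ * (a * (a * m * a⁻¹) * a⁻¹) := by group
        _ = (a * m * a⁻¹)⁻¹ * m := by rw [hc]
        _ = (m⁻¹ * (a * m * a⁻¹))⁻¹ := by group
    have hbb : m⁻¹ * (a * m * a⁻¹) * (m⁻¹ * (a * m * a⁻¹)) ≠ 1 := by
      intro hb2
      have h1 : orderOf (m⁻¹ * (a * m * a⁻¹)) ∣ 2 :=
        orderOf_dvd_of_pow_eq_one (by rw [pow_two]; exact hb2)
      have h2 := hker_ord _ hbmem
      have h3 : orderOf (m⁻¹ * (a * m * a⁻¹)) = 1 := Nat.eq_one_of_dvd_coprimes hcop2 h1 h2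
      have h4 : m⁻¹ * (a * m * a⁻¹) = 1 := orderOf_eq_one_iff.mp h3
      apply hne
      have h5 : a * m * a⁻¹ = m := (inv_mul_eq_one.mp h4).symm
      calc a * m = a * m * a⁻¹ * a := by group
        _ = m * a := by rw [h5]
    obtain ⟨v, hv⟩ := hD _ hb hbb
    have h1 : T (v * a * v⁻¹) = T a := hTconj v a
    rw [hv, map_mul] at h1
    have h2 : T ε = 1 := mul_right_cancel (b := T a) (h1.trans (one_mul _).symm)
    exact hεker (MonoidHom.mem_ker.mpr h2)
  intro x
  obtain ⟨⟨⟨m, hm⟩, ⟨q, hq⟩⟩, hmq⟩ := hcompl.2 x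
  have hmq' : m * q = x := hmq
  have hq' : q ∈ Subgroup.zpowers a := by
    rw [← hPQ]
    exact hq
  obtain ⟨i, hi⟩ := Subgroup.mem_zpowers_iff.mp hq'
  have hm' : m ∈ T.ker := hm
  have hcomm : Commute (a ^ i) m := Commute.zpow_left (hcent m hm') i
  rw [← hmq', ← hi, map_mul, hMinv m hm', map_zpow, hsa, mul_inv_rev, inv_zpow]
  exact (hcomm.inv_inv.eq).symm

/-! ### near-field lemmas -/

section NF2
variable {β : Type*} [nf : Cfsg.NearField β]

theorem nf_neg_mul (a x : β) : (-a) * x = -(a * x) := by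
  have h := Cfsg.NearField.right_distrib (-a) a x
  rw [neg_add_cancel, nf_zero_mul] at h
  exact eq_neg_of_add_eq_zero_left h.symm

theorem nf_neg_one_mul (x : β) : (-1 : β) * x = -x := by
  rw [nf_neg_mul, one_mul]

theorem nf_nsmul_mul (n : ℕ) (a x : β) : (n • a) * x = n • (a * x) := by
  induction n with
  | zero => rw [zero_nsmul, zero_nsmul, nf_zero_mul]
  | succ n ih => rw [succ_nsmul, succ_nsmul, Cfsg.NearField.right_distrib, ih]

theorem nf_nsmul_one_mul (n : ℕ) (x : β) : (n • (1 : β)) * x = n • x := by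
  rw [nf_nsmul_mul, one_mul]

theorem nf_scalar_mul (n m : ℕ) : (n • (1 : β)) * (m • (1 : β)) = (m * n) • (1 : β) := by
  rw [nf_nsmul_one_mul, ← mul_nsmul]

theorem nf_scalar_comm (n m : ℕ) :
    (n • (1 : β)) * (m • (1 : β)) = (m • (1 : β)) * (n • (1 : β)) := by
  rw [nf_scalar_mul, nf_scalar_mul, Nat.mul_comm m n]

theorem nf_mul_ne_zero {a b : β} (ha : a ≠ 0) (hb : b ≠ 0) : a * b ≠ 0 := by
  intro h
  obtain ⟨b', hb1, _⟩ := Cfsg.NearField.exists_inv b hb
  apply ha
  calc a = a * (b * b') := by rw [hb1, mul_one]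
    _ = (a * b) * b' := (mul_assoc _ _ _).symm
    _ = 0 := by rw [h, nf_zero_mul]

theorem nf_mul_left_cancel {a b c : β} (ha : a ≠ 0) (h : a * b = a * c) : b = c := by
  obtain ⟨a', _, ha2⟩ := Cfsg.NearField.exists_inv a ha
  calc b = (a' * a) * b := by rw [ha2, one_mul]
    _ = a' * (a * b) := mul_assoc _ _ _
    _ = a' * (a * c) := by rw [h]
    _ = (a' * a) * c := (mul_assoc _ _ _).symm
    _ = c := by rw [ha2, one_mul]

theorem nf_mul_invol [Finite β] {x : β} (hx : x * x = 1) (hx1 : x ≠ 1) (y : β) :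
    y * x = -y := by
  have h1 : ∀ a b : β, (fun y : β => y * x) (a + b) = (fun y : β => y * x) a + (fun y : β => y * x) b :=
    fun a b => Cfsg.NearField.right_distrib a b x
  have h2 : ∀ a : β, (fun y : β => y * x) ((fun y : β => y * x) a) = a := by
    intro a
    show a * x * x = a
    rw [mul_assoc, hx, mul_one]
  have h3 : ∀ a : β, (fun y : β => y * x) a = a → a = 0 := by
    intro a ha
    by_contra hne
    have ha' : a * x = a * 1 := by rw [mul_one]; exact ha
    exact hx1 (nf_mul_left_cancel hne ha')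
  exact neg_of_fpf (fun y : β => y * x) h1 h2 h3 y

theorem nf_invol_eq [Finite β] {x : β} (hx : x * x = 1) : x = 1 ∨ x = -1 := by
  by_cases h : x = 1
  · exact Or.inl h
  · right
    have h1 := nf_mul_invol hx h 1
    rwa [one_mul] at h1

theorem nf_mul_neg_one [Finite β] (hneg : (-1 : β) ≠ 1) (y : β) : y * (-1) = -y :=
  nf_mul_invol (by rw [nf_neg_one_mul, neg_neg]) hneg y

theorem tau_neg_one [Finite β] (hneg : (-1 : β) ≠ 1) (τ : β → β) (hτ1 : τ 1 = 1)
    (hτmul : ∀ x y, τ (x * y) = τ x * τ y) (hττ : ∀ x, τ (τ x) = x) : τ (-1) = -1 := by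
  have h1 : τ (-1) * τ (-1) = 1 := by rw [← hτmul, nf_neg_one_mul, neg_neg, hτ1]
  rcases nf_invol_eq h1 with h | h
  · exfalso
    apply hneg
    have h2 := hττ (-1)
    rw [h, hτ1] at h2
    exact h2.symm
  · exact h

theorem nf_char [Finite β] {p f : ℕ} (hp : p.Prime) (hcard : Nat.card β = p ^ f) :
    (∀ x y : β, x + y = y + x) ∧ ∀ x : β, p • x = 0 := by
  obtain ⟨p', j, hp', hj, hc, hadd, hch⟩ := Cfsg.Agent.S0682.result (F := β)
  have hdvd : p' ∣ p ^ f := by
    rw [← hcard, hc]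
    exact dvd_pow_self p' (by omega)
  have hpp : p' = p := (Nat.prime_dvd_prime_iff_eq hp' hp).mp (hp'.dvd_of_dvd_pow hdvd)
  rw [hpp] at hch
  exact ⟨hadd, hch⟩

theorem nf_addOrderOf_one {p : ℕ} (hp : p.Prime) (hchar : ∀ x : β, p • x = 0) :
    addOrderOf (1 : β) = p := by
  have h1 : addOrderOf (1 : β) ∣ p := addOrderOf_dvd_of_nsmul_eq_zero (hchar 1)
  rcases hp.eq_one_or_self_of_dvd _ h1 with h3 | h3
  · exact absurd (AddMonoid.addOrderOf_eq_one_iff.mp h3).symm Cfsg.NearField.zero_ne_one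
  · exact h3

theorem nf_nsmul_one_ne_zero {p : ℕ} (hp : p.Prime) (hchar : ∀ x : β, p • x = 0) (n : ℕ)
    (h0 : 0 < n) (hn : n < p) : n • (1 : β) ≠ 0 := by
  intro h
  have h2 : addOrderOf (1 : β) ∣ n := addOrderOf_dvd_of_nsmul_eq_zero h
  rw [nf_addOrderOf_one hp hchar] at h2
  exact absurd (Nat.le_of_dvd h0 h2) (by omega)

theorem nf_neg_one_ne_one {p : ℕ} (hp : p.Prime) (hp2 : p ≠ 2) (hchar : ∀ x : β, p • x = 0) :
    (-1 : β) ≠ 1 := by
  intro h
  have h3 : (1 : β) + 1 = -1 + 1 := by rw [h]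
  have h2 : 2 • (1 : β) = 0 := by rw [two_nsmul, h3, neg_add_cancel]
  exact nf_nsmul_one_ne_zero hp hchar 2 (by norm_num)
    (lt_of_le_of_ne hp.two_le (Ne.symm hp2)) h2

theorem geom_mod_two {p : ℕ} (hp : Odd p) (n : ℕ) :
    (∑ i ∈ Finset.range n, p ^ i) % 2 = n % 2 := by
  induction n with
  | zero => simp
  | succ n ih =>
    rw [Finset.sum_range_succ]
    have h1 : p ^ n % 2 = 1 := Nat.odd_iff.mp hp.pow
    omega

/-- the algebraic core: an involutory multiplicative map with the functional equation of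
inversion is inversion, and the near-field is commutative -/
theorem nf_comm_of_tau [Finite β] {p f : ℕ}
    (hp : p.Prime) (hp2 : p ≠ 2) (hfo : Odd f) (hcard : Nat.card β = p ^ f)
    (hadd : ∀ x y : β, x + y = y + x) (hchar : ∀ x : β, p • x = 0)
    (τ : β → β) (hτ1 : τ 1 = 1) (hτmul : ∀ x y, τ (x * y) = τ x * τ y)
    (hττ : ∀ x, τ (τ x) = x) (hτfix : ∀ x, τ x = x → x = 0 ∨ x = 1 ∨ x = -1)
    (hFE : ∀ x, x ≠ 0 → x ≠ -1 → τ (τ x + 1) = -τ (x + 1) + 1) :
    (∀ x y : β, x * y = y * x) ∧ ∀ x : β, x ≠ 0 → x * τ x = 1 := by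
  classical
  haveI : Fact p.Prime := ⟨hp⟩
  haveI : Fact (1 < p) := ⟨hp.one_lt⟩
  have h01 : (0 : β) ≠ 1 := Cfsg.NearField.zero_ne_one
  have hneg : (-1 : β) ≠ 1 := nf_neg_one_ne_one hp hp2 hchar
  have hτneg : τ (-1) = -1 := tau_neg_one hneg τ hτ1 hτmul hττ
  have hord : ∀ n : ℕ, 0 < n → n < p → n • (1 : β) ≠ 0 := nf_nsmul_one_ne_zero hp hchar
  -- `τ` inverts the prime field
  have hscal : ∀ n : ℕ, 0 < n → n < p →
      (n • (1 : β)) * τ (n • (1 : β)) = 1 ∧ τ (n • (1 : β)) * (n • (1 : β)) = 1 := by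
    intro n
    induction n with
    | zero => intro h; exact absurd h (lt_irrefl 0)
    | succ n ih =>
      intro _ hn
      rcases Nat.eq_zero_or_pos n with h0 | hpos
      · subst h0
        rw [zero_add, one_nsmul, hτ1, one_mul]
        exact ⟨rfl, rfl⟩
      · obtain ⟨ih1, ih2⟩ := ih hpos (by omega)
        obtain ⟨x, hxdef⟩ : ∃ x : β, x = n • (1 : β) := ⟨_, rfl⟩
        obtain ⟨x', hx'def⟩ : ∃ x' : β, x' = (n + 1) • (1 : β) := ⟨_, rfl⟩
        rw [← hxdef] at ih1 ih2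
        rw [← hx'def]
        obtain ⟨z, hzdef⟩ : ∃ z : β, z = τ x' := ⟨_, rfl⟩
        rw [← hzdef]
        have hx'1 : x' = 1 + x := by rw [hx'def, hxdef, succ_nsmul']
        have hx'2 : x' = x + 1 := by rw [hx'def, hxdef, succ_nsmul]
        have hx'0 : x' ≠ 0 := by rw [hx'def]; exact hord (n + 1) (by omega) hn
        have hxx' : x * x' = x' * x := by
          rw [hxdef, hx'def]
          exact nf_scalar_comm n (n + 1)
        have hnz : ∀ w : β, x * w = n • w := by
          intro w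
          rw [hxdef]
          exact nf_nsmul_one_mul n w
        have hn1z : ∀ w : β, x' * w = (n + 1) • w := by
          intro w
          rw [hx'def]
          exact nf_nsmul_one_mul (n + 1) w
        obtain ⟨y, hydef⟩ : ∃ y : β, y = τ x := ⟨_, rfl⟩
        rw [← hydef] at ih1 ih2
        have hτy : τ y = x := by rw [hydef, hττ]
        have hy0 : y ≠ 0 := by
          intro h
          rw [h, Cfsg.NearField.mul_zero] at ih1
          exact h01 ih1
        have hy1 : y ≠ -1 := by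
          intro h
          apply hx'0
          rw [hx'2, ← hτy, h, hτneg, neg_add_cancel]
        have hfe := hFE y hy0 hy1
        rw [hτy, ← hx'2, ← hzdef] at hfe
        have hy1eq : y + 1 = x' * y := by
          rw [hx'1, Cfsg.NearField.right_distrib, one_mul, ih1]
        have hcomm' : x' * y = y * x' := by
          calc x' * y = (y * x) * (x' * y) := by rw [ih2, one_mul]
            _ = y * ((x * x') * y) := by simp only [mul_assoc]
            _ = y * ((x' * x) * y) := by rw [hxx']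
            _ = (y * x') * (x * y) := by simp only [mul_assoc]
            _ = y * x' := by rw [ih1, mul_one]
        have hτy1 : τ (y + 1) = n • z := by
          rw [hy1eq, hcomm', hτmul, hτy, ← hzdef, hnz]
        rw [hτy1] at hfe
        have hsum : (n + 1) • z = 1 := by
          rw [succ_nsmul]
          calc n • z + z = n • z + (-(n • z) + 1) := congrArg (fun w => n • z + w) hfe
            _ = 1 := add_neg_cancel_left _ _
        have hr1 : x' * z = 1 := by rw [hn1z, hsum]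
        obtain ⟨w, _, hw2⟩ := Cfsg.NearField.exists_inv x' hx'0
        have hzw : z = w := by
          calc z = (w * x') * z := by rw [hw2, one_mul]
            _ = w * (x' * z) := mul_assoc _ _ _
            _ = w := by rw [hr1, mul_one]
        exact ⟨hr1, by rw [hzw]; exact hw2⟩
  -- units
  have hunit_ne : ∀ u : βˣ, (u : β) ≠ 0 := by
    intro u h
    have h1 := u.mul_inv
    rw [h, nf_zero_mul] at h1
    exact h01 h1
  have mkU : ∀ x : β, x ≠ 0 → ∃ u : βˣ, (u : β) = x := by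
    intro x hx
    obtain ⟨x', h1, h2⟩ := Cfsg.NearField.exists_inv x hx
    exact ⟨⟨x, x', h1, h2⟩, rfl⟩
  have hcardU : Nat.card βˣ + 1 = p ^ f := by
    have hbij : Function.Bijective
        (fun u : βˣ => (⟨(u : β), hunit_ne u⟩ : {x : β // x ≠ 0})) :=
      ⟨fun u v h => Units.ext (congrArg Subtype.val h), fun x => by
        obtain ⟨u, hu⟩ := mkU x.1 x.2
        exact ⟨u, Subtype.ext hu⟩⟩
    have h1 : Nat.card βˣ = Nat.card {x : β // x ≠ 0} :=
      Nat.card_congr (Equiv.ofBijective _ hbij)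
    have h2 : Nat.card (Option {x : β // x ≠ 0}) = Nat.card β :=
      Nat.card_congr (Equiv.optionSubtypeNe (0 : β))
    rw [Finite.card_option, hcard] at h2
    rw [h1]
    exact h2
  -- the order of the unit group
  have hpodd : Odd p := hp.eq_two_or_odd'.resolve_left hp2
  have hp1 : p - 1 ≠ 0 := by
    have := hp.two_le
    omega
  obtain ⟨k, r₁, hr₁, hpk⟩ := Nat.exists_eq_two_pow_mul_odd hp1
  have hgeom := geom_sum_mul_add (p - 1) f
  rw [Nat.sub_add_cancel hp.one_le] at hgeom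
  obtain ⟨S, hSdef⟩ : ∃ S : ℕ, S = ∑ i ∈ Finset.range f, p ^ i := ⟨_, rfl⟩
  rw [← hSdef] at hgeom
  have hSodd : Odd S := by
    rw [hSdef, Nat.odd_iff, geom_mod_two hpodd f]
    exact Nat.odd_iff.mp hfo
  have hcardG : Nat.card βˣ = 2 ^ k * (S * r₁) := by
    have h1 : Nat.card βˣ = S * (p - 1) := Nat.add_right_cancel (hcardU.trans hgeom.symm)
    rw [h1, hpk]
    ring
  -- the prime field
  have hmod : ∀ n : ℕ, (n % p) • (1 : β) = n • (1 : β) := by
    intro n
    conv_rhs => rw [← Nat.div_add_mod n p]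
    rw [add_nsmul, mul_nsmul, hchar, nsmul_zero, zero_add]
  obtain ⟨φ, hφ⟩ : ∃ φ : ZMod p →* β, ∀ z, φ z = z.val • (1 : β) := by
    refine ⟨{ toFun := fun z => z.val • (1 : β), map_one' := ?_, map_mul' := ?_ }, fun z => rfl⟩
    · show (1 : ZMod p).val • (1 : β) = 1
      rw [ZMod.val_one, one_nsmul]
    · intro z w
      show (z * w).val • (1 : β) = (z.val • (1 : β)) * (w.val • (1 : β))
      rw [ZMod.val_mul, hmod, nf_scalar_mul, Nat.mul_comm w.val z.val]
  have hord1 : addOrderOf (1 : β) = p := nf_addOrderOf_one hp hchar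
  have hφinj : Function.Injective φ := by
    intro z w hzw
    rw [hφ, hφ] at hzw
    have h1 : z.val ≡ w.val [MOD p] := by
      have := nsmul_eq_nsmul_iff_modEq.mp hzw
      rwa [hord1] at this
    exact ZMod.val_injective p (h1.eq_of_lt_of_lt (ZMod.val_lt z) (ZMod.val_lt w))
  obtain ⟨g₀, hg₀⟩ := IsCyclic.exists_generator (α := (ZMod p)ˣ)
  have hg₀ord : orderOf g₀ = 2 ^ k * r₁ := by
    rw [orderOf_eq_card_of_forall_mem_zpowers hg₀, Nat.card_eq_fintype_card, ZMod.card_units, hpk]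
  have hζ : orderOf (g₀ ^ r₁) = 2 ^ k := by
    rw [orderOf_pow_of_dvd hr₁.pos.ne' (by rw [hg₀ord]; exact Dvd.intro_left _ rfl), hg₀ord,
      Nat.mul_div_cancel _ hr₁.pos]
  obtain ⟨a, hadef⟩ : ∃ a : βˣ, a = Units.map φ (g₀ ^ r₁) := ⟨_, rfl⟩
  have hak : orderOf a = 2 ^ k := by
    rw [hadef, orderOf_injective (Units.map φ) (Units.map_injective hφinj)]
    exact hζ
  obtain ⟨n, hndef⟩ : ∃ n : ℕ, n = ((g₀ ^ r₁ : (ZMod p)ˣ) : ZMod p).val := ⟨_, rfl⟩
  have haval : (a : β) = n • (1 : β) := by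
    rw [hadef, Units.coe_map, hndef]
    exact hφ _
  have hn0 : 0 < n := by
    rcases Nat.eq_zero_or_pos n with h | h
    · exfalso
      apply hunit_ne a
      rw [haval, h, zero_nsmul]
    · exact h
  have hnp : n < p := by
    rw [hndef]
    exact ZMod.val_lt _
  -- the automorphism
  obtain ⟨sgβ, hsgβ⟩ : ∃ s : β →* β, ∀ x, s x = τ x :=
    ⟨{ toFun := τ, map_one' := hτ1, map_mul' := hτmul }, fun _ => rfl⟩
  obtain ⟨sg, hsgdef⟩ : ∃ sg : βˣ →* βˣ, ∀ u : βˣ, ((sg u : βˣ) : β) = τ u :=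
    ⟨Units.map sgβ, fun u => by rw [Units.coe_map, hsgβ]⟩
  have hsg : ∀ u, sg (sg u) = u := by
    intro u
    apply Units.ext
    rw [hsgdef, hsgdef, hττ]
  have hm1 : (-1 : β) * (-1) = 1 := by rw [nf_neg_one_mul, neg_neg]
  obtain ⟨ε, hεdef⟩ : ∃ ε : βˣ, (ε : β) = -1 := ⟨⟨-1, -1, hm1, hm1⟩, rfl⟩
  have hε1 : ε ≠ 1 := by
    intro h
    apply hneg
    rw [← hεdef, h, Units.val_one]
  have hε2 : ε * ε = 1 := by
    apply Units.ext
    rw [Units.val_mul, hεdef, hm1, Units.val_one]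
  have hfix : ∀ u : βˣ, sg u = u → u = 1 ∨ u = ε := by
    intro u hu
    have h1 : τ (u : β) = u := by rw [← hsgdef, hu]
    rcases hτfix _ h1 with h | h | h
    · exact absurd h (hunit_ne u)
    · left
      exact Units.ext (by rw [h, Units.val_one])
    · right
      exact Units.ext (by rw [h, hεdef])
  have hsa : sg a = a⁻¹ := by
    apply eq_inv_of_mul_eq_one_right
    apply Units.ext
    rw [Units.val_mul, hsgdef, haval, Units.val_one]
    exact (hscal n hn0 hnp).1
  have hD : ∀ b : βˣ, a * b * a⁻¹ = b⁻¹ → b * b ≠ 1 → ∃ v : βˣ, v * a * v⁻¹ = ε * a := by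
    intro b hb hbb
    have h1 : b⁻¹ * a = a * b := by
      rw [← hb]
      group
    have h2 : b * a = a * b⁻¹ := by
      have h2' : b = a * b⁻¹ * a⁻¹ := by
        rw [show a * b⁻¹ * a⁻¹ = (a * b * a⁻¹)⁻¹ by group, hb, inv_inv]
      calc b * a = a * b⁻¹ * a⁻¹ * a := by rw [← h2']
        _ = a * b⁻¹ := by group
    have hβ1 : ((b⁻¹ : βˣ) : β) * (a : β) = (a : β) * (b : β) := by
      rw [← Units.val_mul, ← Units.val_mul, h1]
    have hβ2 : (b : β) * (a : β) = (a : β) * ((b⁻¹ : βˣ) : β) := by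
      rw [← Units.val_mul, ← Units.val_mul, h2]
    obtain ⟨b', hb'⟩ : ∃ b' : β, b' = ((b⁻¹ : βˣ) : β) := ⟨_, rfl⟩
    rw [← hb'] at hβ1 hβ2
    have hv0 : (b : β) + -b' ≠ 0 := by
      intro h
      apply hbb
      have h3 : (b : β) = b' := add_neg_eq_zero.mp h
      have h4 : b = b⁻¹ := Units.ext (h3.trans hb')
      calc b * b = b * b⁻¹ := by rw [← h4]
        _ = 1 := mul_inv_cancel b
    obtain ⟨v, hv⟩ := mkU _ hv0
    refine ⟨v, ?_⟩
    have hL : ((b : β) + -b') * (a : β) = n • b' + -(n • (b : β)) := by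
      rw [Cfsg.NearField.right_distrib, nf_neg_mul b' (a : β), hβ2, hβ1, haval,
        nf_nsmul_one_mul n b', nf_nsmul_one_mul n (b : β)]
    have hR : (-1 : β) * (a : β) * ((b : β) + -b') = n • b' + -(n • (b : β)) := by
      rw [mul_assoc, haval, nf_nsmul_one_mul n, nf_neg_one_mul,
        (show AddCommute (b : β) (-b') from hadd _ _).add_nsmul, neg_add_rev, neg_nsmul b' n,
        neg_neg]
    have hkey : v * a = ε * a * v := by
      apply Units.ext
      rw [Units.val_mul, Units.val_mul, Units.val_mul, hv, hεdef]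
      exact hL.trans hR.symm
    rw [hkey, mul_inv_cancel_right]
  have hall := sigma_inverts sg hsg ε hε1 hε2 hfix a k (S * r₁) hak hcardG (hSodd.mul hr₁) hsa hD
  have hUcomm : ∀ u v : βˣ, u * v = v * u := by
    intro u v
    have h1 := hall (u * v)
    rw [map_mul, hall u, hall v, ← mul_inv_rev] at h1
    exact (inv_injective h1).symm
  constructor
  · intro x y
    by_cases hx : x = 0
    · rw [hx, nf_zero_mul, Cfsg.NearField.mul_zero]
    by_cases hy : y = 0
    · rw [hy, nf_zero_mul, Cfsg.NearField.mul_zero]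
    obtain ⟨u, hu⟩ := mkU x hx
    obtain ⟨v, hv⟩ := mkU y hy
    rw [← hu, ← hv, ← Units.val_mul, ← Units.val_mul, hUcomm]
  · intro x hx
    obtain ⟨u, hu⟩ := mkU x hx
    have h1 := hall u
    have h2 : τ x = ((u⁻¹ : βˣ) : β) := by rw [← hu, ← hsgdef, h1]
    rw [h2, ← hu]
    exact u.mul_inv

end NF2

/-! ### the geometry -/

theorem affine_exists {Γ α : Type*} [Group Γ] [MulAction Γ α]
    (h3 : MulAction.IsMultiplyPretransitive Γ α 3)
    (inf : α) [nf : Cfsg.NearField (Pts inf)]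
    (hA1 : ∀ g : Γ, g • inf = inf → ∃ a b : Pts inf, a ≠ 0 ∧
        ∀ x : Pts inf, g • (x : α) = ((x * a + b : Pts inf) : α)) :
    ∀ a b : Pts inf, a ≠ 0 → ∃ g : Γ, g • inf = inf ∧
        ∀ x : Pts inf, g • (x : α) = ((x * a + b : Pts inf) : α) := by
  have zmul : ∀ a : Pts inf, (0 : Pts inf) * a = 0 := fun a => nf_zero_mul a
  have h01 : (0 : Pts inf) ≠ 1 := Cfsg.NearField.zero_ne_one
  have hzinf : ((0 : Pts inf) : α) ≠ inf := (0 : Pts inf).2
  have heinf : ((1 : Pts inf) : α) ≠ inf := (1 : Pts inf).2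
  have hze : ((0 : Pts inf) : α) ≠ ((1 : Pts inf) : α) := fun h => h01 (Subtype.ext h)
  intro a b ha
  have hne : ((b : Pts inf) : α) ≠ ((a + b : Pts inf) : α) := by
    intro h
    have h' : b = a + b := Subtype.ext h
    apply ha
    have h'' : (0 : Pts inf) + b = a + b := by rw [zero_add]; exact h'
    exact (add_right_cancel h'').symm
  obtain ⟨g, hg1, hg2, hg3⟩ := exists_map3 h3 hzinf.symm heinf.symm hze
    b.2.symm (a + b).2.symm hne
  obtain ⟨a', b', _, hab'⟩ := hA1 g hg1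
  have hb' : b' = b := by
    have h := hab' 0
    rw [zmul, zero_add] at h
    exact Subtype.ext (h.symm.trans hg2)
  have ha'' : a' = a := by
    have h := hab' 1
    rw [one_mul, hb'] at h
    have h5 : a' + b = a + b := Subtype.ext (h.symm.trans hg3)
    exact add_right_cancel h5
  exact ⟨g, hg1, fun x => by rw [hab' x, ha'', hb']⟩

theorem tau_of_action {Γ α : Type*} [Group Γ] [MulAction Γ α] [Fintype α] [DecidableEq α]
    (h3 : MulAction.IsMultiplyPretransitive Γ α 3)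
    (hsharp : ∀ x : Fin 3 ↪ α, MulAction.stabilizer Γ x = ⊥)
    (inf : α) [nf : Cfsg.NearField (Pts inf)]
    (hA1 : ∀ g : Γ, g • inf = inf → ∃ a b : Pts inf, a ≠ 0 ∧
        ∀ x : Pts inf, g • (x : α) = ((x * a + b : Pts inf) : α))
    (hA2 : ∀ a b : Pts inf, a ≠ 0 → ∃ g : Γ, g • inf = inf ∧
        ∀ x : Pts inf, g • (x : α) = ((x * a + b : Pts inf) : α))
    (hneg : (-1 : Pts inf) ≠ 1) :
    ∃ (t : Γ) (τ : Pts inf → Pts inf), t • inf = ((0 : Pts inf) : α) ∧
      t • ((0 : Pts inf) : α) = inf ∧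
      (∀ x : Pts inf, x ≠ 0 → t • (x : α) = ((τ x : Pts inf) : α)) ∧
      τ 1 = 1 ∧ (∀ x y, τ (x * y) = τ x * τ y) ∧ (∀ x, τ (τ x) = x) ∧
      (∀ x, τ x = x → x = 0 ∨ x = 1 ∨ x = -1) ∧
      (∀ x, x ≠ 0 → x ≠ -1 → τ (τ x + 1) = -τ (x + 1) + 1) := by
  classical
  have zmul : ∀ a : Pts inf, (0 : Pts inf) * a = 0 := fun a => nf_zero_mul a
  have h01 : (0 : Pts inf) ≠ 1 := Cfsg.NearField.zero_ne_one
  have hzinf : ((0 : Pts inf) : α) ≠ inf := (0 : Pts inf).2
  have heinf : ((1 : Pts inf) : α) ≠ inf := (1 : Pts inf).2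
  have hze : ((0 : Pts inf) : α) ≠ ((1 : Pts inf) : α) := fun h => h01 (Subtype.ext h)
  have hn0 : (-1 : Pts inf) ≠ 0 := neg_ne_zero.mpr h01.symm
  have hmn1 : ∀ y : Pts inf, y * (-1) = -y := nf_mul_neg_one hneg
  obtain ⟨t, ht0i, hti0, ht11⟩ :=
    exists_map3 h3 hzinf hze heinf.symm hzinf.symm heinf.symm hze
  have htt : t * t = 1 := eq_one_of_fix3 hsharp hzinf hze heinf.symm
    (by rw [mul_smul, ht0i, hti0]) (by rw [mul_smul, hti0, ht0i]) (by rw [mul_smul, ht11, ht11])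
  have htne : ∀ x : Pts inf, x ≠ 0 → t • (x : α) ≠ inf := by
    intro x hx h
    apply hx
    apply Subtype.ext
    exact MulAction.injective t (h.trans ht0i.symm)
  obtain ⟨τ, hτdef⟩ : ∃ τ : Pts inf → Pts inf, ∀ x : Pts inf,
      τ x = if hx : x = 0 then 0 else ⟨t • (x : α), htne x hx⟩ := ⟨_, fun _ => rfl⟩
  have hτ0 : τ 0 = 0 := by rw [hτdef, dif_pos rfl]
  have hτv : ∀ x : Pts inf, x ≠ 0 → t • (x : α) = ((τ x : Pts inf) : α) := by
    intro x hx
    rw [hτdef, dif_neg hx]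
  have hτne : ∀ x : Pts inf, x ≠ 0 → τ x ≠ 0 := by
    intro x hx h
    have h1 := hτv x hx
    rw [h] at h1
    exact x.2 (MulAction.injective t (h1.trans hti0.symm))
  have hττ : ∀ x, τ (τ x) = x := by
    intro x
    by_cases hx : x = 0
    · rw [hx, hτ0, hτ0]
    · apply Subtype.ext
      rw [← hτv _ (hτne x hx), ← hτv x hx, ← mul_smul, htt, one_smul]
  have hτ1 : τ 1 = 1 := Subtype.ext ((hτv 1 h01.symm).symm.trans ht11)
  have hτmul : ∀ x a : Pts inf, τ (x * a) = τ x * τ a := by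
    intro x a
    by_cases hx : x = 0
    · rw [hx, zmul, hτ0, zmul]
    by_cases ha : a = 0
    · rw [ha, Cfsg.NearField.mul_zero, hτ0, Cfsg.NearField.mul_zero]
    obtain ⟨m, hmi, hm⟩ := hA2 a 0 ha
    have hg : (t * m * t) • inf = inf := by
      rw [mul_smul, mul_smul, hti0, hm, zmul, add_zero, ht0i]
    obtain ⟨a', b', _, hab'⟩ := hA1 (t * m * t) hg
    have hb' : b' = 0 := by
      have h := hab' 0
      rw [zmul, zero_add, mul_smul, mul_smul, ht0i, hmi, hti0] at h
      exact (Subtype.ext h).symm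
    have ha'' : a' = τ a := by
      have h := hab' 1
      rw [one_mul, hb', add_zero, mul_smul, mul_smul, ht11, hm, one_mul, add_zero, hτv a ha] at h
      exact (Subtype.ext h).symm
    have h := hab' (τ x)
    rw [ha'', hb', add_zero, mul_smul, mul_smul, ← hτv x hx, ← mul_smul t t, htt, one_smul, hm,
      add_zero, hτv (x * a) (nf_mul_ne_zero hx ha)] at h
    exact Subtype.ext h
  have hτneg : τ (-1) = -1 := tau_neg_one hneg τ hτ1 hτmul hττ
  have ht_neg : t • ((-1 : Pts inf) : α) = ((-1 : Pts inf) : α) := by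
    rw [hτv (-1) hn0, hτneg]
  have hτfix : ∀ x, τ x = x → x = 0 ∨ x = 1 ∨ x = -1 := by
    intro x hx
    by_contra hcon
    push_neg at hcon
    obtain ⟨h0, h1, hm1⟩ := hcon
    have f1 : t • (x : α) = (x : α) := by rw [hτv x h0, hx]
    have ht : t = 1 := eq_one_of_fix3 hsharp (p := (x : α)) (q := ((1 : Pts inf) : α))
      (r := ((-1 : Pts inf) : α)) (fun h => h1 (Subtype.ext h)) (fun h => hm1 (Subtype.ext h))
      (fun h => hneg (Subtype.ext h).symm) f1 ht11 ht_neg
    rw [ht, one_smul] at hti0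
    exact hzinf hti0.symm
  refine ⟨t, τ, hti0, ht0i, hτv, hτ1, hτmul, hττ, hτfix, ?_⟩
  -- the functional equation
  obtain ⟨s, hsi, hs⟩ := hA2 1 1 h01.symm
  obtain ⟨m, hmi, hm⟩ := hA2 (-1) 0 hn0
  have L1 : (t * s * t) • inf = ((1 : Pts inf) : α) := by
    rw [mul_smul, mul_smul, hti0, hs, zmul, zero_add, ht11]
  have R1 : (s * t * m * s) • inf = ((1 : Pts inf) : α) := by
    rw [mul_smul, mul_smul, mul_smul, hsi, hmi, hti0, hs, zmul, zero_add]
  have L2 : (t * s * t) • ((0 : Pts inf) : α) = ((0 : Pts inf) : α) := by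
    rw [mul_smul, mul_smul, ht0i, hsi, hti0]
  have R2 : (s * t * m * s) • ((0 : Pts inf) : α) = ((0 : Pts inf) : α) := by
    rw [mul_smul, mul_smul, mul_smul, hs, zmul, zero_add, hm, one_mul, add_zero, ht_neg, hs,
      mul_one, neg_add_cancel]
  have L3 : (t * s * t) • ((-1 : Pts inf) : α) = inf := by
    rw [mul_smul, mul_smul, ht_neg, hs, mul_one, neg_add_cancel, ht0i]
  have R3 : (s * t * m * s) • ((-1 : Pts inf) : α) = inf := by
    rw [mul_smul, mul_smul, mul_smul, hs, mul_one, neg_add_cancel, hm, zmul, add_zero, ht0i, hsi]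
  have hid : t * s * t = s * t * m * s :=
    eq_of_agree3 hsharp (p := inf) (q := ((0 : Pts inf) : α)) (r := ((-1 : Pts inf) : α))
      hzinf.symm (fun h => (-1 : Pts inf).2 h.symm) (fun h => hn0 (Subtype.ext h).symm)
      (L1.trans R1.symm) (L2.trans R2.symm) (L3.trans R3.symm)
  intro x hx0 hxm
  have hx1 : x + 1 ≠ 0 := fun h => hxm (eq_neg_of_add_eq_zero_left h)
  have hnx1 : -(x + 1) ≠ 0 := neg_ne_zero.mpr hx1
  have hτx1 : τ x + 1 ≠ 0 := by
    intro h
    have h' : τ x = -1 := eq_neg_of_add_eq_zero_left h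
    apply hxm
    rw [← hττ x, h', hτneg]
  have hτn : τ (-(x + 1)) = -τ (x + 1) := by
    rw [← hmn1 (x + 1), hτmul, hτneg, hmn1]
  have hL : (t * s * t) • (x : α) = ((τ (τ x + 1) : Pts inf) : α) := by
    rw [mul_smul, mul_smul, hτv x hx0, hs, mul_one, hτv _ hτx1]
  have hR : (s * t * m * s) • (x : α) = ((-τ (x + 1) + 1 : Pts inf) : α) := by
    rw [mul_smul, mul_smul, mul_smul, hs, mul_one, hm, add_zero, hmn1, hτv _ hnx1, hs, mul_one,
      hτn]
  apply Subtype.ext
  rw [← hL, hid, hR]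

theorem stageA_of {Γ α : Type*} [Group Γ] [MulAction Γ α] [Fintype α] [DecidableEq α]
    (inf : α) [nf : Cfsg.NearField (Pts inf)]
    (hA1 : ∀ g : Γ, g • inf = inf → ∃ a b : Pts inf, a ≠ 0 ∧
        ∀ x : Pts inf, g • (x : α) = ((x * a + b : Pts inf) : α))
    (hcomm : ∀ a b : Pts inf, a * b = b * a)
    (hA2 : ∀ a b : Pts inf, a ≠ 0 → ∃ g : Γ, g • inf = inf ∧
        ∀ x : Pts inf, g • (x : α) = ((x * a + b : Pts inf) : α))
    (t : Γ) (ht1 : t • inf = ((0 : Pts inf) : α)) (ht2 : t • ((0 : Pts inf) : α) = inf)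
    (ht3 : ∀ x y : Pts inf, x * y = 1 → t • (x : α) = (y : α)) :
    ∃ (F : Type) (_ : Field F) (_ : Fintype F) (inf : α) (pt : F → α),
      Fintype.card α = Fintype.card F + 1 ∧ Function.Injective pt ∧ (∀ x, pt x ≠ inf) ∧
      (∀ y, y = inf ∨ ∃ x, y = pt x) ∧
      (∀ g : Γ, g • inf = inf → ∃ a b : F, a ≠ 0 ∧ ∀ x, g • pt x = pt (a * x + b)) ∧
      (∀ a b : F, a ≠ 0 → ∃ g : Γ, g • inf = inf ∧ ∀ x, g • pt x = pt (a * x + b)) ∧
      (∃ t : Γ, t • inf = pt 0 ∧ t • pt 0 = inf ∧ ∀ x, x ≠ 0 → t • pt x = pt x⁻¹) := by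
  classical
  obtain ⟨F, iF, iFt, e, e0, e1, eadd, emul⟩ := field_of_NF (nf := nf) hcomm
  let _ := iF
  let _ := iFt
  have hcardF : Fintype.card α = Fintype.card F + 1 := by
    have h1 : Fintype.card (Option (Pts inf)) = Fintype.card α :=
      Fintype.card_congr (Equiv.optionSubtypeNe inf)
    rw [Fintype.card_option, Fintype.card_congr e] at h1
    exact h1.symm
  have key : ∀ (x : F) (a b : Pts inf), e.symm x * a + b = e.symm (e a * x + e b) := by
    intro x a b
    rw [Equiv.eq_symm_apply, eadd, emul, Equiv.apply_symm_apply, mul_comm]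
  refine ⟨F, iF, iFt, inf, fun x => ((e.symm x : Pts inf) : α), hcardF, ?_, ?_, ?_, ?_, ?_, ?_⟩
  · exact Subtype.val_injective.comp e.symm.injective
  · intro x; exact (e.symm x).2
  · intro y
    by_cases hy : y = inf
    · exact Or.inl hy
    · exact Or.inr ⟨e ⟨y, hy⟩, by simp⟩
  · intro g hg
    obtain ⟨a, b, ha, hab⟩ := hA1 g hg
    refine ⟨e a, e b, ?_, ?_⟩
    · intro h; apply ha; apply e.injective; rw [h, e0]
    · intro x
      show g • ((e.symm x : Pts inf) : α) = ((e.symm (e a * x + e b) : Pts inf) : α)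
      rw [hab, key]
  · intro a b ha
    have ha' : e.symm a ≠ 0 := by
      intro h; apply ha
      have := congrArg e h
      rwa [Equiv.apply_symm_apply, e0] at this
    obtain ⟨g, hg, hgx⟩ := hA2 (e.symm a) (e.symm b) ha'
    refine ⟨g, hg, ?_⟩
    intro x
    show g • ((e.symm x : Pts inf) : α) = ((e.symm (a * x + b) : Pts inf) : α)
    rw [hgx, key, Equiv.apply_symm_apply, Equiv.apply_symm_apply]
  · have hs0 : e.symm 0 = 0 := by rw [Equiv.symm_apply_eq, e0]
    refine ⟨t, ?_, ?_, ?_⟩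
    · show t • inf = ((e.symm 0 : Pts inf) : α)
      rw [hs0]; exact ht1
    · show t • ((e.symm 0 : Pts inf) : α) = inf
      rw [hs0]; exact ht2
    · intro x hx
      show t • ((e.symm x : Pts inf) : α) = ((e.symm x⁻¹ : Pts inf) : α)
      apply ht3
      apply e.injective
      rw [emul, Equiv.apply_symm_apply, Equiv.apply_symm_apply, e1, mul_inv_cancel₀ hx]

theorem stageA_odd {Γ α : Type*} [Group Γ] [MulAction Γ α] [Fintype α] [DecidableEq α]
    (h3 : MulAction.IsMultiplyPretransitive Γ α 3)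
    (hsharp : ∀ x : Fin 3 ↪ α, MulAction.stabilizer Γ x = ⊥)
    {p f : ℕ} (hp : p.Prime) (hp2 : p ≠ 2) (hfo : Odd f)
    (hα : Fintype.card α = p ^ f + 1) :
    ∃ (F : Type) (_ : Field F) (_ : Fintype F) (inf : α) (pt : F → α),
      Fintype.card α = Fintype.card F + 1 ∧ Function.Injective pt ∧ (∀ x, pt x ≠ inf) ∧
      (∀ y, y = inf ∨ ∃ x, y = pt x) ∧
      (∀ g : Γ, g • inf = inf → ∃ a b : F, a ≠ 0 ∧ ∀ x, g • pt x = pt (a * x + b)) ∧
      (∀ a b : F, a ≠ 0 → ∃ g : Γ, g • inf = inf ∧ ∀ x, g • pt x = pt (a * x + b)) ∧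
      (∃ t : Γ, t • inf = pt 0 ∧ t • pt 0 = inf ∧ ∀ x, x ≠ 0 → t • pt x = pt x⁻¹) := by
  classical
  have hf1 : 1 ≤ f := by
    obtain ⟨j, hj⟩ := hfo
    omega
  have hpf : 3 ≤ p ^ f := by
    have h1 : p ^ 1 ≤ p ^ f := Nat.pow_le_pow_right hp.pos hf1
    have h2 := hp.two_le
    rw [pow_one] at h1
    omega
  have hcard : 3 ≤ Fintype.card α := by omega
  have hpos : 0 < Fintype.card α := by omega
  obtain ⟨inf⟩ := Fintype.card_pos_iff.mp hpos
  obtain ⟨nf, hA1⟩ := exists_nearfield h3 hsharp hcard inf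
  have hA2 := affine_exists (nf := nf) h3 inf hA1
  have hcardβ : Nat.card (Pts inf) = p ^ f := by
    have h1 : Fintype.card (Option (Pts inf)) = Fintype.card α :=
      Fintype.card_congr (Equiv.optionSubtypeNe inf)
    rw [Fintype.card_option] at h1
    rw [Nat.card_eq_fintype_card]
    omega
  obtain ⟨hadd, hchar⟩ := nf_char (nf := nf) hp hcardβ
  have hneg : (-1 : Pts inf) ≠ 1 := nf_neg_one_ne_one (nf := nf) hp hp2 hchar
  obtain ⟨t, τ, hti0, ht0i, hτv, hτ1, hτmul, hττ, hτfix, hFE⟩ :=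
    tau_of_action (nf := nf) h3 hsharp inf hA1 hA2 hneg
  obtain ⟨hcomm, hinvτ⟩ :=
    nf_comm_of_tau (nf := nf) hp hp2 hfo hcardβ hadd hchar τ hτ1 hτmul hττ hτfix hFE
  have ht3 : ∀ x y : Pts inf, x * y = 1 → t • (x : α) = (y : α) := by
    intro x y hxy
    have hx : x ≠ 0 := by
      intro h
      rw [h, nf_zero_mul] at hxy
      exact Cfsg.NearField.zero_ne_one hxy
    rw [hτv x hx]
    exact congrArg Subtype.val (nf_mul_left_cancel hx ((hinvτ x hx).trans hxy.symm))
  exact stageA_of (nf := nf) inf hA1 hcomm hA2 t hti0 ht0i ht3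

end Cfsg.Agent.Lib.Helper16.Sharp3Odd
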