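import Cfsg.Agent.Lib.Helper16.Averaging
import Cfsg.Agent.Lib.Helper16.ParabolicChar
import Cfsg.Agent.Lib.Helper3.CentralComm

set_option autoImplicit false
open Cfsg
open scoped commutatorElement Pointwise IsMulCommutative

namespace Cfsg.Agent.Lib.Helper16

section
variable {G : Type*} [Group G]

/-- Conjugation by an element of `K ≤ N(V)` as an endomorphism of `V`. -/
def conjHomOf (K V : Subgroup G) (hKV : K ≤ Subgroup.normalizer (V : Set G)) (h : ↥K) :
    ↥V →* ↥V where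
  toFun v := ⟨(h : G) * v * (h : G)⁻¹, (Subgroup.mem_normalizer_iff.mp (hKV h.2) v).mp v.2⟩
  map_one' := by
    apply Subtype.ext
    simp
  map_mul' a b := by
    apply Subtype.ext
    simp only [Subgroup.coe_mul]
    group

@[simp] theorem conjHomOf_coe (K V : Subgroup G) (hKV : K ≤ Subgroup.normalizer (V : Set G))
    (h : ↥K) (v : ↥V) : ((conjHomOf K V hKV h v : ↥V) : G) = (h : G) * v * (h : G)⁻¹ := rfl

end

section
variable {G : Type*} [Group G] [Finite G] {p : ℕ} [Fact p.Prime]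

/-- **Cocycle averaging.**  Let `T ≤ K` have index prime to `p` in `K`, let `V` be an elementary
abelian `p`-subgroup normalized by `K`, and let `z` centralize `T` with `⁅g, z⁆ ∈ V` for all
`g ∈ K`.  Then `z` acts on `K` like an element `u ∈ C_V(T)`. -/
theorem exists_commutator_eq_of_centralizes_sylow (K T V : Subgroup G) (hTK : T ≤ K)
    (hidx : ¬ p ∣ T.relIndex K) (hKV : K ≤ Subgroup.normalizer (V : Set G))
    (hV : Cfsg.IsElementaryAbelian p V) (z : G)
    (hzT : z ∈ Subgroup.centralizer (T : Set G)) (hzV : ∀ g ∈ K, ⁅g, z⁆ ∈ V) :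
    ∃ u ∈ V, u ∈ Subgroup.centralizer (T : Set G) ∧ ∀ g ∈ K, ⁅g, z⁆ = ⁅g, u⁆ := by
  classical
  have : IsMulCommutative ↥V := hV.1
  set T' := T.subgroupOf K with hT'
  let _ : Fintype (↥K ⧸ T') := Fintype.ofFinite _
  have hp : p.Prime := Fact.out
  let cj := conjHomOf K V hKV
  let c : ↥K → ↥V := fun g => ⟨⁅(g : G), z⁆, hzV g g.2⟩
  have hc_mul : ∀ h g : ↥K, c (h * g) = c h * cj h (c g) := by
    intro h g
    rw [mul_comm]
    apply Subtype.ext
    show ⁅((h * g : ↥K) : G), z⁆ = ((h : G) * ⁅(g : G), z⁆ * (h : G)⁻¹) * ⁅(h : G), z⁆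
    simp only [Subgroup.coe_mul, commutatorElement_def]
    group
  have hc_T : ∀ (g t : ↥K), t ∈ T' → c (g * t) = c g := by
    intro g t ht
    apply Subtype.ext
    show ⁅((g * t : ↥K) : G), z⁆ = ⁅(g : G), z⁆
    have h1 : (t : G) * z = z * t := Subgroup.mem_centralizer_iff.mp hzT t ht
    simp only [Subgroup.coe_mul, commutatorElement_def, mul_inv_rev]
    calc (g : G) * t * z * ((t : G)⁻¹ * (g : G)⁻¹) * z⁻¹
        = (g : G) * ((t : G) * z) * (t : G)⁻¹ * (g : G)⁻¹ * z⁻¹ := by group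
      _ = (g : G) * z * (g : G)⁻¹ * z⁻¹ := by rw [h1]; group
  set w : ↥V := ∏ q : ↥K ⧸ T', c q.out with hw_def
  set n := Fintype.card (↥K ⧸ T') with hn
  have hw : ∀ h : ↥K, w = c h ^ n * cj h w := by
    intro h
    have h2 : ∀ q : ↥K ⧸ T', c ((h • q).out) = c h * cj h (c q.out) := by
      intro q
      have hq : h • q = QuotientGroup.mk (h * q.out) := by
        conv_lhs => rw [← QuotientGroup.out_eq' q]
        rfl
      obtain ⟨t, ht⟩ := QuotientGroup.mk_out_eq_mul T' (h * q.out)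
      rw [hq, ht, hc_T _ _ t.2, hc_mul]
    have h3 : ∏ q : ↥K ⧸ T', c ((h • q).out) = w :=
      Fintype.prod_equiv (MulAction.toPerm h) _ _ (fun q => rfl)
    have h4 : w = ∏ q : ↥K ⧸ T', (c h * cj h (c q.out)) := by
      rw [← h3]; exact Fintype.prod_congr _ _ h2
    conv_lhs => rw [h4]
    rw [Finset.prod_mul_distrib, Finset.prod_const, Finset.card_univ, ← map_prod]
  have hncop : Nat.Coprime n p := by
    have h1 : n = T.relIndex K := by
      rw [hn, Subgroup.relIndex, Subgroup.index_eq_card, Nat.card_eq_fintype_card]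
    rw [h1]
    exact ((Nat.Prime.coprime_iff_not_dvd hp).mpr hidx).symm
  obtain ⟨m, -, hm⟩ := Nat.exists_mul_mod_eq_one_of_coprime hncop hp.one_lt
  have hVp : ∀ v : ↥V, v ^ p = 1 := fun v => Subtype.ext (hV.2 v v.2)
  have hpow : ∀ v : ↥V, v ^ (n * m) = v := by
    intro v
    rw [pow_eq_pow_mod (n * m) (hVp v), hm, pow_one]
  set u : ↥V := (w ^ m)⁻¹ with hu
  have hcu : ∀ h : ↥K, c h = cj h u * u⁻¹ := by
    intro h
    have h1 : c h ^ n = w * (cj h w)⁻¹ := by
      exact eq_mul_inv_of_mul_eq (hw h).symm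
    calc c h = (c h) ^ (n * m) := (hpow _).symm
      _ = (c h ^ n) ^ m := pow_mul _ _ _
      _ = (w * (cj h w)⁻¹) ^ m := by rw [h1]
      _ = cj h u * u⁻¹ := by
        rw [mul_pow, hu, inv_inv, map_inv, map_pow, inv_pow, mul_comm]
  have hgu : ∀ g ∈ K, ⁅g, z⁆ = ⁅g, (u : G)⁆ := by
    intro g hg
    have := congrArg Subtype.val (hcu ⟨g, hg⟩)
    rw [commutatorElement_def (g) (u : G)]
    exact this
  refine ⟨(u : G), u.2, ?_, hgu⟩
  rw [Subgroup.mem_centralizer_iff]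
  intro s hs
  have h1 : ⁅s, z⁆ = 1 := by
    rw [commutatorElement_eq_one_iff_mul_comm]
    exact Subgroup.mem_centralizer_iff.mp hzT s hs
  have h2 := hgu s (hTK hs)
  rw [h1] at h2
  exact (commutatorElement_eq_one_iff_mul_comm.mp h2.symm)

/-- **Trace argument.**  Let `K = C T` with `T` a `p`-subgroup of index prime to `p` normalizing
`C`, and `V ≤ T` an elementary abelian subgroup normalized by `K`.  If `C_V(T) ≤ C_V(C)` then
`C_V(T ∩ C) ≤ C_V(C)`. -/
theorem centralizes_of_trace (K C T V : Subgroup G) (hTK : T ≤ K) (hCK : C ≤ K)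
    (hKCT : K ≤ C ⊔ T) (hTC : T ≤ Subgroup.normalizer (C : Set G)) (hT : IsPGroup p T)
    (hidx : ¬ p ∣ T.relIndex K) (hKV : K ≤ Subgroup.normalizer (V : Set G))
    (hV : Cfsg.IsElementaryAbelian p V) (hVT : V ≤ T)
    (hyp : ∀ v ∈ V, v ∈ Subgroup.centralizer (T : Set G) → v ∈ Subgroup.centralizer (C : Set G)) :
    ∀ y ∈ V, y ∈ Subgroup.centralizer ((T ⊓ C : Subgroup G) : Set G) →
      y ∈ Subgroup.centralizer (C : Set G) := by
  classical
  have : IsMulCommutative ↥V := hV.1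
  set T' := T.subgroupOf K with hT'
  let _ : Fintype (↥K ⧸ T') := Fintype.ofFinite _
  have hp : p.Prime := Fact.out
  let cj := conjHomOf K V hKV
  -- coset representatives in `C`
  have hrep : ∀ q : ↥K ⧸ T', ∃ l : ↥K, (l : G) ∈ C ∧ (QuotientGroup.mk l : ↥K ⧸ T') = q := by
    intro q
    obtain ⟨g, rfl⟩ := QuotientGroup.mk_surjective q
    obtain ⟨c, hc, t, ht, hct⟩ := Cfsg.Agent.Lib.Helper3.mem_sup_of_normalizes C T
      (fun t ht c hc => (Subgroup.mem_normalizer_iff.mp (hTC ht) c).mp hc) (hKCT g.2)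
    refine ⟨⟨c, hCK hc⟩, hc, ?_⟩
    rw [QuotientGroup.eq, hT', Subgroup.mem_subgroupOf]
    have : ((⟨c, hCK hc⟩ : ↥K)⁻¹ * g : ↥K) = (⟨t, hTK ht⟩ : ↥K) := by
      apply Subtype.ext
      simp only [Subgroup.coe_mul, Subgroup.coe_inv]
      rw [← hct]; group
    rw [this]
    exact ht
  choose l hlC hlq using hrep
  let Tr : ↥V → ↥V := fun y => ∏ q : ↥K ⧸ T', cj (l q) y
  have hTr_mul : ∀ a b : ↥V, Tr (a * b) = Tr a * Tr b := by
    intro a b
    show ∏ q : ↥K ⧸ T', cj (l q) (a * b) = _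
    simp only [map_mul, Finset.prod_mul_distrib]
    rfl
  have hTr_one : Tr 1 = 1 := by
    show ∏ q : ↥K ⧸ T', cj (l q) 1 = 1
    simp
  have hTr_inv : ∀ a : ↥V, Tr a⁻¹ = (Tr a)⁻¹ := by
    intro a
    have := hTr_mul a a⁻¹
    rw [mul_inv_cancel, hTr_one] at this
    exact (inv_eq_of_mul_eq_one_right this.symm).symm
  -- key independence of representatives
  have key1 : ∀ (g : ↥K), (g : G) ∈ C → ∀ y : ↥V,
      (y : G) ∈ Subgroup.centralizer ((T ⊓ C : Subgroup G) : Set G) →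
      cj g y = cj (l (QuotientGroup.mk g)) y := by
    intro g hgC y hy
    set q : ↥K ⧸ T' := QuotientGroup.mk g with hq
    have h1 : (l q)⁻¹ * g ∈ T' := QuotientGroup.eq.mp (hlq q)
    rw [hT', Subgroup.mem_subgroupOf] at h1
    set s : G := ((l q : ↥K) : G)⁻¹ * (g : G) with hs
    have hsT : s ∈ T := by simpa using h1
    have hsC : s ∈ C := C.mul_mem (C.inv_mem (hlC q)) hgC
    have hsy : s * (y : G) = (y : G) * s :=
      Subgroup.mem_centralizer_iff.mp hy s ⟨hsT, hsC⟩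
    apply Subtype.ext
    show (g : G) * y * (g : G)⁻¹ = ((l q : ↥K) : G) * y * ((l q : ↥K) : G)⁻¹
    have hg : (g : G) = ((l q : ↥K) : G) * s := by rw [hs]; group
    rw [hg]
    calc ((l q : ↥K) : G) * s * y * (((l q : ↥K) : G) * s)⁻¹
        = ((l q : ↥K) : G) * (s * y) * s⁻¹ * ((l q : ↥K) : G)⁻¹ := by group
      _ = ((l q : ↥K) : G) * y * ((l q : ↥K) : G)⁻¹ := by rw [hsy]; group
  have hcj_mul : ∀ (a b : ↥K) (y : ↥V), cj a (cj b y) = cj (a * b) y := by
    intro a b y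
    apply Subtype.ext
    show (a : G) * ((b : G) * y * (b : G)⁻¹) * (a : G)⁻¹ = ((a * b : ↥K) : G) * y * ((a * b : ↥K) : G)⁻¹
    simp only [Subgroup.coe_mul]
    group
  -- `C`-invariance of the trace
  have hTr_C : ∀ (h : ↥K), (h : G) ∈ C → ∀ y : ↥V,
      (y : G) ∈ Subgroup.centralizer ((T ⊓ C : Subgroup G) : Set G) → cj h (Tr y) = Tr y := by
    intro h hhC y hy
    show cj h (∏ q : ↥K ⧸ T', cj (l q) y) = ∏ q : ↥K ⧸ T', cj (l q) y
    rw [map_prod]
    have h2 : ∀ q : ↥K ⧸ T', cj h (cj (l q) y) = cj (l (h • q)) y := by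
      intro q
      rw [hcj_mul, key1 (h * l q) (by simpa using C.mul_mem hhC (hlC q)) y hy]
      congr 2
      conv_rhs => rw [← hlq q]
      rfl
    rw [Fintype.prod_congr _ _ h2]
    exact Fintype.prod_equiv (MulAction.toPerm h) _ _ (fun q => rfl)
  -- `T`-equivariance of the trace
  have hTr_T : ∀ (t : ↥K), (t : G) ∈ T → ∀ y : ↥V,
      (y : G) ∈ Subgroup.centralizer ((T ⊓ C : Subgroup G) : Set G) →
      cj t (Tr y) = Tr (cj t y) := by
    intro t htT y hy
    have hty : ((cj t y : ↥V) : G) ∈ Subgroup.centralizer ((T ⊓ C : Subgroup G) : Set G) := by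
      have hn : (t : G) ∈ Subgroup.normalizer ((T ⊓ C : Subgroup G) : Set G) :=
        inf_normalizer_le_normalizer_inf _ _ ⟨Subgroup.le_normalizer htT, hTC htT⟩
      have h3 := normalizer_le_normalizer_centralizer (T ⊓ C) hn
      exact (Subgroup.mem_normalizer_iff.mp h3 _).mp hy
    show cj t (∏ q : ↥K ⧸ T', cj (l q) y) = ∏ q : ↥K ⧸ T', cj (l q) (cj t y)
    rw [map_prod]
    have h2 : ∀ q : ↥K ⧸ T', cj t (cj (l q) y) = cj (l (t • q)) (cj t y) := by
      intro q
      have hconjC : ((t * l q * t⁻¹ : ↥K) : G) ∈ C := by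
        have := (Subgroup.mem_normalizer_iff.mp (hTC htT) _).mp (hlC q)
        simpa using this
      have h4 : cj t (cj (l q) y) = cj (t * l q * t⁻¹) (cj t y) := by
        rw [hcj_mul, hcj_mul]
        congr 1
        group
      rw [h4, key1 (t * l q * t⁻¹) hconjC (cj t y) hty]
      congr 2
      have h5 : (QuotientGroup.mk (t * l q * t⁻¹) : ↥K ⧸ T') = QuotientGroup.mk (t * l q) := by
        rw [QuotientGroup.eq, hT', Subgroup.mem_subgroupOf]
        have : ((t * l q * t⁻¹)⁻¹ * (t * l q) : ↥K) = t := by group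
        rw [this]; exact htT
      rw [h5]
      conv_rhs => rw [← hlq q]
      rfl
    rw [Fintype.prod_congr _ _ h2]
    exact Fintype.prod_equiv (MulAction.toPerm t) _ _ (fun q => rfl)
  set n := Fintype.card (↥K ⧸ T') with hn
  have hTr_fix : ∀ b : ↥V, (b : G) ∈ Subgroup.centralizer (C : Set G) → Tr b = b ^ n := by
    intro b hb
    show ∏ q : ↥K ⧸ T', cj (l q) b = b ^ n
    have h2 : ∀ q : ↥K ⧸ T', cj (l q) b = b := by
      intro q
      apply Subtype.ext
      show ((l q : ↥K) : G) * b * ((l q : ↥K) : G)⁻¹ = b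
      have := Subgroup.mem_centralizer_iff.mp hb _ (hlC q)
      rw [this]; group
    rw [Fintype.prod_congr _ _ h2, Finset.prod_const, Finset.card_univ]
  have hncop : Nat.Coprime n p := by
    have h1 : n = T.relIndex K := by
      rw [hn, Subgroup.relIndex, Subgroup.index_eq_card, Nat.card_eq_fintype_card]
    rw [h1]
    exact ((Nat.Prime.coprime_iff_not_dvd hp).mpr hidx).symm
  obtain ⟨m, -, hm⟩ := Nat.exists_mul_mod_eq_one_of_coprime hncop hp.one_lt
  have hVp : ∀ v : ↥V, v ^ p = 1 := fun v => Subtype.ext (hV.2 v v.2)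
  have hpow : ∀ v : ↥V, v ^ (n * m) = v := by
    intro v
    rw [pow_eq_pow_mod (n * m) (hVp v), hm, pow_one]
  -- the trace-zero part
  let K₀ : Subgroup G :=
    { carrier := {v | ∃ hv : v ∈ V, v ∈ Subgroup.centralizer ((T ⊓ C : Subgroup G) : Set G) ∧
        Tr ⟨v, hv⟩ = 1}
      mul_mem' := by
        rintro a b ⟨ha, hac, hat⟩ ⟨hb, hbc, hbt⟩
        refine ⟨V.mul_mem ha hb, Subgroup.mul_mem _ hac hbc, ?_⟩
        have : (⟨a * b, V.mul_mem ha hb⟩ : ↥V) = ⟨a, ha⟩ * ⟨b, hb⟩ := rfl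
        rw [this, hTr_mul, hat, hbt, one_mul]
      one_mem' := ⟨V.one_mem, Subgroup.one_mem _, hTr_one⟩
      inv_mem' := by
        rintro a ⟨ha, hac, hat⟩
        refine ⟨V.inv_mem ha, Subgroup.inv_mem _ hac, ?_⟩
        have : (⟨a⁻¹, V.inv_mem ha⟩ : ↥V) = (⟨a, ha⟩ : ↥V)⁻¹ := rfl
        rw [this, hTr_inv, hat, inv_one] }
  have hK₀T : K₀ ≤ T := fun v hv => hVT hv.1
  have hTK₀ : T ≤ Subgroup.normalizer (K₀ : Set G) := by
    have key : ∀ t ∈ T, ∀ v ∈ K₀, t * v * t⁻¹ ∈ K₀ := by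
      rintro t ht v ⟨hv, hvc, hvt⟩
      have h3 := hTr_T ⟨t, hTK ht⟩ ht ⟨v, hv⟩ hvc
      have hn : t ∈ Subgroup.normalizer ((T ⊓ C : Subgroup G) : Set G) :=
        inf_normalizer_le_normalizer_inf _ _ ⟨Subgroup.le_normalizer ht, hTC ht⟩
      have h4 := normalizer_le_normalizer_centralizer (T ⊓ C) hn
      refine ⟨(Subgroup.mem_normalizer_iff.mp (hKV (hTK ht)) v).mp hv,
        (Subgroup.mem_normalizer_iff.mp h4 _).mp hvc, ?_⟩
      rw [hvt, map_one] at h3
      exact h3.symm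
    intro t ht
    apply mem_normalizer_of_conj_mem
    · exact key t ht
    · intro v hv
      have := key t⁻¹ (T.inv_mem ht) v hv
      simpa using this
  have hK₀bot : K₀ = ⊥ := by
    by_contra hne
    have h3 := inf_centralizer_ne_bot_of_normal T K₀ hT hK₀T hTK₀ hne
    obtain ⟨⟨k, hk⟩, hk1'⟩ := (Subgroup.ne_bot_iff_exists_ne_one).mp h3
    have hk1 : k ≠ 1 := fun h => hk1' (Subtype.ext h)
    obtain ⟨⟨hkV, hkc, hkt⟩, hkT⟩ := Subgroup.mem_inf.mp hk
    have hkC := hyp k hkV hkT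
    have h4 := hTr_fix ⟨k, hkV⟩ hkC
    rw [hkt] at h4
    have h5 : (⟨k, hkV⟩ : ↥V) = 1 := by
      rw [← hpow ⟨k, hkV⟩, pow_mul, ← h4, one_pow]
    exact hk1 (congrArg Subtype.val h5)
  intro y hyV hyc
  set Y : ↥V := ⟨y, hyV⟩ with hY
  set a : ↥V := (Tr Y) ^ m with ha
  have haC : (a : G) ∈ Subgroup.centralizer (C : Set G) := by
    rw [Subgroup.mem_centralizer_iff]
    intro h hh
    have h3 := hTr_C ⟨h, hCK hh⟩ hh Y hyc
    have h4 : cj ⟨h, hCK hh⟩ a = a := by rw [ha, map_pow, h3]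
    have h5 := congrArg Subtype.val h4
    simp only [cj, conjHomOf_coe] at h5
    calc h * (a : G) = (h * (a : G) * h⁻¹) * h := by group
      _ = (a : G) * h := by rw [h5]
  have haT₀ : (a : G) ∈ Subgroup.centralizer ((T ⊓ C : Subgroup G) : Set G) :=
    Subgroup.centralizer_le (fun x hx => hx.2) haC
  have hy' : (y * (a : G)⁻¹) ∈ K₀ := by
    refine ⟨V.mul_mem hyV (V.inv_mem a.2), Subgroup.mul_mem _ hyc (Subgroup.inv_mem _ haT₀), ?_⟩
    have : (⟨y * (a : G)⁻¹, V.mul_mem hyV (V.inv_mem a.2)⟩ : ↥V) = Y * a⁻¹ := rfl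
    rw [this, hTr_mul, hTr_inv, hTr_fix a haC, ha, ← pow_mul, mul_comm m n, hpow]
    exact mul_inv_cancel _
  rw [hK₀bot, Subgroup.mem_bot] at hy'
  have : y = (a : G) := by
    calc y = (y * (a : G)⁻¹) * a := by group
      _ = a := by rw [hy', one_mul]
  rw [this]
  exact haC

end

end Cfsg.Agent.Lib.Helper16
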