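import Cfsg.Agent.Lib.Helper16.SylowAveraging

set_option autoImplicit false
open Cfsg
open scoped commutatorElement Pointwise IsMulCommutative

namespace Cfsg.Agent.Lib.Helper16

section
variable {G : Type*} [Group G] [Finite G] {p : ℕ} [Fact p.Prime]

/-- **Averaging, relative form.**  If `T ≤ K` has index prime to `p` in `K` and `V` is an
elementary abelian `p`-subgroup normalized by `K`, then `C_V(T) ≤ C_V(K) [V, K]`. -/
theorem exists_centralizer_mul_commutator_rel (K T V : Subgroup G) (_hTK : T ≤ K)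
    (hidx : ¬ p ∣ T.relIndex K) (hKV : K ≤ Subgroup.normalizer (V : Set G))
    (hV : Cfsg.IsElementaryAbelian p V) (x : G) (hxV : x ∈ V)
    (hxT : x ∈ Subgroup.centralizer (T : Set G)) :
    ∃ a w : G, a ∈ V ∧ a ∈ Subgroup.centralizer (K : Set G) ∧ w ∈ ⁅V, K⁆ ∧ x = a * w := by
  classical
  have : IsMulCommutative ↥V := hV.1
  set T' := T.subgroupOf K with hT'
  let _ : Fintype (↥K ⧸ T') := Fintype.ofFinite _
  have hp : p.Prime := Fact.out
  let cj := conjHomOf K V hKV
  let X : ↥V := ⟨x, hxV⟩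
  have hcj_mul : ∀ (a b : ↥K) (y : ↥V), cj a (cj b y) = cj (a * b) y := by
    intro a b y
    apply Subtype.ext
    show (a : G) * ((b : G) * y * (b : G)⁻¹) * (a : G)⁻¹ = ((a * b : ↥K) : G) * y * ((a * b : ↥K) : G)⁻¹
    simp only [Subgroup.coe_mul]
    group
  have hψ : ∀ (g t : ↥K), t ∈ T' → cj (g * t) X = cj g X := by
    intro g t ht
    rw [← hcj_mul]
    congr 1
    apply Subtype.ext
    show (t : G) * x * (t : G)⁻¹ = x
    have : (t : G) * x = x * t := Subgroup.mem_centralizer_iff.mp hxT t ht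
    rw [this]; group
  set a : ↥V := ∏ q : ↥K ⧸ T', cj q.out X with ha_def
  have ha : ∀ h : ↥K, cj h a = a := by
    intro h
    have h2 : ∀ q : ↥K ⧸ T', cj h (cj q.out X) = cj ((h • q).out) X := by
      intro q
      have hq : h • q = QuotientGroup.mk (h * q.out) := by
        conv_lhs => rw [← QuotientGroup.out_eq' q]
        rfl
      obtain ⟨t, ht⟩ := QuotientGroup.mk_out_eq_mul T' (h * q.out)
      rw [hq, ht, hψ _ _ t.2, hcj_mul]
    rw [ha_def, map_prod, Fintype.prod_congr _ _ h2]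
    exact Fintype.prod_equiv (MulAction.toPerm h) _ _ (fun q => rfl)
  let c : ↥K → ↥V := fun g => X⁻¹ * cj g X
  have hc : ∀ g : ↥K, ((c g : ↥V) : G) ∈ ⁅V, K⁆ := by
    intro g
    have e : ((c g : ↥V) : G) = ⁅x⁻¹, (g : G)⁆ := by
      show x⁻¹ * ((g : G) * x * (g : G)⁻¹) = _
      rw [commutatorElement_def]; group
    rw [e]
    exact Subgroup.commutator_mem_commutator (V.inv_mem hxV) g.2
  set w' : ↥V := ∏ q : ↥K ⧸ T', c q.out with hw'_def
  have hw' : (w' : G) ∈ ⁅V, K⁆ := by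
    have : w' ∈ (⁅V, K⁆).subgroupOf V := by
      rw [hw'_def]
      apply Subgroup.prod_mem
      intro q _
      exact hc q.out
    exact this
  set n := Fintype.card (↥K ⧸ T') with hn
  have haX : a = X ^ n * w' := by
    have hXn : (∏ _q : ↥K ⧸ T', X) = X ^ n := by
      rw [Finset.prod_const, Finset.card_univ]
    rw [ha_def, hw'_def, ← hXn, ← Finset.prod_mul_distrib]
    apply Fintype.prod_congr
    intro q
    show cj q.out X = X * (X⁻¹ * cj q.out X)
    rw [mul_inv_cancel_left]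
  have hncop : Nat.Coprime n p := by
    have h1 : n = T.relIndex K := by
      rw [hn, Subgroup.relIndex, Subgroup.index_eq_card, Nat.card_eq_fintype_card]
    rw [h1]
    exact ((Nat.Prime.coprime_iff_not_dvd hp).mpr hidx).symm
  obtain ⟨m, -, hm⟩ := Nat.exists_mul_mod_eq_one_of_coprime hncop hp.one_lt
  have hXp : X ^ p = 1 := Subtype.ext (hV.2 x hxV)
  have hX : X = a ^ m * (w'⁻¹) ^ m := by
    have h1 : a * w'⁻¹ = X ^ n := by rw [haX]; exact mul_inv_cancel_right _ _
    rw [← mul_pow, h1, ← pow_mul, pow_eq_pow_mod (n * m) hXp, hm, pow_one]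
  refine ⟨((a ^ m : ↥V) : G), (((w'⁻¹) ^ m : ↥V) : G), (a ^ m).2, ?_, ?_, ?_⟩
  · rw [Subgroup.mem_centralizer_iff]
    intro h hh
    have h1 : cj ⟨h, hh⟩ (a ^ m) = a ^ m := by rw [map_pow, ha]
    have h2 := congrArg Subtype.val h1
    simp only [cj, conjHomOf_coe] at h2
    calc h * ((a ^ m : ↥V) : G) = (h * ((a ^ m : ↥V) : G) * h⁻¹) * h := by group
      _ = ((a ^ m : ↥V) : G) * h := by rw [h2]
  · have : (((w'⁻¹) ^ m : ↥V) : G) = ((w' : G)⁻¹) ^ m := rfl
    rw [this]
    exact Subgroup.pow_mem _ (Subgroup.inv_mem _ hw') m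
  · exact congrArg Subtype.val hX

end

end Cfsg.Agent.Lib.Helper16
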