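import Cfsg.Agent.Lib.Helper16.FunctorRegular
import Cfsg.Agent.Lib.Helper16.CharP

set_option autoImplicit false
open Cfsg
open scoped commutatorElement Pointwise

namespace Cfsg.Agent.Lib.Helper16

/-! ### Linking Sylow subgroups through `sylowMembers` of a family -/

section SLink
variable {G : Type*} [Group G] {p : ℕ}

/-- Chains as in `ControlsSylowIntersections`, as an inductive relation. -/
inductive SLink (𝓖 : Set (Subgroup G)) (D : Subgroup G) : Sylow p G → Sylow p G → Prop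
  | refl (A : Sylow p G) : SLink 𝓖 D A A
  | step {A B C : Sylow p G} (X : Subgroup G) (x : G) : SLink 𝓖 D A B →
      X ∈ Cfsg.sylowMembers p 𝓖 (B : Subgroup G) → X ∈ Cfsg.sylowMembers p 𝓖 (C : Subgroup G) →
      x ∈ X → Cfsg.subgroupConjRight x (C : Subgroup G) = (B : Subgroup G) →
      D ≤ (C : Subgroup G) ⊓ X → SLink 𝓖 D A C

theorem SLink.trans {𝓖 : Set (Subgroup G)} {D : Subgroup G} {A B C : Sylow p G}
    (h1 : SLink 𝓖 D A B) (h2 : SLink 𝓖 D B C) : SLink 𝓖 D A C := by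
  induction h2 with
  | refl => exact h1
  | step X x _ hB hC hx hconj hD ih => exact SLink.step X x ih hB hC hx hconj hD

theorem SLink.mono {𝓖 : Set (Subgroup G)} {D D' : Subgroup G} {A B : Sylow p G}
    (hD : D' ≤ D) (h : SLink 𝓖 D A B) : SLink 𝓖 D' A B := by
  induction h with
  | refl => exact SLink.refl _
  | step X x _ hB hC hx hconj hDC ih => exact SLink.step X x ih hB hC hx hconj (hD.trans hDC)

theorem chain_of_slink (𝓖 : Set (Subgroup G)) (D : Subgroup G) (A C : Sylow p G)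
    (h : SLink 𝓖 D A C) :
    ∃ (n : ℕ) (c : Fin (n + 1) → Sylow p G) (X : Fin n → Subgroup G) (x : Fin n → G),
      c 0 = A ∧ c (Fin.last n) = C ∧
      ∀ i : Fin n,
        X i ∈ Cfsg.sylowMembers p 𝓖 (c i.castSucc : Subgroup G) ∧
        X i ∈ Cfsg.sylowMembers p 𝓖 (c i.succ : Subgroup G) ∧
        x i ∈ X i ∧
        Cfsg.subgroupConjRight (x i) (c i.succ : Subgroup G) = (c i.castSucc : Subgroup G) ∧
        D ≤ (c i.succ : Subgroup G) ⊓ X i := by
  induction h with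
  | refl => exact ⟨0, fun _ => A, fun i => i.elim0, fun i => i.elim0, rfl, rfl, fun i => i.elim0⟩
  | @step B C X₀ x₀ _ hBX hCX hx₀ hconj hDC ih =>
    obtain ⟨n, c, X, x, hc0, hcn, hstep⟩ := ih
    refine ⟨n + 1, snocFn c C, snocFn X X₀, snocFn x x₀, ?_, ?_, ?_⟩
    · rw [← Fin.castSucc_zero, snocFn_castSucc]; exact hc0
    · exact snocFn_last _ _
    · intro i
      refine Fin.lastCases ?_ ?_ i
      · rw [snocFn_last, snocFn_last, snocFn_castSucc, Fin.succ_last, snocFn_last, hcn]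
        exact ⟨hBX, hCX, hx₀, hconj, hDC⟩
      · intro j
        rw [snocFn_castSucc, snocFn_castSucc, snocFn_castSucc, Fin.succ_castSucc,
          snocFn_castSucc]
        exact hstep j

theorem controlsSylowIntersections_of_slink (𝓖 : Set (Subgroup G))
    (h : ∀ A B : Sylow p G, A ≠ B → (A : Subgroup G) ⊓ (B : Subgroup G) ≠ ⊥ →
      SLink 𝓖 ((A : Subgroup G) ⊓ (B : Subgroup G)) A B) :
    Cfsg.ControlsSylowIntersections p 𝓖 := by
  intro S T hne hinf
  exact chain_of_slink 𝓖 _ S T (h S T hne hinf)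

end SLink

section SLinkFin
variable {G : Type*} [Group G] [Finite G] {p : ℕ} [Fact p.Prime]

/-- One step: conjugating a Sylow subgroup `B` meeting `X` in a Sylow subgroup of `X` by an
element of `X`. -/
theorem SLink.of_mem {𝓖 : Set (Subgroup G)} {D : Subgroup G} (X : Subgroup G) (hX : X ∈ 𝓖)
    (B : Sylow p G) (hB : ¬ p ∣ ((B : Subgroup G) ⊓ X).relIndex X) (y : G) (hy : y ∈ X)
    (hD : D ≤ ((y • B : Sylow p G) : Subgroup G) ⊓ X) : SLink 𝓖 D B (y • B) := by
  refine SLink.step X y (SLink.refl B) ?_ ?_ hy ?_ hD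
  · rw [Cfsg.Agent.Lib.Helper23.mem_sylowMembers_iff _ _ B.isPGroup']
    exact ⟨hX, hB⟩
  · rw [Cfsg.Agent.Lib.Helper23.mem_sylowMembers_iff _ _ (y • B).isPGroup']
    refine ⟨hX, ?_⟩
    have hXy : X.map (MulAut.conj y).toMonoidHom = X := by
      rw [map_conj_eq_self_iff]; exact Subgroup.le_normalizer hy
    have := Cfsg.Agent.Lib.Helper23.relIndex_conj y (B : Subgroup G) X
    rw [hXy, ← coe_smul_sylow] at this
    rw [this]; exact hB
  · unfold Cfsg.subgroupConjRight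
    rw [coe_smul_sylow, map_conj_map_conj, inv_mul_cancel, map_conj_one]

/-- A Sylow subgroup inside `X` meets `X` in a Sylow subgroup of `X`. -/
theorem not_dvd_relIndex_of_le (B : Sylow p G) (X : Subgroup G) (h : (B : Subgroup G) ≤ X) :
    ¬ p ∣ ((B : Subgroup G) ⊓ X).relIndex X := by
  rw [inf_eq_left.mpr h]
  intro hdvd
  exact B.not_dvd_index (hdvd.trans (Subgroup.relIndex_dvd_index_of_le h))

/-- Every `p`-subgroup `Q` of `M` lies in a Sylow subgroup `R` of `G` with `R ⊓ M` a Sylow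
subgroup of `M`. -/
theorem exists_sylow_ge_inf_sylow (M Q : Subgroup G) (hQ : IsPGroup p Q) (hQM : Q ≤ M) :
    ∃ R : Sylow p G, Q ≤ (R : Subgroup G) ∧ ¬ p ∣ ((R : Subgroup G) ⊓ M).relIndex M := by
  have hQ' : IsPGroup p (Q.subgroupOf M) := hQ.comap_subtype
  obtain ⟨P', hP'⟩ := hQ'.exists_le_sylow
  have hP'p : IsPGroup p ((P' : Subgroup ↥M).map M.subtype) := P'.isPGroup'.map _
  obtain ⟨R, hR⟩ := hP'p.exists_le_sylow
  refine ⟨R, ?_, ?_⟩
  · intro q hq
    apply hR
    exact ⟨⟨q, hQM hq⟩, hP' (Subgroup.mem_subgroupOf.mpr hq), rfl⟩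
  · have hle : (P' : Subgroup ↥M) ≤ ((R : Subgroup G) ⊓ M).subgroupOf M := by
      intro x hx
      rw [Subgroup.mem_subgroupOf]
      exact Subgroup.mem_inf.mpr ⟨hR ⟨x, hx, rfl⟩, x.2⟩
    have hp : IsPGroup p (((R : Subgroup G) ⊓ M).subgroupOf M) :=
      (R.isPGroup'.to_le inf_le_left).comap_subtype
    have heq := P'.is_maximal' hp hle
    show ¬ p ∣ (((R : Subgroup G) ⊓ M).subgroupOf M).index
    rw [heq]
    exact P'.not_dvd_index

/-- Every `p`-local subgroup lies in a maximal `p`-local subgroup. -/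
theorem exists_isMaximalPLocal_ge (N : Subgroup G) (hN : Cfsg.IsPLocal p N) :
    ∃ M : Subgroup G, Cfsg.IsMaximalPLocal p M ∧ N ≤ M := by
  have hne : ({L : Subgroup G | Cfsg.IsPLocal p L ∧ N ≤ L}).Nonempty := ⟨N, hN, le_rfl⟩
  obtain ⟨M, ⟨hM1, hM2⟩, hmax⟩ := (wellFounded_gt (α := Subgroup G)).has_min _ hne
  refine ⟨M, ⟨hM1, ?_⟩, hM2⟩
  intro N' hN' hMN'
  by_contra hne'
  exact hmax N' ⟨hN', hM2.trans hMN'⟩ (lt_of_le_of_ne hMN' (Ne.symm hne'))

end SLinkFin

end Cfsg.Agent.Lib.Helper16
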