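import Cfsg.Agent.Lib.Helper16.SylowLink

set_option autoImplicit false
open Cfsg
open scoped commutatorElement Pointwise

namespace Cfsg.Agent.Lib.Helper16

section Aux
variable {G : Type*} [Group G]

theorem map_subtype_map_conj (M : Subgroup G) (L : Subgroup ↥M) (w : ↥M) :
    (L.map (MulAut.conj w).toMonoidHom).map M.subtype =
      (L.map M.subtype).map (MulAut.conj (w : G)).toMonoidHom := by
  rw [Subgroup.map_map, Subgroup.map_map]
  congr 1

theorem card_lt_of_lt [Finite G] {A B : Subgroup G} (h : A < B) : Nat.card A < Nat.card B := by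
  by_contra hcon
  push Not at hcon
  exact h.ne (Subgroup.eq_of_le_of_card_ge h.le hcon)

variable {p : ℕ} [Fact p.Prime] [Finite G]

/-- Two Sylow subgroups of `G` inside `Y` are conjugate by an element of `Y`. -/
theorem exists_smul_eq_of_le (Y : Subgroup G) (c Q : Sylow p G) (hc : (c : Subgroup G) ≤ Y)
    (hQ : (Q : Subgroup G) ≤ Y) : ∃ w ∈ Y, w • c = Q := by
  obtain ⟨w, hw⟩ := MulAction.exists_smul_eq ↥Y (c.subtype hc) (Q.subtype hQ)
  refine ⟨(w : G), w.2, ?_⟩
  rw [Sylow.smul_subtype] at hw
  exact sylow_subtype_injective Y _ _ _ hQ hw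

end Aux

section Goldschmidt
variable {G : Type*} [Group G] [Finite G] {p : ℕ} [Fact p.Prime]

set_option maxHeartbeats 1600000 in
/-- Goldschmidt: the normalizers of the members of `f(S)` together with the singular maximal
`p`-local subgroups link any two Sylow subgroups containing a nontrivial `D`. -/
theorem goldschmidt_link (f : Subgroup G → Set (Subgroup G))
    (hf : Cfsg.IsNormalizerFunctor p f)
    (hf1 : ∀ P : Subgroup G, IsPGroup p ↥P → P ≠ ⊥ → ∀ F ∈ f P, F ≠ ⊥)
    (𝓖 : Set (Subgroup G))
    (h𝓖 : 𝓖 = Cfsg.functorFamily p f ⊤ ∪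
      {M | Cfsg.IsMaximalPLocal p M ∧ ¬ Cfsg.IsFunctorRegular p f M})
    (D : Subgroup G) : D ≠ ⊥ → ∀ S T : Sylow p G, D ≤ (S : Subgroup G) → D ≤ (T : Subgroup G) →
      SLink 𝓖 D S T := by
  induction D using WellFoundedGT.induction with
  | ind D ihA =>
  intro hD S T hDS hDT
  have ihA' : ∀ D' : Subgroup G, D < D' → ∀ S T : Sylow p G, D' ≤ (S : Subgroup G) →
      D' ≤ (T : Subgroup G) → SLink 𝓖 D S T := by
    intro D' hlt S T hS hT
    have hne : D' ≠ ⊥ := by
      rintro rfl
      exact hD (le_bot_iff.mp hlt.le)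
    exact (ihA D' hlt hne S T hS hT).mono hlt.le
  -- claim B
  have B : ∀ (j : ℕ) (M : Subgroup G) (S₁ T₁ : Sylow p G),
      Nat.card G - Nat.card ↥((S₁ : Subgroup G) ⊓ M) = j → Cfsg.IsMaximalPLocal p M →
      ¬ p ∣ ((S₁ : Subgroup G) ⊓ M).relIndex M → ¬ p ∣ ((T₁ : Subgroup G) ⊓ M).relIndex M →
      D ≤ (S₁ : Subgroup G) → D ≤ (T₁ : Subgroup G) → D ≤ M → D < (S₁ : Subgroup G) ⊓ M →
      SLink 𝓖 D S₁ T₁ := by
    intro j
    induction j using Nat.strong_induction_on with
    | _ j ihB =>
    intro M S₁ T₁ hj hM hS₁ hT₁ hDS₁ hDT₁ hDM hlt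
    have hpS : IsPGroup p (((S₁ : Subgroup G) ⊓ M).subgroupOf M) :=
      (S₁.isPGroup'.to_le inf_le_left).comap_subtype
    have hpT : IsPGroup p (((T₁ : Subgroup G) ⊓ M).subgroupOf M) :=
      (T₁.isPGroup'.to_le inf_le_left).comap_subtype
    have hS₁' : ¬ p ∣ (((S₁ : Subgroup G) ⊓ M).subgroupOf M).index := hS₁
    have hT₁' : ¬ p ∣ (((T₁ : Subgroup G) ⊓ M).subgroupOf M).index := hT₁
    obtain ⟨PS, hPS⟩ : ∃ PS : Sylow p ↥M,
        (PS : Subgroup ↥M) = ((S₁ : Subgroup G) ⊓ M).subgroupOf M :=
      ⟨hpS.toSylow hS₁', IsPGroup.toSylow_coe _ _⟩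
    obtain ⟨PT, hPT⟩ : ∃ PT : Sylow p ↥M,
        (PT : Subgroup ↥M) = ((T₁ : Subgroup G) ⊓ M).subgroupOf M :=
      ⟨hpT.toSylow hT₁', IsPGroup.toSylow_coe _ _⟩
    have hPSmap : (PS : Subgroup ↥M).map M.subtype = (S₁ : Subgroup G) ⊓ M := by
      rw [hPS, Subgroup.map_subgroupOf_eq_of_le inf_le_right]
    have hPTmap : (PT : Subgroup ↥M).map M.subtype = (T₁ : Subgroup G) ⊓ M := by
      rw [hPT, Subgroup.map_subgroupOf_eq_of_le inf_le_right]
    have hcardM : ∀ c : Sylow p ↥M,
        Nat.card ↥((c : Subgroup ↥M).map M.subtype) = Nat.card ↥((S₁ : Subgroup G) ⊓ M) := by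
      intro c
      rw [← hPSmap, Subgroup.card_subtype, Subgroup.card_subtype, Sylow.card_eq_multiplicity,
        Sylow.card_eq_multiplicity]
    have hDltT : D < (T₁ : Subgroup G) ⊓ M := by
      refine lt_of_le_of_ne (le_inf hDT₁ hDM) ?_
      intro h
      have h1 := card_lt_of_lt hlt
      have h2 := hcardM PT
      rw [hPTmap, ← h] at h2
      omega
    by_cases hreg : Cfsg.IsFunctorRegular p f M
    · -- regular case
      by_cases hPST : PS = PT
      · have h1 : (S₁ : Subgroup G) ⊓ M = (T₁ : Subgroup G) ⊓ M := by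
          rw [← hPSmap, ← hPTmap, hPST]
        exact ihA' _ hlt S₁ T₁ inf_le_left (h1 ▸ inf_le_left)
      · have hDc : ∀ d ∈ D, ∀ hd : d ∈ M, (⟨d, hd⟩ : ↥M) ∈ (PS : Subgroup ↥M) ⊓ PT := by
          intro d hd hdM
          rw [hPS, hPT]
          exact Subgroup.mem_inf.mpr
            ⟨Subgroup.mem_subgroupOf.mpr (Subgroup.mem_inf.mpr ⟨hDS₁ hd, hdM⟩),
              Subgroup.mem_subgroupOf.mpr (Subgroup.mem_inf.mpr ⟨hDT₁ hd, hdM⟩)⟩
        have hinf : (PS : Subgroup ↥M) ⊓ PT ≠ ⊥ := by
          intro h0
          apply hD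
          rw [eq_bot_iff]
          intro d hd
          have h1 := hDc d hd (hDM hd)
          rw [h0, Subgroup.mem_bot] at h1
          exact Subgroup.mem_bot.mpr (congrArg Subtype.val h1)
        obtain ⟨n, c, X, x, hc0, hcn, hstep⟩ := hreg PS PT hPST hinf
        have key : ∀ i : Fin (n + 1), ∃ R : Sylow p G,
            (c i : Subgroup ↥M).map M.subtype ≤ (R : Subgroup G) ∧
            D ≤ (c i : Subgroup ↥M).map M.subtype ∧ SLink 𝓖 D S₁ R := by
          intro i
          induction i using Fin.induction with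
          | zero =>
            refine ⟨S₁, ?_, ?_, SLink.refl S₁⟩
            · rw [hc0, hPSmap]; exact inf_le_left
            · rw [hc0, hPSmap]; exact hlt.le
          | succ i ih =>
            obtain ⟨R, hPR, hDP, hlink⟩ := ih
            obtain ⟨hX1, hX2, hxX, hconj, hDX⟩ := hstep i
            rw [Cfsg.Agent.Lib.Helper23.mem_sylowMembers_iff _ _ (c i.castSucc).isPGroup'] at hX1
            rw [Cfsg.Agent.Lib.Helper23.mem_sylowMembers_iff _ _ (c i.succ).isPGroup'] at hX2
            obtain ⟨⟨X₀, hX₀, hX₀eq⟩, hnd1⟩ := hX1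
            obtain ⟨_, hnd2⟩ := hX2
            obtain ⟨Q, F, hF, rfl⟩ := hX₀
            simp only at hX₀eq
            -- notation
            obtain ⟨P, hP⟩ : ∃ P : Subgroup G, P = (c i.castSucc : Subgroup ↥M).map M.subtype :=
              ⟨_, rfl⟩
            obtain ⟨P₂, hP₂⟩ : ∃ P₂ : Subgroup G, P₂ = (c i.succ : Subgroup ↥M).map M.subtype :=
              ⟨_, rfl⟩
            obtain ⟨Q', hQ'⟩ : ∃ Q' : Subgroup G, Q' = (Q : Subgroup ↥M).map M.subtype :=
              ⟨_, rfl⟩
            rw [← hP] at hPR hDP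
            rw [← hQ'] at hF
            have hQ'p : IsPGroup p Q' := hQ' ▸ Q.isPGroup'.map _
            have hQ'N : Subgroup.normalizer (Q' : Set G) ≤ Subgroup.normalizer (F : Set G) :=
              ((hf Q' hQ'p).1 F hF).2
            have hFQ' : F ≤ Q' := ((hf Q' hQ'p).1 F hF).1
            have hQY : (Q : Subgroup ↥M) ≤ X i := by
              rw [← hX₀eq]
              intro q hq
              rw [Subgroup.mem_subgroupOf]
              refine Subgroup.mem_inf.mpr ⟨q.2, ?_⟩
              apply hQ'N
              apply Subgroup.le_normalizer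
              rw [hQ']
              exact ⟨q, hq, rfl⟩
            have hcY : (c i.castSucc : Subgroup ↥M) ≤ X i :=
              le_of_not_dvd_relIndex Q (c i.castSucc) (X i) hQY hnd1
            have hc'Y : (c i.succ : Subgroup ↥M) ≤ X i :=
              le_of_not_dvd_relIndex Q (c i.succ) (X i) hQY hnd2
            have hXK : ∀ z : ↥M, z ∈ X i → (z : G) ∈ Subgroup.normalizer (F : Set G) := by
              intro z hz
              rw [← hX₀eq, Subgroup.mem_subgroupOf] at hz
              exact (Subgroup.mem_inf.mp hz).2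
            have hPK : P ≤ Subgroup.normalizer (F : Set G) := by
              rw [hP]
              rintro _ ⟨z, hz, rfl⟩
              exact hXK z (hcY hz)
            have hP₂K : P₂ ≤ Subgroup.normalizer (F : Set G) := by
              rw [hP₂]
              rintro _ ⟨z, hz, rfl⟩
              exact hXK z (hc'Y hz)
            have hyK : (x i : G) ∈ Subgroup.normalizer (F : Set G) := hXK (x i) hxX
            -- conjugacy of `c i.castSucc` and `Q` inside `X i`
            obtain ⟨w, hwX, hw⟩ := exists_smul_eq_of_le (X i) (c i.castSucc) Q hcY hQY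
            have hwK : (w : G) ∈ Subgroup.normalizer (F : Set G) := hXK w hwX
            have hQ'P : Q' = P.map (MulAut.conj (w : G)).toMonoidHom := by
              rw [hQ', hP, ← map_subtype_map_conj, ← coe_smul_sylow, hw]
            have hP₂P : P₂ = P.map (MulAut.conj (x i : G)).toMonoidHom := by
              unfold Cfsg.subgroupConjRight at hconj
              rw [hP, hP₂, ← hconj, ← map_subtype_map_conj, map_conj_map_conj, mul_inv_cancel,
                map_conj_one]
            have hNPK : Subgroup.normalizer (P : Set G) ≤ Subgroup.normalizer (F : Set G) := by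
              intro g hg
              have h1 : (w : G) * g * (w : G)⁻¹ ∈ Subgroup.normalizer (Q' : Set G) := by
                rw [hQ'P, mem_normalizer_map_conj_iff]
                have e : (w : G)⁻¹ * ((w : G) * g * (w : G)⁻¹) * (w : G) = g := by group
                rw [e]; exact hg
              have h2 := hQ'N h1
              have e : g = (w : G)⁻¹ * ((w : G) * g * (w : G)⁻¹) * (w : G) := by group
              rw [e]
              exact Subgroup.mul_mem _ (Subgroup.mul_mem _ (Subgroup.inv_mem _ hwK) h2) hwK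
            have hNP₂K : Subgroup.normalizer (P₂ : Set G) ≤ Subgroup.normalizer (F : Set G) := by
              intro g hg
              rw [hP₂P, mem_normalizer_map_conj_iff] at hg
              have h2 := hNPK hg
              have e : g = (x i : G) * ((x i : G)⁻¹ * g * (x i : G)) * (x i : G)⁻¹ := by group
              rw [e]
              exact Subgroup.mul_mem _ (Subgroup.mul_mem _ hyK h2) (Subgroup.inv_mem _ hyK)
            have hDP₂ : D ≤ P₂ := by
              intro d hd
              have h1 := (Subgroup.mem_inf.mp (hDX (hDc d hd (hDM hd)))).1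
              rw [hP₂]
              exact ⟨⟨d, hDM hd⟩, h1, rfl⟩
            have hP₂R : P₂ ≤ ((((x i : G)) • R : Sylow p G) : Subgroup G) := by
              rw [hP₂P, coe_smul_sylow]
              exact map_conj_mono hPR _
            refine ⟨(x i : G) • R, hP₂ ▸ hP₂R, hP₂ ▸ hDP₂, hlink.trans ?_⟩
            have hcardP : Nat.card ↥P = Nat.card ↥((S₁ : Subgroup G) ⊓ M) := hP ▸ hcardM _
            have hPne : P ≠ ⊥ := by
              rintro rfl
              exact hD (le_bot_iff.mp hDP)
            rcases eq_or_lt_of_le hPR with heq | hltPR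
            · -- Sylow subgroups of `M` are Sylow in `G`
              have hK : Subgroup.normalizer (F : Set G) ∈ 𝓖 := by
                rw [h𝓖]
                left
                apply normalizer_mem_functorFamily_top f ((w : G) • R) F
                rw [coe_smul_sylow, ← heq, ← hQ'P]
                exact hF
              have hRK : (R : Subgroup G) ≤ Subgroup.normalizer (F : Set G) := heq ▸ hPK
              apply SLink.of_mem _ hK R (not_dvd_relIndex_of_le R _ hRK) (x i : G) hyK
              exact le_inf (hDP₂.trans hP₂R) (hDP₂.trans hP₂K)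
            · -- pass to a maximal `p`-local subgroup with larger Sylow subgroups
              have hQ'ne : Q' ≠ ⊥ := by
                rw [hQ'P]; exact map_conj_ne_bot P _ hPne
              have hKloc : Cfsg.IsPLocal p (Subgroup.normalizer (F : Set G)) :=
                ⟨F, hQ'p.to_le hFQ', hf1 Q' hQ'p hQ'ne F hF, rfl⟩
              obtain ⟨M', hM', hKM'⟩ := exists_isMaximalPLocal_ge _ hKloc
              -- first side
              obtain ⟨t, htR, htN, htP⟩ :=
                exists_mem_normalizer_not_mem (R : Subgroup G) P R.isPGroup' hltPR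
              have hPQ₁ : P < (R : Subgroup G) ⊓ M' := by
                refine lt_of_le_of_ne (le_inf hPR (hPK.trans hKM')) ?_
                intro h
                apply htP
                rw [h]
                exact Subgroup.mem_inf.mpr ⟨htR, hKM' (hNPK htN)⟩
              obtain ⟨R', hQ₁R', hR'M'⟩ := exists_sylow_ge_inf_sylow M' ((R : Subgroup G) ⊓ M')
                (R.isPGroup'.to_le inf_le_left) inf_le_right
              have link1 : SLink 𝓖 D R R' :=
                ihA' _ (lt_of_le_of_lt hDP hPQ₁) R R' inf_le_left hQ₁R'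
              -- second side
              have hltP₂ : P₂ < ((((x i : G)) • R : Sylow p G) : Subgroup G) := by
                refine lt_of_le_of_ne hP₂R ?_
                intro h
                have h1 : Nat.card ↥P₂ = Nat.card ↥P := by
                  rw [hP₂P]
                  exact Subgroup.card_map_of_injective (MulAut.conj (x i : G)).injective
                have h2 : Nat.card ↥((((x i : G)) • R : Sylow p G) : Subgroup G) =
                    Nat.card ↥(R : Subgroup G) := by
                  rw [Sylow.card_eq_multiplicity, Sylow.card_eq_multiplicity]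
                have h3 := card_lt_of_lt hltPR
                rw [← h] at h2
                omega
              obtain ⟨t₂, ht₂R, ht₂N, ht₂P⟩ := exists_mem_normalizer_not_mem
                ((((x i : G)) • R : Sylow p G) : Subgroup G) P₂ ((x i : G) • R).isPGroup' hltP₂
              have hPQ₂ : P₂ < ((((x i : G)) • R : Sylow p G) : Subgroup G) ⊓ M' := by
                refine lt_of_le_of_ne (le_inf hP₂R (hP₂K.trans hKM')) ?_
                intro h
                apply ht₂P
                rw [h]
                exact Subgroup.mem_inf.mpr ⟨ht₂R, hKM' (hNP₂K ht₂N)⟩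
              obtain ⟨R₂', hQ₂R₂', hR₂'M'⟩ := exists_sylow_ge_inf_sylow M'
                (((((x i : G)) • R : Sylow p G) : Subgroup G) ⊓ M')
                (((x i : G) • R).isPGroup'.to_le inf_le_left) inf_le_right
              have link3 : SLink 𝓖 D R₂' ((x i : G) • R) :=
                ihA' _ (lt_of_le_of_lt hDP₂ hPQ₂) R₂' ((x i : G) • R) hQ₂R₂' inf_le_left
              -- middle
              have hQ₁le : (R : Subgroup G) ⊓ M' ≤ (R' : Subgroup G) ⊓ M' :=
                le_inf hQ₁R' inf_le_right
              have hcard1 : Nat.card ↥((S₁ : Subgroup G) ⊓ M) <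
                  Nat.card ↥((R' : Subgroup G) ⊓ M') := by
                have h1 := card_lt_of_lt hPQ₁
                have h2 := Subgroup.card_le_of_le hQ₁le
                omega
              have hcard2 : Nat.card ↥((R' : Subgroup G) ⊓ M') ≤ Nat.card G :=
                Subgroup.card_le_card_group _
              have link2 : SLink 𝓖 D R' R₂' := by
                apply ihB (Nat.card G - Nat.card ↥((R' : Subgroup G) ⊓ M')) (by omega) M' R' R₂'
                  rfl hM' hR'M' hR₂'M'
                · exact hDP.trans (hPQ₁.le.trans hQ₁R')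
                · exact hDP₂.trans (hPQ₂.le.trans hQ₂R₂')
                · exact hDP.trans (hPK.trans hKM')
                · exact lt_of_le_of_lt hDP (lt_of_lt_of_le hPQ₁ hQ₁le)
              exact link1.trans (link2.trans link3)
        obtain ⟨R, hPR, _, hlink⟩ := key (Fin.last n)
        rw [hcn, hPTmap] at hPR
        exact hlink.trans (ihA' _ hDltT R T₁ hPR inf_le_left)
    · -- singular case
      have hM𝓖 : M ∈ 𝓖 := by
        rw [h𝓖]; exact Or.inr ⟨hM, hreg⟩
      obtain ⟨m, hm⟩ := MulAction.exists_smul_eq ↥M PS PT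
      have hle : (T₁ : Subgroup G) ⊓ M ≤ ((((m : G)) • S₁ : Sylow p G) : Subgroup G) := by
        intro z hz
        have hzM : z ∈ M := (Subgroup.mem_inf.mp hz).2
        have h1 : (⟨z, hzM⟩ : ↥M) ∈ (PT : Subgroup ↥M) := by
          rw [hPT]; exact Subgroup.mem_subgroupOf.mpr hz
        rw [← hm, Cfsg.Agent.Lib.Helper24.mem_smul_sylow_iff, hPS, Subgroup.mem_subgroupOf] at h1
        rw [Cfsg.Agent.Lib.Helper24.mem_smul_sylow_iff]
        exact (Subgroup.mem_inf.mp h1).1
      have link1 : SLink 𝓖 D S₁ ((m : G) • S₁) := by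
        apply SLink.of_mem M hM𝓖 S₁ hS₁ (m : G) m.2
        exact le_inf ((le_inf hDT₁ hDM).trans hle) hDM
      exact link1.trans (ihA' _ hDltT ((m : G) • S₁) T₁ hle inf_le_left)
  -- claim A
  by_cases hST : S = T
  · subst hST; exact SLink.refl S
  rcases eq_or_lt_of_le (le_inf hDS hDT : D ≤ (S : Subgroup G) ⊓ (T : Subgroup G)) with heq | hlt
  swap
  · exact ihA' _ hlt S T inf_le_left inf_le_right
  have hDltS : D < (S : Subgroup G) := by
    refine lt_of_le_of_ne hDS ?_
    intro h
    apply hST
    apply Sylow.ext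
    exact (S.is_maximal' T.isPGroup' (h ▸ hDT)).symm
  have hDltT : D < (T : Subgroup G) := by
    refine lt_of_le_of_ne hDT ?_
    intro h
    apply hST
    apply Sylow.ext
    exact T.is_maximal' S.isPGroup' (h ▸ hDS)
  have hN : Cfsg.IsPLocal p (Subgroup.normalizer (D : Set G)) :=
    ⟨D, S.isPGroup'.to_le hDS, hD, rfl⟩
  obtain ⟨M, hM, hNM⟩ := exists_isMaximalPLocal_ge _ hN
  have hDM : D ≤ M := Subgroup.le_normalizer.trans hNM
  obtain ⟨t, htS, htN, htD⟩ := exists_mem_normalizer_not_mem (S : Subgroup G) D S.isPGroup' hDltS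
  have hDQS : D < (S : Subgroup G) ⊓ M := by
    refine lt_of_le_of_ne (le_inf hDS hDM) ?_
    intro h
    apply htD
    rw [h]
    exact Subgroup.mem_inf.mpr ⟨htS, hNM htN⟩
  obtain ⟨S₁, hQS₁, hS₁M⟩ := exists_sylow_ge_inf_sylow M ((S : Subgroup G) ⊓ M)
    (S.isPGroup'.to_le inf_le_left) inf_le_right
  obtain ⟨t', htT, htN', htD'⟩ :=
    exists_mem_normalizer_not_mem (T : Subgroup G) D T.isPGroup' hDltT
  have hDQT : D < (T : Subgroup G) ⊓ M := by
    refine lt_of_le_of_ne (le_inf hDT hDM) ?_
    intro h
    apply htD'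
    rw [h]
    exact Subgroup.mem_inf.mpr ⟨htT, hNM htN'⟩
  obtain ⟨T₁, hQT₁, hT₁M⟩ := exists_sylow_ge_inf_sylow M ((T : Subgroup G) ⊓ M)
    (T.isPGroup'.to_le inf_le_left) inf_le_right
  have link1 : SLink 𝓖 D S S₁ := ihA' _ hDQS S S₁ inf_le_left hQS₁
  have link3 : SLink 𝓖 D T₁ T := ihA' _ hDQT T₁ T hQT₁ inf_le_left
  have link2 : SLink 𝓖 D S₁ T₁ := by
    apply B _ M S₁ T₁ rfl hM hS₁M hT₁M (hDQS.le.trans hQS₁) (hDQT.le.trans hQT₁) hDM
    exact lt_of_lt_of_le hDQS (le_inf hQS₁ inf_le_right)
  exact link1.trans (link2.trans link3)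

end Goldschmidt

end Cfsg.Agent.Lib.Helper16
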