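import Cfsg.Agent.Lib.Helper16.KFamily
import Cfsg.Agent.Lib.Helper16.SubnormalResidual
import Cfsg.Agent.Lib.Helper16.WeaklyClosed

set_option autoImplicit false
open Cfsg
open scoped commutatorElement Pointwise

namespace Cfsg.Agent.Lib.Helper16

/-! ### Normal closures of a `p`-subgroup `Q` and `O^p` -/

section ConjClosure
variable {X : Type*} [Group X]

/-- The subgroup generated by the `A`-conjugates of `Q`. -/
def conjClosure (A Q : Subgroup X) : Subgroup X :=
  Subgroup.closure {x | ∃ h ∈ A, ∃ q ∈ Q, x = h * q * h⁻¹}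

theorem conj_mem_conjClosure (A Q : Subgroup X) {h q : X} (hh : h ∈ A) (hq : q ∈ Q) :
    h * q * h⁻¹ ∈ conjClosure A Q :=
  Subgroup.subset_closure ⟨h, hh, q, hq, rfl⟩

theorem le_conjClosure (A Q : Subgroup X) : Q ≤ conjClosure A Q := by
  intro q hq
  have := conj_mem_conjClosure A Q A.one_mem hq
  simpa using this

theorem conjClosure_le (A Q W : Subgroup X) (h : ∀ a ∈ A, ∀ q ∈ Q, a * q * a⁻¹ ∈ W) :
    conjClosure A Q ≤ W := by
  unfold conjClosure
  rw [Subgroup.closure_le]
  rintro _ ⟨a, ha, q, hq, rfl⟩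
  exact h a ha q hq

theorem conjClosure_le_sup (A Q : Subgroup X) : conjClosure A Q ≤ A ⊔ Q := by
  apply conjClosure_le
  intro a ha q hq
  exact Subgroup.mul_mem _ (Subgroup.mul_mem _ (le_sup_left (b := Q) ha) (le_sup_right (a := A) hq))
    (Subgroup.inv_mem _ (le_sup_left (b := Q) ha))

theorem conjClosure_mono {A B : Subgroup X} (Q : Subgroup X) (h : A ≤ B) :
    conjClosure A Q ≤ conjClosure B Q := by
  apply conjClosure_le
  intro a ha q hq
  exact conj_mem_conjClosure B Q (h ha) hq

theorem le_normalizer_conjClosure (A Q : Subgroup X) :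
    A ≤ Subgroup.normalizer ((conjClosure A Q : Subgroup X) : Set X) := by
  apply le_normalizer_closure_of_conj_mem
  rintro e he _ ⟨h, hh, q, hq, rfl⟩
  refine ⟨e * h, A.mul_mem he hh, q, hq, ?_⟩
  group

theorem map_conj_le_conjClosure (A Q : Subgroup X) {h : X} (hh : h ∈ A) :
    Q.map (MulAut.conj h).toMonoidHom ≤ conjClosure A Q := by
  rintro _ ⟨q, hq, rfl⟩
  have := conj_mem_conjClosure A Q hh hq
  simpa [MulAut.conj_apply] using this

/-- The closure of the `A ⊔ Q`-conjugates of `Q` equals the closure of the `A`-conjugates when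
`Q` normalizes `A`. -/
theorem conjClosure_sup_eq (A Q : Subgroup X) (hQA : Q ≤ Subgroup.normalizer (A : Set X)) :
    conjClosure (A ⊔ Q) Q = conjClosure A Q := by
  apply le_antisymm _ (conjClosure_mono Q le_sup_left)
  apply conjClosure_le
  intro x hx q hq
  obtain ⟨a, ha, q', hq', rfl⟩ := Cfsg.Agent.Lib.Helper3.mem_sup_of_normalizes A Q
    (fun c hc b hb => (Subgroup.mem_normalizer_iff.mp (hQA hc) b).mp hb) hx
  have : a * q' * q * (a * q')⁻¹ = a * (q' * q * q'⁻¹) * a⁻¹ := by group
  rw [this]
  exact conj_mem_conjClosure A Q ha (Q.mul_mem (Q.mul_mem hq' hq) (Q.inv_mem hq'))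

/-- The normal closure of `Q` in terms of `conjClosure`. -/
theorem normalClosure_eq_conjClosure_top (Q : Subgroup X) :
    Subgroup.normalClosure (Q : Set X) = conjClosure ⊤ Q := by
  apply le_antisymm
  · unfold Subgroup.normalClosure
    rw [Subgroup.closure_le]
    intro y hy
    rw [Group.mem_conjugatesOfSet_iff] at hy
    obtain ⟨q, hq, hconj⟩ := hy
    obtain ⟨c, hc⟩ := isConj_iff.mp hconj
    rw [← hc]
    exact conj_mem_conjClosure ⊤ Q (Subgroup.mem_top c) hq
  · apply conjClosure_le
    intro a _ q hq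
    exact (Subgroup.normalClosure_normal).conj_mem q (Subgroup.subset_normalClosure hq) a

end ConjClosure

section W34
variable {X : Type*} [Group X] [Finite X] {p : ℕ} [Fact p.Prime]

/-- If `X` is the normal closure of the `p`-subgroup `Q` then `X = O^p(X) Q`. -/
theorem pResidual_sup_eq_top_of_normalClosure (Q : Subgroup X)
    (htop : Subgroup.normalClosure (Q : Set X) = ⊤) : Cfsg.pResidual p X ⊔ Q = ⊤ := by
  have hKn := pResidual_normal (G := X) p
  set K := Cfsg.pResidual p X with hK
  by_contra hne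
  set π := QuotientGroup.mk' K with hπ
  have hsurj : Function.Surjective π := QuotientGroup.mk'_surjective K
  have hpq : IsPGroup p (X ⧸ K) := quotient_pResidual_isPGroup p
  have hnil : Group.IsNilpotent (X ⧸ K) := hpq.isNilpotent
  have hnc : NormalizerCondition (X ⧸ K) := Group.normalizerCondition_of_isNilpotent
  set Y := K ⊔ Q with hY
  have hYne : Y.map π ≠ ⊤ := by
    intro h
    apply hne
    have h1 := congrArg (Subgroup.comap π) h
    rw [Subgroup.comap_map_eq, QuotientGroup.ker_mk', Subgroup.comap_top] at h1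
    rw [← h1]
    exact (sup_eq_left.mpr le_sup_left).symm
  obtain ⟨M, hM, hYM⟩ := (eq_top_or_exists_le_coatom (Y.map π)).resolve_left hYne
  have hMn : M.Normal := Subgroup.NormalizerCondition.normal_of_coatom M hnc hM
  have hcn : (M.comap π).Normal := hMn.comap π
  have hQM : (Q : Set X) ⊆ M.comap π := by
    intro q hq
    exact hYM ⟨q, le_sup_right (a := K) hq, rfl⟩
  have h2 := Subgroup.normalClosure_le_normal hQM
  rw [htop, top_le_iff] at h2
  apply hM.1
  rw [← Subgroup.map_comap_eq_self_of_surjective hsurj M, h2,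
    Subgroup.map_top_of_surjective π hsurj]

/-- If `X` is the normal closure of the `p`-subgroup `Q` then `O^p(X) = [O^p(X), Q]`. -/
theorem pResidual_le_commutator_of_normalClosure (Q : Subgroup X) (hQ : IsPGroup p Q)
    (htop : Subgroup.normalClosure (Q : Set X) = ⊤) :
    Cfsg.pResidual p X ≤ ⁅Cfsg.pResidual p X, Q⁆ := by
  have hKn := pResidual_normal (G := X) p
  have hKQ : Cfsg.pResidual p X ⊔ Q = ⊤ := pResidual_sup_eq_top_of_normalClosure Q htop
  set K := Cfsg.pResidual p X with hK
  set K₀ := ⁅K, Q⁆ with hK₀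
  have hK₀n : K₀.Normal := by
    rw [← Subgroup.normalizer_eq_top_iff, eq_top_iff, ← hKQ]
    exact sup_le (le_normalizer_commutator_left K Q) (le_normalizer_commutator_right K Q)
  set N := K₀ ⊔ Q with hN
  have hNn : N.Normal := by
    rw [← Subgroup.normalizer_eq_top_iff, eq_top_iff, ← hKQ]
    apply sup_le
    · intro k hk
      rw [← map_conj_eq_self_iff]
      apply map_conj_eq_of_le
      apply map_conj_sup_le
      · rw [(map_conj_eq_self_iff K₀ k).mpr (by rw [Subgroup.normalizer_eq_top]; trivial)]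
        exact le_sup_left
      · rintro _ ⟨q, hq, rfl⟩
        have : (MulAut.conj k).toMonoidHom q = ⁅k, q⁆ * q := by
          simp [MulAut.conj_apply, commutatorElement_def]
        rw [this]
        exact N.mul_mem (le_sup_left (b := Q) (Subgroup.commutator_mem_commutator hk hq))
          (le_sup_right (a := K₀) hq)
    · exact le_sup_right.trans Subgroup.le_normalizer
  have hNtop : N = ⊤ := by
    rw [eq_top_iff, ← htop]
    exact Subgroup.normalClosure_le_normal (fun q hq => le_sup_right (a := K₀) hq)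
  have h3 : opUp p (K₀ ⊔ Q) ≤ K₀ := opUp_sup_le_of_isPGroup p K₀ Q hQ (by
    rw [Subgroup.normalizer_eq_top]; exact le_top)
  rw [hK]
  unfold Cfsg.pResidual
  rw [Subgroup.closure_le]
  intro g hg
  apply h3
  apply mem_opUp_of_coprime p _ hg
  rw [← hN, hNtop]
  exact Subgroup.mem_top g

end W34

section W34amb
variable {𝓗 : Type*} [Group 𝓗] [Finite 𝓗] {p : ℕ} [Fact p.Prime]

/-- Ambient version: a subgroup `M` generated by its own conjugates of the `p`-subgroup `Q`
satisfies `M = O^p(M) Q` and `O^p(M) = [O^p(M), Q]`. -/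
theorem opUp_of_conj_generated (M Q : Subgroup 𝓗) (hQM : Q ≤ M) (hQ : IsPGroup p Q)
    (hgen : M ≤ conjClosure M Q) :
    M = opUp p M ⊔ Q ∧ opUp p M = ⁅opUp p M, Q⁆ := by
  set Q' := Q.subgroupOf M with hQ'
  have hQ'p : IsPGroup p Q' := hQ.comap_subtype
  have htop : Subgroup.normalClosure (Q' : Set ↥M) = ⊤ := by
    rw [eq_top_iff]
    intro x _
    have hle : conjClosure M Q ≤ (Subgroup.normalClosure (Q' : Set ↥M)).map M.subtype := by
      apply conjClosure_le
      intro m hm q hq
      refine ⟨⟨m, hm⟩ * ⟨q, hQM hq⟩ * ⟨m, hm⟩⁻¹, ?_, rfl⟩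
      apply (Subgroup.normalClosure_normal).conj_mem
      apply Subgroup.subset_normalClosure
      exact (Subgroup.mem_subgroupOf.mpr hq : (⟨q, hQM hq⟩ : ↥M) ∈ Q')
    obtain ⟨y, hy, hyx⟩ := hle (hgen x.2)
    have : y = x := Subtype.ext hyx
    rwa [← this]
  have hmapQ : Q'.map M.subtype = Q := Subgroup.map_subgroupOf_eq_of_le hQM
  constructor
  · have h1 := pResidual_sup_eq_top_of_normalClosure (p := p) Q' htop
    have h2 := congrArg (Subgroup.map M.subtype) h1
    rw [Subgroup.map_sup, map_pResidual_eq_opUp, hmapQ, ← MonoidHom.range_eq_map,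
      Subgroup.range_subtype] at h2
    exact h2.symm
  · apply le_antisymm
    · have h1 := pResidual_le_commutator_of_normalClosure (p := p) Q' hQ'p htop
      have h2 := Subgroup.map_mono (f := M.subtype) h1
      rwa [Subgroup.map_commutator, map_pResidual_eq_opUp, hmapQ] at h2
    · apply commutator_le_of_le_normalizer'
      exact hQM.trans (Subgroup.le_normalizer.trans (normalizer_le_normalizer_opUp p M))

end W34amb

end Cfsg.Agent.Lib.Helper16
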