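import Cfsg.Agent.Lib.Helper16.WeakClosureProd
import Cfsg.Agent.Lib.Helper16.KFamily2

set_option autoImplicit false
open Cfsg
open scoped commutatorElement Pointwise

namespace Cfsg.Agent.Lib.Helper16

/-! ### The product lemma for weak closures, abstract form -/

section WCProd
variable {𝓗 : Type*} [Group 𝓗] [Finite 𝓗] {p : ℕ} [Fact p.Prime]

/-- A normal subgroup `D` normalizing the `p`-subgroup `Q`, whose normal closure is everything,
is central modulo `O_p`. -/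
theorem commutator_mem_pCore_of_normal_le_normalizer (Q : Subgroup 𝓗) (hQ : IsPGroup p Q)
    (htop : Subgroup.normalClosure (Q : Set 𝓗) = ⊤) (D : Subgroup 𝓗) [hD : D.Normal]
    (hDQ : D ≤ Subgroup.normalizer (Q : Set 𝓗)) :
    ∀ d ∈ D, ∀ x : 𝓗, ⁅d, x⁆ ∈ Cfsg.pCore p 𝓗 := by
  have hRn : (Cfsg.pCore p 𝓗).Normal := pCore_normal p 𝓗
  have hDQle : D ⊓ Q ≤ Cfsg.pCore p 𝓗 := by
    have h1 : D ⊓ Q ≤ opDown p D := by
      apply le_opDown p inf_le_left
      · intro d hd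
        rw [Subgroup.mem_normalizer_iff]
        intro x
        constructor
        · intro hx
          have hx' := Subgroup.mem_inf.mp hx
          exact Subgroup.mem_inf.mpr ⟨hD.conj_mem x hx'.1 d,
            (Subgroup.mem_normalizer_iff.mp (hDQ hd) x).mp hx'.2⟩
        · intro hx
          have hx' := Subgroup.mem_inf.mp hx
          refine Subgroup.mem_inf.mpr ⟨?_, (Subgroup.mem_normalizer_iff.mp (hDQ hd) x).mpr hx'.2⟩
          have := hD.conj_mem _ hx'.1 d⁻¹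
          simpa [mul_assoc] using this
      · exact hQ.to_le inf_le_right
    exact h1.trans (opDown_le_pCore_of_isSubnormal p hD.isSubnormal)
  intro d hd x
  have hx : x ∈ conjClosure ⊤ Q := by
    rw [← normalClosure_eq_conjClosure_top, htop]; exact Subgroup.mem_top x
  have hle : conjClosure ⊤ Q ≤ centMod (Cfsg.pCore p 𝓗) d := by
    apply conjClosure_le
    intro a _ q hq
    rw [mem_centMod']
    have hd' : a⁻¹ * d * a ∈ D := by
      have := hD.conj_mem d hd a⁻¹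
      simpa using this
    have hc : ⁅a⁻¹ * d * a, q⁆ ∈ D ⊓ Q := by
      refine Subgroup.mem_inf.mpr ⟨?_, ?_⟩
      · rw [commutatorElement_def]
        have e : a⁻¹ * d * a * q * (a⁻¹ * d * a)⁻¹ * q⁻¹
            = (a⁻¹ * d * a) * (q * (a⁻¹ * d * a)⁻¹ * q⁻¹) := by group
        rw [e]
        exact D.mul_mem hd' (hD.conj_mem _ (D.inv_mem hd') q)
      · rw [commutatorElement_def]
        exact Q.mul_mem ((Subgroup.mem_normalizer_iff.mp (hDQ hd') q).mp hq) (Q.inv_mem hq)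
    have e : ⁅d, a * q * a⁻¹⁆ = a * ⁅a⁻¹ * d * a, q⁆ * a⁻¹ := by
      simp only [commutatorElement_def]; group
    rw [e]
    exact hRn.conj_mem _ (hDQle hc) a
  exact (mem_centMod' _ d x).mp (hle hx)

omit [Finite 𝓗] [Fact p.Prime] in
/-- Three subgroups lemma modulo a normal subgroup `R`: if `[H₁,H₂]` is central modulo `R`
then `[[H₁,H₁],H₂] ≤ R`. -/
theorem commutator_commutator_mem_of_central_mod (R H₁ H₂ : Subgroup 𝓗) [hR : R.Normal]
    (h : ∀ d ∈ ⁅H₁, H₂⁆, ∀ x : 𝓗, ⁅d, x⁆ ∈ R) :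
    ∀ x ∈ ⁅H₁, H₁⁆, ∀ y ∈ H₂, ⁅x, y⁆ ∈ R := by
  set π := QuotientGroup.mk' R with hπ
  have hker : π.ker = R := QuotientGroup.ker_mk' R
  set A := H₁.map π with hA
  set B := H₂.map π with hB
  have h1 : ⁅⁅A, B⁆, A⁆ = ⊥ := by
    rw [eq_bot_iff, hA, hB, ← Subgroup.map_commutator, ← Subgroup.map_commutator]
    rw [Subgroup.map_le_iff_le_comap, Subgroup.commutator_le]
    intro d hd x _
    rw [Subgroup.mem_comap, Subgroup.mem_bot, ← MonoidHom.mem_ker, hker]
    exact h d hd x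
  have h2 : ⁅⁅B, A⁆, A⁆ = ⊥ := by rw [Subgroup.commutator_comm B A]; exact h1
  have h3 : ⁅⁅A, A⁆, B⁆ = ⊥ := Subgroup.commutator_commutator_eq_bot_of_rotate h1 h2
  intro x hx y hy
  rw [← hker, MonoidHom.mem_ker, map_commutatorElement]
  have : ⁅π x, π y⁆ ∈ ⁅⁅A, A⁆, B⁆ := by
    apply Subgroup.commutator_mem_commutator
    · rw [hA, ← Subgroup.map_commutator]
      exact Subgroup.mem_map_of_mem π hx
    · exact Subgroup.mem_map_of_mem π hy
  rw [h3] at this
  exact Subgroup.mem_bot.mp this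

/-- One side of the product lemma for weak closures. -/
theorem wcprod_side (Q : Subgroup 𝓗) (hQ : IsPGroup p Q)
    (htop : Subgroup.normalClosure (Q : Set 𝓗) = ⊤) (H₁ H₂ : Subgroup 𝓗) [hH₁ : H₁.Normal]
    [hH₂ : H₂.Normal] (hsup : H₁ ⊔ H₂ = ⊤)
    (hD : ⁅H₁, H₂⁆ ≤ Subgroup.normalizer (Q : Set 𝓗))
    (hgen : conjClosure H₁ Q ≤ conjClosure (conjClosure H₁ Q) Q) :
    opUp p (conjClosure H₁ Q) = ⁅opUp p (conjClosure H₁ Q), Q⁆ ∧
    conjClosure H₁ Q = opUp p (conjClosure H₁ Q) ⊔ Q ∧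
    opUp p (conjClosure H₁ Q) ≤ ⁅H₁, H₁⁆ ∧
    (∀ k ∈ opUp p (conjClosure H₁ Q), ∀ y ∈ H₂, ⁅k, y⁆ ∈ Cfsg.pCore p 𝓗) ∧
    (opUp p (conjClosure H₁ Q)).Normal ∧
    ⁅opUp p (conjClosure H₁ Q), H₁⁆ = opUp p (conjClosure H₁ Q) := by
  have hRn : (Cfsg.pCore p 𝓗).Normal := pCore_normal p 𝓗
  have hRp : IsPGroup p (Cfsg.pCore p 𝓗) := pCore_isPGroup p 𝓗
  set R := Cfsg.pCore p 𝓗 with hR
  set M := conjClosure H₁ Q with hM
  set K := opUp p M with hK
  have hS1 := commutator_mem_pCore_of_normal_le_normalizer (p := p) Q hQ htop ⁅H₁, H₂⁆ hD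
  have hS2 := commutator_commutator_mem_of_central_mod R H₁ H₂ hS1
  have hQM : Q ≤ M := le_conjClosure H₁ Q
  have hMle : M ≤ H₁ ⊔ Q := conjClosure_le_sup H₁ Q
  have hH₁M : H₁ ≤ Subgroup.normalizer (M : Set 𝓗) := le_normalizer_conjClosure H₁ Q
  obtain ⟨hMK, hKQ⟩ := opUp_of_conj_generated (p := p) M Q hQM hQ hgen
  have hnormal_le : ∀ (N : Subgroup 𝓗) [N.Normal] (Y : Subgroup 𝓗),
      Y ≤ Subgroup.normalizer (N : Set 𝓗) := by
    intro N hN Y
    rw [Subgroup.normalizer_eq_top]; exact le_top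
  have hKH₁ : K ≤ H₁ :=
    (opUp_mono p hMle).trans (opUp_sup_le_of_isPGroup p H₁ Q hQ (hnormal_le H₁ Q))
  have hall : ∀ (T : Subgroup 𝓗) [T.Normal] (x : 𝓗), (∀ a ∈ H₁, ⁅x, a⁆ ∈ T) →
      (∀ b ∈ H₂, ⁅x, b⁆ ∈ T) → ∀ q : 𝓗, ⁅x, q⁆ ∈ T := by
    intro T hT x h1 h2 q
    have hle : H₁ ⊔ H₂ ≤ centMod T x :=
      sup_le (fun a ha => (mem_centMod' T x a).mpr (h1 a ha))
        (fun b hb => (mem_centMod' T x b).mpr (h2 b hb))
    rw [hsup] at hle
    exact (mem_centMod' T x q).mp (hle (Subgroup.mem_top q))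
  -- step 4a
  set T₀ := ⁅H₁, H₂⁆ ⊔ ⁅H₁, H₁⁆ with hT₀
  have h4a : M ≤ T₀ ⊔ Q := by
    apply conjClosure_le
    intro h hh q hq
    have e : h * q * h⁻¹ = ⁅h, q⁆ * q := by simp [commutatorElement_def]
    rw [e]
    apply Subgroup.mul_mem _ (le_sup_left (b := Q) _) (le_sup_right (a := T₀) hq)
    apply hall T₀ h
    · intro a ha
      exact le_sup_right (a := ⁅H₁, H₂⁆) (Subgroup.commutator_mem_commutator hh ha)
    · intro b hb
      exact le_sup_left (b := ⁅H₁, H₁⁆) (Subgroup.commutator_mem_commutator hh hb)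
  have h4b : K ≤ T₀ :=
    (opUp_mono p h4a).trans (opUp_sup_le_of_isPGroup p T₀ Q hQ (hnormal_le T₀ Q))
  -- step 4c
  set T₁ := ⁅H₁, H₁⁆ ⊔ R with hT₁
  have hT₁c : ∀ c ∈ ⁅H₁, H₁⁆, ∀ q : 𝓗, ⁅c, q⁆ ∈ T₁ := by
    intro c hc
    apply hall T₁ c
    · intro a _
      exact le_sup_left (b := R) (commutator_mem_of_mem_normal_left ⁅H₁, H₁⁆ hc a)
    · intro b hb
      exact le_sup_right (a := ⁅H₁, H₁⁆) (hS2 c hc b hb)
  have h4c : K ≤ T₁ := by
    calc K = ⁅K, Q⁆ := hKQ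
      _ ≤ T₁ := by
        rw [Subgroup.commutator_le]
        intro k hk q _
        have hle : T₀ ≤ centMod T₁ q := by
          apply sup_le
          · intro d hd
            exact (mem_centMod T₁ q d).mpr (le_sup_right (a := ⁅H₁, H₁⁆) (hS1 d hd q))
          · intro c hc
            exact (mem_centMod T₁ q c).mpr (hT₁c c hc q)
        exact (mem_centMod T₁ q k).mp (hle (h4b hk))
  have hKK : opUp p K = K := opUp_opUp p M
  have h4 : K ≤ ⁅H₁, H₁⁆ := by
    calc K = opUp p K := hKK.symm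
      _ ≤ opUp p T₁ := opUp_mono p h4c
      _ ≤ ⁅H₁, H₁⁆ := opUp_sup_le_of_isPGroup p ⁅H₁, H₁⁆ R hRp (hnormal_le _ R)
  have h5 : ∀ k ∈ K, ∀ y ∈ H₂, ⁅k, y⁆ ∈ R := fun k hk y hy => hS2 k (h4 hk) y hy
  -- step 6
  have hH₁K : H₁ ≤ Subgroup.normalizer (K : Set 𝓗) :=
    hH₁M.trans (normalizer_le_normalizer_opUp p M)
  have hKsn : K.IsSubnormal :=
    Subgroup.IsSubnormal.step K H₁ hKH₁ hH₁.isSubnormal
      ((Subgroup.normal_subgroupOf_iff_le_normalizer hKH₁).mpr hH₁K)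
  have hRK : R ≤ Subgroup.normalizer (K : Set 𝓗) := by
    have := pCore_le_normalizer_opUp p hKsn
    rwa [hKK] at this
  have hH₂K : H₂ ≤ Subgroup.normalizer (K : Set 𝓗) := by
    intro y hy
    rw [← map_conj_eq_self_iff]
    apply map_conj_eq_of_le
    have h1 : K.map (MulAut.conj y).toMonoidHom ≤ K ⊔ R := by
      rintro _ ⟨k, hk, rfl⟩
      have e : (MulAut.conj y).toMonoidHom k = ⁅y, k⁆ * k := by
        simp [MulAut.conj_apply, commutatorElement_def]
      rw [e]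
      refine Subgroup.mul_mem _ (le_sup_right (a := K) ?_) (le_sup_left (b := R) hk)
      rw [← commutatorElement_inv, Subgroup.inv_mem_iff]
      exact h5 k hk y hy
    calc K.map (MulAut.conj y).toMonoidHom
        = (opUp p K).map (MulAut.conj y).toMonoidHom := by rw [hKK]
      _ = opUp p (K.map (MulAut.conj y).toMonoidHom) := (opUp_map_conj K y).symm
      _ ≤ opUp p (K ⊔ R) := opUp_mono p h1
      _ ≤ K := opUp_sup_le_of_isPGroup p K R hRp hRK
  have hKn : K.Normal := by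
    rw [← Subgroup.normalizer_eq_top_iff, eq_top_iff, ← hsup]
    exact sup_le hH₁K hH₂K
  -- step 7
  have h7 : ⁅K, H₁⁆ = K := by
    have := hKn
    apply le_antisymm (Subgroup.commutator_le_left K H₁)
    set N := ⁅K, H₁⁆ with hN
    have hN' : K ≤ N ⊔ R := by
      calc K = ⁅K, Q⁆ := hKQ
        _ ≤ N ⊔ R := by
          rw [Subgroup.commutator_le]
          intro k hk q _
          apply hall (N ⊔ R) k
          · intro a ha
            exact le_sup_left (b := R) (Subgroup.commutator_mem_commutator hk ha)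
          · intro b hb
            exact le_sup_right (a := N) (h5 k hk b hb)
    calc K = opUp p K := hKK.symm
      _ ≤ opUp p (N ⊔ R) := opUp_mono p hN'
      _ ≤ N := opUp_sup_le_of_isPGroup p N R hRp (hnormal_le N R)
  exact ⟨hKQ, hMK, h4, h5, hKn, h7⟩

/-- The product lemma for weak closures, abstract form. -/
theorem wcprod_both (Q : Subgroup 𝓗) (hQ : IsPGroup p Q)
    (htop : Subgroup.normalClosure (Q : Set 𝓗) = ⊤) (H₁ H₂ : Subgroup 𝓗) [hH₁ : H₁.Normal]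
    [hH₂ : H₂.Normal] (hsup : H₁ ⊔ H₂ = ⊤)
    (hD : ⁅H₁, H₂⁆ ≤ Subgroup.normalizer (Q : Set 𝓗))
    (hgen₁ : conjClosure H₁ Q ≤ conjClosure (conjClosure H₁ Q) Q)
    (hgen₂ : conjClosure H₂ Q ≤ conjClosure (conjClosure H₂ Q) Q) :
    opUp p (conjClosure H₁ Q) ⊔ opUp p (conjClosure H₂ Q) = Cfsg.pResidual p 𝓗 ∧
    ⁅opUp p (conjClosure H₁ Q), opUp p (conjClosure H₂ Q)⁆ ≤ Cfsg.pCore p 𝓗 := by
  have hD' : ⁅H₂, H₁⁆ ≤ Subgroup.normalizer (Q : Set 𝓗) := by
    rw [Subgroup.commutator_comm]; exact hD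
  have hsup' : H₂ ⊔ H₁ = ⊤ := by rw [sup_comm]; exact hsup
  obtain ⟨_, hMK₁, _, h5₁, hKn₁, _⟩ := wcprod_side (p := p) Q hQ htop H₁ H₂ hsup hD hgen₁
  obtain ⟨_, hMK₂, hK₂', _, hKn₂, _⟩ := wcprod_side (p := p) Q hQ htop H₂ H₁ hsup' hD' hgen₂
  set K₁ := opUp p (conjClosure H₁ Q) with hK₁
  set K₂ := opUp p (conjClosure H₂ Q) with hK₂
  have hK₂H₂ : K₂ ≤ H₂ := hK₂'.trans (Subgroup.commutator_le_left H₂ H₂)
  constructor
  · set W := K₁ ⊔ K₂ with hW
    have hWn : W.Normal := Subgroup.sup_normal K₁ K₂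
    have hM₁W : conjClosure H₁ Q ≤ W ⊔ Q := by
      rw [hMK₁]; exact sup_le ((le_sup_left (b := K₂)).trans le_sup_left) le_sup_right
    have hM₂W : conjClosure H₂ Q ≤ W ⊔ Q := by
      rw [hMK₂]; exact sup_le ((le_sup_right (a := K₁)).trans le_sup_left) le_sup_right
    have hWQn : (W ⊔ Q).Normal := by
      rw [← Subgroup.normalizer_eq_top_iff, eq_top_iff, ← hsup]
      apply sup_le
      · intro h hh
        rw [← map_conj_eq_self_iff]
        apply map_conj_eq_of_le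
        apply map_conj_sup_le
        · rw [map_conj_of_normal W h]; exact le_sup_left
        · exact (map_conj_le_conjClosure H₁ Q hh).trans hM₁W
      · intro h hh
        rw [← map_conj_eq_self_iff]
        apply map_conj_eq_of_le
        apply map_conj_sup_le
        · rw [map_conj_of_normal W h]; exact le_sup_left
        · exact (map_conj_le_conjClosure H₂ Q hh).trans hM₂W
    have hWQtop : W ⊔ Q = ⊤ := by
      rw [eq_top_iff, ← htop]
      exact Subgroup.normalClosure_le_normal (fun q hq => le_sup_right (a := W) hq)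
    have hle : ∀ B : Subgroup 𝓗, opUp p B ≤ Cfsg.pResidual p 𝓗 := by
      intro B
      unfold opUp Cfsg.pResidual
      apply Subgroup.closure_mono
      intro g hg
      exact hg.2
    apply le_antisymm (sup_le (hle _) (hle _))
    unfold Cfsg.pResidual
    rw [Subgroup.closure_le]
    intro g hg
    have hg' : g ∈ opUp p (W ⊔ Q) :=
      mem_opUp_of_coprime p (by rw [hWQtop]; exact Subgroup.mem_top g) hg
    exact opUp_sup_le_of_isPGroup p W Q hQ (by rw [Subgroup.normalizer_eq_top]; exact le_top) hg'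
  · rw [Subgroup.commutator_le]
    intro k₁ hk₁ k₂ hk₂
    exact h5₁ k₁ hk₁ k₂ (hK₂H₂ hk₂)

end WCProd

end Cfsg.Agent.Lib.Helper16
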