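import Cfsg.Agent.Lib.Helper16.WeakClosureProd2

set_option autoImplicit false
open Cfsg
open scoped commutatorElement Pointwise

namespace Cfsg.Agent.Lib.Helper16

/-! ### The product lemma for weak closures, ambient form -/

section MapConjClosure
variable {X : Type*} [Group X]

theorem map_conjClosure {Y : Type*} [Group Y] (f : X →* Y) (A Q : Subgroup X) :
    (conjClosure A Q).map f = conjClosure (A.map f) (Q.map f) := by
  unfold conjClosure
  rw [MonoidHom.map_closure]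
  congr 1
  ext y
  constructor
  · rintro ⟨_, ⟨h, hh, q, hq, rfl⟩, rfl⟩
    exact ⟨f h, Subgroup.mem_map_of_mem f hh, f q, Subgroup.mem_map_of_mem f hq, by simp⟩
  · rintro ⟨_, ⟨h, hh, rfl⟩, _, ⟨q, hq, rfl⟩, rfl⟩
    exact ⟨h * q * h⁻¹, ⟨h, hh, q, hq, rfl⟩, by simp⟩

theorem map_subtype_conjClosure_subgroupOf (Hc A Q : Subgroup X) (hA : A ≤ Hc) (hQ : Q ≤ Hc) :
    (conjClosure (A.subgroupOf Hc) (Q.subgroupOf Hc)).map Hc.subtype = conjClosure A Q := by
  rw [map_conjClosure, Subgroup.map_subgroupOf_eq_of_le hA, Subgroup.map_subgroupOf_eq_of_le hQ]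

/-- The weak closure of `Q` in `L` is contained in the weak closure of `Q` in itself. -/
theorem weakClosure_le_weakClosure_self (Q L : Subgroup X) :
    Cfsg.weakClosure Q L ≤ Cfsg.weakClosure Q (Cfsg.weakClosure Q L) := by
  unfold Cfsg.weakClosure
  apply iSup_le
  intro g
  have hg : Q.map (MulAut.conj (g : X)).toMonoidHom ≤
      ⨆ g : {g : X // Q.map (MulAut.conj g).toMonoidHom ≤ L},
        Q.map (MulAut.conj (g : X)).toMonoidHom :=
    le_iSup (fun g : {g : X // Q.map (MulAut.conj g).toMonoidHom ≤ L} =>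
      Q.map (MulAut.conj (g : X)).toMonoidHom) g
  exact le_iSup (fun g : {g : X // Q.map (MulAut.conj g).toMonoidHom ≤
      ⨆ g : {g : X // Q.map (MulAut.conj g).toMonoidHom ≤ L},
        Q.map (MulAut.conj (g : X)).toMonoidHom} =>
      Q.map (MulAut.conj (g : X)).toMonoidHom) ⟨g.1, hg⟩

theorem weakClosure_le (Q L : Subgroup X) : Cfsg.weakClosure Q L ≤ L := by
  unfold Cfsg.weakClosure
  apply iSup_le
  intro g
  exact g.2

end MapConjClosure

section WCAmb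
variable {G : Type*} [Group G] [Finite G] {p : ℕ} [Fact p.Prime]

/-- For a weakly closed subgroup `Q ≤ L`, the weak closure of `Q` in `L` is generated by the
`L`-conjugates of `Q`. -/
theorem weakClosure_eq_conjClosure {Q : Subgroup G} (hwc : Cfsg.IsWeaklyClosedSubgroup p Q)
    (L : Subgroup G) (hQL : Q ≤ L) : Cfsg.weakClosure Q L = conjClosure L Q := by
  apply le_antisymm
  · unfold Cfsg.weakClosure
    apply iSup_le
    intro g
    obtain ⟨k, hk, hgk⟩ := weaklyClosed_conj_in hwc L hQL g.1 g.2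
    rw [hgk]
    exact map_conj_le_conjClosure L Q hk
  · apply conjClosure_le
    intro a ha q hq
    have hle : Q.map (MulAut.conj a).toMonoidHom ≤ L := by
      rintro _ ⟨x, hx, rfl⟩
      simp only [MulEquiv.coe_toMonoidHom, MulAut.conj_apply]
      exact L.mul_mem (L.mul_mem ha (hQL hx)) (L.inv_mem ha)
    have h1 : Q.map (MulAut.conj a).toMonoidHom ≤ Cfsg.weakClosure Q L :=
      le_iSup (fun g : {g : G // Q.map (MulAut.conj g).toMonoidHom ≤ L} =>
        Q.map (MulAut.conj (g : G)).toMonoidHom) ⟨a, hle⟩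
    apply h1
    exact ⟨q, hq, by simp [MulAut.conj_apply]⟩

omit [Finite G] [Fact p.Prime] in
theorem le_weakClosure (Q L : Subgroup G) (hQL : Q ≤ L) : Q ≤ Cfsg.weakClosure Q L := by
  have hle : Q.map (MulAut.conj (1 : G)).toMonoidHom ≤ L := by rw [map_conj_one]; exact hQL
  have h1 : Q.map (MulAut.conj (1 : G)).toMonoidHom ≤ Cfsg.weakClosure Q L :=
    le_iSup (fun g : {g : G // Q.map (MulAut.conj g).toMonoidHom ≤ L} =>
      Q.map (MulAut.conj (g : G)).toMonoidHom) ⟨1, hle⟩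
  rwa [map_conj_one] at h1

/-- The product lemma for weak closures, ambient form with `conjClosure`. -/
theorem wcprod_ambient (Hc Q H₁ H₂ : Subgroup G) (hQ : IsPGroup p Q) (hQHc : Q ≤ Hc)
    (htop : Hc ≤ conjClosure Hc Q)
    (hn₁ : H₁ ≤ Hc ∧ Hc ≤ Subgroup.normalizer ((H₁ : Subgroup G) : Set G))
    (hn₂ : H₂ ≤ Hc ∧ Hc ≤ Subgroup.normalizer ((H₂ : Subgroup G) : Set G))
    (hprod : H₁ ⊔ H₂ = Hc)
    (hcomm : ⁅H₁, H₂⁆ ≤ Subgroup.normalizer ((Q : Subgroup G) : Set G))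
    (hgen₁ : conjClosure H₁ Q ≤ conjClosure (conjClosure H₁ Q) Q)
    (hgen₂ : conjClosure H₂ Q ≤ conjClosure (conjClosure H₂ Q) Q) :
    (⁅opUp p (conjClosure H₁ Q), Q⁆ = opUp p (conjClosure H₁ Q) ∧
      ⁅opUp p (conjClosure H₁ Q), H₁⁆ = opUp p (conjClosure H₁ Q) ∧
      opUp p (conjClosure H₁ Q) ≤ ⁅H₁, H₁⁆ ∧
      Hc ≤ Subgroup.normalizer ((opUp p (conjClosure H₁ Q) : Subgroup G) : Set G)) ∧
    (⁅opUp p (conjClosure H₂ Q), Q⁆ = opUp p (conjClosure H₂ Q) ∧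
      ⁅opUp p (conjClosure H₂ Q), H₂⁆ = opUp p (conjClosure H₂ Q) ∧
      opUp p (conjClosure H₂ Q) ≤ ⁅H₂, H₂⁆ ∧
      Hc ≤ Subgroup.normalizer ((opUp p (conjClosure H₂ Q) : Subgroup G) : Set G)) ∧
    opUp p (conjClosure H₁ Q) ⊔ opUp p (conjClosure H₂ Q) = opUp p Hc ∧
    ⁅opUp p (conjClosure H₁ Q), opUp p (conjClosure H₂ Q)⁆ ≤ opDown p Hc := by
  -- pass to the group `↥Hc`
  set s := Hc.subtype with hs
  have hsinj : Function.Injective s := Hc.subtype_injective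
  set Q' := Q.subgroupOf Hc with hQ'
  set A₁ := H₁.subgroupOf Hc with hA₁
  set A₂ := H₂.subgroupOf Hc with hA₂
  have hQ'p : IsPGroup p Q' := hQ.comap_subtype
  have hmQ : Q'.map s = Q := Subgroup.map_subgroupOf_eq_of_le hQHc
  have hmA₁ : A₁.map s = H₁ := Subgroup.map_subgroupOf_eq_of_le hn₁.1
  have hmA₂ : A₂.map s = H₂ := Subgroup.map_subgroupOf_eq_of_le hn₂.1
  have hA₁n : A₁.Normal := (Subgroup.normal_subgroupOf_iff_le_normalizer hn₁.1).mpr hn₁.2
  have hA₂n : A₂.Normal := (Subgroup.normal_subgroupOf_iff_le_normalizer hn₂.1).mpr hn₂.2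
  have hsup : A₁ ⊔ A₂ = ⊤ := by
    rw [hA₁, hA₂, ← Subgroup.subgroupOf_sup hn₁.1 hn₂.1, hprod, Subgroup.subgroupOf_self]
  have hmC₁ : (conjClosure A₁ Q').map s = conjClosure H₁ Q :=
    map_subtype_conjClosure_subgroupOf Hc H₁ Q hn₁.1 hQHc
  have hmC₂ : (conjClosure A₂ Q').map s = conjClosure H₂ Q :=
    map_subtype_conjClosure_subgroupOf Hc H₂ Q hn₂.1 hQHc
  have htop' : Subgroup.normalClosure (Q' : Set ↥Hc) = ⊤ := by
    rw [normalClosure_eq_conjClosure_top, eq_top_iff]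
    intro x _
    have h1 : (conjClosure (⊤ : Subgroup ↥Hc) Q').map s = conjClosure Hc Q := by
      rw [map_conjClosure, hmQ, ← MonoidHom.range_eq_map, hs, Subgroup.range_subtype]
    have h2 : (x : G) ∈ (conjClosure (⊤ : Subgroup ↥Hc) Q').map s := by
      rw [h1]; exact htop x.2
    obtain ⟨y, hy, hyx⟩ := h2
    have : y = x := Subtype.ext hyx
    rwa [← this]
  have hD : ⁅A₁, A₂⁆ ≤ Subgroup.normalizer (Q' : Set ↥Hc) := by
    intro x hx
    have h1 : s x ∈ ⁅H₁, H₂⁆ := by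
      rw [← hmA₁, ← hmA₂, ← Subgroup.map_commutator]
      exact Subgroup.mem_map_of_mem s hx
    have h2 := hcomm h1
    exact Subgroup.le_normalizer_comap s (Subgroup.mem_comap.mpr h2)
  have hg₁ : conjClosure A₁ Q' ≤ conjClosure (conjClosure A₁ Q') Q' := by
    rw [← Subgroup.map_le_map_iff_of_injective hsinj, hmC₁, map_conjClosure, hmC₁, hmQ]
    exact hgen₁
  have hg₂ : conjClosure A₂ Q' ≤ conjClosure (conjClosure A₂ Q') Q' := by
    rw [← Subgroup.map_le_map_iff_of_injective hsinj, hmC₂, map_conjClosure, hmC₂, hmQ]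
    exact hgen₂
  have hD' : ⁅A₂, A₁⁆ ≤ Subgroup.normalizer (Q' : Set ↥Hc) := by
    rw [Subgroup.commutator_comm]; exact hD
  have hsup' : A₂ ⊔ A₁ = ⊤ := by rw [sup_comm]; exact hsup
  obtain ⟨a1, _, a3, _, a5, a6⟩ := wcprod_side (p := p) Q' hQ'p htop' A₁ A₂ hsup hD hg₁
  obtain ⟨b1, _, b3, _, b5, b6⟩ := wcprod_side (p := p) Q' hQ'p htop' A₂ A₁ hsup' hD' hg₂
  obtain ⟨c1, c2⟩ := wcprod_both (p := p) Q' hQ'p htop' A₁ A₂ hsup hD hg₁ hg₂
  have hmK₁ : (opUp p (conjClosure A₁ Q')).map s = opUp p (conjClosure H₁ Q) := by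
    rw [hs, map_opUp_subtype, ← hs, hmC₁]
  have hmK₂ : (opUp p (conjClosure A₂ Q')).map s = opUp p (conjClosure H₂ Q) := by
    rw [hs, map_opUp_subtype, ← hs, hmC₂]
  set K₁' := opUp p (conjClosure A₁ Q') with hK₁'
  set K₂' := opUp p (conjClosure A₂ Q') with hK₂'
  have hnorm : ∀ K' : Subgroup ↥Hc, K'.Normal →
      Hc ≤ Subgroup.normalizer ((K'.map s : Subgroup G) : Set G) := by
    intro K' hK'
    have hle : K'.map s ≤ Hc := by
      rintro _ ⟨x, _, rfl⟩; exact x.2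
    rw [← Subgroup.normal_subgroupOf_iff_le_normalizer hle]
    have : (K'.map s).subgroupOf Hc = K' := by
      rw [Subgroup.subgroupOf, ← hs, Subgroup.comap_map_eq_self_of_injective hsinj]
    rw [this]; exact hK'
  refine ⟨⟨?_, ?_, ?_, ?_⟩, ⟨?_, ?_, ?_, ?_⟩, ?_, ?_⟩
  · rw [← hmK₁, ← hmQ, ← Subgroup.map_commutator, ← a1]
  · rw [← hmK₁, ← hmA₁, ← Subgroup.map_commutator, a6]
  · rw [← hmK₁, ← hmA₁, ← Subgroup.map_commutator]
    exact Subgroup.map_mono a3
  · rw [← hmK₁]; exact hnorm K₁' a5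
  · rw [← hmK₂, ← hmQ, ← Subgroup.map_commutator, ← b1]
  · rw [← hmK₂, ← hmA₂, ← Subgroup.map_commutator, b6]
  · rw [← hmK₂, ← hmA₂, ← Subgroup.map_commutator]
    exact Subgroup.map_mono b3
  · rw [← hmK₂]; exact hnorm K₂' b5
  · rw [← hmK₁, ← hmK₂, ← Subgroup.map_sup, c1, hs, map_pResidual_eq_opUp]
  · rw [← hmK₁, ← hmK₂, ← Subgroup.map_commutator, ← map_pCore_eq_opDown]
    exact Subgroup.map_mono c2

end WCAmb

end Cfsg.Agent.Lib.Helper16
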