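import Mathlib
import Cfsg.Agent.S0016
import Cfsg.Agent.S0040
import Cfsg.Agent.Lib.Helper13.FpfCyclic

set_option autoImplicit false
set_option maxHeartbeats 1000000
open Cfsg
open scoped commutatorElement

universe u v

namespace Cfsg.Agent.Lib.Helper16.ZassOdd

/-- a `q`-group (`q` odd) acting fixed-point-freely on a nontrivial subgroup it normalises is
cyclic -/
theorem cyclic_of_fpf_pgroup {G : Type u} [Group G] [Finite G] (q : ℕ) [hq : Fact q.Prime]
    (hq2 : q ≠ 2) (K E : Subgroup G) (hK : K ≠ ⊥)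
    (hEK : E ≤ Subgroup.normalizer (K : Set G)) (hEq : IsPGroup q E)
    (hfpf : ∀ a ∈ E, a ≠ 1 → K ⊓ Subgroup.centralizer {a} = ⊥) : IsCyclic E := by
  have huniq' := Cfsg.Agent.S0040.unique_order_p (P := ↥E) q hEq (by
    intro A hA
    have hle : A.map E.subtype ≤ E := Subgroup.map_subtype_le _
    have hcyc : IsCyclic (A.map E.subtype) := by
      apply Cfsg.Agent.Lib.Helper13.fpf_cyclic (A.map E.subtype) K hK
      · exact hle.trans hEK
      · intro a ha ha1
        exact hfpf a (hle ha) ha1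
      · left
        infer_instance
    exact isCyclic_of_surjective (A.equivMapOfInjective E.subtype E.subtype_injective).symm
      (A.equivMapOfInjective E.subtype E.subtype_injective).symm.surjective)
  rcases Cfsg.Agent.S0016.result q hEq huniq' with h | ⟨h2, -⟩
  · exact h
  · exact absurd h2 hq2

theorem nt_aux (q : ℕ) (hq : q.Prime) (hq2 : q ≠ 2) (m : ℕ) (k : ℤ)
    (h : ((q ^ m : ℕ) : ℤ) ∣ (k - 1) * (k + 1)) :
    ((q ^ m : ℕ) : ℤ) ∣ k - 1 ∨ ((q ^ m : ℕ) : ℤ) ∣ k + 1 := by
  have hqi : Prime (q : ℤ) := Nat.prime_iff_prime_int.mp hq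
  rw [Nat.cast_pow] at h ⊢
  by_cases h1 : (q : ℤ) ∣ k - 1
  · left
    have h2 : ¬ (q : ℤ) ∣ k + 1 := by
      intro h2
      have h3 : (q : ℤ) ∣ 2 := by
        have h4 := dvd_sub h2 h1
        have e : k + 1 - (k - 1) = 2 := by ring
        rwa [e] at h4
      have h4 : q ∣ 2 := by exact_mod_cast h3
      have h5 := Nat.le_of_dvd (by norm_num) h4
      have h6 := hq.two_le
      omega
    have hc : IsCoprime ((q : ℤ) ^ m) (k + 1) :=
      ((hqi.irreducible.coprime_iff_not_dvd).mpr h2).pow_left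
    exact hc.dvd_of_dvd_mul_right h
  · right
    have hc : IsCoprime ((q : ℤ) ^ m) (k - 1) :=
      ((hqi.irreducible.coprime_iff_not_dvd).mpr h1).pow_left
    exact hc.dvd_of_dvd_mul_left h

/-- generator of a cyclic subgroup, at the level of the ambient group -/
theorem exists_gen {G : Type*} [Group G] (A : Subgroup G) [IsCyclic A] :
    ∃ x₀ ∈ A, ∀ x ∈ A, ∃ k : ℤ, x₀ ^ k = x := by
  obtain ⟨g, hg⟩ := IsCyclic.exists_generator (α := A)
  refine ⟨g, g.2, fun x hx => ?_⟩
  obtain ⟨k, hk⟩ := Subgroup.mem_zpowers_iff.mp (hg ⟨x, hx⟩)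
  exact ⟨k, by rw [← Subgroup.coe_zpow, hk]⟩

/-- an element normalising a cyclic `q`-group (`q` odd), acting on it non-trivially with trivial
square, inverts it -/
theorem inverts_of_involutory {G : Type*} [Group G] (q : ℕ) [hq : Fact q.Prime] (hq2 : q ≠ 2)
    (P : Subgroup G) [IsCyclic P] (hP : IsPGroup q P) (g : G)
    (hgP : ∀ y ∈ P, g * y * g⁻¹ ∈ P)
    (hg2 : ∀ y ∈ P, (g * g) * y * (g * g)⁻¹ = y)
    (hgn : ¬ ∀ y ∈ P, g * y * g⁻¹ = y) :
    ∀ y ∈ P, g * y * g⁻¹ = y⁻¹ := by
  obtain ⟨y₀, hy₀, hgen⟩ := exists_gen P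
  obtain ⟨k, hk⟩ := hgen (g * y₀ * g⁻¹) (hgP y₀ hy₀)
  have hconj : ∀ j : ℤ, g * y₀ ^ j * g⁻¹ = (y₀ ^ k) ^ j := by
    intro j
    rw [hk, conj_zpow]
  have h2 : (y₀ ^ k) ^ k = y₀ := by
    have h := hg2 y₀ hy₀
    have e : (g * g) * y₀ * (g * g)⁻¹ = g * (g * y₀ * g⁻¹) * g⁻¹ := by group
    rw [e, ← hk, hconj k] at h
    exact h
  obtain ⟨m, hm⟩ := (IsPGroup.iff_orderOf.mp hP) ⟨y₀, hy₀⟩
  have hord : orderOf y₀ = q ^ m := by
    rw [← hm]
    exact (Subgroup.orderOf_mk y₀ hy₀).symm
  have hdvd : ((q ^ m : ℕ) : ℤ) ∣ (k - 1) * (k + 1) := by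
    rw [← hord]
    apply orderOf_dvd_iff_zpow_eq_one.mpr
    have e : (k - 1) * (k + 1) = k * k - 1 := by ring
    rw [e, zpow_sub_one, zpow_mul, h2, mul_inv_cancel]
  rcases nt_aux q hq.out hq2 m k hdvd with h | h
  · exfalso
    apply hgn
    rw [← hord] at h
    have h1 : y₀ ^ (k - 1) = 1 := orderOf_dvd_iff_zpow_eq_one.mp h
    have h3 : y₀ ^ k = y₀ := by
      rw [zpow_sub_one] at h1
      exact mul_inv_eq_one.mp h1
    intro y hy
    obtain ⟨j, hj⟩ := hgen y hy
    rw [← hj, hconj j, h3]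
  · rw [← hord] at h
    have h1 : y₀ ^ (k + 1) = 1 := orderOf_dvd_iff_zpow_eq_one.mp h
    have h3 : y₀ ^ k = y₀⁻¹ := by
      rw [zpow_add_one] at h1
      exact eq_inv_of_mul_eq_one_left h1
    intro y hy
    obtain ⟨j, hj⟩ := hgen y hy
    rw [← hj, hconj j, h3, inv_zpow]

/-- Burnside: without a normal `q`-complement, a Sylow `q`-subgroup is not central in its
normaliser -/
theorem exists_normalizer_not_centralizer {G : Type*} [Group G] [Finite G] (q : ℕ)
    [Fact q.Prime] (P : Sylow q G)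
    (hnil : ¬ ∃ N : Subgroup G, N.Normal ∧ N.index = q ^ (Nat.card G).factorization q) :
    ∃ g ∈ Subgroup.normalizer ((P : Subgroup G) : Set G),
      g ∉ Subgroup.centralizer ((P : Subgroup G) : Set G) := by
  by_contra hcon
  push_neg at hcon
  have hP : Subgroup.normalizer ((P : Subgroup G) : Set G) ≤
      Subgroup.centralizer ((P : Subgroup G) : Set G) := fun g hg => hcon g hg
  have hc := MonoidHom.ker_transferSylow_isComplement' P hP
  apply hnil
  refine ⟨(MonoidHom.transferSylow P hP).ker, inferInstance, ?_⟩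
  rw [← P.card_eq_multiplicity]
  exact hc.symm.index_eq_card

/-- a subgroup of `H` containing a full Sylow subgroup of the ambient group for every prime
dividing `|H|` is `H` -/
theorem eq_of_sylow_le {G : Type*} [Group G] [Finite G] (H C : Subgroup G) (hCH : C ≤ H)
    (h : ∀ q : ℕ, q.Prime → q ∣ Nat.card H →
      ∃ P : Subgroup G, P ≤ C ∧ Nat.card P = q ^ (Nat.card G).factorization q) :
    C = H := by
  have hH0 : Nat.card H ≠ 0 := Nat.card_pos.ne'
  have hC0 : Nat.card C ≠ 0 := Nat.card_pos.ne'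
  have hG0 : Nat.card G ≠ 0 := Nat.card_pos.ne'
  have hdvd : Nat.card H ∣ Nat.card C := by
    rw [← Nat.factorization_prime_le_iff_dvd hH0 hC0]
    intro q hq
    by_cases hqH : q ∣ Nat.card H
    · obtain ⟨P, hPC, hPcard⟩ := h q hq hqH
      have h1 : q ^ (Nat.card G).factorization q ∣ Nat.card C := by
        rw [← hPcard]
        exact Subgroup.card_dvd_of_le hPC
      have h2 := (hq.pow_dvd_iff_le_factorization hC0).mp h1
      have h3 : (Nat.card H).factorization q ≤ (Nat.card G).factorization q :=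
        (Nat.factorization_le_iff_dvd hH0 hG0).mpr (Subgroup.card_subgroup_dvd_card H) q
      exact h3.trans h2
    · rw [Nat.factorization_eq_zero_of_not_dvd hqH]
      exact Nat.zero_le _
  exact Subgroup.eq_of_le_of_card_ge hCH (Nat.le_of_dvd Nat.card_pos hdvd)

theorem mem_or_swap_of_conj {G Ω : Type*} [Group G] [MulAction G Ω] {a b : Ω} (hab : a ≠ b)
    (H : Subgroup G) (hHmem : ∀ g : G, g ∈ H ↔ g • a = a ∧ g • b = b)
    (h3 : ∀ g ∈ H, ∀ c : Ω, c ≠ a → c ≠ b → g • c = c → g = 1)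
    (h : G) (hh : h ∈ H) (hh1 : h ≠ 1) (g : G) (hg : g * h * g⁻¹ ∈ H) :
    g ∈ H ∨ (g • a = b ∧ g • b = a) := by
  have hk1 : g * h * g⁻¹ ≠ 1 := by
    intro e
    apply hh1
    have e2 : h = g⁻¹ * (g * h * g⁻¹) * g := by group
    rw [e2, e]
    group
  obtain ⟨hha, hhb⟩ := (hHmem h).mp hh
  have hfa : (g * h * g⁻¹) • (g • a) = g • a := by
    rw [mul_smul, mul_smul, inv_smul_smul, hha]
  have hfb : (g * h * g⁻¹) • (g • b) = g • b := by
    rw [mul_smul, mul_smul, inv_smul_smul, hhb]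
  have ha : g • a = a ∨ g • a = b := by
    by_contra hcon
    push_neg at hcon
    exact hk1 (h3 _ hg (g • a) hcon.1 hcon.2 hfa)
  have hb : g • b = a ∨ g • b = b := by
    by_contra hcon
    push_neg at hcon
    exact hk1 (h3 _ hg (g • b) hcon.1 hcon.2 hfb)
  have hinj : g • a ≠ g • b := fun e => hab (MulAction.injective g e)
  rcases ha with ha | ha <;> rcases hb with hb | hb
  · exact absurd (ha.trans hb.symm) hinj
  · exact Or.inl ((hHmem g).mpr ⟨ha, hb⟩)
  · exact Or.inr ⟨ha, hb⟩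
  · exact absurd (ha.trans hb.symm) hinj

theorem pow_ne_one_of_swap {G Ω : Type*} [Group G] [MulAction G Ω] {a b : Ω} (hab : a ≠ b)
    (g : G) (hga : g • a = b) (hgb : g • b = a) (k : ℕ) (hk : Odd k) : g ^ k ≠ 1 := by
  obtain ⟨j, rfl⟩ := hk
  intro e
  have h2 : (g ^ 2) ∈ MulAction.stabilizer G b := by
    rw [MulAction.mem_stabilizer_iff, pow_two, mul_smul, hgb, hga]
  have h3 : (g ^ 2) ^ j ∈ MulAction.stabilizer G b := Subgroup.pow_mem _ h2 j
  have h4 : g ^ (2 * j + 1) • a = b := by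
    rw [pow_succ, mul_smul, hga, pow_mul]
    exact MulAction.mem_stabilizer_iff.mp h3
  rw [e, one_smul] at h4
  exact hab h4

theorem exists_sylow_le {G : Type*} {Ω : Type*} [Group G] [Finite G] [MulAction G Ω] {a b : Ω}
    (hab : a ≠ b) (H : Subgroup G)
    (hHmem : ∀ g : G, g ∈ H ↔ g • a = a ∧ g • b = b)
    (h3 : ∀ g ∈ H, ∀ c : Ω, c ≠ a → c ≠ b → g • c = c → g = 1)
    (q : ℕ) [hq : Fact q.Prime] (hq2 : q ≠ 2) (y : G) (hy : y ∈ H) (hy1 : y ≠ 1)
    (hyq : IsPGroup q (Subgroup.zpowers y)) :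
    ∃ P : Sylow q G, (P : Subgroup G) ≤ H ∧ y ∈ (P : Subgroup G) := by
  obtain ⟨P, hP⟩ := hyq.exists_le_sylow
  have hyP : y ∈ (P : Subgroup G) := hP (Subgroup.mem_zpowers y)
  have hnsw : ∀ g ∈ (P : Subgroup G), ¬ (g • a = b ∧ g • b = a) := by
    rintro g hg ⟨h1, h2⟩
    obtain ⟨m, hm⟩ := (IsPGroup.iff_orderOf.mp P.2) ⟨g, hg⟩
    have hord : orderOf g = q ^ m := by
      rw [← hm]
      exact (Subgroup.orderOf_mk g hg).symm
    have hoddq : Odd (q ^ m) := (hq.out.odd_of_ne_two hq2).pow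
    apply pow_ne_one_of_swap hab g h1 h2 (q ^ m) hoddq
    rw [← hord]
    exact pow_orderOf_eq_one g
  have hne : (P : Subgroup G) ≠ ⊥ := by
    intro e
    rw [e, Subgroup.mem_bot] at hyP
    exact hy1 hyP
  have hZ := Cfsg.Agent.Lib.Helper13.inf_centralizer_ne_bot q (P : Subgroup G) P.2 hne
  obtain ⟨⟨z, hz⟩, hz1⟩ := Subgroup.ne_bot_iff_exists_ne_one.mp hZ
  have hz1' : z ≠ 1 := fun e => hz1 (Subtype.ext e)
  obtain ⟨hzP, hzC⟩ := Subgroup.mem_inf.mp hz
  have hzy : z * y * z⁻¹ = y := by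
    have := Subgroup.mem_centralizer_iff.mp hzC y hyP
    rw [← this]
    group
  have hzH : z ∈ H := by
    rcases mem_or_swap_of_conj hab H hHmem h3 y hy hy1 z (by rw [hzy]; exact hy) with h | h
    · exact h
    · exact absurd h (hnsw z hzP)
  refine ⟨P, ?_, hyP⟩
  intro g hg
  have hgz : g * z * g⁻¹ = z := by
    have := Subgroup.mem_centralizer_iff.mp hzC g hg
    rw [this]
    group
  rcases mem_or_swap_of_conj hab H hHmem h3 z hzH hz1' g (by rw [hgz]; exact hzH) with h | h
  · exact h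
  · exact absurd h (hnsw g hg)

theorem conj_comm_of_zpow {G : Type*} [Group G] (x₀ g₁ g₂ : G) (k₁ k₂ : ℤ)
    (h₁ : x₀ ^ k₁ = g₁ * x₀ * g₁⁻¹) (h₂ : x₀ ^ k₂ = g₂ * x₀ * g₂⁻¹) :
    (g₁ * g₂) * x₀ * (g₁ * g₂)⁻¹ = (g₂ * g₁) * x₀ * (g₂ * g₁)⁻¹ := by
  have e1 : (g₁ * g₂) * x₀ * (g₁ * g₂)⁻¹ = g₁ * (g₂ * x₀ * g₂⁻¹) * g₁⁻¹ := by group
  have e2 : (g₂ * g₁) * x₀ * (g₂ * g₁)⁻¹ = g₂ * (g₁ * x₀ * g₁⁻¹) * g₂⁻¹ := by group
  rw [e1, e2, ← h₂, ← h₁, ← conj_zpow, ← conj_zpow, ← h₁, ← h₂, ← zpow_mul, ← zpow_mul,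
    mul_comm k₁ k₂]

theorem commute_of_sq {G : Type*} [Group G] (y x : G) (hodd : Odd (orderOf y))
    (h : Commute (y * y) x) : Commute y x := by
  obtain ⟨j, hj⟩ := hodd
  have e : y = (y * y) ^ (j + 1) := by
    rw [← pow_two, ← pow_mul]
    have e2 : 2 * (j + 1) = orderOf y + 1 := by omega
    rw [e2, pow_succ, pow_orderOf_eq_one, one_mul]
  rw [e]
  exact h.pow_left _

/-- For a Sylow subgroup `P ≤ H` of a Z-group `H`: either `N_H(P) ≤ C(P)` or `P ≤ H'`. -/
theorem dichotomy {G : Type*} [Group G] [Finite G] (H : Subgroup G) [IsZGroup ↥H] (q : ℕ)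
    [Fact q.Prime] (P : Sylow q G) (hPH : (P : Subgroup G) ≤ H) :
    (∀ h ∈ H, h ∈ Subgroup.normalizer ((P : Subgroup G) : Set G) →
      h ∈ Subgroup.centralizer ((P : Subgroup G) : Set G)) ∨ (P : Subgroup G) ≤ ⁅H, H⁆ := by
  have hP1 : ∀ n : ↥H, n ∈ ((P.subtype hPH : Sylow q ↥H) : Subgroup ↥H) ↔
      (n : G) ∈ (P : Subgroup G) := by
    intro n
    rw [Sylow.coe_subtype, Subgroup.mem_subgroupOf]
  rcases Sylow.normalizer_le_centralizer_or_le_commutator (P.subtype hPH) with h | h
  · left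
    intro h' hh' hN
    have hmem : (⟨h', hh'⟩ : ↥H) ∈
        Subgroup.normalizer (((P.subtype hPH : Sylow q ↥H) : Subgroup ↥H) : Set ↥H) := by
      rw [Subgroup.mem_normalizer_iff]
      intro n
      rw [hP1, hP1]
      exact Subgroup.mem_normalizer_iff.mp hN (n : G)
    have hc := h hmem
    rw [Subgroup.mem_centralizer_iff] at hc ⊢
    intro y hy
    have := hc ⟨y, hPH hy⟩ ((hP1 _).mpr hy)
    exact congrArg Subtype.val this
  · right
    intro y hy
    have : (⟨y, hPH hy⟩ : ↥H) ∈ commutator ↥H := h ((hP1 _).mpr hy)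
    rw [← Subgroup.map_subtype_commutator]
    exact ⟨⟨y, hPH hy⟩, this, rfl⟩

/-- transfer into the centre kills the derived subgroup -/
theorem commutator_pow_center_index {K : Type*} [Group K] [Finite K] (c : K)
    (hc : c ∈ commutator K) : c ^ (Subgroup.center K).index = 1 := by
  have hker : commutator K ≤ (MonoidHom.transferCenterPow K).ker := by
    rw [commutator_def, Subgroup.commutator_le]
    intro u _ v _
    rw [MonoidHom.mem_ker, map_commutatorElement, commutatorElement_eq_one_iff_mul_comm]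
    apply Subtype.ext
    exact Subgroup.mem_center_iff.mp (MonoidHom.transferCenterPow K v).2
      (MonoidHom.transferCenterPow K u : K)
  have h0 : MonoidHom.transferCenterPow K c = 1 := MonoidHom.mem_ker.mp (hker hc)
  have h2 : ((MonoidHom.transferCenterPow K c : Subgroup.center K) : K) = 1 := by
    rw [h0]
    rfl
  rwa [MonoidHom.transferCenterPow_apply] at h2

/-- The group-theoretic core: two-point stabiliser `H` of odd order in a group where only the
identity fixes three points, acting fixed-point-freely on a non-trivial subgroup `F`, no normal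
`q`-complements. -/
theorem main {G : Type u} {Ω : Type v} [Group G] [Finite G] [MulAction G Ω] {a b : Ω}
    (hab : a ≠ b) (H : Subgroup G)
    (hHmem : ∀ g : G, g ∈ H ↔ g • a = a ∧ g • b = b)
    (h3 : ∀ g ∈ H, ∀ c : Ω, c ≠ a → c ≠ b → g • c = c → g = 1)
    (hH1 : H ≠ ⊥) (hodd : Odd (Nat.card H))
    (F : Subgroup G) (hF : F ≠ ⊥) (hHF : H ≤ Subgroup.normalizer (F : Set G))
    (hfpf : ∀ h ∈ H, h ≠ 1 → F ⊓ Subgroup.centralizer {h} = ⊥)
    (hnil : ∀ q : ℕ, q.Prime → q ∣ Nat.card H →
      ¬ ∃ N : Subgroup G, N.Normal ∧ N.index = q ^ (Nat.card G).factorization q) :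
    IsCyclic H ∧ Subgroup.centralizer (H : Set G) = H ∧
      ∀ s : G, s • a = b → s • b = a → ∀ h ∈ H, s * h * s⁻¹ = h⁻¹ := by
  classical
  have hq2 : ∀ q : ℕ, q.Prime → q ∣ Nat.card H → q ≠ 2 := by
    intro q hq hqd e
    subst e
    exact (Nat.not_even_iff_odd.mpr hodd) (even_iff_two_dvd.mpr hqd)
  have hswapH : ∀ s : G, s • a = b → s • b = a → ∀ h ∈ H, s * h * s⁻¹ ∈ H := by
    intro s hsa hsb h hh
    obtain ⟨hha, hhb⟩ := (hHmem h).mp hh
    have hia : s⁻¹ • a = b := by
      rw [inv_smul_eq_iff]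
      exact hsb.symm
    have hib : s⁻¹ • b = a := by
      rw [inv_smul_eq_iff]
      exact hsa.symm
    rw [hHmem]
    constructor
    · rw [mul_smul, mul_smul, hia, hhb, hsb]
    · rw [mul_smul, mul_smul, hib, hha, hsa]
  have hswap2 : ∀ s : G, s • a = b → s • b = a → s * s ∈ H := by
    intro s hsa hsb
    rw [hHmem]
    constructor
    · rw [mul_smul, hsa, hsb]
    · rw [mul_smul, hsb, hsa]
  have hswapmul : ∀ s g : G, s • a = b → s • b = a → g • a = b → g • b = a → g⁻¹ * s ∈ H := by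
    intro s g hsa hsb hga hgb
    rw [hHmem]
    constructor
    · rw [mul_smul, hsa, inv_smul_eq_iff]
      exact hga.symm
    · rw [mul_smul, hsb, inv_smul_eq_iff]
      exact hgb.symm
  have hconjH : ∀ g ∈ H, ∀ h ∈ H, g * h * g⁻¹ ∈ H :=
    fun g hg h hh => H.mul_mem (H.mul_mem hg hh) (H.inv_mem hg)
  -- `H` is a Z-group
  have hZG : IsZGroup ↥H := by
    rw [isZGroup_iff]
    intro p hp P
    have : Fact p.Prime := ⟨hp⟩
    by_cases hp2 : p = 2
    · have h1 : Nat.card (P : Subgroup ↥H) ∣ Nat.card H :=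
        Subgroup.card_subgroup_dvd_card (P : Subgroup ↥H)
      obtain ⟨k, hk⟩ := IsPGroup.exists_card_eq P.2
      have hk0 : k = 0 := by
        by_contra hk0
        have h2 : 2 ∣ Nat.card H := by
          refine dvd_trans ?_ h1
          rw [hk, hp2]
          exact dvd_pow_self 2 hk0
        exact (Nat.not_even_iff_odd.mpr hodd) (even_iff_two_dvd.mpr h2)
      rw [hk0, pow_zero] at hk
      have : Subsingleton (P : Subgroup ↥H) := (Nat.card_eq_one_iff_unique.mp hk).1
      exact isCyclic_of_subsingleton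
    · have hE : IsPGroup p ((P : Subgroup ↥H).map H.subtype) := P.2.map H.subtype
      have hle : (P : Subgroup ↥H).map H.subtype ≤ H := Subgroup.map_subtype_le _
      have hcyc : IsCyclic ((P : Subgroup ↥H).map H.subtype) :=
        cyclic_of_fpf_pgroup p hp2 F _ hF (hle.trans hHF) hE
          (fun e he he1 => hfpf e (hle he) he1)
      exact isCyclic_of_surjective
        ((P : Subgroup ↥H).equivMapOfInjective H.subtype H.subtype_injective).symm
        (MulEquiv.surjective _)
  -- per-prime data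
  have key : ∀ q : ℕ, q.Prime → q ∣ Nat.card H →
      ∃ P : Sylow q G, (P : Subgroup G) ≤ H ∧ IsCyclic (P : Subgroup G) ∧
        ∃ g ∈ Subgroup.normalizer ((P : Subgroup G) : Set G),
          g ∉ Subgroup.centralizer ((P : Subgroup G) : Set G) ∧
          (g ∈ H ∨ (g • a = b ∧ g • b = a)) := by
    intro q hq hqd
    have : Fact q.Prime := ⟨hq⟩
    obtain ⟨y', hy'⟩ := exists_prime_orderOf_dvd_card' (G := ↥H) q hqd
    have hyH : (y' : G) ∈ H := y'.2
    have hyo : orderOf (y' : G) = q := by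
      rw [Subgroup.orderOf_coe]
      exact hy'
    have hy1 : (y' : G) ≠ 1 := by
      intro e
      rw [e, orderOf_one] at hyo
      exact hq.one_lt.ne hyo
    have hyq : IsPGroup q (Subgroup.zpowers (y' : G)) :=
      IsPGroup.of_card (n := 1) (by rw [Nat.card_zpowers, hyo, pow_one])
    obtain ⟨P, hPH, hyP⟩ :=
      exists_sylow_le hab H hHmem h3 q (hq2 q hq hqd) (y' : G) hyH hy1 hyq
    have hPcyc : IsCyclic (P : Subgroup G) :=
      cyclic_of_fpf_pgroup q (hq2 q hq hqd) F (P : Subgroup G) hF (hPH.trans hHF) P.2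
        (fun e he he1 => hfpf e (hPH he) he1)
    obtain ⟨g, hgN, hgC⟩ := exists_normalizer_not_centralizer q P (hnil q hq hqd)
    refine ⟨P, hPH, hPcyc, g, hgN, hgC, ?_⟩
    exact mem_or_swap_of_conj hab H hHmem h3 (y' : G) hyH hy1 g
      (hPH ((Subgroup.mem_normalizer_iff.mp hgN (y' : G)).mp hyP))
  -- the derived subgroup is cyclic
  have hAcyc' : IsCyclic (commutator ↥H) := IsZGroup.isCyclic_commutator ↥H
  have hAcyc : IsCyclic (⁅H, H⁆ : Subgroup G) := by
    rw [← Subgroup.map_subtype_commutator]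
    exact isCyclic_of_surjective
      ((commutator ↥H).equivMapOfInjective H.subtype H.subtype_injective)
      (MulEquiv.surjective _)
  obtain ⟨x₀, hx₀A, hgen⟩ := exists_gen (⁅H, H⁆ : Subgroup G)
  have hAconj : ∀ g : G, (∀ h ∈ H, g * h * g⁻¹ ∈ H) → ∃ k : ℤ, x₀ ^ k = g * x₀ * g⁻¹ := by
    intro g hg
    apply hgen
    have hle : (⁅H, H⁆ : Subgroup G) ≤
        (⁅H, H⁆ : Subgroup G).comap (MulAut.conj g).toMonoidHom := by
      rw [Subgroup.commutator_le]
      intro u hu v hv
      rw [Subgroup.mem_comap, map_commutatorElement]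
      exact Subgroup.commutator_mem_commutator (hg u hu) (hg v hv)
    exact hle hx₀A
  -- `H` centralises its derived subgroup
  have hcent : ∀ h ∈ H, Commute h x₀ := by
    have hC : H ⊓ Subgroup.centralizer {x₀} = H := by
      apply eq_of_sylow_le H _ inf_le_left
      intro q hq hqd
      have : Fact q.Prime := ⟨hq⟩
      obtain ⟨P, hPH, hPcyc, g, hgN, hgC, hgHs⟩ := key q hq hqd
      have := hPcyc
      refine ⟨(P : Subgroup G), ?_, P.card_eq_multiplicity⟩
      intro y hy
      refine Subgroup.mem_inf.mpr ⟨hPH hy, ?_⟩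
      have hyx : Commute y x₀ := by
        rcases dichotomy H q P hPH with hNC | hPA
        · have hgH : g ∉ H := fun hgH => hgC (hNC g hgH hgN)
          obtain ⟨hga, hgb⟩ := hgHs.resolve_left hgH
          have hg2C : g * g ∈ Subgroup.centralizer ((P : Subgroup G) : Set G) :=
            hNC (g * g) (hswap2 g hga hgb) (Subgroup.mul_mem _ hgN hgN)
          have hinv : ∀ z ∈ (P : Subgroup G), g * z * g⁻¹ = z⁻¹ := by
            apply inverts_of_involutory q (hq2 q hq hqd) (P : Subgroup G) P.2 g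
            · intro z hz
              exact (Subgroup.mem_normalizer_iff.mp hgN z).mp hz
            · intro z hz
              have := Subgroup.mem_centralizer_iff.mp hg2C z hz
              rw [← this]
              group
            · intro hall
              apply hgC
              rw [Subgroup.mem_centralizer_iff]
              intro z hz
              have := hall z hz
              calc z * g = (g * z * g⁻¹) * g := by rw [this]
                _ = g * z := by group
          obtain ⟨k₁, hk₁⟩ := hAconj g (hswapH g hga hgb)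
          obtain ⟨k₂, hk₂⟩ := hAconj y (hconjH y (hPH hy))
          have E := conj_comm_of_zpow x₀ g y k₁ k₂ hk₁ hk₂
          have e0 : g⁻¹ * y⁻¹ * g = y := by
            rw [← hinv y hy]
            group
          have e1 : (y * g)⁻¹ * (g * y) = y * y := by
            calc (y * g)⁻¹ * (g * y) = (g⁻¹ * y⁻¹ * g) * y := by group
              _ = y * y := by rw [e0]
          have e2 : (y * y) * x₀ * (y * y)⁻¹ = x₀ := by
            rw [← e1]
            calc ((y * g)⁻¹ * (g * y)) * x₀ * ((y * g)⁻¹ * (g * y))⁻¹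
                = (y * g)⁻¹ * ((g * y) * x₀ * (g * y)⁻¹) * (y * g) := by group
              _ = (y * g)⁻¹ * ((y * g) * x₀ * (y * g)⁻¹) * (y * g) := by rw [E]
              _ = x₀ := by group
          have e3 : Commute (y * y) x₀ := by
            show (y * y) * x₀ = x₀ * (y * y)
            calc (y * y) * x₀ = ((y * y) * x₀ * (y * y)⁻¹) * (y * y) := by group
              _ = x₀ * (y * y) := by rw [e2]
          exact commute_of_sq y x₀
            (hodd.of_dvd_nat (Subgroup.orderOf_dvd_natCard H (hPH hy))) e3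
        · obtain ⟨j, hj⟩ := hgen y (hPA hy)
          rw [← hj]
          exact (Commute.refl x₀).zpow_left j
      rw [Subgroup.mem_centralizer_iff]
      intro h hh
      rw [Set.mem_singleton_iff.mp hh]
      exact hyx.eq.symm
    intro h hh
    have hmem : h ∈ H ⊓ Subgroup.centralizer {x₀} := by
      rw [hC]
      exact hh
    have h2 := Subgroup.mem_centralizer_iff.mp (Subgroup.mem_inf.mp hmem).2 x₀
      (Set.mem_singleton x₀)
    exact h2.symm
  -- `H` is abelian
  have hcomm : ∀ u ∈ H, ∀ v ∈ H, u * v = v * u := by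
    have hcc : ∀ c : ↥H, c ∈ commutator ↥H → c ∈ Subgroup.center ↥H := by
      intro c hc
      have hcA : (c : G) ∈ (⁅H, H⁆ : Subgroup G) := by
        rw [← Subgroup.map_subtype_commutator]
        exact ⟨c, hc, rfl⟩
      obtain ⟨k, hk⟩ := hgen _ hcA
      rw [Subgroup.mem_center_iff]
      intro w
      apply Subtype.ext
      show (w : G) * (c : G) = (c : G) * (w : G)
      rw [← hk]
      exact ((hcent w w.2).zpow_right k).eq
    have hcop := IsZGroup.coprime_commutator_index ↥H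
    have hbot : ∀ c : ↥H, c ∈ commutator ↥H → c = 1 := by
      intro c hc
      have h1 : c ^ (Subgroup.center ↥H).index = 1 := commutator_pow_center_index c hc
      have h3' : orderOf c ∣ (Subgroup.center ↥H).index := orderOf_dvd_of_pow_eq_one h1
      have h4 : (Subgroup.center ↥H).index ∣ (commutator ↥H).index :=
        Subgroup.index_dvd_of_le (fun c hc => hcc c hc)
      have h5 : orderOf c ∣ Nat.card (commutator ↥H) := Subgroup.orderOf_dvd_natCard _ hc
      have h6 : orderOf c ∣ Nat.gcd (Nat.card (commutator ↥H)) (commutator ↥H).index :=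
        Nat.dvd_gcd h5 (h3'.trans h4)
      have hg : Nat.gcd (Nat.card (commutator ↥H)) (commutator ↥H).index = 1 := hcop
      rw [hg] at h6
      exact orderOf_eq_one_iff.mp (Nat.dvd_one.mp h6)
    intro u hu v hv
    have h1 := hbot ⁅(⟨u, hu⟩ : ↥H), ⟨v, hv⟩⁆ (by
      rw [commutator_def]
      exact Subgroup.commutator_mem_commutator (Subgroup.mem_top _) (Subgroup.mem_top _))
    have h2 := commutatorElement_eq_one_iff_mul_comm.mp h1
    exact congrArg Subtype.val h2
  have hcyc : IsCyclic H :=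
    Cfsg.Agent.Lib.Helper13.fpf_cyclic H F hF hHF hfpf
      (Or.inl ⟨⟨fun u v => Subtype.ext (hcomm u u.2 v v.2)⟩⟩)
  -- swapping elements invert `H`
  have hinvert : ∀ s : G, s • a = b → s • b = a → ∀ h ∈ H, s * h * s⁻¹ = h⁻¹ := by
    intro s hsa hsb
    let K : Subgroup G :=
      { carrier := {h | h ∈ H ∧ s * h * s⁻¹ = h⁻¹}
        one_mem' := ⟨H.one_mem, by group⟩
        mul_mem' := by
          rintro u v ⟨hu, hu'⟩ ⟨hv, hv'⟩
          refine ⟨H.mul_mem hu hv, ?_⟩
          calc s * (u * v) * s⁻¹ = (s * u * s⁻¹) * (s * v * s⁻¹) := by group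
            _ = u⁻¹ * v⁻¹ := by rw [hu', hv']
            _ = (v * u)⁻¹ := by rw [mul_inv_rev]
            _ = (u * v)⁻¹ := by rw [hcomm v hv u hu]
        inv_mem' := by
          rintro u ⟨hu, hu'⟩
          refine ⟨H.inv_mem hu, ?_⟩
          calc s * u⁻¹ * s⁻¹ = (s * u * s⁻¹)⁻¹ := by group
            _ = (u⁻¹)⁻¹ := by rw [hu'] }
    have hKmem : ∀ h : G, h ∈ K ↔ h ∈ H ∧ s * h * s⁻¹ = h⁻¹ := fun h => Iff.rfl
    have hKH : K = H := by
      apply eq_of_sylow_le H K (fun h hh => ((hKmem h).mp hh).1)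
      intro q hq hqd
      have : Fact q.Prime := ⟨hq⟩
      obtain ⟨P, hPH, hPcyc, g, hgN, hgC, hgHs⟩ := key q hq hqd
      have := hPcyc
      refine ⟨(P : Subgroup G), ?_, P.card_eq_multiplicity⟩
      have hgH : g ∉ H := by
        intro hgH
        apply hgC
        rw [Subgroup.mem_centralizer_iff]
        intro z hz
        exact hcomm z (hPH hz) g hgH
      obtain ⟨hga, hgb⟩ := hgHs.resolve_left hgH
      have hh' : g⁻¹ * s ∈ H := hswapmul s g hsa hsb hga hgb
      have hsy : ∀ y ∈ (P : Subgroup G), s * y * s⁻¹ = g * y * g⁻¹ := by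
        intro y hy
        have hc := hcomm (g⁻¹ * s) hh' y (hPH hy)
        calc s * y * s⁻¹ = g * ((g⁻¹ * s) * y * (g⁻¹ * s)⁻¹) * g⁻¹ := by group
          _ = g * (y * (g⁻¹ * s) * (g⁻¹ * s)⁻¹) * g⁻¹ := by rw [hc]
          _ = g * y * g⁻¹ := by group
      have hinv : ∀ y ∈ (P : Subgroup G), s * y * s⁻¹ = y⁻¹ := by
        apply inverts_of_involutory q (hq2 q hq hqd) (P : Subgroup G) P.2 s
        · intro y hy
          rw [hsy y hy]
          exact (Subgroup.mem_normalizer_iff.mp hgN y).mp hy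
        · intro y hy
          have hc := hcomm (s * s) (hswap2 s hsa hsb) y (hPH hy)
          rw [hc]
          group
        · intro hall
          apply hgC
          rw [Subgroup.mem_centralizer_iff]
          intro z hz
          have := hall z hz
          rw [hsy z hz] at this
          calc z * g = (g * z * g⁻¹) * g := by rw [this]
            _ = g * z := by group
      intro y hy
      exact (hKmem y).mpr ⟨hPH hy, hinv y hy⟩
    intro h hh
    have hmem : h ∈ K := by
      rw [hKH]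
      exact hh
    exact ((hKmem h).mp hmem).2
  -- `H` is self-centralising
  have hcentH : Subgroup.centralizer (H : Set G) = H := by
    apply le_antisymm
    · intro g hg
      obtain ⟨⟨h₀, hh₀⟩, hh₀1⟩ := Subgroup.ne_bot_iff_exists_ne_one.mp hH1
      have hh₀1' : h₀ ≠ 1 := fun e => hh₀1 (Subtype.ext e)
      have hgh : g * h₀ * g⁻¹ = h₀ := by
        have := Subgroup.mem_centralizer_iff.mp hg h₀ hh₀
        rw [← this]
        group
      rcases mem_or_swap_of_conj hab H hHmem h3 h₀ hh₀ hh₀1' g (by rw [hgh]; exact hh₀)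
        with h | ⟨hga, hgb⟩
      · exact h
      · exfalso
        have h1 := hinvert g hga hgb h₀ hh₀
        rw [hgh] at h1
        have h2 : h₀ * h₀ = 1 := by
          calc h₀ * h₀ = h₀⁻¹ * h₀ := by rw [← h1]
            _ = 1 := inv_mul_cancel h₀
        have h3' : orderOf h₀ ∣ 2 := orderOf_dvd_of_pow_eq_one (by rw [pow_two]; exact h2)
        have h4 : orderOf h₀ ∣ Nat.card H := Subgroup.orderOf_dvd_natCard H hh₀
        have h5 : Odd (orderOf h₀) := hodd.of_dvd_nat h4
        have h6 : orderOf h₀ = 1 := by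
          rcases (Nat.dvd_prime Nat.prime_two).mp h3' with h | h
          · exact h
          · rw [h] at h5
            exact absurd h5 (by decide)
        exact hh₀1' (orderOf_eq_one_iff.mp h6)
    · intro g hg
      rw [Subgroup.mem_centralizer_iff]
      intro h hh
      exact hcomm h hh g hg
  exact ⟨hcyc, hcentH, hinvert⟩

end Cfsg.Agent.Lib.Helper16.ZassOdd
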