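import Mathlib
import Cfsg.Agent.S0339
import Cfsg.Agent.S0739
import Cfsg.Agent.S0740
import Cfsg.Agent.Lib.Helper16.ZassOdd

set_option autoImplicit false
set_option maxHeartbeats 1000000
open Cfsg

namespace Cfsg.Agent.Lib.Helper16.ZassInv

open Cfsg.Agent.Lib.Helper16.ZassOdd

/-- the two-point stabiliser -/
abbrev E2 (G : Type*) {Ω : Type*} [Group G] [MulAction G Ω] (a b : Ω) : Subgroup G :=
  MulAction.stabilizer G a ⊓ MulAction.stabilizer G b

theorem mem_E2 {G Ω : Type*} [Group G] [MulAction G Ω] {a b : Ω} (g : G) :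
    g ∈ E2 G a b ↔ g • a = a ∧ g • b = b := by
  rw [Subgroup.mem_inf, MulAction.mem_stabilizer_iff, MulAction.mem_stabilizer_iff]

theorem orderOf_two_of_sq {G : Type*} [Group G] {t : G} (h1 : t * t = 1) (h2 : t ≠ 1) :
    orderOf t = 2 :=
  orderOf_eq_prime (by rw [pow_two]; exact h1) h2

theorem sq_of_orderOf_two {G : Type*} [Group G] {t : G} (ht : orderOf t = 2) :
    t * t = 1 ∧ t ≠ 1 := by
  constructor
  · have h := pow_orderOf_eq_one t
    rwa [ht, pow_two] at h
  · intro e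
    rw [e, orderOf_one] at ht
    exact absurd ht (by decide)

theorem orderOf_conj_two {G : Type*} [Group G] (g t : G) (ht : orderOf t = 2) :
    orderOf (g * t * g⁻¹) = 2 := by
  obtain ⟨htt, ht1⟩ := sq_of_orderOf_two ht
  apply orderOf_two_of_sq
  · calc g * t * g⁻¹ * (g * t * g⁻¹) = g * (t * t) * g⁻¹ := by group
      _ = 1 := by rw [htt]; group
  · intro e
    apply ht1
    calc t = g⁻¹ * (g * t * g⁻¹) * g := by group
      _ = 1 := by rw [e]; group

/-- a simple group has no normal `q`-complements (for `q` dividing the odd order of `E`) -/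
theorem hnil_of_simple {G Ω : Type*} [Group G] [MulAction G Ω] [Finite G] [IsSimpleGroup G]
    {a b : Ω} (hab : a ≠ b)
    (v : G) (hva : v • a = b) (hvb : v • b = a)
    (hodd : Odd (Nat.card (E2 G a b))) :
    ∀ q : ℕ, q.Prime → q ∣ Nat.card (E2 G a b) →
      ¬ ∃ N : Subgroup G, N.Normal ∧ N.index = q ^ (Nat.card G).factorization q := by
  rintro q hq hqd ⟨N, hN, hidx⟩
  have hG0 : Nat.card G ≠ 0 := Nat.card_pos.ne'
  have hqG : q ∣ Nat.card G := hqd.trans (Subgroup.card_subgroup_dvd_card _)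
  have hk : 1 ≤ (Nat.card G).factorization q := (hq.dvd_iff_one_le_factorization hG0).mp hqG
  rcases hN.eq_bot_or_eq_top with h | h
  · rw [h, Subgroup.index_bot] at hidx
    have h2 : 2 ∣ orderOf v := by
      by_contra hcon
      have hoddv : Odd (orderOf v) := Nat.odd_iff.mpr (Nat.two_dvd_ne_zero.mp hcon)
      exact pow_ne_one_of_swap hab v hva hvb _ hoddv (pow_orderOf_eq_one v)
    have h3 : 2 ∣ q ^ (Nat.card G).factorization q := by
      rw [← hidx]
      exact h2.trans (orderOf_dvd_natCard v)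
    have h4 : 2 ∣ q := Nat.Prime.dvd_of_dvd_pow Nat.prime_two h3
    have h5 : 2 = q := (Nat.prime_dvd_prime_iff_eq Nat.prime_two hq).mp h4
    rw [← h5] at hqd
    exact (Nat.not_even_iff_odd.mpr hodd) (even_iff_two_dvd.mpr hqd)
  · rw [h, Subgroup.index_top] at hidx
    have h1 : q ∣ q ^ (Nat.card G).factorization q := dvd_pow_self q (by omega)
    rw [← hidx] at h1
    exact hq.one_lt.ne' (Nat.dvd_one.mp h1)

/-- two-transitivity and inversion by swapping elements in a simple Zassenhaus group with odd `E` -/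
theorem base {G Ω : Type*} [Group G] [Finite G] [MulAction G Ω] [Fintype Ω]
    (hZ : Cfsg.IsZassenhausGroup G Ω) {a b : Ω} (hab : a ≠ b) [IsSimpleGroup G]
    (hodd : Odd (Nat.card (E2 G a b))) :
    (∀ {a b c d : Ω}, a ≠ b → c ≠ d → ∃ g : G, g • a = c ∧ g • b = d) ∧
    (∀ s : G, s • a = b → s • b = a → ∀ h ∈ E2 G a b, s * h * s⁻¹ = h⁻¹) := by
  obtain ⟨-, h2t, -, -, -⟩ := Cfsg.Agent.S0339.basics hZ
  refine ⟨h2t, ?_⟩
  obtain ⟨v, hva, hvb⟩ := h2t hab hab.symm
  exact (Cfsg.Agent.S0739.result hZ hab hodd (hnil_of_simple hab v hva hvb hodd)).2.2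

/-- the Frobenius kernel of a point stabiliser -/
theorem frob_kernel {G Ω : Type*} [Group G] [Finite G] [MulAction G Ω] [Fintype Ω]
    (hZ : Cfsg.IsZassenhausGroup G Ω) {a b : Ω} (hab : a ≠ b) :
    ∃ F : Subgroup G, (∀ u ∈ F, u • a = a) ∧
      (∀ u ∈ F, ∀ y : Ω, y ≠ a → u • y = y → u = 1) ∧
      (∀ y z : Ω, y ≠ a → z ≠ a → ∃ u ∈ F, u • y = z) ∧
      (∀ g : G, g • a = a → ∀ u ∈ F, g * u * g⁻¹ ∈ F) ∧
      (∀ c : G, c • a = a → c ∉ F → ∃ p : Ω, p ≠ a ∧ c • p = p) := by
  classical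
  have hZ' := hZ
  obtain ⟨hfaith, h2, h3, hfix, hnoreg⟩ := hZ
  obtain ⟨-, h2t, hF3', hthird, -⟩ := Cfsg.Agent.S0339.basics hZ'
  have hba : b ≠ a := hab.symm
  -- the action of the point stabiliser on the remaining points
  have hΔne : ∀ x : SubMulAction.ofStabilizer G a, (x : Ω) ≠ a :=
    fun x => (SubMulAction.mem_ofStabilizer_iff G a).mp x.2
  haveI hpre : MulAction.IsPretransitive (MulAction.stabilizer G a)
      (SubMulAction.ofStabilizer G a) := by
    refine ⟨fun x y => ?_⟩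
    obtain ⟨g, hga, hgx⟩ := h2t (a := a) (b := (x : Ω)) (c := a) (d := (y : Ω))
      (hΔne x).symm (hΔne y).symm
    exact ⟨⟨g, MulAction.mem_stabilizer_iff.mpr hga⟩, Subtype.ext hgx⟩
  have hX2 : ∀ x : MulAction.stabilizer G a, ∀ y z : SubMulAction.ofStabilizer G a, y ≠ z →
      x • y = y → x • z = z → x = 1 := by
    intro x y z hyz hy hz
    have hy' : (x : G) • (y : Ω) = y := congrArg Subtype.val hy
    have hz' : (x : G) • (z : Ω) = z := congrArg Subtype.val hz
    apply Subtype.ext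
    exact h3 x a y z (hΔne y).symm (fun h => hyz (Subtype.ext h)) (hΔne z).symm
      (MulAction.mem_stabilizer_iff.mp x.2) hy' hz'
  obtain ⟨g₀, hg₀1, hg₀a, hg₀b⟩ := hF3' a b hab
  obtain ⟨c₀, hc₀a, hc₀b⟩ := hthird a b hab
  obtain ⟨b₀, hb₀⟩ : ∃ b₀ : SubMulAction.ofStabilizer G a, (b₀ : Ω) = b :=
    ⟨⟨b, (SubMulAction.mem_ofStabilizer_iff G a).mpr hba⟩, rfl⟩
  have hstab : MulAction.stabilizer (MulAction.stabilizer G a) b₀ ≠ ⊥ := by
    intro hbot
    have hmem : (⟨g₀, MulAction.mem_stabilizer_iff.mpr hg₀a⟩ : MulAction.stabilizer G a) ∈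
        MulAction.stabilizer (MulAction.stabilizer G a) b₀ := by
      rw [MulAction.mem_stabilizer_iff]
      apply Subtype.ext
      show g₀ • (b₀ : Ω) = b₀
      rw [hb₀]
      exact hg₀b
    rw [hbot, Subgroup.mem_bot] at hmem
    exact hg₀1 (congrArg Subtype.val hmem)
  have hΔex : ∃ c : SubMulAction.ofStabilizer G a, c ≠ b₀ :=
    ⟨⟨c₀, (SubMulAction.mem_ofStabilizer_iff G a).mpr hc₀a⟩,
      fun h => hc₀b ((congrArg Subtype.val h).trans hb₀)⟩
  obtain ⟨Kf, hKn, hKmem, hKtr⟩ :=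
    Cfsg.Agent.S0339.frobenius_action (X := MulAction.stabilizer G a)
      (Δ := SubMulAction.ofStabilizer G a) hX2 b₀ hstab hΔex
  -- the Frobenius kernel as a subgroup of `G`
  obtain ⟨F, hFdef⟩ : ∃ F : Subgroup G, F = Kf.map (MulAction.stabilizer G a).subtype := ⟨_, rfl⟩
  have hFmem : ∀ u : G, u ∈ F ↔ ∃ k ∈ Kf, (k : G) = u := by
    intro u
    rw [hFdef, Subgroup.mem_map]
    rfl
  have hFle : F ≤ MulAction.stabilizer G a := by
    rw [hFdef]
    exact Subgroup.map_subtype_le Kf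
  have hFa : ∀ u ∈ F, u • a = a := fun u hu => MulAction.mem_stabilizer_iff.mp (hFle hu)
  have hFn : (F.subgroupOf (MulAction.stabilizer G a)).Normal := by
    have h1 : F.subgroupOf (MulAction.stabilizer G a) = Kf := by
      rw [hFdef]
      exact Subgroup.comap_map_eq_self_of_injective (Subgroup.subtype_injective _) Kf
    rw [h1]
    exact hKn
  have hFfree : ∀ u ∈ F, ∀ y : Ω, y ≠ a → u • y = y → u = 1 := by
    intro u hu y hya huy
    obtain ⟨k, hk, hku⟩ := (hFmem u).mp hu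
    rcases (hKmem k).mp hk with h | h
    · rw [← hku, h]
      rfl
    · exfalso
      refine h ⟨y, (SubMulAction.mem_ofStabilizer_iff G a).mpr hya⟩ (Subtype.ext ?_)
      show (k : G) • y = y
      rw [hku]
      exact huy
  have hFtr : ∀ y z : Ω, y ≠ a → z ≠ a → ∃ u ∈ F, u • y = z := by
    intro y z hya hza
    obtain ⟨k, hk, hkyz⟩ := hKtr ⟨y, (SubMulAction.mem_ofStabilizer_iff G a).mpr hya⟩
      ⟨z, (SubMulAction.mem_ofStabilizer_iff G a).mpr hza⟩
    exact ⟨k, (hFmem _).mpr ⟨k, hk, rfl⟩, congrArg Subtype.val hkyz⟩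
  have hFconj : ∀ g : G, g • a = a → ∀ u ∈ F, g * u * g⁻¹ ∈ F := by
    intro g hg u hu
    obtain ⟨k, hk, hku⟩ := (hFmem u).mp hu
    refine (hFmem _).mpr ⟨⟨g, MulAction.mem_stabilizer_iff.mpr hg⟩ * k *
      ⟨g, MulAction.mem_stabilizer_iff.mpr hg⟩⁻¹, hKn.conj_mem k hk _, ?_⟩
    rw [← hku]
    rfl
  refine ⟨F, hFa, hFfree, hFtr, hFconj, ?_⟩
  intro c hca hcF
  by_contra hcon
  push_neg at hcon
  apply hcF
  rw [hFmem]
  refine ⟨⟨c, MulAction.mem_stabilizer_iff.mpr hca⟩, ?_, rfl⟩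
  rw [hKmem]
  right
  intro c' hc'
  exact hcon (c' : Ω) (hΔne c') (congrArg Subtype.val hc')

section Count

variable {G Ω : Type*} [Group G] [Finite G] [MulAction G Ω] [Fintype Ω]

theorem swap_sq_ab {a b : Ω} (hodd : Odd (Nat.card (E2 G a b)))
    (inv : ∀ s : G, s • a = b → s • b = a → ∀ h ∈ E2 G a b, s * h * s⁻¹ = h⁻¹)
    (s : G) (hsa : s • a = b) (hsb : s • b = a) : s * s = 1 := by
  have hmem : s * s ∈ E2 G a b := by
    rw [mem_E2]
    constructor
    · rw [mul_smul, hsa, hsb]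
    · rw [mul_smul, hsb, hsa]
  have h1 := inv s hsa hsb (s * s) hmem
  have h2 : (s * s) * (s * s) = 1 := by
    have e : s * (s * s) * s⁻¹ = s * s := by group
    rw [e] at h1
    calc (s * s) * (s * s) = (s * s)⁻¹ * (s * s) := by rw [← h1]
      _ = 1 := inv_mul_cancel _
  have h3 : orderOf (s * s) ∣ 2 := orderOf_dvd_of_pow_eq_one (by rw [pow_two]; exact h2)
  have h4 : orderOf (s * s) ∣ Nat.card (E2 G a b) := Subgroup.orderOf_dvd_natCard _ hmem
  have h5 : Odd (orderOf (s * s)) := hodd.of_dvd_nat h4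
  have h6 : orderOf (s * s) = 1 := by
    rcases (Nat.dvd_prime Nat.prime_two).mp h3 with h | h
    · exact h
    · rw [h] at h5
      exact absurd h5 (by decide)
  exact orderOf_eq_one_iff.mp h6

theorem swap_sq {a b : Ω} (hab : a ≠ b)
    (h2t : ∀ {a b c d : Ω}, a ≠ b → c ≠ d → ∃ g : G, g • a = c ∧ g • b = d)
    (hodd : Odd (Nat.card (E2 G a b)))
    (inv : ∀ s : G, s • a = b → s • b = a → ∀ h ∈ E2 G a b, s * h * s⁻¹ = h⁻¹)
    {x y : Ω} (hxy : x ≠ y) (s : G) (hsx : s • x = y) (hsy : s • y = x) : s * s = 1 := by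
  obtain ⟨g, hga, hgb⟩ := h2t hab hxy
  have hgx : g⁻¹ • x = a := by rw [inv_smul_eq_iff, hga]
  have hgy : g⁻¹ • y = b := by rw [inv_smul_eq_iff, hgb]
  have h1 := swap_sq_ab hodd inv (g⁻¹ * s * g)
    (by rw [mul_smul, mul_smul, hga, hsx, hgy]) (by rw [mul_smul, mul_smul, hgb, hsy, hgx])
  calc s * s = g * ((g⁻¹ * s * g) * (g⁻¹ * s * g)) * g⁻¹ := by group
    _ = 1 := by rw [h1]; group

theorem card_swap {a b : Ω} (hab : a ≠ b)
    (h2t : ∀ {a b c d : Ω}, a ≠ b → c ≠ d → ∃ g : G, g • a = c ∧ g • b = d)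
    {x y : Ω} (hxy : x ≠ y) :
    Nat.card {s : G // s • x = y ∧ s • y = x} = Nat.card (E2 G a b) := by
  obtain ⟨v, hva, hvb⟩ := h2t hab hab.symm
  obtain ⟨g, hga, hgb⟩ := h2t hab hxy
  have hvia : v⁻¹ • b = a := by rw [inv_smul_eq_iff, hva]
  have hvib : v⁻¹ • a = b := by rw [inv_smul_eq_iff, hvb]
  have hgx : g⁻¹ • x = a := by rw [inv_smul_eq_iff, hga]
  have hgy : g⁻¹ • y = b := by rw [inv_smul_eq_iff, hgb]
  symm
  refine Nat.card_congr
    { toFun := fun k => ⟨g * v * (k : G) * g⁻¹, ?_, ?_⟩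
      invFun := fun s => ⟨v⁻¹ * g⁻¹ * (s : G) * g, ?_⟩
      left_inv := ?_
      right_inv := ?_ }
  · obtain ⟨hka, hkb⟩ := (mem_E2 (k : G)).mp k.2
    rw [mul_smul, mul_smul, mul_smul, hgx, hka, hva, hgb]
  · obtain ⟨hka, hkb⟩ := (mem_E2 (k : G)).mp k.2
    rw [mul_smul, mul_smul, mul_smul, hgy, hkb, hvb, hga]
  · rw [mem_E2]
    constructor
    · rw [mul_smul, mul_smul, mul_smul, hga, s.2.1, hgy, hvia]
    · rw [mul_smul, mul_smul, mul_smul, hgb, s.2.2, hgx, hvib]
  · intro k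
    apply Subtype.ext
    show v⁻¹ * g⁻¹ * (g * v * (k : G) * g⁻¹) * g = (k : G)
    group
  · intro s
    apply Subtype.ext
    show g * v * (v⁻¹ * g⁻¹ * (s : G) * g) * g⁻¹ = (s : G)
    group

/-- an involution fixes at most one point -/
theorem inv_fix_unique {a b : Ω} (hab : a ≠ b)
    (h2t : ∀ {a b c d : Ω}, a ≠ b → c ≠ d → ∃ g : G, g • a = c ∧ g • b = d)
    (hodd : Odd (Nat.card (E2 G a b)))
    (t : G) (ht : orderOf t = 2) {x y : Ω} (hx : t • x = x) (hy : t • y = y) : x = y := by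
  by_contra hxy
  obtain ⟨g, hga, hgb⟩ := h2t hab hxy
  have hgx : g⁻¹ • x = a := by rw [inv_smul_eq_iff, hga]
  have hgy : g⁻¹ • y = b := by rw [inv_smul_eq_iff, hgb]
  have hmem : g⁻¹ * t * g ∈ E2 G a b := by
    rw [mem_E2]
    constructor
    · rw [mul_smul, mul_smul, hga, hx, hgx]
    · rw [mul_smul, mul_smul, hgb, hy, hgy]
  have h1 : (g⁻¹ * t * g) ^ Nat.card (E2 G a b) = 1 :=
    orderOf_dvd_iff_pow_eq_one.mp (Subgroup.orderOf_dvd_natCard _ hmem)
  have h2 : t ^ Nat.card (E2 G a b) = 1 := by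
    have e : t = g * (g⁻¹ * t * g) * g⁻¹ := by group
    rw [e, conj_pow, h1]
    group
  have h3 : 2 ∣ Nat.card (E2 G a b) := by
    rw [← ht]
    exact orderOf_dvd_of_pow_eq_one h2
  exact (Nat.not_even_iff_odd.mpr hodd) (even_iff_two_dvd.mpr h3)

/-- the number of fixed points of an involution is the parity of the degree -/
theorem card_fixed [DecidableEq Ω] {a b : Ω} (hab : a ≠ b)
    (h2t : ∀ {a b c d : Ω}, a ≠ b → c ≠ d → ∃ g : G, g • a = c ∧ g • b = d)
    (hodd : Odd (Nat.card (E2 G a b)))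
    (t : G) (ht : orderOf t = 2) :
    (Finset.univ.filter (fun x : Ω => t • x = x)).card = Fintype.card Ω % 2 := by
  classical
  have hmod := Cfsg.Agent.S0740.ncard_fixed_modEq (Ω := Ω) t
    (by rw [pow_two]; exact (sq_of_orderOf_two ht).1)
  have hF : (MulAction.fixedBy Ω t).ncard =
      (Finset.univ.filter (fun x : Ω => t • x = x)).card := by
    rw [Set.ncard_eq_toFinset_card']
    congr 1
    ext x
    simp [MulAction.mem_fixedBy]
  have hle : (Finset.univ.filter (fun x : Ω => t • x = x)).card ≤ 1 := by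
    rw [Finset.card_le_one]
    intro x hx y hy
    exact inv_fix_unique hab h2t hodd t ht (Finset.mem_filter.mp hx).2 (Finset.mem_filter.mp hy).2
  rw [hF] at hmod
  have h1 : (Finset.univ.filter (fun x : Ω => t • x = x)).card % 2 = Fintype.card Ω % 2 := hmod
  omega

/-- the relation "t swaps the two entries of p" -/
def swapRel (t : G) (p : Ω × Ω) : Prop := t • p.1 = p.2 ∧ t • p.2 = p.1

/-- main double count: involutions against swapped ordered pairs -/
theorem count_main {a b : Ω} (hab : a ≠ b)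
    (h2t : ∀ {a b c d : Ω}, a ≠ b → c ≠ d → ∃ g : G, g • a = c ∧ g • b = d)
    (hodd : Odd (Nat.card (E2 G a b)))
    (inv : ∀ s : G, s • a = b → s • b = a → ∀ h ∈ E2 G a b, s * h * s⁻¹ = h⁻¹) :
    Nat.card {t : G // orderOf t = 2} * (Fintype.card Ω - Fintype.card Ω % 2) =
      (Fintype.card Ω * Fintype.card Ω - Fintype.card Ω) * Nat.card (E2 G a b) := by
  classical
  haveI : Fintype G := Fintype.ofFinite G
  have hJ : Nat.card {t : G // orderOf t = 2} =
      (Finset.univ.filter (fun t : G => orderOf t = 2)).card := by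
    rw [Nat.card_eq_fintype_card, Fintype.card_subtype]
  have key := Finset.sum_card_bipartiteAbove_eq_sum_card_bipartiteBelow
    (s := Finset.univ.filter (fun t : G => orderOf t = 2))
    (t := (Finset.univ : Finset Ω).offDiag) (swapRel (G := G) (Ω := Ω))
  have hL : ∀ t ∈ Finset.univ.filter (fun t : G => orderOf t = 2),
      (((Finset.univ : Finset Ω).offDiag).bipartiteAbove swapRel t).card =
        Fintype.card Ω - Fintype.card Ω % 2 := by
    intro t ht
    have ht2 : orderOf t = 2 := (Finset.mem_filter.mp ht).2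
    obtain ⟨htt, ht1⟩ := sq_of_orderOf_two ht2
    have himg : ((Finset.univ : Finset Ω).offDiag).bipartiteAbove swapRel t =
        (Finset.univ.filter (fun x : Ω => ¬ t • x = x)).image (fun x => (x, t • x)) := by
      ext ⟨x, y⟩
      simp only [Finset.mem_bipartiteAbove, Finset.mem_offDiag, Finset.mem_univ, true_and,
        Finset.mem_image, Finset.mem_filter, Prod.mk.injEq, swapRel]
      constructor
      · rintro ⟨hxy, h1, h2⟩
        refine ⟨x, ?_, rfl, h1⟩
        intro h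
        exact hxy (h.symm.trans h1)
      · rintro ⟨x', hx', rfl, rfl⟩
        refine ⟨fun h => hx' h.symm, rfl, ?_⟩
        rw [← mul_smul, htt, one_smul]
    rw [himg, Finset.card_image_of_injective _ (fun x y h => congrArg Prod.fst h)]
    have hfix := card_fixed hab h2t hodd t ht2
    have hsum : (Finset.univ.filter (fun x : Ω => t • x = x)).card +
        (Finset.univ.filter (fun x : Ω => ¬ t • x = x)).card = Fintype.card Ω := by
      rw [Finset.card_filter_add_card_filter_not, Finset.card_univ]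
    omega
  have hR : ∀ p ∈ (Finset.univ : Finset Ω).offDiag,
      ((Finset.univ.filter (fun t : G => orderOf t = 2)).bipartiteBelow swapRel p).card =
        Nat.card (E2 G a b) := by
    rintro ⟨x, y⟩ hp
    have hxy : x ≠ y := (Finset.mem_offDiag.mp hp).2.2
    have h1 : (Finset.univ.filter (fun t : G => orderOf t = 2)).bipartiteBelow swapRel (x, y) =
        Finset.univ.filter (fun s : G => s • x = y ∧ s • y = x) := by
      ext s
      simp only [Finset.mem_bipartiteBelow, Finset.mem_filter, Finset.mem_univ, true_and,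
        swapRel]
      constructor
      · rintro ⟨-, h⟩
        exact h
      · rintro ⟨h1, h2⟩
        refine ⟨?_, h1, h2⟩
        apply orderOf_two_of_sq (swap_sq hab h2t hodd inv hxy s h1 h2)
        intro e1
        rw [e1, one_smul] at h1
        exact hxy h1
    rw [h1, ← Fintype.card_subtype, ← Nat.card_eq_fintype_card]
    exact card_swap hab h2t hxy
  rw [Finset.sum_congr rfl hL, Finset.sum_congr rfl hR, Finset.sum_const, Finset.sum_const,
    smul_eq_mul, smul_eq_mul, Finset.offDiag_card, Finset.card_univ] at key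
  rw [hJ]
  exact key

/-- all involutions are conjugate -/
theorem involutions_conj {a b : Ω} (hab : a ≠ b) (hfaith : FaithfulSMul G Ω)
    (h2t : ∀ {a b c d : Ω}, a ≠ b → c ≠ d → ∃ g : G, g • a = c ∧ g • b = d)
    (hodd : Odd (Nat.card (E2 G a b)))
    (inv : ∀ s : G, s • a = b → s • b = a → ∀ h ∈ E2 G a b, s * h * s⁻¹ = h⁻¹)
    (v : G) (hva : v • a = b) (hvb : v • b = a) (t : G) (ht : orderOf t = 2) : IsConj v t := by
  obtain ⟨htt, ht1⟩ := sq_of_orderOf_two ht
  have hmove : ∃ p : Ω, t • p ≠ p := by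
    by_contra hcon
    push_neg at hcon
    apply ht1
    apply FaithfulSMul.eq_of_smul_eq_smul (α := Ω)
    intro ω
    rw [hcon ω, one_smul]
  obtain ⟨p, hp⟩ := hmove
  have htq : t • (t • p) = p := by rw [← mul_smul, htt, one_smul]
  obtain ⟨g, hga, hgb⟩ := h2t hab (Ne.symm hp)
  have hgp : g⁻¹ • p = a := by rw [inv_smul_eq_iff, hga]
  have hgq : g⁻¹ • (t • p) = b := by rw [inv_smul_eq_iff, hgb]
  have hvia : v⁻¹ • b = a := by rw [inv_smul_eq_iff, hva]
  have hvib : v⁻¹ • a = b := by rw [inv_smul_eq_iff, hvb]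
  have hkE : v⁻¹ * (g⁻¹ * t * g) ∈ E2 G a b := by
    rw [mem_E2]
    constructor
    · rw [mul_smul, mul_smul, mul_smul, hga, hgq, hvia]
    · rw [mul_smul, mul_smul, mul_smul, hgb, htq, hgp, hvib]
  obtain ⟨j, hj⟩ := hodd
  have hkpow : (v⁻¹ * (g⁻¹ * t * g)) ^ Nat.card (E2 G a b) = 1 :=
    orderOf_dvd_iff_pow_eq_one.mp (Subgroup.orderOf_dvd_natCard _ hkE)
  have hmE : (v⁻¹ * (g⁻¹ * t * g)) ^ (j + 1) ∈ E2 G a b := Subgroup.pow_mem _ hkE _
  have hm : (v⁻¹ * (g⁻¹ * t * g)) ^ (j + 1) * (v⁻¹ * (g⁻¹ * t * g)) ^ (j + 1) =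
      v⁻¹ * (g⁻¹ * t * g) := by
    rw [← pow_add]
    have e : j + 1 + (j + 1) = Nat.card (E2 G a b) + 1 := by omega
    rw [e, pow_succ, hkpow, one_mul]
  have hvm := inv v hva hvb _ hmE
  rw [isConj_iff]
  refine ⟨g * ((v⁻¹ * (g⁻¹ * t * g)) ^ (j + 1))⁻¹, ?_⟩
  generalize (v⁻¹ * (g⁻¹ * t * g)) ^ (j + 1) = m at hm hvm
  have hvm' : m⁻¹ * v * m = v * m * m := by
    rw [← hvm]
    group
  calc g * m⁻¹ * v * (g * m⁻¹)⁻¹ = g * (m⁻¹ * v * m) * g⁻¹ := by group
    _ = g * (v * (m * m)) * g⁻¹ := by rw [hvm', mul_assoc v m m]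
    _ = g * (v * (v⁻¹ * (g⁻¹ * t * g))) * g⁻¹ := by rw [hm]
    _ = t := by group

/-- for odd degree: exactly `|E|` involutions fix a given point -/
theorem card_inv_fix {a b : Ω} (hab : a ≠ b)
    (h2t : ∀ {a b c d : Ω}, a ≠ b → c ≠ d → ∃ g : G, g • a = c ∧ g • b = d)
    (hodd : Odd (Nat.card (E2 G a b)))
    (inv : ∀ s : G, s • a = b → s • b = a → ∀ h ∈ E2 G a b, s * h * s⁻¹ = h⁻¹)
    (hNodd : Odd (Fintype.card Ω)) :
    Nat.card {t : G // orderOf t = 2 ∧ t • a = a} = Nat.card (E2 G a b) := by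
  classical
  haveI : Fintype G := Fintype.ofFinite G
  have hmain := count_main hab h2t hodd inv
  have hJ : Nat.card {t : G // orderOf t = 2} =
      (Finset.univ.filter (fun t : G => orderOf t = 2)).card := by
    rw [Nat.card_eq_fintype_card, Fintype.card_subtype]
  have hJa : Nat.card {t : G // orderOf t = 2 ∧ t • a = a} =
      ((Finset.univ.filter (fun t : G => orderOf t = 2)).filter (fun t => t • a = a)).card := by
    rw [Nat.card_eq_fintype_card, Fintype.card_subtype, Finset.filter_filter]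
  have hN2 : Fintype.card Ω % 2 = 1 := Nat.odd_iff.mp hNodd
  have hN3 : 2 ≤ Fintype.card Ω := by
    have h1 : ({a, b} : Finset Ω).card ≤ Fintype.card Ω := Finset.card_le_univ _
    rwa [Finset.card_pair hab] at h1
  have key := Finset.sum_card_bipartiteAbove_eq_sum_card_bipartiteBelow
    (s := Finset.univ.filter (fun t : G => orderOf t = 2))
    (t := (Finset.univ : Finset Ω)) (fun (t : G) (p : Ω) => t • p = p)
  have hL : ∀ t ∈ Finset.univ.filter (fun t : G => orderOf t = 2),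
      ((Finset.univ : Finset Ω).bipartiteAbove (fun (t : G) (p : Ω) => t • p = p) t).card = 1 := by
    intro t ht
    have ht2 : orderOf t = 2 := (Finset.mem_filter.mp ht).2
    have hfix := card_fixed hab h2t hodd t ht2
    rw [hN2] at hfix
    exact hfix
  have hR : ∀ p ∈ (Finset.univ : Finset Ω),
      ((Finset.univ.filter (fun t : G => orderOf t = 2)).bipartiteBelow
        (fun (t : G) (p : Ω) => t • p = p) p).card =
      ((Finset.univ.filter (fun t : G => orderOf t = 2)).filter (fun t => t • a = a)).card := by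
    intro p _
    have hg : ∃ g : G, g • a = p := by
      by_cases hpa : p = a
      · exact ⟨1, by rw [one_smul, hpa]⟩
      · obtain ⟨g, hg1, -⟩ := h2t hab (c := p) (d := a) hpa
        exact ⟨g, hg1⟩
    obtain ⟨g, hga⟩ := hg
    have hgp : g⁻¹ • p = a := by rw [inv_smul_eq_iff, hga]
    have himg : (Finset.univ.filter (fun t : G => orderOf t = 2)).bipartiteBelow
        (fun (t : G) (p : Ω) => t • p = p) p =
        (((Finset.univ.filter (fun t : G => orderOf t = 2)).filter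
          (fun t => t • a = a))).image (fun t => g * t * g⁻¹) := by
      ext t
      simp only [Finset.mem_bipartiteBelow, Finset.mem_filter, Finset.mem_univ, true_and,
        Finset.mem_image]
      constructor
      · rintro ⟨h1, h2⟩
        refine ⟨g⁻¹ * t * g, ⟨?_, ?_⟩, by group⟩
        · have := orderOf_conj_two g⁻¹ t h1
          rwa [inv_inv] at this
        · rw [mul_smul, mul_smul, hga, h2, hgp]
      · rintro ⟨t', ⟨h1, h2⟩, rfl⟩
        refine ⟨orderOf_conj_two g t' h1, ?_⟩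
        rw [mul_smul, mul_smul, hgp, h2, hga]
    rw [himg, Finset.card_image_of_injective _
      (fun x y h => mul_left_cancel (mul_right_cancel h))]
  rw [Finset.sum_congr rfl hL, Finset.sum_congr rfl hR, Finset.sum_const, Finset.sum_const,
    smul_eq_mul, smul_eq_mul, Finset.card_univ, mul_one] at key
  rw [hJ, hN2] at hmain
  rw [hJa]
  -- key : J = N * Ja ; hmain : J * (N - 1) = (N*N - N) * e
  have h1 : Fintype.card Ω * Fintype.card Ω - Fintype.card Ω =
      Fintype.card Ω * (Fintype.card Ω - 1) := by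
    rw [Nat.mul_sub, mul_one]
  rw [key, h1] at hmain
  have hpos : 0 < Fintype.card Ω * (Fintype.card Ω - 1) := by
    apply Nat.mul_pos <;> omega
  have h2 : Fintype.card Ω * (Fintype.card Ω - 1) *
      ((Finset.univ.filter (fun t : G => orderOf t = 2)).filter (fun t => t • a = a)).card =
      Fintype.card Ω * (Fintype.card Ω - 1) * Nat.card (E2 G a b) := by
    rw [← hmain]
    ring
  exact Nat.eq_of_mul_eq_mul_left hpos h2

/-- for odd degree, an involution fixing `a` is centralised by the Frobenius kernel -/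
theorem inv_fix_central {a b : Ω} (hab : a ≠ b)
    (h3 : ∀ g : G, ∀ a b c : Ω, a ≠ b → b ≠ c → a ≠ c → g • a = a → g • b = b → g • c = c → g = 1)
    (h2t : ∀ {a b c d : Ω}, a ≠ b → c ≠ d → ∃ g : G, g • a = c ∧ g • b = d)
    (hodd : Odd (Nat.card (E2 G a b)))
    (inv : ∀ s : G, s • a = b → s • b = a → ∀ h ∈ E2 G a b, s * h * s⁻¹ = h⁻¹)
    (hNodd : Odd (Fintype.card Ω))
    (F : Subgroup G) (hFa : ∀ u ∈ F, u • a = a)
    (hFfree : ∀ u ∈ F, ∀ y : Ω, y ≠ a → u • y = y → u = 1)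
    (hFchar : ∀ c : G, c • a = a → c ∉ F → ∃ p : Ω, p ≠ a ∧ c • p = p)
    (x : G) (hx : orderOf x = 2) (hxa : x • a = a) (g : G) (hg : g ∈ F) :
    g * x * g⁻¹ = x := by
  have hcard := card_inv_fix hab h2t hodd inv hNodd
  have hconja : ∀ k : G, k • a = a → (k * x * k⁻¹) • a = a := by
    intro k hk
    have hki : k⁻¹ • a = a := by rw [inv_smul_eq_iff, hk]
    rw [mul_smul, mul_smul, hki, hxa, hk]
  let f : ↥(E2 G a b) → {t : G // orderOf t = 2 ∧ t • a = a} := fun k =>
    ⟨(k : G) * x * (k : G)⁻¹, orderOf_conj_two _ _ hx, hconja _ ((mem_E2 (k : G)).mp k.2).1⟩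
  have hfinj : Function.Injective f := by
    intro k k' hkk
    have h1 : (k : G) * x * (k : G)⁻¹ = (k' : G) * x * (k' : G)⁻¹ := congrArg Subtype.val hkk
    have hmx : ((k' : G)⁻¹ * (k : G)) * x = x * ((k' : G)⁻¹ * (k : G)) := by
      calc ((k' : G)⁻¹ * (k : G)) * x = (k' : G)⁻¹ * ((k : G) * x * (k : G)⁻¹) * (k : G) := by
            group
        _ = (k' : G)⁻¹ * ((k' : G) * x * (k' : G)⁻¹) * (k : G) := by rw [h1]
        _ = x * ((k' : G)⁻¹ * (k : G)) := by group
    have hmE : (k' : G)⁻¹ * (k : G) ∈ E2 G a b :=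
      (E2 G a b).mul_mem ((E2 G a b).inv_mem k'.2) k.2
    obtain ⟨hma, hmb⟩ := (mem_E2 _).mp hmE
    by_contra hne
    have hm1 : (k' : G)⁻¹ * (k : G) ≠ 1 := by
      intro e
      apply hne
      apply Subtype.ext
      have : (k : G) = (k' : G) * ((k' : G)⁻¹ * (k : G)) := by group
      rw [this, e, mul_one]
    have hxb : ((k' : G)⁻¹ * (k : G)) • (x • b) = x • b := by
      rw [← mul_smul, hmx, mul_smul, hmb]
    have hxb_ne_a : x • b ≠ a := by
      intro e
      exact hab.symm (MulAction.injective x (e.trans hxa.symm))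
    have hxb_eq : x • b = b := by
      by_contra hne2
      exact hm1 (h3 _ a b (x • b) hab (Ne.symm hne2) (Ne.symm hxb_ne_a) hma hmb hxb)
    exact hab (inv_fix_unique hab h2t hodd x hx hxa hxb_eq)
  have hbij := hfinj.bijective_of_nat_card_le (le_of_eq hcard)
  obtain ⟨k, hk⟩ := hbij.2 ⟨g * x * g⁻¹, orderOf_conj_two _ _ hx, hconja g (hFa g hg)⟩
  have hk' : (k : G) * x * (k : G)⁻¹ = g * x * g⁻¹ := congrArg Subtype.val hk
  have hcx : ((k : G)⁻¹ * g) * x = x * ((k : G)⁻¹ * g) := by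
    calc ((k : G)⁻¹ * g) * x = (k : G)⁻¹ * (g * x * g⁻¹) * g := by group
      _ = (k : G)⁻¹ * ((k : G) * x * (k : G)⁻¹) * g := by rw [hk']
      _ = x * ((k : G)⁻¹ * g) := by group
  have hka : (k : G) • a = a := ((mem_E2 (k : G)).mp k.2).1
  have hkb : (k : G) • b = b := ((mem_E2 (k : G)).mp k.2).2
  have hca : ((k : G)⁻¹ * g) • a = a := by
    rw [mul_smul, hFa g hg, inv_smul_eq_iff, hka]
  have hcF : (k : G)⁻¹ * g ∈ F := by
    by_contra hcon
    obtain ⟨p, hpa, hcp⟩ := hFchar _ hca hcon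
    have hxp : x • p ≠ p := fun e => hpa (inv_fix_unique hab h2t hodd x hx e hxa)
    have hxpa : x • p ≠ a := fun e => hpa (MulAction.injective x (e.trans hxa.symm))
    have hcxp : ((k : G)⁻¹ * g) • (x • p) = x • p := by
      rw [← mul_smul, hcx, mul_smul, hcp]
    have hc1 : (k : G)⁻¹ * g = 1 :=
      h3 _ a p (x • p) (Ne.symm hpa) (Ne.symm hxp) (Ne.symm hxpa) hca hcp hcxp
    exact hcon (hc1 ▸ F.one_mem)
  have hkF : (k : G) ∈ F := by
    have e : (k : G) = g * ((k : G)⁻¹ * g)⁻¹ := by group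
    rw [e]
    exact F.mul_mem hg (F.inv_mem hcF)
  have hk1 : (k : G) = 1 := hFfree _ hkF b hab.symm hkb
  rw [← hk', hk1]
  group

end Count

end Cfsg.Agent.Lib.Helper16.ZassInv
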