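import Mathlib
import Cfsg.Agent.S0744
import Cfsg.Agent.Lib.Helper16.ZassInv

set_option autoImplicit false
set_option maxHeartbeats 1000000
open Cfsg

namespace Cfsg.Agent.Lib.Helper16.ZassCls

open Cfsg.Agent.Lib.Helper16.ZassInv

/-- a product of two involutions lying in the Frobenius kernel: both involutions fix the point -/
theorem fix_of_prod {G Ω : Type*} [Group G] [MulAction G Ω] {a : Ω} (H : Subgroup G)
    (hHa : H ≤ MulAction.stabilizer G a)
    (hHfix : ∀ u ∈ H, u ≠ 1 → ∀ c : Ω, u • c = c → c = a) (u : G) (hu : u ∈ H) (hu1 : u ≠ 1)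
    (x y : G) (hx : orderOf x = 2) (hy : orderOf y = 2) (hxy : x * y = u) :
    x • a = a ∧ y • a = a := by
  obtain ⟨hxx, hx1⟩ := sq_of_orderOf_two hx
  obtain ⟨hyy, hy1⟩ := sq_of_orderOf_two hy
  have hxinv : x⁻¹ = x := inv_eq_of_mul_eq_one_left hxx
  have hyinv : y⁻¹ = y := inv_eq_of_mul_eq_one_left hyy
  have huinv : u⁻¹ = y * x := by
    rw [← hxy, mul_inv_rev, hxinv, hyinv]
  have hconj : x * u * x⁻¹ = u⁻¹ := by
    rw [huinv, hxinv, ← hxy]
    calc x * (x * y) * x = (x * x) * y * x := by group
      _ = y * x := by rw [hxx, one_mul]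
  have hui : u⁻¹ ∈ H := H.inv_mem hu
  have hui1 : u⁻¹ ≠ 1 := fun e => hu1 (inv_eq_one.mp e)
  have hua : u • a = a := MulAction.mem_stabilizer_iff.mp (hHa hu)
  have hxa : x • a = a := by
    apply hHfix u⁻¹ hui hui1
    rw [← hconj, mul_smul, mul_smul, inv_smul_smul, hua]
  refine ⟨hxa, ?_⟩
  have hy' : y = x⁻¹ * u := by
    rw [← hxy]
    group
  rw [hy', mul_smul, hua, inv_smul_eq_iff, hxa]

/-- the order of a doubly transitive group -/
theorem card_G {G Ω : Type*} [Group G] [Finite G] [MulAction G Ω] [Fintype Ω] {a b : Ω}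
    (hab : a ≠ b)
    (h2t : ∀ {a b c d : Ω}, a ≠ b → c ≠ d → ∃ g : G, g • a = c ∧ g • b = d) :
    Nat.card G = Fintype.card Ω * ((Fintype.card Ω - 1) * Nat.card (E2 G a b)) := by
  have hba : b ≠ a := hab.symm
  have hΔne : ∀ x : SubMulAction.ofStabilizer G a, (x : Ω) ≠ a :=
    fun x => (SubMulAction.mem_ofStabilizer_iff G a).mp x.2
  haveI hpre : MulAction.IsPretransitive (MulAction.stabilizer G a)
      (SubMulAction.ofStabilizer G a) := by
    refine ⟨fun x y => ?_⟩
    obtain ⟨g, hga, hgx⟩ := h2t (a := a) (b := (x : Ω)) (c := a) (d := (y : Ω))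
      (hΔne x).symm (hΔne y).symm
    exact ⟨⟨g, MulAction.mem_stabilizer_iff.mpr hga⟩, Subtype.ext hgx⟩
  obtain ⟨b₀, hb₀⟩ : ∃ b₀ : SubMulAction.ofStabilizer G a, (b₀ : Ω) = b :=
    ⟨⟨b, (SubMulAction.mem_ofStabilizer_iff G a).mpr hba⟩, rfl⟩
  have hcardGa : Nat.card (MulAction.stabilizer G a) =
      (Fintype.card Ω - 1) * Nat.card (E2 G a b) := by
    have h1 := MulAction.index_stabilizer_of_transitive (MulAction.stabilizer G a) b₀
    have h2 := Subgroup.index_mul_card (MulAction.stabilizer (MulAction.stabilizer G a) b₀)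
    have h3s : MulAction.stabilizer (MulAction.stabilizer G a) b₀
        = MulAction.stabilizer (MulAction.stabilizer G a) b := by
      ext x
      rw [MulAction.mem_stabilizer_iff, MulAction.mem_stabilizer_iff]
      constructor
      · intro h
        have h' : (x : G) • (b₀ : Ω) = b₀ := congrArg Subtype.val h
        rw [hb₀] at h'
        exact h'
      · intro h
        apply Subtype.ext
        show (x : G) • (b₀ : Ω) = b₀
        rw [hb₀]
        exact h
    rw [h1, SubMulAction.nat_card_ofStabilizer_eq, h3s,
      Cfsg.Agent.S0744.card_stabilizer_stabilizer, Nat.card_eq_fintype_card (α := Ω)] at h2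
    exact h2.symm
  haveI : MulAction.IsPretransitive G Ω := by
    refine ⟨fun x y => ?_⟩
    by_cases hxy : x = y
    · exact ⟨1, by rw [one_smul, hxy]⟩
    · obtain ⟨g, hg, -⟩ := h2t (a := x) (b := y) (c := y) (d := x) hxy (Ne.symm hxy)
      exact ⟨g, hg⟩
  have h1 := MulAction.index_stabilizer_of_transitive G a
  have h2 := Subgroup.index_mul_card (MulAction.stabilizer G a)
  rw [h1, hcardGa, Nat.card_eq_fintype_card (α := Ω)] at h2
  exact h2.symm

section Count

variable {G Ω : Type*} [Group G] [Finite G] [MulAction G Ω] [Fintype Ω]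

/-- for odd degree: exactly `|E|` involutions fix any given point -/
theorem card_inv_fix_pt {a b : Ω} (hab : a ≠ b)
    (h2t : ∀ {a b c d : Ω}, a ≠ b → c ≠ d → ∃ g : G, g • a = c ∧ g • b = d)
    (hodd : Odd (Nat.card (E2 G a b)))
    (inv : ∀ s : G, s • a = b → s • b = a → ∀ h ∈ E2 G a b, s * h * s⁻¹ = h⁻¹)
    (hNodd : Odd (Fintype.card Ω)) (p : Ω) :
    Nat.card {t : G // orderOf t = 2 ∧ t • p = p} = Nat.card (E2 G a b) := by
  have hg : ∃ g : G, g • a = p := by
    by_cases hpa : p = a
    · exact ⟨1, by rw [one_smul, hpa]⟩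
    · obtain ⟨g, hg1, -⟩ := h2t hab (c := p) (d := a) hpa
      exact ⟨g, hg1⟩
  obtain ⟨g, hga⟩ := hg
  have hgp : g⁻¹ • p = a := by rw [inv_smul_eq_iff, hga]
  rw [← card_inv_fix hab h2t hodd inv hNodd]
  refine Nat.card_congr
    { toFun := fun t => ⟨g⁻¹ * (t : G) * g, ?_, ?_⟩
      invFun := fun t => ⟨g * (t : G) * g⁻¹, ?_, ?_⟩
      left_inv := ?_
      right_inv := ?_ }
  · have h := orderOf_conj_two g⁻¹ (t : G) t.2.1
    rwa [inv_inv] at h
  · rw [mul_smul, mul_smul, hga, t.2.2, hgp]
  · exact orderOf_conj_two g (t : G) t.2.1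
  · rw [mul_smul, mul_smul, hgp, t.2.2, hga]
  · intro t
    apply Subtype.ext
    show g * (g⁻¹ * (t : G) * g) * g⁻¹ = (t : G)
    group
  · intro t
    apply Subtype.ext
    show g⁻¹ * (g * (t : G) * g⁻¹) * g = (t : G)
    group

/-- the relation on involutions used for the class count -/
def farRel (s t : G) : Prop := s ≠ t ∧ ∀ p : Ω, s • p = p → t • p ≠ p

/-- at least `|E|` conjugacy classes avoid the Frobenius kernel -/
theorem classes_avoiding (hZ : Cfsg.IsZassenhausGroup G Ω) {a b : Ω} (hab : a ≠ b)
    [IsSimpleGroup G] (hodd : Odd (Nat.card (E2 G a b)))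
    (hlt : Nat.card (E2 G a b) + 1 < Fintype.card Ω)
    (H : Subgroup G) (hHa : H ≤ MulAction.stabilizer G a)
    (hHfix : ∀ u ∈ H, u ≠ 1 → ∀ c : Ω, u • c = c → c = a) :
    Nat.card (E2 G a b) ≤
      Nat.card {C : ConjClasses G // ∀ g : G, ConjClasses.mk g = C → g ∉ H} := by
  classical
  haveI : Fintype G := Fintype.ofFinite G
  obtain ⟨h2t, inv⟩ := base hZ hab hodd
  have hmain := count_main hab h2t hodd inv
  have hG := card_G (G := G) hab h2t
  have hJ : Nat.card {t : G // orderOf t = 2} =
      (Finset.univ.filter (fun t : G => orderOf t = 2)).card := by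
    rw [Nat.card_eq_fintype_card, Fintype.card_subtype]
  rw [hJ] at hmain
  have hgood : Nat.card {C : ConjClasses G // ∀ g : G, ConjClasses.mk g = C → g ∉ H} =
      (Finset.univ.filter
        (fun C : ConjClasses G => ∀ g : G, ConjClasses.mk g = C → g ∉ H)).card := by
    rw [Nat.card_eq_fintype_card, Fintype.card_subtype]
  rw [hgood]
  -- choice of representatives and conjugating elements
  choose rep hrep using (fun C : ConjClasses G => ConjClasses.exists_rep C)
  have hconj : ∀ ρ : G, ∃ c : G, c * rep (ConjClasses.mk ρ) * c⁻¹ = ρ := fun ρ =>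
    isConj_iff.mp (ConjClasses.mk_eq_mk_iff_isConj.mp (hrep (ConjClasses.mk ρ)))
  choose gfun hg using hconj
  -- the set of pairs
  have hQ := Finset.card_sigma (Finset.univ.filter (fun t : G => orderOf t = 2))
    (fun s => (Finset.univ.filter (fun t : G => orderOf t = 2)).filter (fun t => farRel (Ω := Ω) s t))
  have hle : ((Finset.univ.filter (fun t : G => orderOf t = 2)).sigma
      (fun s => (Finset.univ.filter (fun t : G => orderOf t = 2)).filter
        (fun t => farRel (Ω := Ω) s t))).card ≤
      ((Finset.univ.filter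
        (fun C : ConjClasses G => ∀ g : G, ConjClasses.mk g = C → g ∉ H)) ×ˢ
        (Finset.univ : Finset G)).card := by
    apply Finset.card_le_card_of_injOn
      (fun x : (Σ _ : G, G) => (ConjClasses.mk (x.1 * x.2), x.1 * gfun (x.1 * x.2)))
    · rintro ⟨s, t⟩ hx
      have hx' := Finset.mem_sigma.mp (Finset.mem_coe.mp hx)
      have hs : orderOf s = 2 := (Finset.mem_filter.mp hx'.1).2
      have ht' := Finset.mem_filter.mp hx'.2
      have ht : orderOf t = 2 := (Finset.mem_filter.mp ht'.1).2
      obtain ⟨hst, hfar⟩ := ht'.2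
      rw [Finset.mem_coe, Finset.mem_product]
      refine ⟨?_, Finset.mem_univ _⟩
      rw [Finset.mem_filter]
      refine ⟨Finset.mem_univ _, ?_⟩
      intro g' hg' hg'H
      obtain ⟨c, hc⟩ := isConj_iff.mp (ConjClasses.mk_eq_mk_iff_isConj.mp hg')
      -- hc : c * g' * c⁻¹ = s * t
      have hxy : (c⁻¹ * s * c) * (c⁻¹ * t * c) = g' := by
        calc (c⁻¹ * s * c) * (c⁻¹ * t * c) = c⁻¹ * (s * t) * c := by group
          _ = g' := by rw [← hc]; group
      have hxo : orderOf (c⁻¹ * s * c) = 2 := by
        have h := orderOf_conj_two c⁻¹ s hs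
        rwa [inv_inv] at h
      have hyo : orderOf (c⁻¹ * t * c) = 2 := by
        have h := orderOf_conj_two c⁻¹ t ht
        rwa [inv_inv] at h
      by_cases hg1 : g' = 1
      · apply hst
        rw [hg1] at hc
        have h1 : s * t = 1 := by
          rw [← hc]
          group
        have h2 : s * s = 1 := (sq_of_orderOf_two hs).1
        exact mul_left_cancel (h2.trans h1.symm)
      · obtain ⟨hxa, hya⟩ := fix_of_prod H hHa hHfix g' hg'H hg1 _ _ hxo hyo hxy
        have hsp : s • (c • a) = c • a := by
          have h := congrArg (fun z => c • z) hxa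
          simp only [mul_smul, smul_inv_smul] at h
          exact h
        have htp : t • (c • a) = c • a := by
          have h := congrArg (fun z => c • z) hya
          simp only [mul_smul, smul_inv_smul] at h
          exact h
        exact hfar (c • a) hsp htp
    · rintro ⟨s, t⟩ hx ⟨s', t'⟩ hx' hff
      have hx1 := Finset.mem_sigma.mp (Finset.mem_coe.mp hx)
      have hx1' := Finset.mem_sigma.mp (Finset.mem_coe.mp hx')
      have hs : orderOf s = 2 := (Finset.mem_filter.mp hx1.1).2
      have hs' : orderOf s' = 2 := (Finset.mem_filter.mp hx1'.1).2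
      have ht : orderOf t = 2 := (Finset.mem_filter.mp (Finset.mem_filter.mp hx1.2).1).2
      have ht' : orderOf t' = 2 := (Finset.mem_filter.mp (Finset.mem_filter.mp hx1'.2).1).2
      obtain ⟨hss, -⟩ := sq_of_orderOf_two hs
      obtain ⟨hss', -⟩ := sq_of_orderOf_two hs'
      obtain ⟨htt, -⟩ := sq_of_orderOf_two ht
      obtain ⟨htt', -⟩ := sq_of_orderOf_two ht'
      have hsinv : s⁻¹ = s := inv_eq_of_mul_eq_one_left hss
      have hsinv' : s'⁻¹ = s' := inv_eq_of_mul_eq_one_left hss'
      have htinv : t⁻¹ = t := inv_eq_of_mul_eq_one_left htt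
      have htinv' : t'⁻¹ = t' := inv_eq_of_mul_eq_one_left htt'
      have h1 : ConjClasses.mk (s * t) = ConjClasses.mk (s' * t') := congrArg Prod.fst hff
      have h2 : s * gfun (s * t) = s' * gfun (s' * t') := congrArg Prod.snd hff
      have key1 : (s * gfun (s * t)) * rep (ConjClasses.mk (s * t)) * (s * gfun (s * t))⁻¹ =
          t * s := by
        calc (s * gfun (s * t)) * rep (ConjClasses.mk (s * t)) * (s * gfun (s * t))⁻¹
            = s * (gfun (s * t) * rep (ConjClasses.mk (s * t)) * (gfun (s * t))⁻¹) * s⁻¹ := by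
              group
          _ = s * (s * t) * s⁻¹ := by rw [hg]
          _ = (s * s) * t * s⁻¹ := by group
          _ = t * s := by rw [hss, one_mul, hsinv]
      have key2 : (s' * gfun (s' * t')) * rep (ConjClasses.mk (s' * t')) *
          (s' * gfun (s' * t'))⁻¹ = t' * s' := by
        calc (s' * gfun (s' * t')) * rep (ConjClasses.mk (s' * t')) * (s' * gfun (s' * t'))⁻¹
            = s' * (gfun (s' * t') * rep (ConjClasses.mk (s' * t')) * (gfun (s' * t'))⁻¹) *
                s'⁻¹ := by group
          _ = s' * (s' * t') * s'⁻¹ := by rw [hg]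
          _ = (s' * s') * t' * s'⁻¹ := by group
          _ = t' * s' := by rw [hss', one_mul, hsinv']
      rw [h1, h2] at key1
      have h3 : t * s = t' * s' := key1.symm.trans key2
      have h4 : s * t = s' * t' := by
        have e1 : s * t = (t * s)⁻¹ := by rw [mul_inv_rev, hsinv, htinv]
        have e2 : s' * t' = (t' * s')⁻¹ := by rw [mul_inv_rev, hsinv', htinv']
        rw [e1, e2, h3]
      rw [h4] at h2
      have h5 : s = s' := mul_right_cancel h2
      subst h5
      have h6 : t = t' := mul_left_cancel h4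
      subst h6
      rfl
  rw [hQ, Finset.card_product, Finset.card_univ, ← Nat.card_eq_fintype_card (α := G)] at hle
  -- the arithmetic
  have hN2 : 2 ≤ Fintype.card Ω := by
    have h1 : ({a, b} : Finset Ω).card ≤ Fintype.card Ω := Finset.card_le_univ _
    rwa [Finset.card_pair hab] at h1
  obtain ⟨n, hn⟩ : ∃ n, Fintype.card Ω = n + 1 := ⟨Fintype.card Ω - 1, by omega⟩
  have hn1 : 1 ≤ n := by omega
  rw [hn, Nat.add_sub_cancel] at hG
  have hsq : (n + 1) * (n + 1) - (n + 1) = (n + 1) * n := by
    apply Nat.sub_eq_of_eq_add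
    ring
  rw [hn, hsq] at hmain
  rw [hn] at hlt
  have he3 : 1 ≤ Nat.card (E2 G a b) := Nat.card_pos
  rcases Nat.even_or_odd n with hev | hod
  · -- odd degree
    have hNodd : Odd (Fintype.card Ω) := by
      rw [hn]
      exact hev.add_one
    have h2 : (n + 1) % 2 = 1 := by
      obtain ⟨k, hk⟩ := hev
      omega
    rw [h2, Nat.add_sub_cancel] at hmain
    have hJcard : (Finset.univ.filter (fun t : G => orderOf t = 2)).card =
        (n + 1) * Nat.card (E2 G a b) := by
      apply Nat.eq_of_mul_eq_mul_right (show 0 < n by omega)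
      rw [hmain]
      ring
    have hT : ∀ s ∈ Finset.univ.filter (fun t : G => orderOf t = 2),
        ((Finset.univ.filter (fun t : G => orderOf t = 2)).filter
          (fun t => farRel (Ω := Ω) s t)).card = n * Nat.card (E2 G a b) := by
      intro s hs
      have hs2 : orderOf s = 2 := (Finset.mem_filter.mp hs).2
      have hfix := card_fixed hab h2t hodd s hs2
      rw [hn, h2] at hfix
      obtain ⟨p, hp⟩ := Finset.card_eq_one.mp hfix
      have hsp : s • p = p := by
        have : p ∈ Finset.univ.filter (fun x : Ω => s • x = x) := by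
          rw [hp]
          exact Finset.mem_singleton_self p
        exact (Finset.mem_filter.mp this).2
      have hsq' : ∀ q : Ω, s • q = q → q = p := by
        intro q hq
        have : q ∈ Finset.univ.filter (fun x : Ω => s • x = x) :=
          Finset.mem_filter.mpr ⟨Finset.mem_univ q, hq⟩
        rw [hp] at this
        exact Finset.mem_singleton.mp this
      have hcompl : (Finset.univ.filter (fun t : G => orderOf t = 2)).filter
          (fun t => ¬ farRel (Ω := Ω) s t) =
          (Finset.univ.filter (fun t : G => orderOf t = 2)).filter (fun t => t • p = p) := by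
        ext t
        simp only [Finset.mem_filter, Finset.mem_univ, true_and]
        constructor
        · rintro ⟨ht, hnf⟩
          refine ⟨ht, ?_⟩
          by_contra htp
          apply hnf
          refine ⟨?_, ?_⟩
          · intro e
            apply htp
            rw [← e]
            exact hsp
          · intro q hq
            rw [hsq' q hq]
            exact htp
        · rintro ⟨ht, htp⟩
          refine ⟨ht, ?_⟩
          rintro ⟨-, hf⟩
          exact hf p hsp htp
      have hcp := card_inv_fix_pt hab h2t hodd inv hNodd p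
      rw [Nat.card_eq_fintype_card, Fintype.card_subtype, ← Finset.filter_filter] at hcp
      have hsum := Finset.card_filter_add_card_filter_not
        (s := Finset.univ.filter (fun t : G => orderOf t = 2)) (fun t => farRel (Ω := Ω) s t)
      rw [hcompl, hcp, hJcard] at hsum
      have : (n + 1) * Nat.card (E2 G a b) = n * Nat.card (E2 G a b) + Nat.card (E2 G a b) := by
        ring
      omega
    rw [Finset.sum_congr rfl hT, Finset.sum_const, smul_eq_mul, hJcard, hG] at hle
    -- hle : (n+1)*e * (n*e) ≤ good * ((n+1) * (n * e))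
    have hpos : 0 < (n + 1) * (n * Nat.card (E2 G a b)) := by positivity
    apply Nat.le_of_mul_le_mul_right _ hpos
    calc Nat.card (E2 G a b) * ((n + 1) * (n * Nat.card (E2 G a b)))
        = (n + 1) * Nat.card (E2 G a b) * (n * Nat.card (E2 G a b)) := by ring
      _ ≤ _ := hle
  · -- even degree
    have h2 : (n + 1) % 2 = 0 := by
      obtain ⟨k, hk⟩ := hod
      omega
    rw [h2, Nat.sub_zero] at hmain
    have hJcard : (Finset.univ.filter (fun t : G => orderOf t = 2)).card =
        n * Nat.card (E2 G a b) := by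
      apply Nat.eq_of_mul_eq_mul_right (show 0 < n + 1 by omega)
      rw [hmain]
      ring
    have hT : ∀ s ∈ Finset.univ.filter (fun t : G => orderOf t = 2),
        ((Finset.univ.filter (fun t : G => orderOf t = 2)).filter
          (fun t => farRel (Ω := Ω) s t)).card = n * Nat.card (E2 G a b) - 1 := by
      intro s hs
      have hs2 : orderOf s = 2 := (Finset.mem_filter.mp hs).2
      have hfix := card_fixed hab h2t hodd s hs2
      rw [hn, h2] at hfix
      have hempty := Finset.card_eq_zero.mp hfix
      have hnofix : ∀ q : Ω, s • q ≠ q := by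
        intro q hq
        have : q ∈ Finset.univ.filter (fun x : Ω => s • x = x) :=
          Finset.mem_filter.mpr ⟨Finset.mem_univ q, hq⟩
        rw [hempty] at this
        exact absurd this (Finset.notMem_empty q)
      have hcompl : (Finset.univ.filter (fun t : G => orderOf t = 2)).filter
          (fun t => ¬ farRel (Ω := Ω) s t) = {s} := by
        ext t
        simp only [Finset.mem_filter, Finset.mem_univ, true_and, Finset.mem_singleton]
        constructor
        · rintro ⟨-, hnf⟩
          by_contra hts
          apply hnf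
          exact ⟨fun e => hts e.symm, fun q hq => absurd hq (hnofix q)⟩
        · intro e
          rw [e]
          exact ⟨hs2, fun hf => hf.1 rfl⟩
      have hsum := Finset.card_filter_add_card_filter_not
        (s := Finset.univ.filter (fun t : G => orderOf t = 2)) (fun t => farRel (Ω := Ω) s t)
      rw [hcompl, Finset.card_singleton, hJcard] at hsum
      omega
    rw [Finset.sum_congr rfl hT, Finset.sum_const, smul_eq_mul, hJcard, hG] at hle
    -- hle : n*e * (n*e - 1) ≤ good * ((n+1) * (n * e))
    by_contra hcon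
    push_neg at hcon
    have hk : (Finset.univ.filter
        (fun C : ConjClasses G => ∀ g : G, ConjClasses.mk g = C → g ∉ H)).card + 1 ≤
        Nat.card (E2 G a b) := hcon
    have hpos : 0 < n * Nat.card (E2 G a b) := by positivity
    have h3 : n * Nat.card (E2 G a b) - 1 ≤
        (Finset.univ.filter
          (fun C : ConjClasses G => ∀ g : G, ConjClasses.mk g = C → g ∉ H)).card * (n + 1) := by
      apply Nat.le_of_mul_le_mul_left _ hpos
      calc n * Nat.card (E2 G a b) * (n * Nat.card (E2 G a b) - 1) ≤ _ := hle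
        _ = _ := by ring
    have h4 : (Finset.univ.filter
        (fun C : ConjClasses G => ∀ g : G, ConjClasses.mk g = C → g ∉ H)).card * (n + 1) + (n + 1)
        ≤ Nat.card (E2 G a b) * (n + 1) := by
      calc _ = ((Finset.univ.filter
        (fun C : ConjClasses G => ∀ g : G, ConjClasses.mk g = C → g ∉ H)).card + 1) * (n + 1) := by
            ring
        _ ≤ _ := Nat.mul_le_mul_right _ hk
    have h5 : Nat.card (E2 G a b) * (n + 1) = n * Nat.card (E2 G a b) + Nat.card (E2 G a b) := by
      ring
    omega

end Count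

end Cfsg.Agent.Lib.Helper16.ZassCls
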