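import Mathlib
import Cfsg.Agent.Lib.Helper2.ZassF
import Cfsg.Agent.Lib.Helper16.Sharp3
import Cfsg.Agent.Lib.Helper1.DkOrders

set_option autoImplicit false
set_option maxHeartbeats 1000000

/-!
Zassenhaus groups of degree `2d + 2` whose two-point stabiliser has even order `d` are
`PSL(2, q)`, `q = 2d + 1`: generic tools (helper16).

* `exists_field_of_irreducible`: a commuting irreducible set of endomorphisms of a finite abelian
  group generates a finite field, with coordinates in universe 0;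
* `two_orbits`, `two_orbits_G`, `exists_not_mem_orbit`: a free action of `H` on `2 |H|` points has
  exactly two orbits;
* `inverts_of_swap`: an involution interchanging `a`, `b` with a fixed point inverts the
  two-point stabiliser;
* `tau_eq_inv`, `isSquare_of_Q`: field arithmetic;
* `psl_of_coords`: from coordinates to `PSL(2, K)`.
-/

namespace Cfsg.Agent.Lib.Helper16.ZassPSL

open Cfsg.Agent.Lib.Helper2.Zass (act actHom actHom_apply act_T act_U_none act_U_zero act_U_some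
  actHom_center)
open Cfsg.Agent.Lib.Helper2.ZassF (act_Sb)
open Cfsg.Agent.Lib.Helper16.Sharp3 (conjHom conjHom_apply)

/-! ### a finite field has a copy in universe 0 -/

theorem exists_small_field (R : Type*) [Field R] [Finite R] :
    ∃ (K : Type) (_ : Field K) (_ : Fintype K) (ε : K ≃ R), ε 1 = 1 ∧
      (∀ a b, ε (a + b) = ε a + ε b) ∧ (∀ a b, ε (a * b) = ε a * ε b) := by
  classical
  let e0 : R ≃ Fin (Nat.card R) := Finite.equivFin R
  let KF : Field (Fin (Nat.card R)) := Equiv.field e0.symm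
  refine ⟨Fin (Nat.card R), KF, inferInstance, e0.symm, ?_, ?_, ?_⟩
  · exact e0.symm_apply_apply 1
  · intro a b
    exact e0.symm_apply_apply (e0.symm a + e0.symm b)
  · intro a b
    exact e0.symm_apply_apply (e0.symm a * e0.symm b)

/-! ### the field generated by an irreducible commuting set of endomorphisms -/

theorem exists_field_of_irreducible {V : Type*} [AddCommGroup V] [Finite V]
    (S : Set (AddMonoid.End V))
    (hcomm : ∀ x ∈ S, ∀ y ∈ S, x * y = y * x)
    (hirr : ∀ W : AddSubgroup V, (∀ s ∈ S, ∀ w ∈ W, s w ∈ W) → W = ⊥ ∨ W = ⊤)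
    (e : V) (he : e ≠ 0) :
    ∃ (K : Type) (_ : Field K) (_ : Fintype K) (ι : K ≃ V),
      ι 1 = e ∧ (∀ x y, ι (x + y) = ι x + ι y) ∧
      ∀ s ∈ S, ∃ c : K, ∀ x, s (ι x) = ι (c * x) := by
  classical
  haveI : Finite (AddMonoid.End V) :=
    Finite.of_injective (fun f : AddMonoid.End V => (f : V → V)) DFunLike.coe_injective
  have hRc0 : ∀ x ∈ Subring.closure S, ∀ y ∈ Subring.closure S, x * y = y * x := by
    intro x hx y hy
    haveI := Subring.isMulCommutative_closure hcomm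
    exact setLike_mul_comm hx hy
  obtain ⟨R, hR⟩ : ∃ R : Subring (AddMonoid.End V), R = Subring.closure S := ⟨_, rfl⟩
  have hRc : ∀ x ∈ R, ∀ y ∈ R, x * y = y * x := by rw [hR]; exact hRc0
  have hSR : ∀ s ∈ S, s ∈ R := fun s hs => by rw [hR]; exact Subring.subset_closure hs
  -- non-zero elements of `R` are injective
  have hinj : ∀ r ∈ R, r ≠ 0 → ∀ v : V, r v = 0 → v = 0 := by
    intro r hr hr0 v hv
    let W : AddSubgroup V :=
      { carrier := {w | r w = 0}
        zero_mem' := map_zero r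
        add_mem' := by
          intro x y hx hy
          have hx' : r x = 0 := hx
          have hy' : r y = 0 := hy
          show r (x + y) = 0
          rw [map_add, hx', hy', add_zero]
        neg_mem' := by
          intro x hx
          have hx' : r x = 0 := hx
          show r (-x) = 0
          rw [map_neg, hx', neg_zero] }
    have hWinv : ∀ s ∈ S, ∀ w ∈ W, s w ∈ W := by
      intro s hs w hw
      have hw' : r w = 0 := hw
      show r (s w) = 0
      have h1 : r (s w) = (r * s) w := rfl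
      rw [h1, hRc r hr s (hSR s hs)]
      show s (r w) = 0
      rw [hw', map_zero]
    rcases hirr W hWinv with hW | hW
    · have hvW : v ∈ W := hv
      rw [hW] at hvW
      exact AddSubgroup.mem_bot.mp hvW
    · exfalso
      apply hr0
      apply DFunLike.ext
      intro w
      have hwW : w ∈ W := by rw [hW]; exact AddSubgroup.mem_top w
      exact hwW
  -- evaluation at `e` is onto
  have hsurj : ∀ v : V, ∃ r ∈ R, r e = v := by
    let W : AddSubgroup V :=
      { carrier := {v | ∃ r ∈ R, r e = v}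
        zero_mem' := by
          show ∃ r ∈ R, r e = 0
          exact ⟨0, R.zero_mem, rfl⟩
        add_mem' := by
          rintro x y ⟨r, hr, rfl⟩ ⟨r', hr', rfl⟩
          show ∃ r'' ∈ R, r'' e = r e + r' e
          exact ⟨r + r', R.add_mem hr hr', rfl⟩
        neg_mem' := by
          rintro x ⟨r, hr, rfl⟩
          show ∃ r'' ∈ R, r'' e = -(r e)
          exact ⟨-r, R.neg_mem hr, rfl⟩ }
    have hWinv : ∀ s ∈ S, ∀ w ∈ W, s w ∈ W := by
      rintro s hs w ⟨r, hr, rfl⟩
      show ∃ r'' ∈ R, r'' e = s (r e)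
      exact ⟨s * r, R.mul_mem (hSR s hs) hr, rfl⟩
    have heW : e ∈ W := by
      show ∃ r ∈ R, r e = e
      exact ⟨1, R.one_mem, rfl⟩
    rcases hirr W hWinv with hW | hW
    · exfalso
      rw [hW] at heW
      exact he (AddSubgroup.mem_bot.mp heW)
    · intro v
      have hvW : v ∈ W := by rw [hW]; exact AddSubgroup.mem_top v
      exact hvW
  have hfield : IsField R := by
    refine ⟨⟨0, 1, ?_⟩, ?_, ?_⟩
    · intro h01
      apply he
      have h1 : ((0 : R) : AddMonoid.End V) e = ((1 : R) : AddMonoid.End V) e := by rw [h01]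
      exact h1.symm
    · intro x y
      exact Subtype.ext (hRc x.1 x.2 y.1 y.2)
    · intro a ha
      have ha' : (a : AddMonoid.End V) ≠ 0 := fun h => ha (Subtype.ext h)
      have hmulinj : Function.Injective (fun b : R => a * b) := by
        intro b b' hbb'
        have h1 : (a : AddMonoid.End V) * (b : AddMonoid.End V)
            = (a : AddMonoid.End V) * (b' : AddMonoid.End V) := congrArg Subtype.val hbb'
        apply Subtype.ext
        apply DFunLike.ext
        intro v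
        have h2 : (a : AddMonoid.End V)
            ((b : AddMonoid.End V) v - (b' : AddMonoid.End V) v) = 0 := by
          rw [map_sub]
          exact sub_eq_zero.mpr (DFunLike.congr_fun h1 v)
        exact sub_eq_zero.mp (hinj a.1 a.2 ha' _ h2)
      obtain ⟨b, hb⟩ := (Finite.injective_iff_surjective.mp hmulinj) 1
      exact ⟨b, hb⟩
  letI : Field R := hfield.toField
  obtain ⟨K, fK, ftK, ε, hε1, hεadd, hεmul⟩ := exists_small_field R
  have hevinj : Function.Injective (fun r : R => (r : AddMonoid.End V) e) := by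
    intro r r' hrr'
    have hrr : (r : AddMonoid.End V) e = (r' : AddMonoid.End V) e := hrr'
    by_contra hne
    have hd0 : (r : AddMonoid.End V) - (r' : AddMonoid.End V) ≠ 0 := by
      intro h
      exact hne (Subtype.ext (sub_eq_zero.mp h))
    have hde : ((r : AddMonoid.End V) - (r' : AddMonoid.End V)) e = 0 := by
      show (r : AddMonoid.End V) e - (r' : AddMonoid.End V) e = 0
      rw [hrr, sub_self]
    exact he (hinj _ (R.sub_mem r.2 r'.2) hd0 e hde)
  have hevsurj : Function.Surjective (fun r : R => (r : AddMonoid.End V) e) := by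
    intro v
    obtain ⟨r, hr, hrv⟩ := hsurj v
    exact ⟨⟨r, hr⟩, hrv⟩
  refine ⟨K, fK, ftK, ε.trans (Equiv.ofBijective _ ⟨hevinj, hevsurj⟩), ?_, ?_, ?_⟩
  · show ((ε 1 : R) : AddMonoid.End V) e = e
    rw [hε1]
    rfl
  · intro x y
    show ((ε (x + y) : R) : AddMonoid.End V) e
      = ((ε x : R) : AddMonoid.End V) e + ((ε y : R) : AddMonoid.End V) e
    rw [hεadd]
    rfl
  · intro s hs
    refine ⟨ε.symm ⟨s, hSR s hs⟩, fun x => ?_⟩
    show s (((ε x : R) : AddMonoid.End V) e)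
      = ((ε (ε.symm ⟨s, hSR s hs⟩ * x) : R) : AddMonoid.End V) e
    rw [hεmul, Equiv.apply_symm_apply]
    rfl

/-! ### two orbits -/

theorem two_orbits {H P : Type*} [Finite H] [Finite P] (act' : H → P → P)
    (hcard : Nat.card P = 2 * Nat.card H) (e x : P)
    (he : Function.Injective (fun h => act' h e)) (hx : Function.Injective (fun h => act' h x))
    (hdisj : ∀ h h', act' h e ≠ act' h' x) (y : P) :
    (∃ h, act' h e = y) ∨ (∃ h, act' h x = y) := by
  let f : H ⊕ H → P := Sum.elim (fun h => act' h e) (fun h => act' h x)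
  have hf : Function.Injective f := by
    rintro (h | h) (h' | h') hh
    · exact congrArg Sum.inl (he hh)
    · exact absurd hh (hdisj h h')
    · exact absurd hh.symm (hdisj h' h)
    · exact congrArg Sum.inr (hx hh)
  have hle : Nat.card P ≤ Nat.card (H ⊕ H) := by
    rw [Nat.card_sum, hcard]
    omega
  obtain ⟨z, hz⟩ := (hf.bijective_of_nat_card_le hle).2 y
  rcases z with h | h
  · exact Or.inl ⟨h, hz⟩
  · exact Or.inr ⟨h, hz⟩

theorem card_compl_pair {Ω : Type*} [Fintype Ω] [DecidableEq Ω] {a b : Ω} (hab : a ≠ b) :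
    Nat.card {z : Ω // z ≠ a ∧ z ≠ b} = Fintype.card Ω - 2 := by
  rw [Nat.card_eq_fintype_card, Fintype.card_subtype]
  have h1 : (Finset.univ.filter (fun z : Ω => z ≠ a ∧ z ≠ b)) = (Finset.univ.erase a).erase b := by
    ext z
    constructor
    · intro h
      have h' := (Finset.mem_filter.mp h).2
      exact Finset.mem_erase.mpr ⟨h'.2, Finset.mem_erase.mpr ⟨h'.1, Finset.mem_univ z⟩⟩
    · intro h
      have h1 := Finset.mem_erase.mp h
      have h2 := Finset.mem_erase.mp h1.2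
      exact Finset.mem_filter.mpr ⟨Finset.mem_univ z, h2.1, h1.1⟩
  rw [h1, Finset.card_erase_of_mem (Finset.mem_erase.mpr ⟨hab.symm, Finset.mem_univ b⟩),
    Finset.card_erase_of_mem (Finset.mem_univ a), Finset.card_univ]
  omega

theorem smul_ne_of_fix {G Ω : Type*} [Group G] [MulAction G Ω] {g : G} {a z : Ω}
    (hg : g • a = a) (hz : z ≠ a) : g • z ≠ a :=
  fun h => hz (MulAction.injective g (h.trans hg.symm))

theorem two_orbits_G {G Ω : Type*} [Group G] [MulAction G Ω] [Fintype Ω] (H : Subgroup G)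
    [Finite H] {a b : Ω} (hab : a ≠ b) (hfix : ∀ h ∈ H, h • a = a ∧ h • b = b)
    (hfree : ∀ h ∈ H, ∀ z, z ≠ a → z ≠ b → h • z = z → h = 1)
    (hcard : Fintype.card Ω = 2 * Nat.card H + 2) {e x : Ω} (hea : e ≠ a) (heb : e ≠ b)
    (hxa : x ≠ a) (hxb : x ≠ b) (hex : ∀ h ∈ H, h • e ≠ x) {y : Ω} (hya : y ≠ a) (hyb : y ≠ b) :
    (∃ h ∈ H, h • e = y) ∨ (∃ h ∈ H, h • x = y) := by
  classical
  let act' : H → {z : Ω // z ≠ a ∧ z ≠ b} → {z : Ω // z ≠ a ∧ z ≠ b} := fun h z =>
    ⟨(h : G) • z.1, smul_ne_of_fix (hfix h.1 h.2).1 z.2.1, smul_ne_of_fix (hfix h.1 h.2).2 z.2.2⟩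
  have hcardP : Nat.card {z : Ω // z ≠ a ∧ z ≠ b} = 2 * Nat.card H := by
    rw [card_compl_pair hab, hcard]
    omega
  have hinj : ∀ z : {z : Ω // z ≠ a ∧ z ≠ b}, Function.Injective (fun h : H => act' h z) := by
    intro z h h' hh
    have h1 : (h : G) • z.1 = (h' : G) • z.1 := congrArg Subtype.val hh
    have h2 : ((h' : G)⁻¹ * (h : G)) • z.1 = z.1 := by
      rw [mul_smul, h1, inv_smul_smul]
    have h3 := hfree _ (H.mul_mem (H.inv_mem h'.2) h.2) z.1 z.2.1 z.2.2 h2
    apply Subtype.ext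
    exact (inv_mul_eq_one.mp h3).symm
  have hdisj : ∀ h h' : H, act' h ⟨e, hea, heb⟩ ≠ act' h' ⟨x, hxa, hxb⟩ := by
    intro h h' hh
    have h1 : (h : G) • e = (h' : G) • x := congrArg Subtype.val hh
    apply hex ((h' : G)⁻¹ * (h : G)) (H.mul_mem (H.inv_mem h'.2) h.2)
    rw [mul_smul, h1, inv_smul_smul]
  rcases two_orbits act' hcardP ⟨e, hea, heb⟩ ⟨x, hxa, hxb⟩ (hinj _) (hinj _) hdisj
    ⟨y, hya, hyb⟩ with ⟨h, hh⟩ | ⟨h, hh⟩
  · exact Or.inl ⟨h.1, h.2, congrArg Subtype.val hh⟩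
  · exact Or.inr ⟨h.1, h.2, congrArg Subtype.val hh⟩

theorem exists_not_mem_orbit {G Ω : Type*} [Group G] [MulAction G Ω] [Fintype Ω] (H : Subgroup G)
    [Finite H] {a b : Ω} (hab : a ≠ b) (hfix : ∀ h ∈ H, h • a = a ∧ h • b = b)
    (hcard : Fintype.card Ω = 2 * Nat.card H + 2) {e : Ω} (hea : e ≠ a) (heb : e ≠ b) :
    ∃ x, x ≠ a ∧ x ≠ b ∧ ∀ h ∈ H, h • e ≠ x := by
  classical
  by_contra hcon
  push_neg at hcon
  have hsurj : Function.Surjective (fun h : H =>
      (⟨(h : G) • e, smul_ne_of_fix (hfix h.1 h.2).1 hea, smul_ne_of_fix (hfix h.1 h.2).2 heb⟩ :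
        {z : Ω // z ≠ a ∧ z ≠ b})) := by
    intro z
    obtain ⟨h, hh, hz⟩ := hcon z.1 z.2.1 z.2.2
    exact ⟨⟨h, hh⟩, Subtype.ext hz⟩
  have h1 := Nat.card_le_card_of_surjective _ hsurj
  rw [card_compl_pair hab, hcard] at h1
  have hpos : 0 < Nat.card H := Nat.card_pos
  omega

/-! ### the swapping involution inverts the two-point stabiliser -/

theorem inverts_of_swap {G Ω : Type*} [Group G] [MulAction G Ω] [Fintype Ω] (H : Subgroup G)
    [Finite H]
    (h3 : ∀ g : G, ∀ a b c : Ω, a ≠ b → b ≠ c → a ≠ c → g • a = a → g • b = b → g • c = c → g = 1)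
    {a b : Ω} (hab : a ≠ b) (hHmem : ∀ g, g ∈ H ↔ g • a = a ∧ g • b = b)
    (hcard : Fintype.card Ω = 2 * Nat.card H + 2) (t : G) (hta : t • a = b) (htb : t • b = a)
    (htt : t * t = 1) {e : Ω} (hea : e ≠ a) (heb : e ≠ b) (hte : t • e = e) :
    ∀ h ∈ H, t * h * t = h⁻¹ := by
  classical
  have hfix : ∀ h ∈ H, h • a = a ∧ h • b = b := fun h hh => (hHmem h).mp hh
  have hfree : ∀ h ∈ H, ∀ z, z ≠ a → z ≠ b → h • z = z → h = 1 := by
    intro h hh z hza hzb hz
    exact h3 h a b z hab hzb.symm hza.symm (hfix h hh).1 (hfix h hh).2 hz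
  have htnorm : ∀ h ∈ H, t * h * t ∈ H := by
    intro h hh
    rw [hHmem]
    constructor
    · rw [mul_smul, mul_smul, hta, (hfix h hh).2, htb]
    · rw [mul_smul, mul_smul, htb, (hfix h hh).1, hta]
  have htt' : ∀ z : Ω, t • t • z = z := by
    intro z
    rw [← mul_smul, htt, one_smul]
  have hkey : ∀ x, x ≠ a → x ≠ b → ∃ h ∈ H, (t * h) • x = x := by
    intro x hxa hxb
    have htxa : t • x ≠ a := fun h => hxb (MulAction.injective t (h.trans htb.symm))
    have htxb : t • x ≠ b := fun h => hxa (MulAction.injective t (h.trans hta.symm))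
    by_cases hxO : ∃ k ∈ H, k • e = x
    · obtain ⟨k, hk, hke⟩ := hxO
      refine ⟨t * k * t * k⁻¹, H.mul_mem (htnorm k hk) (H.inv_mem hk), ?_⟩
      rw [← hke, ← mul_smul]
      have e1 : t * (t * k * t * k⁻¹) * k = (t * t) * (k * t) := by group
      rw [e1, htt, one_mul, mul_smul, hte]
    · push_neg at hxO
      have hnot : ¬ ∃ h ∈ H, h • e = t • x := by
        rintro ⟨k, hk, hke⟩
        apply hxO (t * k * t) (htnorm k hk)
        rw [mul_smul, mul_smul, hte, hke, htt']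
      rcases two_orbits_G H hab hfix hfree hcard hea heb hxa hxb hxO htxa htxb with
        h1 | ⟨h, hh, hhx⟩
      · exact absurd h1 hnot
      · refine ⟨h, hh, ?_⟩
        rw [mul_smul, hhx, htt']
  have hkey' : ∀ z : {z : Ω // z ≠ a ∧ z ≠ b}, ∃ h : H, (t * (h : G)) • z.1 = z.1 := by
    intro z
    obtain ⟨h, hh, hz⟩ := hkey z.1 z.2.1 z.2.2
    exact ⟨⟨h, hh⟩, hz⟩
  choose f hf using hkey'
  haveI : Fintype H := Fintype.ofFinite H
  have hthne : ∀ h : H, t * (h : G) ≠ 1 := by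
    intro h h1
    have h2 : (t * (h : G)) • a = b := by rw [mul_smul, (hfix h.1 h.2).1, hta]
    rw [h1, one_smul] at h2
    exact hab h2
  have hcardP := card_compl_pair hab
  have hsurj : ∀ h : H, ∃ z : {z : Ω // z ≠ a ∧ z ≠ b}, f z = h := by
    have h1 : (Finset.univ : Finset {z : Ω // z ≠ a ∧ z ≠ b}).card
        ≤ 2 * ((Finset.univ : Finset {z : Ω // z ≠ a ∧ z ≠ b}).image f).card := by
      apply Finset.card_le_mul_card_image
      intro h _
      by_contra hcon
      push_neg at hcon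
      rw [Finset.two_lt_card_iff] at hcon
      obtain ⟨z1, z2, z3, hz1, hz2, hz3, h12, h13, h23⟩ := hcon
      have hz1' := (Finset.mem_filter.mp hz1).2
      have hz2' := (Finset.mem_filter.mp hz2).2
      have hz3' := (Finset.mem_filter.mp hz3).2
      apply hthne h
      refine h3 _ z1.1 z2.1 z3.1 (fun e => h12 (Subtype.ext e)) (fun e => h23 (Subtype.ext e))
        (fun e => h13 (Subtype.ext e)) ?_ ?_ ?_
      · rw [← hz1']; exact hf z1
      · rw [← hz2']; exact hf z2
      · rw [← hz3']; exact hf z3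
    rw [Finset.card_univ, ← Nat.card_eq_fintype_card, hcardP, hcard] at h1
    have h2 : (Finset.univ.image f).card ≤ Fintype.card H := Finset.card_le_univ _
    have h3' : (Finset.univ.image f).card = Fintype.card H := by
      rw [← Nat.card_eq_fintype_card] at h2 ⊢
      omega
    have h4 := Finset.eq_univ_of_card _ h3'
    intro h
    have h5 : h ∈ Finset.univ.image f := by rw [h4]; exact Finset.mem_univ h
    obtain ⟨z, _, hz⟩ := Finset.mem_image.mp h5
    exact ⟨z, hz⟩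
  intro h hh
  obtain ⟨z, hz⟩ := hsurj ⟨h, hh⟩
  have hz' : (t * h) • z.1 = z.1 := by
    have h1 := hf z
    rw [hz] at h1
    exact h1
  have hsq : (t * h) * (t * h) = 1 := by
    refine h3 _ a b z.1 hab z.2.2.symm z.2.1.symm ?_ ?_ ?_
    · rw [mul_smul, mul_smul, mul_smul, (hfix h hh).1, hta, (hfix h hh).2, htb]
    · rw [mul_smul, mul_smul, mul_smul, (hfix h hh).2, htb, (hfix h hh).1, hta]
    · rw [mul_smul, hz', hz']
  have h6 : (t * h * t) * h = 1 := by
    rw [← hsq]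
    group
  exact mul_eq_one_iff_eq_inv.mp h6

/-! ### field arithmetic -/

theorem Q_sq {K : Type*} [Field K] (Q : K → Prop)
    (qmul : ∀ x y, Q x → Q y → Q (x * y))
    (qidx : ∀ x y, x ≠ 0 → y ≠ 0 → ¬ Q x → ¬ Q y → Q (y * x⁻¹)) :
    ∀ x, x ≠ 0 → Q (x * x) := by
  intro x hx0
  by_cases hxQ : Q x
  · exact qmul x x hxQ hxQ
  · by_contra hsq
    have hxx0 : x * x ≠ 0 := mul_ne_zero hx0 hx0
    have h1 := qidx x (x * x) hx0 hxx0 hxQ hsq
    rw [mul_assoc, mul_inv_cancel₀ hx0, mul_one] at h1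
    exact hxQ h1

theorem isSquare_of_Q {K : Type*} [Field K] [Fintype K] (hchar : ringChar K ≠ 2) (Q : K → Prop)
    (qmul : ∀ x y, Q x → Q y → Q (x * y)) (q0 : ¬ Q 0)
    (qsq : ∀ x, x ≠ 0 → Q (x * x))
    (hν : ∃ ν : K, ν ≠ 0 ∧ ¬ Q ν) : ∀ c, Q c → IsSquare c := by
  intro c hc
  obtain ⟨ν, hν0, hνQ⟩ := hν
  have hc0 : c ≠ 0 := by
    intro h
    rw [h] at hc
    exact q0 hc
  by_contra hns
  have hνns : ¬ IsSquare ν := by
    rintro ⟨r, hr⟩
    have hr0 : r ≠ 0 := by
      intro h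
      rw [h, mul_zero] at hr
      exact hν0 hr
    apply hνQ
    rw [hr]
    exact qsq r hr0
  have h1 : c ^ (Fintype.card K / 2) = -1 := by
    rcases FiniteField.pow_dichotomy hchar hc0 with h | h
    · exact absurd ((FiniteField.isSquare_iff hchar hc0).mpr h) hns
    · exact h
  have h2 : ν ^ (Fintype.card K / 2) = -1 := by
    rcases FiniteField.pow_dichotomy hchar hν0 with h | h
    · exact absurd ((FiniteField.isSquare_iff hchar hν0).mpr h) hνns
    · exact h
  have h3 : (ν * c⁻¹) ^ (Fintype.card K / 2) = 1 := by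
    rw [mul_pow, inv_pow, h1, h2, inv_neg, inv_one, neg_mul_neg, one_mul]
  have hνc0 : ν * c⁻¹ ≠ 0 := mul_ne_zero hν0 (inv_ne_zero hc0)
  obtain ⟨r, hr⟩ := (FiniteField.isSquare_iff hchar hνc0).mpr h3
  have hr0 : r ≠ 0 := by
    intro h
    rw [h, mul_zero] at hr
    exact hνc0 hr
  have h4 : Q (r * r * c) := qmul _ _ (qsq r hr0) hc
  rw [← hr, mul_assoc, inv_mul_cancel₀ hc0, mul_one] at h4
  exact hνQ h4

theorem tau_eq_inv {K : Type*} [Field K] (Q : K → Prop) (τ : K → K)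
    (q1 : Q 1) (qmul : ∀ x y, Q x → Q y → Q (x * y)) (qinv : ∀ x, Q x → Q x⁻¹)
    (q0 : ¬ Q 0) (qneg : Q (-1))
    (qidx : ∀ x y, x ≠ 0 → y ≠ 0 → ¬ Q x → ¬ Q y → Q (y * x⁻¹))
    (hν : ∃ ν : K, ν ≠ 0 ∧ ¬ Q ν)
    (τ1 : τ 1 = 1) (τQ : ∀ c x, Q c → x ≠ 0 → τ (c * x) = c⁻¹ * τ x)
    (τne : ∀ x, x ≠ 0 → τ x ≠ 0) (ττ : ∀ x, x ≠ 0 → τ (τ x) = x)
    (FE : ∀ x, x ≠ 0 → x + 1 ≠ 0 → τ (τ x + 1) = 1 - τ (x + 1)) :
    ∀ x, x ≠ 0 → τ x = x⁻¹ := by
  obtain ⟨ν, hν0, hνQ⟩ := hν
  have qne : ∀ x, Q x → x ≠ 0 := by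
    intro x hx h
    rw [h] at hx
    exact q0 hx
  have τonQ : ∀ c, Q c → τ c = c⁻¹ := by
    intro c hc
    have h1 := τQ c 1 hc one_ne_zero
    rwa [mul_one, τ1, mul_one] at h1
  have qsq := Q_sq Q qmul qidx
  have qnn : ∀ x y, x ≠ 0 → y ≠ 0 → ¬ Q x → ¬ Q y → Q (x * y) := by
    intro x y hx0 hy0 hxQ hyQ
    have h1 := qidx x y hx0 hy0 hxQ hyQ
    have h2 := qmul _ _ h1 (qsq x hx0)
    have e : y * x⁻¹ * (x * x) = x * y := by
      calc y * x⁻¹ * (x * x) = y * (x⁻¹ * x) * x := by ring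
        _ = x * y := by rw [inv_mul_cancel₀ hx0]; ring
    rwa [e] at h2
  have qQn : ∀ x y, Q x → ¬ Q y → ¬ Q (x * y) := by
    intro x y hx hy hxy
    apply hy
    have h1 := qmul _ _ (qinv x hx) hxy
    rwa [← mul_assoc, inv_mul_cancel₀ (qne x hx), one_mul] at h1
  have hτν0 : τ ν ≠ 0 := τne ν hν0
  have hτνQ : ¬ Q (τ ν) := by
    intro h
    have h1 := τonQ _ h
    rw [ττ ν hν0] at h1
    apply hνQ
    rw [h1]
    exact qinv _ h
  obtain ⟨c, hc⟩ : ∃ c, c = τ ν * ν := ⟨_, rfl⟩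
  have hcQ : Q c := by
    rw [hc]
    exact qnn _ _ hτν0 hν0 hτνQ hνQ
  have τnonQ : ∀ x, x ≠ 0 → ¬ Q x → τ x = c * x⁻¹ := by
    intro x hx0 hxQ
    have hk := qidx ν x hν0 hx0 hνQ hxQ
    have h1 := τQ (x * ν⁻¹) ν hk hν0
    have e1 : x * ν⁻¹ * ν = x := by rw [mul_assoc, inv_mul_cancel₀ hν0, mul_one]
    rw [e1] at h1
    rw [h1, hc, mul_inv_rev, inv_inv]
    ring
  have hz : ∃ z, Q z ∧ z + 1 ≠ 0 ∧ ¬ Q (z + 1) := by
    by_contra hcon
    push_neg at hcon
    have hS1 : ∀ x, (x = 0 ∨ Q x) → (x + 1 = 0 ∨ Q (x + 1)) := by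
      rintro x (rfl | hx)
      · right
        rw [zero_add]
        exact q1
      · by_cases h : x + 1 = 0
        · exact Or.inl h
        · exact Or.inr (hcon x hx h)
    have hSadd : ∀ x y, (x = 0 ∨ Q x) → (y = 0 ∨ Q y) → (x + y = 0 ∨ Q (x + y)) := by
      rintro x y hx (rfl | hy)
      · rw [add_zero]
        exact hx
      · have hy0 := qne y hy
        have hxy : x * y⁻¹ = 0 ∨ Q (x * y⁻¹) := by
          rcases hx with rfl | hx
          · left
            rw [zero_mul]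
          · right
            exact qmul _ _ hx (qinv y hy)
        have e : x + y = y * (x * y⁻¹ + 1) := by
          rw [mul_add, mul_one, mul_left_comm, mul_inv_cancel₀ hy0, mul_one]
        rcases hS1 _ hxy with h | h
        · left
          rw [e, h, mul_zero]
        · right
          rw [e]
          exact qmul _ _ hy h
    have hSneg : ∀ x, (x = 0 ∨ Q x) → (-x = 0 ∨ Q (-x)) := by
      rintro x (rfl | hx)
      · left
        exact neg_zero
      · right
        have h1 := qmul _ _ qneg hx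
        rwa [neg_one_mul] at h1
    have hall : ∀ w : K, (w + 1 = 0 ∨ Q (w + 1)) := by
      intro w
      by_cases hw : w = 0 ∨ Q w
      · exact hS1 w hw
      · push_neg at hw
        obtain ⟨hw0, hwQ⟩ := hw
        have hs : Q (w * ν) := qnn w ν hw0 hν0 hwQ hνQ
        have hns : ¬ (ν + w * ν = 0 ∨ Q (ν + w * ν)) := by
          intro h
          have h2 := hSadd _ _ h (hSneg _ (Or.inr hs))
          rw [add_neg_cancel_right] at h2
          rcases h2 with h2 | h2
          · exact hν0 h2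
          · exact hνQ h2
        push_neg at hns
        have h3 := qidx ν (ν + w * ν) hν0 hns.1 hνQ hns.2
        have e : (ν + w * ν) * ν⁻¹ = w + 1 := by
          rw [add_mul, mul_inv_cancel₀ hν0, mul_assoc, mul_inv_cancel₀ hν0, mul_one, add_comm]
        rw [e] at h3
        exact Or.inr h3
    have h5 := hall (ν - 1)
    rw [sub_add_cancel] at h5
    rcases h5 with h | h
    · exact hν0 h
    · exact hνQ h
  obtain ⟨z, hzQ, hz10, hz1Q⟩ := hz
  have hz0 := qne z hzQ
  have hc1 : c = 1 := by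
    have h1 := FE z hz0 hz10
    rw [τonQ z hzQ] at h1
    have e1 : z⁻¹ + 1 = z⁻¹ * (z + 1) := by
      rw [mul_add, inv_mul_cancel₀ hz0, mul_one, add_comm]
    have hn0 : z⁻¹ + 1 ≠ 0 := by
      rw [e1]
      exact mul_ne_zero (inv_ne_zero hz0) hz10
    have hnQ : ¬ Q (z⁻¹ + 1) := by
      rw [e1]
      exact qQn _ _ (qinv z hzQ) hz1Q
    rw [τnonQ _ hn0 hnQ, τnonQ _ hz10 hz1Q, e1, mul_inv_rev, inv_inv] at h1
    have h2 : c * ((z + 1)⁻¹ * (z + 1)) = 1 := by linear_combination h1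
    rw [inv_mul_cancel₀ hz10, mul_one] at h2
    exact h2
  intro x hx0
  by_cases hxQ : Q x
  · exact τonQ x hxQ
  · rw [τnonQ x hx0 hxQ, hc1, one_mul]

/-! ### from coordinates to `PSL(2, K)` -/

theorem psl_of_coords {G Ω : Type*} [Group G] [Finite G] [MulAction G Ω]
    (h3 : ∀ g : G, ∀ a b c : Ω, a ≠ b → b ≠ c → a ≠ c → g • a = a → g • b = b → g • c = c → g = 1)
    {K : Type} [Field K] [Fintype K] (hodd : Odd (Fintype.card K)) (hK4 : 4 ≤ Fintype.card K)
    (hcardG : Nat.card G * 2 = Fintype.card K * (Fintype.card K - 1) * (Fintype.card K + 1))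
    (a : Ω) (pt : K → Ω)
    (hpt_inj : Function.Injective pt) (hpt_ne : ∀ x, pt x ≠ a)
    (hpt_surj : ∀ y, y ≠ a → ∃ x, pt x = y)
    (hT : ∀ c : K, ∃ u : G, u • a = a ∧ ∀ x, u • pt x = pt (x + c))
    (hH : ∀ h : G, h • a = a → h • pt 0 = pt 0 → ∃ c : K, ∀ x, h • pt x = pt (c * x))
    (t : G) (hta : t • a = pt 0) (ht0 : t • pt 0 = a) (ht1 : t • pt 1 = pt 1) (htt : t * t = 1)
    (htH : ∀ h : G, h • a = a → h • pt 0 = pt 0 → t * h * t = h⁻¹)
    (horb : ∀ x y : Ω, x ≠ a → x ≠ pt 0 → y ≠ a → y ≠ pt 0 →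
      (¬ ∃ h : G, h • a = a ∧ h • pt 0 = pt 0 ∧ h • pt 1 = x) →
      (¬ ∃ h : G, h • a = a ∧ h • pt 0 = pt 0 ∧ h • pt 1 = y) →
      ∃ h : G, h • a = a ∧ h • pt 0 = pt 0 ∧ h • x = y)
    (hnonQ : ∃ x : Ω, x ≠ a ∧ x ≠ pt 0 ∧ ¬ ∃ h : G, h • a = a ∧ h • pt 0 = pt 0 ∧ h • pt 1 = x)
    (hm : ∃ m : G, m • a = a ∧ m • pt 0 = pt 0 ∧ m ≠ 1 ∧ m * m = 1) :
    Nonempty (G ≃* Matrix.ProjectiveSpecialLinearGroup (Fin 2) K) := by
  classical
  have hchar : ringChar K ≠ 2 := by
    intro h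
    have h1 := FiniteField.even_card_iff_char_two.mp h
    obtain ⟨k, hk⟩ := hodd
    omega
  have h01 : pt 0 ≠ pt 1 := fun h => zero_ne_one (hpt_inj h)
  have hm1ne : (-1 : K) ≠ 0 := neg_ne_zero.mpr one_ne_zero
  have agree3 : ∀ (g g' : G) (x y z : Ω), x ≠ y → y ≠ z → x ≠ z → g • x = g' • x →
      g • y = g' • y → g • z = g' • z → g = g' := by
    intro g g' x y z hxy hyz hxz e1 e2 e3
    have h := h3 (g'⁻¹ * g) x y z hxy hyz hxz (by rw [mul_smul, e1, inv_smul_smul])
      (by rw [mul_smul, e2, inv_smul_smul]) (by rw [mul_smul, e3, inv_smul_smul])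
    exact (inv_mul_eq_one.mp h).symm
  -- the multipliers
  obtain ⟨Q, hQdef⟩ : ∃ Q : K → Prop, ∀ c, Q c ↔
      ∃ h : G, h • a = a ∧ h • pt 0 = pt 0 ∧ ∀ x, h • pt x = pt (c * x) :=
    ⟨_, fun c => Iff.rfl⟩
  have q1 : Q 1 :=
    (hQdef 1).mpr ⟨1, one_smul _ _, one_smul _ _, fun x => by rw [one_smul, one_mul]⟩
  have qmul : ∀ x y, Q x → Q y → Q (x * y) := by
    intro x y hx hy
    obtain ⟨h, ha, h0, hh⟩ := (hQdef x).mp hx
    obtain ⟨k, ka, k0, kk⟩ := (hQdef y).mp hy
    exact (hQdef _).mpr ⟨h * k, by rw [mul_smul, ka, ha], by rw [mul_smul, k0, h0],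
      fun z => by rw [mul_smul, kk, hh, mul_assoc]⟩
  have q0 : ¬ Q 0 := by
    intro hq
    obtain ⟨h, ha, h0, hh⟩ := (hQdef 0).mp hq
    have h1 := hh 1
    rw [zero_mul] at h1
    exact h01 (MulAction.injective h (h0.trans h1.symm))
  have qinv : ∀ x, Q x → Q x⁻¹ := by
    intro c hc
    have hc0 : c ≠ 0 := by
      intro h
      rw [h] at hc
      exact q0 hc
    obtain ⟨h, ha, h0, hh⟩ := (hQdef c).mp hc
    exact (hQdef _).mpr ⟨h⁻¹, by rw [inv_smul_eq_iff, ha], by rw [inv_smul_eq_iff, h0],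
      fun x => by rw [inv_smul_eq_iff, hh, ← mul_assoc, mul_inv_cancel₀ hc0, one_mul]⟩
  have hQorb : ∀ c, (∃ h : G, h • a = a ∧ h • pt 0 = pt 0 ∧ h • pt 1 = pt c) → Q c := by
    rintro c ⟨h, ha, h0, h1⟩
    obtain ⟨c', hc'⟩ := hH h ha h0
    have h2 := hc' 1
    rw [mul_one, h1] at h2
    have h3' : c = c' := hpt_inj h2
    rw [h3']
    exact (hQdef _).mpr ⟨h, ha, h0, hc'⟩
  have hQorb' : ∀ c, Q c → ∃ h : G, h • a = a ∧ h • pt 0 = pt 0 ∧ h • pt 1 = pt c := by
    intro c hc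
    obtain ⟨h, ha, h0, hh⟩ := (hQdef c).mp hc
    refine ⟨h, ha, h0, ?_⟩
    rw [hh, mul_one]
  have qneg : Q (-1) := by
    obtain ⟨m, ma, m0, mne, mm⟩ := hm
    obtain ⟨c, hc⟩ := hH m ma m0
    have h1 : m • m • pt 1 = pt 1 := by rw [← mul_smul, mm, one_smul]
    rw [hc, hc, mul_one] at h1
    have hcc : c * c = 1 := hpt_inj h1
    rcases mul_self_eq_one_iff.mp hcc with h | h
    · exfalso
      apply mne
      refine h3 m a (pt 0) (pt 1) (hpt_ne 0).symm h01 (hpt_ne 1).symm ma m0 ?_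
      rw [hc, h, mul_one]
    · rw [← h]
      exact (hQdef _).mpr ⟨m, ma, m0, hc⟩
  have qidx : ∀ x y, x ≠ 0 → y ≠ 0 → ¬ Q x → ¬ Q y → Q (y * x⁻¹) := by
    intro x y hx0 hy0 hxQ hyQ
    have hxo : ¬ ∃ h : G, h • a = a ∧ h • pt 0 = pt 0 ∧ h • pt 1 = pt x :=
      fun h => hxQ (hQorb x h)
    have hyo : ¬ ∃ h : G, h • a = a ∧ h • pt 0 = pt 0 ∧ h • pt 1 = pt y :=
      fun h => hyQ (hQorb y h)
    obtain ⟨h, ha, h0, hxy⟩ := horb (pt x) (pt y) (hpt_ne x) (fun h => hx0 (hpt_inj h))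
      (hpt_ne y) (fun h => hy0 (hpt_inj h)) hxo hyo
    obtain ⟨c, hc⟩ := hH h ha h0
    have hcx : c * x = y := hpt_inj ((hc x).symm.trans hxy)
    have hcy : c = y * x⁻¹ := by rw [← hcx, mul_assoc, mul_inv_cancel₀ hx0, mul_one]
    rw [← hcy]
    exact (hQdef c).mpr ⟨h, ha, h0, hc⟩
  have hν : ∃ ν : K, ν ≠ 0 ∧ ¬ Q ν := by
    obtain ⟨w, hwa, hw0, hwo⟩ := hnonQ
    obtain ⟨ν, hν⟩ := hpt_surj w hwa
    refine ⟨ν, ?_, ?_⟩
    · intro h
      apply hw0
      rw [← hν, h]
    · intro hq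
      apply hwo
      rw [← hν]
      exact hQorb' ν hq
  -- the map `τ`
  have hτex : ∀ x : K, ∃ y : K, x ≠ 0 → t • pt x = pt y := by
    intro x
    by_cases hx : x = 0
    · exact ⟨0, fun h => absurd hx h⟩
    · have h1 : t • pt x ≠ a := by
        intro h
        exact hx (hpt_inj (MulAction.injective t (h.trans ht0.symm)))
      obtain ⟨y, hy⟩ := hpt_surj _ h1
      exact ⟨y, fun _ => hy.symm⟩
  choose τ hτ using hτex
  have τ1 : τ 1 = 1 := hpt_inj ((hτ 1 one_ne_zero).symm.trans ht1)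
  have τne : ∀ x, x ≠ 0 → τ x ≠ 0 := by
    intro x hx h
    have h1 := hτ x hx
    rw [h] at h1
    exact hpt_ne x (MulAction.injective t (h1.trans hta.symm))
  have ττ : ∀ x, x ≠ 0 → τ (τ x) = x := by
    intro x hx
    have h1 := hτ x hx
    have h2 := hτ (τ x) (τne x hx)
    rw [← h1, ← mul_smul, htt, one_smul] at h2
    exact (hpt_inj h2).symm
  have τQ : ∀ c x, Q c → x ≠ 0 → τ (c * x) = c⁻¹ * τ x := by
    intro c x hc hx
    have hc0 : c ≠ 0 := by
      intro h
      rw [h] at hc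
      exact q0 hc
    obtain ⟨h, ha, h0, hh⟩ := (hQdef c).mp hc
    have hcx : c * x ≠ 0 := mul_ne_zero hc0 hx
    have e1 : t * h = h⁻¹ * t := by
      have h1 := htH h ha h0
      calc t * h = t * h * (t * t) := by rw [htt, mul_one]
        _ = (t * h * t) * t := by group
        _ = h⁻¹ * t := by rw [h1]
    have h1 := hτ (c * x) hcx
    rw [← hh x, ← mul_smul, e1, mul_smul, hτ x hx, inv_smul_eq_iff, hh] at h1
    have h2 := hpt_inj h1
    rw [h2, ← mul_assoc, inv_mul_cancel₀ hc0, one_mul]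
  have hinvm1 : (-1 : K)⁻¹ = -1 := by rw [inv_neg, inv_one]
  have hτneg1 : τ (-1) = -1 := by
    have h1 := τQ (-1) 1 qneg one_ne_zero
    rw [mul_one, τ1, mul_one, hinvm1] at h1
    exact h1
  have hτneg : ∀ y, y ≠ 0 → τ (-y) = -τ y := by
    intro y hy
    have h1 := τQ (-1) y qneg hy
    rw [neg_one_mul, hinvm1, neg_one_mul] at h1
    exact h1
  -- the functional equation
  obtain ⟨s, sa, hs⟩ := hT 1
  obtain ⟨m, ma, m0, hmx⟩ := (hQdef (-1)).mp qneg
  have hid : t * s * t = s * t * m * s := by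
    apply agree3 _ _ a (pt 0) (pt (-1)) (hpt_ne 0).symm (fun h => hm1ne (hpt_inj h).symm)
      (hpt_ne (-1)).symm
    · rw [mul_smul, mul_smul, hta, hs 0, zero_add, ht1,
        mul_smul, mul_smul, mul_smul, sa, ma, hta, hs 0, zero_add]
    · rw [mul_smul, mul_smul, ht0, sa, hta,
        mul_smul, mul_smul, mul_smul, hs 0, zero_add, hmx 1, mul_one, hτ (-1) hm1ne, hτneg1,
        hs (-1), neg_add_cancel]
    · rw [mul_smul, mul_smul, hτ (-1) hm1ne, hτneg1, hs (-1), neg_add_cancel, ht0,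
        mul_smul, mul_smul, mul_smul, hs (-1), neg_add_cancel, m0, ht0, sa]
  have FE : ∀ x, x ≠ 0 → x + 1 ≠ 0 → τ (τ x + 1) = 1 - τ (x + 1) := by
    intro x hx hx1
    have hτx1 : τ x + 1 ≠ 0 := by
      intro h
      have h1 : τ x = -1 := eq_neg_of_add_eq_zero_left h
      have h2 := ττ x hx
      rw [h1, hτneg1] at h2
      apply hx1
      rw [← h2]
      exact neg_add_cancel 1
    have hne : -1 * (x + 1) ≠ 0 := mul_ne_zero hm1ne hx1
    have h := congrArg (fun g : G => g • pt x) hid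
    simp only [mul_smul] at h
    rw [hτ x hx, hs (τ x), hτ (τ x + 1) hτx1, hs x, hmx (x + 1), hτ (-1 * (x + 1)) hne,
      hs (τ (-1 * (x + 1)))] at h
    have h' := hpt_inj h
    rw [h', neg_one_mul, hτneg (x + 1) hx1]
    ring
  have hτinv := tau_eq_inv Q τ q1 qmul qinv q0 qneg qidx hν τ1 τQ τne ττ FE
  have hQsq := isSquare_of_Q hchar Q qmul q0 (Q_sq Q qmul qidx) hν
  -- the bijection with the projective line
  have hEinj : Function.Injective (fun o : Option K => o.elim a pt) := by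
    rintro (_ | x) (_ | y) h
    · rfl
    · exact absurd h.symm (hpt_ne y)
    · exact absurd h (hpt_ne x)
    · exact congrArg some (hpt_inj h)
  have hEsurj : Function.Surjective (fun o : Option K => o.elim a pt) := by
    intro y
    by_cases hy : y = a
    · exact ⟨none, hy.symm⟩
    · obtain ⟨x, hx⟩ := hpt_surj y hy
      exact ⟨some x, hx⟩
  let E : Option K ≃ Ω := Equiv.ofBijective _ ⟨hEinj, hEsurj⟩
  let φ : G →* Equiv.Perm (Option K) := conjHom E
  have hφ : ∀ (g : G) (o o' : Option K), g • E o = E o' → φ g o = o' := by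
    intro g o o' h
    show E.symm (g • E o) = o'
    rw [h, Equiv.symm_apply_apply]
  have hφinj : Function.Injective φ := by
    rw [injective_iff_map_eq_one]
    intro g hg
    have hfixall : ∀ o : Option K, g • E o = E o := by
      intro o
      have h1 : φ g o = o := by rw [hg]; rfl
      have h2 : E.symm (g • E o) = o := h1
      rw [Equiv.symm_apply_eq] at h2
      exact h2
    exact h3 g a (pt 0) (pt 1) (hpt_ne 0).symm h01 (hpt_ne 1).symm (hfixall none)
      (hfixall (some 0)) (hfixall (some 1))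
  -- matrices for the generators
  have hmatT : ∀ (c : K) (u : G), u • a = a → (∀ x, u • pt x = pt (x + c)) →
      ∃ A : Matrix.SpecialLinearGroup (Fin 2) K, actHom A = φ u := by
    intro c u ua hu
    refine ⟨⟨!![1, c; 0, 1], by simp [Matrix.det_fin_two]⟩, ?_⟩
    apply Equiv.ext
    intro o
    show act (!![1, c; 0, 1] : Matrix (Fin 2) (Fin 2) K) o = φ u o
    rw [act_Sb]
    symm
    apply hφ
    rcases o with _ | x
    · exact ua
    · exact hu x
  have hmatH : ∀ h : G, h • a = a → h • pt 0 = pt 0 →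
      ∃ A : Matrix.SpecialLinearGroup (Fin 2) K, actHom A = φ h := by
    intro h ha h0
    obtain ⟨c, hc⟩ := hH h ha h0
    have hcQ : Q c := (hQdef c).mpr ⟨h, ha, h0, hc⟩
    obtain ⟨r, hr⟩ := hQsq c hcQ
    have hr0 : r ≠ 0 := by
      intro h'
      rw [h', mul_zero] at hr
      rw [hr] at hcQ
      exact q0 hcQ
    refine ⟨⟨!![r, 0; 0, r⁻¹], by simp [Matrix.det_fin_two, hr0]⟩, ?_⟩
    apply Equiv.ext
    intro o
    show act (!![r, 0; 0, r⁻¹] : Matrix (Fin 2) (Fin 2) K) o = φ h o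
    rw [act_T r hr0]
    symm
    apply hφ
    rcases o with _ | x
    · exact ha
    · show h • pt x = pt (r ^ 2 * x)
      rw [hc, hr, pow_two]
  have hmatt : ∃ A : Matrix.SpecialLinearGroup (Fin 2) K, actHom A = φ t := by
    obtain ⟨b, hb⟩ := hQsq (-1) qneg
    have hb0 : b ≠ 0 := by
      intro h'
      rw [h', mul_zero] at hb
      exact hm1ne hb
    refine ⟨⟨!![0, b; -b⁻¹, 0], by simp [Matrix.det_fin_two, hb0]⟩, ?_⟩
    apply Equiv.ext
    intro o
    show act (!![0, b; -b⁻¹, 0] : Matrix (Fin 2) (Fin 2) K) o = φ t o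
    symm
    apply hφ
    rcases o with _ | z
    · rw [act_U_none b hb0]
      exact hta
    · by_cases hz : z = 0
      · subst hz
        rw [act_U_zero b]
        exact ht0
      · rw [act_U_some b hb0 z hz]
        show t • pt z = pt (-(b ^ 2) / z)
        rw [hτ z hz, hτinv z hz, pow_two, ← hb, neg_neg, one_div]
  have hmatmul : ∀ g g' : G, (∃ A : Matrix.SpecialLinearGroup (Fin 2) K, actHom A = φ g) →
      (∃ A : Matrix.SpecialLinearGroup (Fin 2) K, actHom A = φ g') →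
      ∃ A : Matrix.SpecialLinearGroup (Fin 2) K, actHom A = φ (g * g') := by
    rintro g g' ⟨A, hA⟩ ⟨A', hA'⟩
    exact ⟨A * A', by rw [map_mul, map_mul, hA, hA']⟩
  have hmata : ∀ g : G, g • a = a →
      ∃ A : Matrix.SpecialLinearGroup (Fin 2) K, actHom A = φ g := by
    intro g ga
    have hg0 : g • pt 0 ≠ a := fun h => hpt_ne 0 (MulAction.injective g (h.trans ga.symm))
    obtain ⟨c, hc⟩ := hpt_surj _ hg0
    obtain ⟨u, ua, hu⟩ := hT c
    have hu0 : u • pt 0 = pt c := by rw [hu, zero_add]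
    have h1 : (u⁻¹ * g) • a = a := by rw [mul_smul, ga, inv_smul_eq_iff, ua]
    have h2 : (u⁻¹ * g) • pt 0 = pt 0 := by rw [mul_smul, ← hc, inv_smul_eq_iff, hu0]
    have h4 := hmatmul u (u⁻¹ * g) (hmatT c u ua hu) (hmatH _ h1 h2)
    rwa [mul_inv_cancel_left] at h4
  have hmat : ∀ g : G, ∃ A : Matrix.SpecialLinearGroup (Fin 2) K, actHom A = φ g := by
    intro g
    by_cases ga : g • a = a
    · exact hmata g ga
    · obtain ⟨c, hc⟩ := hpt_surj _ ga
      obtain ⟨u, ua, hu⟩ := hT c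
      have hu0 : u • pt 0 = pt c := by rw [hu, zero_add]
      have h1 : (t * u⁻¹ * g) • a = a := by
        rw [mul_smul, mul_smul, ← hc, inv_smul_eq_iff.mpr hu0.symm, ht0]
      have h2 := hmatmul (u * t) (t * u⁻¹ * g) (hmatmul u t (hmatT c u ua hu) hmatt)
        (hmata _ h1)
      have e : u * t * (t * u⁻¹ * g) = g := by
        calc u * t * (t * u⁻¹ * g) = u * (t * t) * u⁻¹ * g := by group
          _ = g := by rw [htt]; group
      rwa [e] at h2
  -- the isomorphism
  let Ψ₀ : Matrix.SpecialLinearGroup (Fin 2) K →* Equiv.Perm (Option K) := actHom (F := K)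
  have hcen : Subgroup.center (Matrix.SpecialLinearGroup (Fin 2) K) ≤ Ψ₀.ker := by
    intro x hx
    rw [MonoidHom.mem_ker]
    exact actHom_center _ hx
  let Ψ : Matrix.ProjectiveSpecialLinearGroup (Fin 2) K →* Equiv.Perm (Option K) :=
    QuotientGroup.lift (Subgroup.center (Matrix.SpecialLinearGroup (Fin 2) K)) Ψ₀ hcen
  have hΨmk : ∀ A : Matrix.SpecialLinearGroup (Fin 2) K, actHom A ∈ Ψ.range := by
    intro A
    exact ⟨QuotientGroup.mk A, rfl⟩
  haveI : IsSimpleGroup (Matrix.ProjectiveSpecialLinearGroup (Fin 2) K) :=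
    Matrix.ProjectiveSpecialLinearGroup.rank_two_simple
      (by rw [Nat.card_eq_fintype_card]; exact hK4)
  have hker : Ψ.ker = ⊥ := by
    rcases Ψ.normal_ker.eq_bot_or_eq_top with h | h
    · exact h
    · exfalso
      let S1 : Matrix.SpecialLinearGroup (Fin 2) K :=
        ⟨!![1, 1; 0, 1], by simp [Matrix.det_fin_two]⟩
      have h1 : (QuotientGroup.mk S1 : Matrix.ProjectiveSpecialLinearGroup (Fin 2) K) ∈ Ψ.ker := by
        rw [h]
        trivial
      rw [MonoidHom.mem_ker] at h1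
      have h2 : actHom S1 = 1 := h1
      have h3' : actHom S1 (some 0) = some 0 := by rw [h2]; rfl
      rw [actHom_apply] at h3'
      have h4 : act (!![1, 1; 0, 1] : Matrix (Fin 2) (Fin 2) K) (some 0) = some 0 := h3'
      rw [act_Sb] at h4
      have h5 : (0 : K) + 1 = 0 := Option.some.inj h4
      rw [zero_add] at h5
      exact one_ne_zero h5
  have hΨinj : Function.Injective Ψ := (MonoidHom.ker_eq_bot_iff Ψ).mp hker
  have hsub : φ.range ≤ Ψ.range := by
    rintro x ⟨g, rfl⟩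
    obtain ⟨A, hA⟩ := hmat g
    rw [← hA]
    exact hΨmk A
  have hcardφ : Nat.card φ.range = Nat.card G :=
    (Nat.card_congr (MonoidHom.ofInjective hφinj).toEquiv).symm
  have hcardΨ : Nat.card Ψ.range = Nat.card (Matrix.ProjectiveSpecialLinearGroup (Fin 2) K) :=
    (Nat.card_congr (MonoidHom.ofInjective hΨinj).toEquiv).symm
  have hcardPSL : Nat.card (Matrix.ProjectiveSpecialLinearGroup (Fin 2) K) = Nat.card G := by
    have h1 := Cfsg.Agent.Lib.Helper1.DkOrders.card_PSL2_mul (F := K)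
    have hg2 : Nat.gcd 2 (Fintype.card K - 1) = 2 := by
      obtain ⟨k, hk⟩ := hodd
      rw [hk]
      simp
    rw [hg2, ← hcardG] at h1
    exact Nat.eq_of_mul_eq_mul_right (by norm_num : 0 < 2) h1
  have heq : φ.range = Ψ.range := by
    apply Subgroup.eq_of_le_of_card_ge hsub
    rw [hcardφ, hcardΨ, hcardPSL]
  exact ⟨(MonoidHom.ofInjective hφinj).trans
    ((MulEquiv.subgroupCongr heq).trans (MonoidHom.ofInjective hΨinj).symm)⟩

end Cfsg.Agent.Lib.Helper16.ZassPSL
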